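import Mathlib
import Groth.Agent.H91.PrimZero

/-!
# Grouplike families in a group algebra are locally characters (helper32, for helper43's S5274 squad)
-/

set_option autoImplicit false
universe u
open MonoidAlgebra Groth.Agent.H91.PrimZero

namespace Groth.Agent.H32.GroupLikeLocal

variable {R : Type u} [CommRing R] {M : Type} [AddCommGroup M]

theorem i1_mul_i2 (m m' : M) :
    i1 M (Multiplicative.ofAdd m) * i2 M (Multiplicative.ofAdd m') = Multiplicative.ofAdd (m, m') := by
  rw [i1_apply, i2_apply, ← ofAdd_add]
  simp

/-- coefficient of `i1(x) * i2(y)` at `(m, m')`. -/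
theorem coeff_i1_mul_i2 (x y : MonoidAlgebra R (Multiplicative M)) (m m' : M) :
    (mapDomainRingHom R (i1 M) x * mapDomainRingHom R (i2 M) y).coeff (Multiplicative.ofAdd (m, m')) =
      x.coeff (Multiplicative.ofAdd m) * y.coeff (Multiplicative.ofAdd m') := by
  classical
  induction x using MonoidAlgebra.induction_linear with
  | zero => simp
  | add x₁ x₂ h₁ h₂ => rw [map_add, add_mul, coeff_add, Finsupp.add_apply, h₁, h₂, coeff_add, Finsupp.add_apply, add_mul]
  | single g a =>
    induction y using MonoidAlgebra.induction_linear with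
    | zero => simp
    | add y₁ y₂ h₁ h₂ => rw [map_add, mul_add, coeff_add, Finsupp.add_apply, h₁, h₂, coeff_add, Finsupp.add_apply, mul_add]
    | single h b =>
      obtain ⟨g, rfl⟩ := Multiplicative.ofAdd.surjective g
      obtain ⟨h, rfl⟩ := Multiplicative.ofAdd.surjective h
      have e1 : mapDomainRingHom R (i1 M) (single (Multiplicative.ofAdd g) a) = single (i1 M (Multiplicative.ofAdd g)) a := by
        simp
      have e2 : mapDomainRingHom R (i2 M) (single (Multiplicative.ofAdd h) b) = single (i2 M (Multiplicative.ofAdd h)) b := by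
        simp
      rw [e1, e2, single_mul_single, i1_mul_i2, coeff_single, coeff_single, coeff_single,
        Finsupp.single_apply, Finsupp.single_apply, Finsupp.single_apply]
      by_cases hg : g = m
      · by_cases hh : h = m'
        · subst hg hh; simp
        · have : ¬ (Multiplicative.ofAdd (g, h) = Multiplicative.ofAdd (m, m')) := by
            intro hcon
            have := Multiplicative.ofAdd.injective hcon
            rw [Prod.mk.injEq] at this
            exact hh this.2
          rw [if_neg this, if_neg (fun hc => hh (Multiplicative.ofAdd.injective hc)), mul_zero]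
      · have : ¬ (Multiplicative.ofAdd (g, h) = Multiplicative.ofAdd (m, m')) := by
          intro hcon
          have := Multiplicative.ofAdd.injective hcon
          rw [Prod.mk.injEq] at this
          exact hg this.1
        rw [if_neg this, if_neg (fun hc => hg (Multiplicative.ofAdd.injective hc)), zero_mul]

open Classical in
/-- coefficient of the diagonal image at `(m, m')`. -/
theorem coeff_iD (x : MonoidAlgebra R (Multiplicative M)) (m m' : M) :
    (mapDomainRingHom R (iD M) x).coeff (Multiplicative.ofAdd (m, m')) =
      if m = m' then x.coeff (Multiplicative.ofAdd m) else 0 := by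
  classical
  induction x using MonoidAlgebra.induction_linear with
  | zero => simp
  | add x₁ x₂ h₁ h₂ =>
    rw [map_add, coeff_add, Finsupp.add_apply, h₁, h₂, coeff_add, Finsupp.add_apply]
    split_ifs <;> simp
  | single g a =>
    obtain ⟨g, rfl⟩ := Multiplicative.ofAdd.surjective g
    have e1 : mapDomainRingHom R (iD M) (single (Multiplicative.ofAdd g) a) = single (iD M (Multiplicative.ofAdd g)) a := by
      simp
    rw [e1, iD_apply, coeff_single, coeff_single, Finsupp.single_apply, Finsupp.single_apply]
    by_cases h1 : m = m'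
    · subst h1
      rw [if_pos rfl]
      by_cases h2 : g = m
      · subst h2; simp
      · rw [if_neg (fun hc => h2 (Multiplicative.ofAdd.injective hc)), if_neg]
        intro hcon
        have := Multiplicative.ofAdd.injective hcon
        rw [Prod.mk.injEq] at this
        exact h2 this.1
    · rw [if_neg h1, if_neg]
      intro hcon
      have := Multiplicative.ofAdd.injective hcon
      rw [Prod.mk.injEq] at this
      exact h1 (this.1.symm.trans this.2)

/-- grouplike elements have orthogonal idempotent coefficients. -/
theorem coeff_mul_coeff_same (x : MonoidAlgebra R (Multiplicative M))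
    (h : mapDomainRingHom R (iD M) x = mapDomainRingHom R (i1 M) x * mapDomainRingHom R (i2 M) x)
    (m : M) : x.coeff (Multiplicative.ofAdd m) * x.coeff (Multiplicative.ofAdd m) =
      x.coeff (Multiplicative.ofAdd m) := by
  have := congrArg (fun z => z.coeff (Multiplicative.ofAdd (m, m))) h
  rw [coeff_i1_mul_i2, coeff_iD, if_pos rfl] at this
  exact this.symm

theorem coeff_mul_coeff_ne (x : MonoidAlgebra R (Multiplicative M))
    (h : mapDomainRingHom R (iD M) x = mapDomainRingHom R (i1 M) x * mapDomainRingHom R (i2 M) x)
    {m m' : M} (hm : m ≠ m') : x.coeff (Multiplicative.ofAdd m) * x.coeff (Multiplicative.ofAdd m') = 0 := by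
  have := congrArg (fun z => z.coeff (Multiplicative.ofAdd (m, m'))) h
  rw [coeff_i1_mul_i2, coeff_iD, if_neg hm] at this
  exact this.symm

/-- a unit of the group algebra has a coefficient outside any prime. -/
theorem exists_coeff_notMem (x y : MonoidAlgebra R (Multiplicative M)) (hxy : x * y = 1)
    (p : Ideal R) [p.IsPrime] : ∃ m : M, x.coeff (Multiplicative.ofAdd m) ∉ p := by
  by_contra hcon
  push Not at hcon
  let f := mapRingHom (Multiplicative M) (Ideal.Quotient.mk p)
  have hx : f x = 0 := by
    ext g
    obtain ⟨m, rfl⟩ := Multiplicative.ofAdd.surjective g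
    rw [coeff_mapRingHom]
    simpa using Ideal.Quotient.eq_zero_iff_mem.2 (hcon m)
  have h1 : f (x * y) = 1 := by rw [hxy, map_one]
  rw [map_mul, hx, zero_mul] at h1
  exact zero_ne_one h1


theorem grouplike_local {R : Type u} [CommRing R] {N M : Type} [AddCommGroup N] [AddCommGroup M]
    (hN : AddGroup.FG N) (c : N → MonoidAlgebra R (Multiplicative M))
    (c_add : ∀ n n', c (n + n') = c n * c n') (c_zero : c 0 = 1)
    (c_gl : ∀ n, mapDomainRingHom R (iD M) (c n) = mapDomainRingHom R (i1 M) (c n) * mapDomainRingHom R (i2 M) (c n))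
    (p : Ideal R) [p.IsPrime] :
    ∃ (e : R) (φ : N →+ M), e ∉ p ∧ ∀ n, MonoidAlgebra.single 1 e * c n = MonoidAlgebra.single (Multiplicative.ofAdd (φ n)) e := by
  classical
  have c_inv : ∀ n, c n * c (-n) = 1 := fun n => by rw [← c_add, add_neg_cancel, c_zero]
  have hex : ∀ n, ∃ m : M, (c n).coeff (Multiplicative.ofAdd m) ∉ p := fun n =>
    exists_coeff_notMem (c n) (c (-n)) (c_inv n) p
  choose μ hμ using hex
  obtain ⟨S, hS⟩ := hN.out
  let ε : N → R := fun n => (c n).coeff (Multiplicative.ofAdd (μ n))
  have hε_idem : ∀ n, ε n * ε n = ε n := fun n => coeff_mul_coeff_same (c n) (c_gl n) (μ n)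
  let e : R := ∏ n ∈ S, ε n
  have he_idem : e * e = e := by
    change (∏ n ∈ S, ε n) * (∏ n ∈ S, ε n) = ∏ n ∈ S, ε n
    rw [← Finset.prod_mul_distrib]
    exact Finset.prod_congr rfl (fun n _ => hε_idem n)
  have he_p : e ∉ p := by
    intro hcon
    obtain ⟨n, -, hn⟩ := (Ideal.IsPrime.prod_mem_iff (hp := inferInstance)).1 hcon
    exact hμ n hn
  have he0 : e ≠ 0 := fun h0 => he_p (h0 ▸ p.zero_mem)
  have hee : (single 1 e : MonoidAlgebra R (Multiplicative M)) * single 1 e = single 1 e := by
    rw [single_mul_single, one_mul, he_idem]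
  -- generators
  have hgen : ∀ n ∈ S, single 1 e * c n = single (Multiplicative.ofAdd (μ n)) e := by
    intro n hn
    ext g
    obtain ⟨m, rfl⟩ := Multiplicative.ofAdd.surjective g
    rw [coeff_single_one_mul, coeff_single, Finsupp.single_apply]
    have hdiv : e = (∏ k ∈ S.erase n, ε k) * ε n := (Finset.prod_erase_mul S ε hn).symm
    by_cases hm : μ n = m
    · subst hm
      rw [if_pos rfl, hdiv, mul_assoc, hε_idem]
    · rw [if_neg (fun hc => hm (Multiplicative.ofAdd.injective hc)), hdiv, mul_assoc,
        coeff_mul_coeff_ne (c n) (c_gl n) hm, mul_zero]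
  -- the subgroup
  let T : AddSubgroup N :=
    { carrier := {n | ∃ m : M, single 1 e * c n = single (Multiplicative.ofAdd m) e}
      zero_mem' := ⟨0, by rw [c_zero, mul_one]; rfl⟩
      add_mem' := by
        rintro n n' ⟨m, hm⟩ ⟨m', hm'⟩
        refine ⟨m + m', ?_⟩
        rw [c_add, ← hee, mul_mul_mul_comm, hm, hm', single_mul_single, he_idem, ofAdd_add]
      neg_mem' := by
        rintro n ⟨m, hm⟩
        refine ⟨-m, ?_⟩
        have h1 : single (Multiplicative.ofAdd (-m)) (1 : R) * (single 1 e * c n) * c (-n) =
            single 1 e * c (-n) := by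
          rw [hm, single_mul_single, one_mul, ← ofAdd_add, neg_add_cancel]
          rfl
        rw [← h1, mul_assoc, mul_assoc, c_inv, mul_one, single_mul_single, mul_one, one_mul] }
  have hT : T = ⊤ := by
    rw [eq_top_iff, ← hS, AddSubgroup.closure_le]
    intro n hn
    exact ⟨μ n, hgen n hn⟩
  have hall : ∀ n, ∃ m : M, single 1 e * c n = single (Multiplicative.ofAdd m) e := fun n => by
    have : n ∈ T := hT ▸ AddSubgroup.mem_top n
    exact this
  choose φ0 hφ0 using hall
  have hφ_add : ∀ n n', φ0 (n + n') = φ0 n + φ0 n' := by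
    intro n n'
    have h1 : single (Multiplicative.ofAdd (φ0 (n + n'))) e =
        (single (Multiplicative.ofAdd (φ0 n + φ0 n')) e : MonoidAlgebra R (Multiplicative M)) := by
      rw [← hφ0, c_add, ← hee, mul_mul_mul_comm, hφ0, hφ0, single_mul_single, he_idem, ofAdd_add]
    exact Multiplicative.ofAdd.injective ((single_left_inj he0).1 h1)
  exact ⟨e, AddMonoidHom.mk' φ0 hφ_add, he_p, fun n => hφ0 n⟩

end Groth.Agent.H32.GroupLikeLocal
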