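import Mathlib.Algebra.Module.FinitePresentation

set_option autoImplicit false
universe u

namespace Groth.Agent.H32

/-- coherent modules: finitely generated and every f.g. submodule is finitely presented. -/
def IsCoh (R : Type u) [CommRing R] (M : Type u) [AddCommGroup M] [Module R M] : Prop :=
  Module.Finite R M ∧ ∀ N : Submodule R M, N.FG → Module.FinitePresentation R N

section
variable {R : Type u} [CommRing R] {M₁ M₂ M₃ : Type u}
  [AddCommGroup M₁] [Module R M₁] [AddCommGroup M₂] [Module R M₂] [AddCommGroup M₃] [Module R M₃]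

theorem isCoh_of_exact (f : M₁ →ₗ[R] M₂) (g : M₂ →ₗ[R] M₃) (hf : Function.Injective f)
    (hg : Function.Surjective g) (hfg : LinearMap.range f = LinearMap.ker g)
    (h₁ : IsCoh R M₁) (h₃ : IsCoh R M₃) : IsCoh R M₂ := by
  obtain ⟨fin₁, fp₁⟩ := h₁
  obtain ⟨fin₃, fp₃⟩ := h₃
  refine ⟨?_, ?_⟩
  · refine ⟨?_⟩
    apply Submodule.fg_of_fg_map_of_fg_inf_ker g
    · rw [Submodule.map_top, LinearMap.range_eq_top.mpr hg]; exact Module.Finite.fg_top
    · rw [top_inf_eq, ← hfg, LinearMap.range_eq_map]
      exact Module.Finite.fg_top.map f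
  · intro N hN
    have finN : Module.Finite R N := Module.Finite.iff_fg.mpr hN
    let l : N →ₗ[R] M₃ := g ∘ₗ N.subtype
    let l' : N →ₗ[R] LinearMap.range l := l.rangeRestrict
    have hl' : Function.Surjective l' := l.surjective_rangeRestrict
    have fpN₃ : Module.FinitePresentation R (LinearMap.range l) := by
      apply fp₃
      rw [LinearMap.range_eq_map]
      exact Module.Finite.fg_top.map l
    have hK : (LinearMap.ker l').FG := Module.FinitePresentation.fg_ker l' hl'
    -- the kernel is isomorphic to a submodule of `M₁`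
    let K'' : Submodule R M₁ := Submodule.comap f N
    let e₀ : K'' →ₗ[R] LinearMap.ker l' :=
      { toFun := fun m => ⟨⟨f m.1, m.2⟩, by
          rw [LinearMap.mem_ker]
          apply Subtype.ext
          change g (f m.1) = 0
          have : f m.1 ∈ LinearMap.ker g := hfg ▸ LinearMap.mem_range_self f m.1
          exact this⟩
        map_add' := fun a b => by
          apply Subtype.ext; apply Subtype.ext; simp
        map_smul' := fun r a => by
          apply Subtype.ext; apply Subtype.ext; simp }
    have he₀ : Function.Bijective e₀ := by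
      constructor
      · intro a b hab
        apply Subtype.ext
        apply hf
        exact congrArg (fun x : LinearMap.ker l' => (x.1.1 : M₂)) hab
      · rintro ⟨⟨n, hn⟩, hk⟩
        have hgn : g n = 0 := by
          have := congrArg (fun x : LinearMap.range l => (x.1 : M₃)) (LinearMap.mem_ker.mp hk)
          exact this
        have : n ∈ LinearMap.range f := hfg ▸ (LinearMap.mem_ker.mpr hgn)
        obtain ⟨m, rfl⟩ := this
        exact ⟨⟨m, hn⟩, rfl⟩
    let e : K'' ≃ₗ[R] LinearMap.ker l' := LinearEquiv.ofBijective e₀ he₀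
    have fgK'' : K''.FG := by
      rw [← Module.Finite.iff_fg]
      have : Module.Finite R (LinearMap.ker l') := Module.Finite.iff_fg.mpr hK
      exact Module.Finite.equiv e.symm
    have fpK'' : Module.FinitePresentation R K'' := fp₁ K'' fgK''
    have fpK : Module.FinitePresentation R (LinearMap.ker l') := .of_equiv e
    exact Module.finitePresentation_of_ker l' hl'

end

section
variable {R : Type u} [CommRing R]

theorem isCoh_of_subsingleton (M : Type u) [AddCommGroup M] [Module R M] [Subsingleton M] :
    IsCoh R M :=
  ⟨inferInstance, fun _ _ => inferInstance⟩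

theorem isCoh_of_equiv {M M' : Type u} [AddCommGroup M] [Module R M] [AddCommGroup M']
    [Module R M'] (e : M ≃ₗ[R] M') (h : IsCoh R M) : IsCoh R M' := by
  refine isCoh_of_exact (0 : PUnit.{u+1} →ₗ[R] M') e.symm.toLinearMap ?_ e.symm.surjective ?_
    (isCoh_of_subsingleton _) h
  · intro a b _
    exact Subsingleton.elim a b
  · rw [LinearMap.range_zero]
    exact (LinearMap.ker_eq_bot.mpr e.symm.injective).symm

theorem isCoh_prod {M M' : Type u} [AddCommGroup M] [Module R M] [AddCommGroup M']
    [Module R M'] (h : IsCoh R M) (h' : IsCoh R M') : IsCoh R (M × M') :=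
  isCoh_of_exact (LinearMap.inl R M M') (LinearMap.snd R M M') LinearMap.inl_injective
    LinearMap.snd_surjective (by rw [LinearMap.range_inl, LinearMap.ker_snd]) h h'

theorem isCoh_fin_fun (hR : IsCoh R R) (n : ℕ) : IsCoh R (Fin n → R) := by
  induction n with
  | zero => exact isCoh_of_subsingleton _
  | succ n ih =>
    exact isCoh_of_equiv (Fin.consLinearEquiv R (fun _ : Fin (n + 1) => R)) (isCoh_prod hR ih)

theorem isCoh_quotient {P : Type u} [AddCommGroup P] [Module R P] (h : IsCoh R P)
    (K : Submodule R P) (hK : K.FG) : IsCoh R (P ⧸ K) := by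
  obtain ⟨fin, fp⟩ := h
  refine ⟨inferInstance, ?_⟩
  intro N hN
  let N' : Submodule R P := N.comap K.mkQ
  have hKN' : K ≤ N' := by
    intro x hx
    change K.mkQ x ∈ N
    have : K.mkQ x = 0 := (Submodule.Quotient.mk_eq_zero K).mpr hx
    rw [this]
    exact N.zero_mem
  have hN' : N'.FG := by
    apply Submodule.fg_of_fg_map_of_fg_inf_ker K.mkQ
    · rw [Submodule.map_comap_eq_of_surjective K.mkQ_surjective]; exact hN
    · rw [Submodule.ker_mkQ, inf_eq_right.mpr hKN']; exact hK
  have fpN' : Module.FinitePresentation R N' := fp N' hN'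
  let l : N' →ₗ[R] N := K.mkQ.restrict (fun x hx => hx)
  have hl : Function.Surjective l := by
    rintro ⟨y, hy⟩
    obtain ⟨x, rfl⟩ := K.mkQ_surjective y
    exact ⟨⟨x, hy⟩, rfl⟩
  have hker : (LinearMap.ker l).FG := by
    have e : LinearMap.ker l = K.submoduleOf N' := by
      ext ⟨x, hx⟩
      rw [LinearMap.mem_ker]
      change _ ↔ x ∈ K
      constructor
      · intro h0
        have : K.mkQ x = 0 := congrArg Subtype.val h0
        exact (Submodule.Quotient.mk_eq_zero K).mp this
      · intro hxK
        apply Subtype.ext
        exact (Submodule.Quotient.mk_eq_zero K).mpr hxK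
    rw [e, ← Module.Finite.iff_fg]
    have : Module.Finite R K := Module.Finite.iff_fg.mpr hK
    exact Module.Finite.equiv (Submodule.submoduleOfEquivOfLe hKN').symm
  exact Module.finitePresentation_of_surjective l hl hker

/-- over a coherent ring, finitely presented modules are coherent. -/
theorem isCoh_of_finitePresentation (hR : IsCoh R R) (M : Type u) [AddCommGroup M] [Module R M]
    [Module.FinitePresentation R M] : IsCoh R M := by
  obtain ⟨n, K, e, hK⟩ := Module.FinitePresentation.exists_fin R M
  exact isCoh_of_equiv e.symm (isCoh_quotient (isCoh_fin_fun hR n) K hK)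

end

end Groth.Agent.H32
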