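import Mathlib
import Groth.Prelude.Def_CycAlg

/-!
# helper32: a finite extension `B ⊇ A` with `B/A` killed by a power of `I ∋ x` embeds into `A[1/x]`
-/

set_option autoImplicit false
universe u

namespace Groth.Agent.H32.FinExtEmb

theorem exists_embedding {A B : Type u} [CommRing A] [CommRing B] [Algebra A B] (I : Ideal A)
    (hB : CycAlg.IsFinExt A B I) (x : A) (hxI : x ∈ I)
    (hxB : algebraMap A B x ∈ nonZeroDivisors B) :
    ∃ j : B →ₐ[A] Localization.Away x, Function.Injective j := by
  obtain ⟨hinj, -, n, hn⟩ := hB
  have hex : ∀ b : B, ∃ a : A, algebraMap A B a = x ^ n • b := fun b => by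
    obtain ⟨a, ha⟩ := hn (x ^ n) (Ideal.pow_mem_pow hxI n) b
    exact ⟨a, ha⟩
  choose c hc using hex
  let M : Submonoid A := Submonoid.powers x
  let T : Submonoid B := Submonoid.map (algebraMap A B) M
  let Bx := Localization T
  haveI : IsLocalization (Submonoid.map (algebraMap A B) M) Bx :=
    inferInstanceAs (IsLocalization T (Localization T))
  let φ : Localization.Away x →+* Bx :=
    IsLocalization.map (M := M) (T := T) Bx (algebraMap A B) (Submonoid.le_comap_map M)
  have hφinj : Function.Injective φ :=
    IsLocalization.map_injective_of_injective (M := M) (S := Localization.Away x) (Q := Bx) hinj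
  have hφsurj : Function.Surjective φ := by
    intro z
    obtain ⟨b, ⟨t, s, ⟨m, rfl⟩, rfl⟩, rfl⟩ := IsLocalization.exists_mk'_eq T z
    refine ⟨IsLocalization.mk' (Localization.Away x) (c b) (⟨x ^ (n + m), n + m, rfl⟩ : M), ?_⟩
    change IsLocalization.map (M := M) (T := T) Bx (algebraMap A B) (Submonoid.le_comap_map M) _ = _
    rw [IsLocalization.map_mk', IsLocalization.mk'_eq_iff_eq]
    congr 1
    change algebraMap A B (x ^ m) * algebraMap A B (c b) = algebraMap A B (x ^ (n + m)) * b
    rw [hc b, Algebra.smul_def, pow_add, map_mul]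
    ring
  let e : Localization.Away x ≃+* Bx := RingEquiv.ofBijective φ ⟨hφinj, hφsurj⟩
  have hT : T ≤ nonZeroDivisors B := by
    rintro _ ⟨_, ⟨m, rfl⟩, rfl⟩
    change algebraMap A B (x ^ m) ∈ nonZeroDivisors B
    rw [map_pow]
    exact pow_mem hxB m
  have hψinj : Function.Injective (algebraMap B Bx) := IsLocalization.injective Bx hT
  let j₀ : B →+* Localization.Away x := (e.symm : Bx →+* Localization.Away x).comp (algebraMap B Bx)
  refine ⟨{ j₀ with commutes' := fun a => ?_ }, ?_⟩
  · change e.symm (algebraMap B Bx (algebraMap A B a)) = algebraMap A (Localization.Away x) a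
    apply e.injective
    rw [RingEquiv.apply_symm_apply]
    change _ = IsLocalization.map (M := M) (T := T) Bx (algebraMap A B) (Submonoid.le_comap_map M) _
    rw [IsLocalization.map_eq]
  · intro b b' h
    apply hψinj
    exact e.symm.injective h

end Groth.Agent.H32.FinExtEmb
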