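import Groth.Agent.H32.ChartGlue

/-!
# Morphisms from an algebraic space to an affine scheme and global functions (helper32)
-/

set_option autoImplicit false
universe u
open CategoryTheory CategoryTheory.Limits AlgebraicGeometry Opposite

namespace Groth.Agent.H32.AffMap

open AlgSp

/-- the morphism to an affine scheme defined by a ring map on global sections. -/
noncomputable def homOfΓ {U T : Scheme.{u}} [IsAffine T] (ψ : Γ(T, ⊤) ⟶ Γ(U, ⊤)) : U ⟶ T :=
  U.toSpecΓ ≫ Spec.map ψ ≫ T.isoSpec.inv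

theorem homOfΓ_appTop {U T : Scheme.{u}} [IsAffine T] (ψ : Γ(T, ⊤) ⟶ Γ(U, ⊤)) :
    (homOfΓ ψ).appTop = ψ := by
  have h1 : T.isoSpec.inv.appTop ≫ (Scheme.ΓSpecIso Γ(T, ⊤)).hom = 𝟙 _ := by
    rw [← Scheme.toSpecΓ_appTop, ← Scheme.Hom.comp_appTop, Scheme.toSpecΓ_isoSpec_inv]
    rfl
  unfold homOfΓ
  rw [Scheme.Hom.comp_appTop, Scheme.Hom.comp_appTop, Scheme.toSpecΓ_appTop, Category.assoc,
    Scheme.ΓSpecIso_naturality, ← Category.assoc, h1, Category.id_comp]

variable {S : Scheme.{u}} {X : AlgSp.Sp S}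

/-- the component at a chart of a ring map to the global functions of `X`. -/
noncomputable def comp (T : Over S) (φ : Γ(T.left, ⊤) →+* ↥(gsectEt (OEt X))) (E : EtOver X) :
    Γ(T.left, ⊤) ⟶ Γ(E.obj.left.left, ⊤) :=
  CommRingCat.ofHom ((ULift.ringEquiv.{u, u + 1}).toRingHom.comp
    (((limit.π (OEt X).obj (op E)).hom :
      ↥(gsectEt (OEt X)) →+* ULift.{u + 1} Γ(E.obj.left.left, ⊤)).comp φ))

theorem comp_apply (T : Over S) (φ : Γ(T.left, ⊤) →+* ↥(gsectEt (OEt X))) (E : EtOver X)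
    (r : Γ(T.left, ⊤)) :
    (comp T φ E) r = ((limit.π (OEt X).obj (op E)) (φ r)).down := rfl

theorem comp_naturality (T : Over S) (φ : Γ(T.left, ⊤) →+* ↥(gsectEt (OEt X))) {E E' : EtOver X}
    (h : E ⟶ E') : comp T φ E' ≫ h.hom.left.left.appTop = comp T φ E := by
  ext r
  change h.hom.left.left.appTop.hom ((limit.π (OEt X).obj (op E')) (φ r)).down =
    ((limit.π (OEt X).obj (op E)) (φ r)).down
  have h1 := limit.w (OEt X).obj h.op
  have h2 : (OEt X).obj.map h.op ((limit.π (OEt X).obj (op E')) (φ r)) =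
      (limit.π (OEt X).obj (op E)) (φ r) := by
    rw [← h1]
    rfl
  rw [← h2, OEt_map]

end Groth.Agent.H32.AffMap
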