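import Groth.Prelude.Def_AlgSpCov
import Groth.Agent.H50.Etale
import Groth.Agent.H52.Topology
import Groth.Agent.H50.Fppf

/-!
# An atlas of an algebraic space is an fppf covering (helper32)
-/

set_option autoImplicit false
open CategoryTheory CategoryTheory.Limits AlgebraicGeometry Opposite
universe u

namespace Groth.Agent.H32.AtlasCover

variable {S : Scheme.{u}}

theorem repWith_mono {P P' : MorphismProperty Scheme.{u}} (hle : ∀ ⦃A B : Scheme.{u}⦄ (g : A ⟶ B), P g → P' g)
    {F G : AlgSp.Sp S} {f : F ⟶ G} (hf : AlgSp.RepWith P f) : AlgSp.RepWith P' f :=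
  ⟨hf.1, fun _ _ g fst snd sq => hle _ (hf.2 g fst snd sq)⟩

theorem isSurjectiveMor_of_repWith {F : AlgSp.Sp S} {U : Over S} (a : (AlgSp.yon S).obj U ⟶ F)
    (hs : AlgSp.RepWith @Surjective a) : AlgSp.IsSurjectiveMor a := by
  intro x
  obtain ⟨u, rfl⟩ := Groth.Agent.H52.surjective_ofPt_of_surjective a hs x
  exact ⟨AlgSp.Points.ofScheme U u, (AlgSp.Points.ofPt_eq_map_ofScheme a u).symm⟩

/-- an etale surjective map from a scheme is an fppf covering (indexed by a one-element type). -/
theorem isFppfCover_atlas {G : AlgSp.Sp S} {T : Over S} (p : (AlgSp.yon S).obj T ⟶ G)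
    (h1 : AlgSp.RepWith @Etale p) (h2 : AlgSp.RepWith @Surjective p) :
    AlgSp.IsFppfCover (fun _ : PUnit.{u + 1} => (AlgSp.yon S).obj T) (fun _ => p) := by
  refine ⟨fun _ => ⟨?_, ?_⟩, fun x => ⟨PUnit.unit, ?_⟩⟩
  · have hle : ∀ ⦃A B : Scheme.{u}⦄ (g : A ⟶ B), Etale g → Flat g := fun A B g hg => inferInstance
    exact Groth.Agent.H50.locP_of_repWith (P := @Flat) hle (repWith_mono hle h1)
  · have hle : ∀ ⦃A B : Scheme.{u}⦄ (g : A ⟶ B), Etale g → LocallyOfFinitePresentation g :=
      fun A B g hg => inferInstance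
    exact Groth.Agent.H50.locP_of_repWith (P := @LocallyOfFinitePresentation) hle
      (repWith_mono hle h1)
  · exact isSurjectiveMor_of_repWith p h2 x

/-- a jointly surjective family of flat morphisms locally of finite presentation between schemes
is an fppf covering. -/
theorem isFppfCover_of_family {U : Over S} {ι : Type u} (V : ι → Over S) (h : ∀ i, V i ⟶ U)
    (hfl : ∀ i, Flat (h i).left) (hfp : ∀ i, LocallyOfFinitePresentation (h i).left)
    (hsurj : ∀ τ : U.left, ∃ i, τ ∈ Set.range (h i).left) :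
    AlgSp.IsFppfCover (fun i => (AlgSp.yon S).obj (V i)) (fun i => (AlgSp.yon S).map (h i)) := by
  refine ⟨fun i => ⟨?_, ?_⟩, fun x => ?_⟩
  · have hle : ∀ ⦃A B : Scheme.{u}⦄ (g : A ⟶ B), Etale g → Flat g := fun A B g hg => inferInstance
    exact Groth.Agent.H50.locP_of_repWith (P := @Flat) hle
      ((AlgSp.repWith_yon_map_iff @Flat (h i)).2 (hfl i))
  · have hle : ∀ ⦃A B : Scheme.{u}⦄ (g : A ⟶ B), Etale g → LocallyOfFinitePresentation g :=
      fun A B g hg => inferInstance
    exact Groth.Agent.H50.locP_of_repWith (P := @LocallyOfFinitePresentation) hle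
      ((AlgSp.repWith_yon_map_iff @LocallyOfFinitePresentation (h i)).2 (hfp i))
  · obtain ⟨τ, rfl⟩ := (AlgSp.Points.schemeHomeo U).surjective x
    obtain ⟨i, v, hv⟩ := hsurj τ
    exact ⟨i, AlgSp.Points.schemeHomeo (V i) v, by
      rw [AlgSp.Points.map_yon_map_apply, hv]⟩

/-- an fppf covering sieve of a scheme over `S` contains an fppf covering family indexed by the
points. -/
theorem exists_family_of_mem_J {U : Over S} {R : Sieve U} (hR : R ∈ AlgSp.J S U) :
    ∃ (V : U.left → Over S) (h : ∀ τ, V τ ⟶ U), (∀ τ, R (h τ)) ∧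
      AlgSp.IsFppfCover (fun τ => (AlgSp.yon S).obj (V τ)) (fun τ => (AlgSp.yon S).map (h τ)) := by
  choose V h hR' hfl hfp t ht using fun τ : U.left => Groth.Agent.H50.exists_fppf_of_mem_J hR τ
  exact ⟨V, h, hR', isFppfCover_of_family V h hfl hfp (fun τ => ⟨τ, t τ, ht τ⟩)⟩

end Groth.Agent.H32.AtlasCover
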