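import Groth.Agent.H32.Fp3

/-!
# 2-fibre products and 2-commutative squares with horizontal equivalences (helper32)
-/

set_option autoImplicit false
open CategoryTheory Opposite
universe v u

namespace Groth.Agent.H32.Fp4

open FibCat Groth.Agent.H32.FibProd Groth.Agent.H32.StkLoc Groth.Agent.H32.Fp2 Groth.Agent.H32.Fp3

variable {C : Type u} [Category.{v} C]

section whisker
variable {𝒜 ℬ 𝒞 : BasedCategory.{v, max u v} C}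

/-- whiskering a 2-isomorphism on the left. -/
def whiskerLeftIso (G : 𝒜 ⥤ᵇ ℬ) {A B : ℬ ⥤ᵇ 𝒞} (ε : A ≅ B) :
    BasedFunctor.comp G A ≅ BasedFunctor.comp G B :=
  BasedNatIso.mkNatIso
    (NatIso.ofComponents (fun a => appIso ε (G.obj a))
      (fun {a a'} k => appIso_naturality ε (G.map k)))
    (fun a => isHomLift_id_of_eq _ (G.w_obj a) _ (appIso_isHomLift ε (G.obj a)))

/-- for an equivalence `b` with chosen inverse data, every `G` into the target factors through `b`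
up to 2-isomorphism. -/
theorem exists_factor_iso {b : ℬ ⥤ᵇ 𝒞} (hb : IsEquivOver b) (G : 𝒜 ⥤ᵇ 𝒞) :
    ∃ G' : 𝒜 ⥤ᵇ ℬ, Nonempty (BasedFunctor.comp G' b ≅ G) := by
  obtain ⟨b', -, -, ⟨ε⟩⟩ := exists_inv_isEquivOver hb
  exact ⟨BasedFunctor.comp G b', ⟨whiskerLeftIso G ε⟩⟩

end whisker

section square
variable {𝒰 𝒳 𝒴 𝒳' 𝒴' : BasedCategory.{v, max u v} C}

/-- for a 2-commutative square `f' ≫ b ≅ a ≫ f`, the functor `𝒰 ×_𝒴' 𝒳' ⟶ 𝒰 ×_𝒴 𝒳`. -/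
def sqFunctor (y' : 𝒰 ⥤ᵇ 𝒴') (f : 𝒳 ⥤ᵇ 𝒴) (f' : 𝒳' ⥤ᵇ 𝒴') (a : 𝒳' ⥤ᵇ 𝒳) (b : 𝒴' ⥤ᵇ 𝒴)
    (e : BasedFunctor.comp f' b ≅ BasedFunctor.comp a f) :
    fp y' f' ⥤ᵇ fp (BasedFunctor.comp y' b) f :=
  BasedFunctor.comp (fpPost y' f' b)
    (BasedFunctor.comp (congrRight (BasedFunctor.comp y' b) e)
      (pasteMidR (BasedFunctor.comp y' b) a f))

theorem sqFunctor_fst (y' : 𝒰 ⥤ᵇ 𝒴') (f : 𝒳 ⥤ᵇ 𝒴) (f' : 𝒳' ⥤ᵇ 𝒴') (a : 𝒳' ⥤ᵇ 𝒳) (b : 𝒴' ⥤ᵇ 𝒴)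
    (e : BasedFunctor.comp f' b ≅ BasedFunctor.comp a f) :
    BasedFunctor.comp (sqFunctor y' f f' a b e) (fpFst _ _) = fpFst y' f' := rfl

theorem sqFunctor_isEquivOver (y' : 𝒰 ⥤ᵇ 𝒴') (f : 𝒳 ⥤ᵇ 𝒴) (f' : 𝒳' ⥤ᵇ 𝒴') (a : 𝒳' ⥤ᵇ 𝒳)
    (b : 𝒴' ⥤ᵇ 𝒴) (e : BasedFunctor.comp f' b ≅ BasedFunctor.comp a f)
    (ha : IsEquivOver a) (hb : IsEquivOver b) : IsEquivOver (sqFunctor y' f f' a b e) := by
  have hff := (Groth.Agent.S5139.result b).mp hb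
  exact isEquivOver_comp _ _ (fpPost_isEquivOver y' f' b hff.1.1 hff.1.2)
    (isEquivOver_comp _ _ (congrRight_isEquivOver _ e) (pasteMidR_isEquivOver _ a f ha))

end square

section assoc
variable {𝒰 𝒵 𝒴 𝒳 : BasedCategory.{v, max u v} C}

theorem assoc_aux {D D' : Type*} [Category D] [Category D'] (g : D ⥤ D') {a a' : D'}
    {b b' c c' : D} (p : a ⟶ a') (i : a ⟶ g.obj b) (i' : a' ⟶ g.obj b') (q : b ⟶ b') (j : b ⟶ c)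
    (j' : b' ⟶ c') (r : c ⟶ c') (h1 : p ≫ i' = i ≫ g.map q) (h2 : q ≫ j' = j ≫ r) :
    p ≫ (i' ≫ g.map j') = (i ≫ g.map j) ≫ g.map r := by
  rw [← Category.assoc, h1, Category.assoc, ← g.map_comp, h2, g.map_comp, Category.assoc]

theorem assoc_aux2 {D D' : Type*} [Category D] [Category D'] (g : D ⥤ D') {a a' : D'}
    {b b' c c' : D} (p : a ⟶ a') (i : a ⟶ g.obj b) (i' : a' ⟶ g.obj b') (j : b ≅ c)
    (j' : b' ≅ c') (r : c ⟶ c')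
    (h : p ≫ (i' ≫ g.map j'.hom) = (i ≫ g.map j.hom) ≫ g.map r) :
    p ≫ i' = i ≫ g.map (j.hom ≫ r ≫ j'.inv) := by
  have h' : (p ≫ i') ≫ g.map j'.hom = (i ≫ g.map (j.hom ≫ r ≫ j'.inv)) ≫ g.map j'.hom := by
    rw [Category.assoc, h, Category.assoc, Category.assoc, ← g.map_comp, ← g.map_comp]
    simp
  have : IsIso (g.map j'.hom) := inferInstance
  exact (cancel_mono (g.map j'.hom)).mp h'

/-- the 2-isomorphism defining `assoc`. -/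
def assocIso (z : 𝒰 ⥤ᵇ 𝒵) (g : 𝒴 ⥤ᵇ 𝒵) (f : 𝒳 ⥤ᵇ 𝒴) :
    BasedFunctor.comp (BasedFunctor.comp (fpFst (fpSnd z g) f) (fpFst z g)) z ≅
      BasedFunctor.comp (fpSnd (fpSnd z g) f) (BasedFunctor.comp f g) :=
  BasedNatIso.mkNatIso
    (NatIso.ofComponents (fun w => w.obj.fst.obj.iso ≪≫ g.toFunctor.mapIso w.obj.iso)
      (fun {w w'} m => assoc_aux g.toFunctor (z.map m.hom.fst.hom.fst) w.obj.fst.obj.iso.hom
        w'.obj.fst.obj.iso.hom m.hom.fst.hom.snd w.obj.iso.hom w'.obj.iso.hom (f.map m.hom.snd)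
        m.hom.fst.hom.w m.hom.w))
    (fun w => by
      have h1 : 𝒵.p.IsHomLift (𝟙 (𝒰.p.obj w.obj.fst.obj.fst)) w.obj.fst.obj.iso.hom :=
        w.obj.fst.property
      have h2 : 𝒴.p.IsHomLift (𝟙 (𝒰.p.obj w.obj.fst.obj.fst)) w.obj.iso.hom := w.property
      have h3 : 𝒵.p.IsHomLift (𝟙 (𝒰.p.obj w.obj.fst.obj.fst)) (g.map w.obj.iso.hom) :=
        (BasedFunctor.isHomLift_iff g _ _).mpr h2
      exact isHomLift_comp_id_left 𝒵.p (𝟙 _) _ _ h1 h3)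

/-- `(𝒰 ×_𝒵 𝒴) ×_𝒴 𝒳 ⟶ 𝒰 ×_𝒵 𝒳`. -/
def assoc (z : 𝒰 ⥤ᵇ 𝒵) (g : 𝒴 ⥤ᵇ 𝒵) (f : 𝒳 ⥤ᵇ 𝒴) :
    fp (fpSnd z g) f ⥤ᵇ fp z (BasedFunctor.comp f g) :=
  fpLift (F := z) (G := BasedFunctor.comp f g)
    (BasedFunctor.comp (fpFst (fpSnd z g) f) (fpFst z g)) (fpSnd (fpSnd z g) f) (assocIso z g f)

theorem assoc_fst (z : 𝒰 ⥤ᵇ 𝒵) (g : 𝒴 ⥤ᵇ 𝒵) (f : 𝒳 ⥤ᵇ 𝒴) :
    BasedFunctor.comp (assoc z g f) (fpFst z (BasedFunctor.comp f g)) =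
      BasedFunctor.comp (fpFst (fpSnd z g) f) (fpFst z g) := rfl

theorem assoc_snd (z : 𝒰 ⥤ᵇ 𝒵) (g : 𝒴 ⥤ᵇ 𝒵) (f : 𝒳 ⥤ᵇ 𝒴) :
    BasedFunctor.comp (assoc z g f) (fpSnd z (BasedFunctor.comp f g)) = fpSnd (fpSnd z g) f := rfl

theorem assoc_aux3 {D : Type*} [Category D] {b b' c c' : D} (q q' : b ⟶ b') (j : b ⟶ c)
    (j' : b' ≅ c') (r : c ⟶ c') (h : q ≫ j'.hom = j ≫ r) (h' : q' ≫ j'.hom = j ≫ r) : q = q' := by
  have : q ≫ j'.hom = q' ≫ j'.hom := h.trans h'.symm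
  exact (cancel_mono j'.hom).mp this

theorem assoc_aux4 {D : Type*} [Category D] {b c c' b' : D} (j : b ⟶ c) (r : c ⟶ c')
    (j' : b' ≅ c') : (j ≫ r ≫ j'.inv) ≫ j'.hom = j ≫ r := by simp

theorem assoc_aux5 {D : Type*} [Category D] {a b : D} (θ : a ⟶ b) (i1 : a ⟶ a) (i2 i3 : b ⟶ b)
    (h1 : i1 = 𝟙 a) (h2 : i2 = 𝟙 b) (h3 : i3 = 𝟙 b) : i1 ≫ θ = (θ ≫ i2) ≫ i3 := by
  subst h1 h2 h3; simp

theorem assoc_isEquivOver (z : 𝒰 ⥤ᵇ 𝒵) (g : 𝒴 ⥤ᵇ 𝒵) (f : 𝒳 ⥤ᵇ 𝒴) :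
    IsEquivOver (assoc z g f) := by
  rw [Groth.Agent.S5139.result]
  refine ⟨⟨⟨fun {w w'} n => ?_⟩, ⟨fun {w w'} m m' hmm' => ?_⟩⟩, fun η => ?_⟩
  · -- full
    have hn : z.map n.hom.fst ≫ (w'.obj.fst.obj.iso.hom ≫ g.map w'.obj.iso.hom) =
        (w.obj.fst.obj.iso.hom ≫ g.map w.obj.iso.hom) ≫ g.map (f.map n.hom.snd) := n.hom.w
    have c1 : z.map n.hom.fst ≫ w'.obj.fst.obj.iso.hom = w.obj.fst.obj.iso.hom ≫
        g.map (w.obj.iso.hom ≫ f.map n.hom.snd ≫ w'.obj.iso.inv) :=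
      assoc_aux2 g.toFunctor _ _ _ w.obj.iso w'.obj.iso _ hn
    let m1 : w.obj.fst ⟶ w'.obj.fst :=
      mkHom z g n.hom.fst (w.obj.iso.hom ≫ f.map n.hom.snd ≫ w'.obj.iso.inv) c1
    have c2 : (fpSnd z g).map m1 ≫ w'.obj.iso.hom = w.obj.iso.hom ≫ f.map n.hom.snd := by
      exact assoc_aux4 w.obj.iso.hom (f.map n.hom.snd) w'.obj.iso
    exact ⟨mkHom (fpSnd z g) f m1 n.hom.snd c2, fp_hom_ext _ _ rfl rfl⟩
  · -- faithful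
    have h1 : m.hom.fst.hom.fst = m'.hom.fst.hom.fst := congrArg (fun t => t.hom.fst) hmm'
    have h2 : m.hom.snd = m'.hom.snd := congrArg (fun t => t.hom.snd) hmm'
    have hw : m.hom.fst.hom.snd ≫ w'.obj.iso.hom = w.obj.iso.hom ≫ f.map m.hom.snd := m.hom.w
    have hw' : m'.hom.fst.hom.snd ≫ w'.obj.iso.hom = w.obj.iso.hom ≫ f.map m.hom.snd := by
      rw [h2]; exact m'.hom.w
    have h3 : m.hom.fst.hom.snd = m'.hom.fst.hom.snd :=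
      assoc_aux3 _ _ _ w'.obj.iso _ hw hw'
    exact fp_hom_ext _ _ (fp_hom_ext _ _ h1 h3) h2
  · -- essentially surjective over the identity
    have hθ : 𝒵.p.IsHomLift (𝟙 (𝒰.p.obj η.obj.fst)) η.obj.iso.hom := η.property
    have heq : 𝒴.p.obj (f.obj η.obj.snd) = 𝒰.p.obj η.obj.fst :=
      (g.w_obj (f.obj η.obj.snd)).symm.trans
        (@IsHomLift.codomain_eq _ _ _ _ 𝒵.p _ _ _ _ (𝟙 (𝒰.p.obj η.obj.fst)) η.obj.iso.hom hθ)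
    let w0 : (fp z g).obj := mkObj z g η.obj.fst (f.obj η.obj.snd) η.obj.iso hθ
    have h0 : 𝒴.p.IsHomLift (𝟙 (𝒰.p.obj η.obj.fst)) (𝟙 (f.obj η.obj.snd)) :=
      isHomLift_id_of_eq 𝒴.p heq _ (IsHomLift.id rfl)
    let ξ : (fp (fpSnd z g) f).obj := mkObj (fpSnd z g) f w0 η.obj.snd (Iso.refl _) h0
    have c : z.map (𝟙 η.obj.fst) ≫ η.obj.iso.hom =
        ((assoc z g f).obj ξ).obj.iso.hom ≫ (BasedFunctor.comp f g).map (𝟙 η.obj.snd) := by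
      change z.map (𝟙 η.obj.fst) ≫ η.obj.iso.hom =
        (η.obj.iso.hom ≫ g.map (𝟙 (f.obj η.obj.snd))) ≫ g.map (f.map (𝟙 η.obj.snd))
      refine assoc_aux5 _ _ _ _ (z.toFunctor.map_id _) (g.toFunctor.map_id _) ?_
      rw [f.toFunctor.map_id]
      exact g.toFunctor.map_id _
    let e : (assoc z g f).obj ξ ⟶ η :=
      mkHom z (BasedFunctor.comp f g) (𝟙 η.obj.fst) (𝟙 η.obj.snd) c
    have he : IsIso e :=
      fp_isIso e (inferInstanceAs (IsIso (𝟙 _))) (inferInstanceAs (IsIso (𝟙 _)))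
    have hl : (fp z (BasedFunctor.comp f g)).p.IsHomLift
        (𝟙 ((fp z (BasedFunctor.comp f g)).p.obj η)) e :=
      (fp_isHomLift_iff _ _ _ _).mpr (IsHomLift.id rfl)
    exact ⟨ξ, asIso e, hl⟩

end assoc

end Groth.Agent.H32.Fp4
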