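import Groth.Agent.H32.SpBridge

/-!
# Tracking the maps of presheaves through equivalences of 2-fibre products (helper32)
-/

set_option autoImplicit false
open CategoryTheory CategoryTheory.Limits AlgebraicGeometry Opposite
universe w v u

namespace Groth.Agent.H32.SpTrack

open FibCat Stk Groth.Agent.H32.FibProd Groth.Agent.H32.Fp2 Groth.Agent.H32.Fp3
  Groth.Agent.H32.PshFp Groth.Agent.H32.PshStack Groth.Agent.H32.StkLoc

section general
variable {C : Type u} [Category.{v} C]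

theorem pshMapOf_comp {P Q R : Cᵒᵖ ⥤ Type w} (Φ : ofPsh P ⥤ᵇ ofPsh Q) (Ψ : ofPsh Q ⥤ᵇ ofPsh R) :
    pshMapOf (BasedFunctor.comp Φ Ψ) = pshMapOf Φ ≫ pshMapOf Ψ := by
  ext U s
  change secAs (Ψ.obj (Φ.obj ⟨U.unop, s⟩)) ((BasedFunctor.comp Φ Ψ).w_obj ⟨U.unop, s⟩) =
    secAs (Ψ.obj ⟨U.unop, secAs (Φ.obj ⟨U.unop, s⟩) (Φ.w_obj ⟨U.unop, s⟩)⟩)
      (Ψ.w_obj ⟨U.unop, secAs (Φ.obj ⟨U.unop, s⟩) (Φ.w_obj ⟨U.unop, s⟩)⟩)
  obtain ⟨m, hm⟩ := exists_hom_of_secAs_eq (Φ.obj ⟨U.unop, s⟩)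
    (⟨U.unop, secAs (Φ.obj ⟨U.unop, s⟩) (Φ.w_obj ⟨U.unop, s⟩)⟩ : EltObj Q)
    (Φ.w_obj ⟨U.unop, s⟩) rfl (secAs_mk _ _ _).symm
  have hm' : (EltObj.forget R).IsHomLift (𝟙 U.unop) (Ψ.map m) :=
    (BasedFunctor.isHomLift_iff Ψ _ _).mpr hm
  exact secAs_eq_of_hom (Ψ.map m) hm' _ _

/-- two functors into the category of a presheaf with objectwise isomorphic values have the same
map of presheaves. -/
theorem pshMapOf_eq_of_hom {P Q : Cᵒᵖ ⥤ Type w} (Φ Ψ : ofPsh P ⥤ᵇ ofPsh Q)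
    (h : ∀ a : EltObj P, ∃ m : Φ.obj a ⟶ Ψ.obj a, (EltObj.forget Q).IsHomLift (𝟙 a.base) m) :
    pshMapOf Φ = pshMapOf Ψ := by
  ext U s
  obtain ⟨m, hm⟩ := h ⟨U.unop, s⟩
  change secAs (Φ.obj ⟨U.unop, s⟩) (Φ.w_obj ⟨U.unop, s⟩) =
    secAs (Ψ.obj ⟨U.unop, s⟩) (Ψ.w_obj ⟨U.unop, s⟩)
  exact secAs_eq_of_hom m hm _ _

/-- whiskering a 2-isomorphism on the right. -/
def whiskerRightIso {𝒜 ℬ 𝒞 : BasedCategory.{v, max u v} C} {A B : 𝒜 ⥤ᵇ ℬ} (ε : A ≅ B)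
    (H : ℬ ⥤ᵇ 𝒞) : BasedFunctor.comp A H ≅ BasedFunctor.comp B H :=
  BasedNatIso.mkNatIso
    (NatIso.ofComponents (fun a => H.toFunctor.mapIso (appIso ε a))
      (fun {a a'} k => by
        change H.map (A.map k) ≫ H.map (appIso ε a').hom = H.map (appIso ε a).hom ≫ H.map (B.map k)
        rw [← H.toFunctor.map_comp, ← H.toFunctor.map_comp]
        exact congrArg (fun t => H.map t) (appIso_naturality ε k)))
    (fun a => (BasedFunctor.isHomLift_iff H _ _).mpr (appIso_isHomLift ε a))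

end general

section pb
variable {C : Type u} [Category.{v} C] {F G G' H : Cᵒᵖ ⥤ Type (max u v)}

/-- an equivalence from the category of a presheaf `H` to the 2-fibre product of the categories
of a cospan of presheaves makes `H` a pullback. -/
theorem isPullback_of_equiv (a : F ⟶ G) (ξ : G' ⟶ G)
    (E : ofPsh H ⥤ᵇ fp (ofPshMap ξ) (ofPshMap a)) (hE : IsEquivOver E) :
    IsPullback (pshMapOf (BasedFunctor.comp E (fpSnd (ofPshMap ξ) (ofPshMap a))))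
      (pshMapOf (BasedFunctor.comp E (fpFst (ofPshMap ξ) (ofPshMap a)))) a ξ := by
  have sq := IsPullback.of_hasPullback a ξ
  have h2 := pbFunctor_isEquivOver a ξ _ _ sq
  obtain ⟨pb', hpb', -, ⟨ε⟩⟩ := exists_inv_isEquivOver h2
  obtain ⟨E', hE'def⟩ : ∃ E' : ofPsh H ⥤ᵇ ofPsh (pullback a ξ), E' = BasedFunctor.comp E pb' :=
    ⟨_, rfl⟩
  have hE' : IsEquivOver E' := by
    rw [hE'def]; exact isEquivOver_comp _ _ hE hpb'
  have hi : IsIso (pshMapOf E') := isIso_pshMapOf E' hE'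
  have e1 : pshMapOf E' ≫ pullback.fst a ξ =
      pshMapOf (BasedFunctor.comp E (fpSnd (ofPshMap ξ) (ofPshMap a))) := by
    have h0 : pshMapOf E' ≫ pullback.fst a ξ =
        pshMapOf (BasedFunctor.comp E' (ofPshMap (pullback.fst a ξ))) := by
      rw [pshMapOf_comp, pshMapOf_ofPshMap]
    rw [h0, hE'def]
    refine pshMapOf_eq_of_hom _ _ (fun b => ?_)
    exact ⟨(fpSnd (ofPshMap ξ) (ofPshMap a)).map (appIso ε (E.obj b)).hom,
      isHomLift_id_of_eq _ (E.w_obj b) _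
        ((BasedFunctor.isHomLift_iff (fpSnd (ofPshMap ξ) (ofPshMap a)) _ _).mpr
          (appIso_isHomLift ε (E.obj b)))⟩
  have e2 : pshMapOf E' ≫ pullback.snd a ξ =
      pshMapOf (BasedFunctor.comp E (fpFst (ofPshMap ξ) (ofPshMap a))) := by
    have h0 : pshMapOf E' ≫ pullback.snd a ξ =
        pshMapOf (BasedFunctor.comp E' (ofPshMap (pullback.snd a ξ))) := by
      rw [pshMapOf_comp, pshMapOf_ofPshMap]
    rw [h0, hE'def]
    refine pshMapOf_eq_of_hom _ _ (fun b => ?_)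
    exact ⟨(fpFst (ofPshMap ξ) (ofPshMap a)).map (appIso ε (E.obj b)).hom,
      isHomLift_id_of_eq _ (E.w_obj b) _
        ((BasedFunctor.isHomLift_iff (fpFst (ofPshMap ξ) (ofPshMap a)) _ _).mpr
          (appIso_isHomLift ε (E.obj b)))⟩
  refine IsPullback.of_iso sq (asIso (pshMapOf E')).symm (Iso.refl _) (Iso.refl _) (Iso.refl _)
    ?_ ?_ (by simp) (by simp)
  · rw [← e1]; simp
  · rw [← e2]; simp

end pb

section sp
variable {S : Scheme.{u}}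

theorem secAs_ofOverCat {U : Over S} (g : (FibCat.overCat U).obj) {W : Over S}
    (h : ((AlgSt.ofOverCat U).obj g).base = W) :
    (secAs ((AlgSt.ofOverCat U).obj g) h).down = eqToHom h.symm ≫ Comma.hom g := by
  subst h
  have : secAs ((AlgSt.ofOverCat U).obj g) rfl = ((AlgSt.ofOverCat U).obj g).sec := secAs_self _ _
  rw [this]
  exact (Category.id_comp _).symm

theorem spMapOfOver_hom {F : AlgSp.Sp S} {U : Over S} (Φ : AlgSt.ofSp F ⥤ᵇ FibCat.overCat U) :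
    (AlgSt.spMapOfOver Φ).hom = pshMapOf (BasedFunctor.comp Φ (AlgSt.ofOverCat U)) := by
  ext T x
  apply ULift.ext
  change AlgSt.secHom Φ ⟨T.unop, x⟩ = _
  exact (secAs_ofOverCat (Φ.obj ⟨T.unop, x⟩) (Φ.w_obj ⟨T.unop, x⟩)).symm

theorem spMapOfOver_eq_of_hom {F : AlgSp.Sp S} {U : Over S}
    (Φ Ψ : AlgSt.ofSp F ⥤ᵇ FibCat.overCat U)
    (h : ∀ a : (AlgSt.ofSp F).obj, ∃ m : Φ.obj a ⟶ Ψ.obj a,
      (FibCat.overCat U).p.IsHomLift (𝟙 ((AlgSt.ofSp F).p.obj a)) m) :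
    AlgSt.spMapOfOver Φ = AlgSt.spMapOfOver Ψ := by
  apply ObjectProperty.hom_ext
  rw [spMapOfOver_hom, spMapOfOver_hom]
  refine pshMapOf_eq_of_hom _ _ (fun a => ?_)
  obtain ⟨m, hm⟩ := h a
  exact ⟨(AlgSt.ofOverCat U).map m, (BasedFunctor.isHomLift_iff (AlgSt.ofOverCat U) _ _).mpr hm⟩

end sp

end Groth.Agent.H32.SpTrack
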