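import Groth.Agent.H32.SpBoot
import Groth.Agent.H32.SpTrack
import Groth.Agent.H32.Fp4
import Groth.Agent.H32.AtlasCover

/-!
# Properties of the base change of a representable morphism to an algebraic space (helper32)
-/

set_option autoImplicit false
open CategoryTheory CategoryTheory.Limits AlgebraicGeometry Opposite
universe u

namespace Groth.Agent.H32.SpComp

open FibCat Stk Groth.Agent.H32.FibProd Groth.Agent.H32.Fp2 Groth.Agent.H32.Fp3
  Groth.Agent.H32.Fp4 Groth.Agent.H32.PshFp Groth.Agent.H32.PshStack Groth.Agent.H32.SpBridge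
  Groth.Agent.H32.SpTrack Groth.Agent.H32.AtlasCover

variable {S : Scheme.{u}} {𝒳 𝒴 : AlgSt.Cat S}

/-- two presheaves representing the same category over `(Sch/S)` are isomorphic, compatibly with
all functors to categories of presheaves. -/
theorem rep_unique {𝒲 : AlgSt.Cat S} {F₁ F₂ : AlgSp.PSp S} (Φ₁ : Stk.ofPsh F₁ ⥤ᵇ 𝒲)
    (Φ₂ : Stk.ofPsh F₂ ⥤ᵇ 𝒲) (h₁ : IsEquivOver Φ₁) (h₂ : IsEquivOver Φ₂) :
    ∃ i : F₁ ≅ F₂, ∀ (Q : AlgSp.PSp S) (T : 𝒲 ⥤ᵇ Stk.ofPsh Q),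
      i.hom ≫ pshMapOf (BasedFunctor.comp Φ₂ T) = pshMapOf (BasedFunctor.comp Φ₁ T) := by
  obtain ⟨Φ₂', hΦ₂', -, ⟨ε⟩⟩ := exists_inv_isEquivOver h₂
  obtain ⟨E, hEdef⟩ : ∃ E : Stk.ofPsh F₁ ⥤ᵇ Stk.ofPsh F₂, E = BasedFunctor.comp Φ₁ Φ₂' := ⟨_, rfl⟩
  have hE : IsEquivOver E := by
    rw [hEdef]; exact isEquivOver_comp _ _ h₁ hΦ₂'
  have hi : IsIso (pshMapOf E) := isIso_pshMapOf E hE
  refine ⟨asIso (pshMapOf E), fun Q T => ?_⟩
  change pshMapOf E ≫ pshMapOf (BasedFunctor.comp Φ₂ T) = _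
  rw [← pshMapOf_comp, hEdef]
  refine pshMapOf_eq_of_hom _ _ (fun a => ?_)
  exact ⟨T.map (appIso ε (Φ₁.obj a)).hom,
    isHomLift_id_of_eq _ (Φ₁.w_obj a) _
      ((BasedFunctor.isHomLift_iff T _ _).mpr (appIso_isHomLift ε (Φ₁.obj a)))⟩

/-- uniqueness of the representing algebraic space of a base change to a scheme, compatibly with
the maps to the scheme. -/
theorem rep_unique_over (f : 𝒳 ⥤ᵇ 𝒴) (U : Over S) (y : FibCat.overCat U ⥤ᵇ 𝒴)
    (F₁ F₂ : AlgSp.Sp S) (e₁ : AlgSt.ofSp F₁ ⥤ᵇ fp y f) (e₂ : AlgSt.ofSp F₂ ⥤ᵇ fp y f)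
    (h₁ : IsEquivOver e₁) (h₂ : IsEquivOver e₂) :
    ∃ i : F₁ ≅ F₂, i.hom ≫ AlgSt.spMapOfOver (BasedFunctor.comp e₂ (fpFst y f)) =
      AlgSt.spMapOfOver (BasedFunctor.comp e₁ (fpFst y f)) := by
  obtain ⟨i, hi⟩ := rep_unique e₁ e₂ h₁ h₂
  refine ⟨(fullyFaithfulSheafToPresheaf (AlgSp.J S) (Type (u + 1))).preimageIso i, ?_⟩
  apply ObjectProperty.hom_ext
  have := hi _ (BasedFunctor.comp (fpFst y f) (AlgSt.ofOverCat U))
  rw [spMapOfOver_hom]
  change i.hom ≫ (AlgSt.spMapOfOver (BasedFunctor.comp e₂ (fpFst y f))).hom = _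
  rw [spMapOfOver_hom]
  exact this

/-- compatibility of the representing presheaves of the base changes of `f` with a further base
change `k : G' ⟶ G`: the square of presheaves is a pullback. -/
theorem exists_isPullback_baseChange (f : 𝒳 ⥤ᵇ 𝒴) {G F G' F' : AlgSp.PSp S}
    (h : Stk.ofPsh G ⥤ᵇ 𝒴) (eF : Stk.ofPsh F ⥤ᵇ fp h f) (heF : IsEquivOver eF)
    (k : G' ⟶ G) (eF' : Stk.ofPsh F' ⥤ᵇ fp (BasedFunctor.comp (Stk.ofPshMap k) h) f)
    (heF' : IsEquivOver eF') :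
    ∃ q : F' ⟶ F, IsPullback q
      (pshMapOf (BasedFunctor.comp eF' (fpFst (BasedFunctor.comp (Stk.ofPshMap k) h) f)))
      (pshMapOf (BasedFunctor.comp eF (fpFst h f))) k := by
  obtain ⟨α⟩ := ofPshMap_pshMapOf (BasedFunctor.comp eF (fpFst h f))
  obtain ⟨E2, hE2, -, ⟨ε2⟩⟩ := exists_inv_isEquivOver
    (pasteMidR_isEquivOver (Stk.ofPshMap k) eF (fpFst h f) heF)
  obtain ⟨E, hEdef⟩ : ∃ E : Stk.ofPsh F' ⥤ᵇ fp (Stk.ofPshMap k)
      (Stk.ofPshMap (pshMapOf (BasedFunctor.comp eF (fpFst h f)))),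
      E = BasedFunctor.comp eF' (BasedFunctor.comp (paste (Stk.ofPshMap k) h f)
        (BasedFunctor.comp E2 (congrRight (Stk.ofPshMap k) α.symm))) := ⟨_, rfl⟩
  have hE : IsEquivOver E := by
    rw [hEdef]
    exact isEquivOver_comp _ _ heF' (isEquivOver_comp _ _ (paste_isEquivOver _ _ _)
      (isEquivOver_comp _ _ hE2 (congrRight_isEquivOver _ _)))
  have sq := isPullback_of_equiv (pshMapOf (BasedFunctor.comp eF (fpFst h f))) k E hE
  have e1 : pshMapOf (BasedFunctor.comp E (fpFst _ _)) =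
      pshMapOf (BasedFunctor.comp eF' (fpFst (BasedFunctor.comp (Stk.ofPshMap k) h) f)) := by
    rw [hEdef]
    refine pshMapOf_eq_of_hom _ _ (fun a => ?_)
    exact ⟨(fpFst (Stk.ofPshMap k) (fpFst h f)).map
        (appIso ε2 ((paste (Stk.ofPshMap k) h f).obj (eF'.obj a))).hom,
      isHomLift_id_of_eq _ (eF'.w_obj a) _
        ((BasedFunctor.isHomLift_iff (fpFst (Stk.ofPshMap k) (fpFst h f)) _ _).mpr
          (appIso_isHomLift ε2 ((paste (Stk.ofPshMap k) h f).obj (eF'.obj a))))⟩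
  rw [e1] at sq
  exact ⟨_, sq⟩

/-- the base change of `f` (representable by algebraic spaces with `P`) to an algebraic space `G`
is a morphism of algebraic spaces with `P`, for `P` fppf local on the base. -/
theorem P_baseChange (P : MorphismProperty (AlgSp.Sp S))
    (hP : AlgSp.IsLocalOnBase AlgSp.IsFppfCover P) (f : 𝒳 ⥤ᵇ 𝒴)
    (hf : AlgSt.RepByAlgSpWith P f) (G F : AlgSp.Space S) (h : AlgSt.ofSp G.obj ⥤ᵇ 𝒴)
    (eF : AlgSt.ofSp F.obj ⥤ᵇ fp h f) (heF : IsEquivOver eF) :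
    P (ObjectProperty.homMk (pshMapOf (BasedFunctor.comp eF (fpFst h f))) : F.obj ⟶ G.obj) := by
  obtain ⟨T, p, hp1, hp2⟩ := G.property.atlas
  obtain ⟨FT, eT, heT, hPT⟩ := hf T (BasedFunctor.comp (ofPoint p.hom) h)
  obtain ⟨α⟩ := ofPshMap_pshMapOf (BasedFunctor.comp eF (fpFst h f))
  obtain ⟨E2, hE2, -, ⟨ε2⟩⟩ := exists_inv_isEquivOver
    (pasteMidR_isEquivOver (ofPoint p.hom) eF (fpFst h f) heF)
  obtain ⟨E, hEdef⟩ : ∃ E : AlgSt.ofSp FT.obj ⥤ᵇ fp (Stk.ofPshMap p.hom)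
      (Stk.ofPshMap (pshMapOf (BasedFunctor.comp eF (fpFst h f)))),
      E = BasedFunctor.comp eT (BasedFunctor.comp (paste (ofPoint p.hom) h f)
        (BasedFunctor.comp E2 (BasedFunctor.comp (congrRight (ofPoint p.hom) α.symm)
          (pasteMid (AlgSt.ofOverCat T) (Stk.ofPshMap p.hom)
            (Stk.ofPshMap (pshMapOf (BasedFunctor.comp eF (fpFst h f)))))))) := ⟨_, rfl⟩
  have hE : IsEquivOver E := by
    rw [hEdef]
    exact isEquivOver_comp _ _ heT (isEquivOver_comp _ _ (paste_isEquivOver _ _ _)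
      (isEquivOver_comp _ _ hE2 (isEquivOver_comp _ _ (congrRight_isEquivOver _ _)
        (pasteMid_isEquivOver _ _ _ (ofOverCat_isEquivOver T)))))
  have sq := isPullback_of_equiv (pshMapOf (BasedFunctor.comp eF (fpFst h f))) p.hom E hE
  have e1 : pshMapOf (BasedFunctor.comp E (fpFst _ _)) =
      (AlgSt.spMapOfOver (BasedFunctor.comp eT
        (fpFst (BasedFunctor.comp (ofPoint p.hom) h) f))).hom := by
    rw [spMapOfOver_hom, hEdef]
    refine pshMapOf_eq_of_hom _ _ (fun a => ?_)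
    exact ⟨(AlgSt.ofOverCat T).map ((fpFst (ofPoint p.hom) (fpFst h f)).map
        (appIso ε2 ((paste (ofPoint p.hom) h f).obj (eT.obj a))).hom),
      isHomLift_id_of_eq _ (eT.w_obj a) _
        ((BasedFunctor.isHomLift_iff (AlgSt.ofOverCat T) _ _).mpr
          ((BasedFunctor.isHomLift_iff (fpFst (ofPoint p.hom) (fpFst h f)) _ _).mpr
            (appIso_isHomLift ε2 ((paste (ofPoint p.hom) h f).obj (eT.obj a)))))⟩
  rw [e1] at sq
  have sq' : IsPullback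
      (ObjectProperty.homMk (pshMapOf (BasedFunctor.comp E (fpSnd _ _))) : FT.obj ⟶ F.obj)
      (AlgSt.spMapOfOver (BasedFunctor.comp eT (fpFst (BasedFunctor.comp (ofPoint p.hom) h) f)))
      (ObjectProperty.homMk (pshMapOf (BasedFunctor.comp eF (fpFst h f))) : F.obj ⟶ G.obj) p :=
    IsPullback.of_map_of_faithful (sheafToPresheaf (AlgSp.J S) (Type (u + 1))) sq
  exact (hP (ι := PUnit.{u + 1}) (fun _ => (AlgSp.yon S).obj T) (fun _ => p) G.property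
    (fun _ => AlgSp.IsAlgSpace.yon_obj T) (isFppfCover_atlas p hp1 hp2) _ F.property
    (fun _ => FT.obj) (fun _ => _) (fun _ => _) (fun _ => FT.property) (fun _ => sq')).mpr
    (fun _ => hPT)

/-- descent: `P` for the base change of `f` to a scheme can be checked on an fppf covering of the
scheme by algebraic spaces. -/
theorem P_of_cover (P : MorphismProperty (AlgSp.Sp S))
    (hP : AlgSp.IsLocalOnBase AlgSp.IsFppfCover P) (f : 𝒳 ⥤ᵇ 𝒴) (U : Over S)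
    (y : FibCat.overCat U ⥤ᵇ 𝒴) (F : AlgSp.Space S) (e : AlgSt.ofSp F.obj ⥤ᵇ fp y f)
    (he : IsEquivOver e) {ι : Type u} (C : ι → AlgSp.Space S)
    (c : ∀ i, (C i).obj ⟶ (AlgSp.yon S).obj U)
    (hc : AlgSp.IsFppfCover (fun i => (C i).obj) c) (Fi : ι → AlgSp.Space S)
    (ei : ∀ i, AlgSt.ofSp (Fi i).obj ⥤ᵇ fp (BasedFunctor.comp (Stk.ofPshMap (c i).hom)
      (BasedFunctor.comp (AlgSt.toOverCat U) y)) f)
    (hei : ∀ i, IsEquivOver (ei i))
    (hPi : ∀ i, P (ObjectProperty.homMk (pshMapOf (BasedFunctor.comp (ei i) (fpFst _ f))) :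
      (Fi i).obj ⟶ (C i).obj)) :
    P (AlgSt.spMapOfOver (BasedFunctor.comp e (fpFst y f))) := by
  obtain ⟨eF, heFdef⟩ : ∃ eF : AlgSt.ofSp F.obj ⥤ᵇ fp (BasedFunctor.comp (AlgSt.toOverCat U) y) f,
      eF = BasedFunctor.comp e (pasteMid (AlgSt.ofOverCat U)
        (BasedFunctor.comp (AlgSt.toOverCat U) y) f) := ⟨_, rfl⟩
  have heF : IsEquivOver eF := by
    rw [heFdef]
    exact isEquivOver_comp _ _ he (pasteMid_isEquivOver (AlgSt.ofOverCat U)
      (BasedFunctor.comp (AlgSt.toOverCat U) y) f (ofOverCat_isEquivOver U))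
  have e0 : pshMapOf (BasedFunctor.comp eF (fpFst (BasedFunctor.comp (AlgSt.toOverCat U) y) f)) =
      (AlgSt.spMapOfOver (BasedFunctor.comp e (fpFst y f))).hom := by
    rw [spMapOfOver_hom, heFdef]
    rfl
  have hsq : ∀ i, ∃ q : (Fi i).obj ⟶ F.obj, IsPullback q
      (ObjectProperty.homMk (pshMapOf (BasedFunctor.comp (ei i) (fpFst _ f))) :
        (Fi i).obj ⟶ (C i).obj)
      (AlgSt.spMapOfOver (BasedFunctor.comp e (fpFst y f))) (c i) := by
    intro i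
    obtain ⟨q, sq⟩ := exists_isPullback_baseChange f (BasedFunctor.comp (AlgSt.toOverCat U) y)
      eF heF (c i).hom (ei i) (hei i)
    rw [e0] at sq
    exact ⟨ObjectProperty.homMk q,
      IsPullback.of_map_of_faithful (sheafToPresheaf (AlgSp.J S) (Type (u + 1))) sq⟩
  choose q hq using hsq
  exact (hP (fun i => (C i).obj) c (AlgSp.IsAlgSpace.yon_obj U) (fun i => (C i).property) hc
    _ F.property (fun i => (Fi i).obj) _ q (fun i => (Fi i).property) hq).mpr hPi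

/-- base change along the second projection, for every property `P`. -/
theorem repByAlgSpWith_fpSnd (P : MorphismProperty (AlgSp.Sp S)) {𝒵 : AlgSt.Cat S} (z : 𝒵 ⥤ᵇ 𝒴)
    (f : 𝒳 ⥤ᵇ 𝒴) (hz : AlgSt.RepByAlgSpWith P z) : AlgSt.RepByAlgSpWith P (fpSnd z f) := by
  intro U x
  obtain ⟨F, e₀, he₀, hP⟩ := hz U (BasedFunctor.comp x f)
  refine ⟨F, BasedFunctor.comp e₀ (BasedFunctor.comp (paste x f z)
    (pasteMidR x (swap f z) (fpSnd z f))),
    isEquivOver_comp _ _ he₀ (isEquivOver_comp _ _ (paste_isEquivOver x f z)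
      (pasteMidR_isEquivOver x (swap f z) (fpSnd z f) (swap_isEquivOver f z))), ?_⟩
  exact hP

theorem locP_iso_comp {Q : MorphismProperty Scheme.{u}} {F' F G : AlgSp.Sp S} (i : F' ≅ F)
    (f : F ⟶ G) (h : AlgSp.LocP Q f) : AlgSp.LocP Q (i.hom ≫ f) := by
  intro U V a b k ha hb comm
  refine h (a ≫ i.hom) b k (MorphismProperty.RespectsIso.postcomp _ _ _ ha) hb ?_
  rw [Category.assoc]; exact comm

theorem isSurjectiveMor_iso_comp {F' F G : AlgSp.Sp S} (i : F' ≅ F) (f : F ⟶ G)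
    (h : AlgSp.IsSurjectiveMor f) : AlgSp.IsSurjectiveMor (i.hom ≫ f) := by
  intro x
  obtain ⟨y, rfl⟩ := h x
  refine ⟨AlgSp.Points.map i.inv y, ?_⟩
  rw [← AlgSp.Points.map_comp, Iso.inv_hom_id_assoc]

/-- a flat, locally finitely presented, surjective morphism representable by algebraic spaces
gives an fppf covering of every scheme mapping to its target. -/
theorem exists_cover_of_rep {𝒵 : AlgSt.Cat S} (z : 𝒵 ⥤ᵇ 𝒴)
    (hz₁ : AlgSt.RepByAlgSpWith (AlgSp.LocP @Flat) z)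
    (hz₂ : AlgSt.RepByAlgSpWith (AlgSp.LocP @LocallyOfFinitePresentation) z)
    (hz₃ : AlgSt.RepByAlgSpWith AlgSp.IsSurjectiveMor z) (U : Over S)
    (y : FibCat.overCat U ⥤ᵇ 𝒴) :
    ∃ (Z : AlgSp.Space S) (ez : AlgSt.ofSp Z.obj ⥤ᵇ fp y z), IsEquivOver ez ∧
      AlgSp.IsFppfCover (fun _ : PUnit.{u + 1} => Z.obj)
        (fun _ => AlgSt.spMapOfOver (BasedFunctor.comp ez (fpFst y z))) := by
  obtain ⟨Z₁, e₁, he₁, h₁⟩ := hz₁ U y
  obtain ⟨Z₂, e₂, he₂, h₂⟩ := hz₂ U y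
  obtain ⟨Z₃, e₃, he₃, h₃⟩ := hz₃ U y
  obtain ⟨i₂, hi₂⟩ := rep_unique_over z U y Z₁.obj Z₂.obj e₁ e₂ he₁ he₂
  obtain ⟨i₃, hi₃⟩ := rep_unique_over z U y Z₁.obj Z₃.obj e₁ e₃ he₁ he₃
  refine ⟨Z₁, e₁, he₁, fun _ => ⟨h₁, ?_⟩, fun x => ⟨PUnit.unit, ?_⟩⟩
  · rw [← hi₂]; exact locP_iso_comp i₂ _ h₂
  · have := isSurjectiveMor_iso_comp i₃ _ h₃
    rw [hi₃] at this
    exact this x

/-- descent of `P` along a covering `Z ≃ (Sch/U) ×_𝒴 𝒵 ⟶ (Sch/U)`. -/
theorem P_of_rep_cover (P : MorphismProperty (AlgSp.Sp S))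
    (hP : AlgSp.IsLocalOnBase AlgSp.IsFppfCover P) (f : 𝒳 ⥤ᵇ 𝒴) {𝒵 : AlgSt.Cat S} (z : 𝒵 ⥤ᵇ 𝒴)
    (U : Over S) (y : FibCat.overCat U ⥤ᵇ 𝒴) (F : AlgSp.Space S)
    (e : AlgSt.ofSp F.obj ⥤ᵇ fp y f) (he : IsEquivOver e)
    (Z : AlgSp.Space S) (ez : AlgSt.ofSp Z.obj ⥤ᵇ fp y z)
    (hcov : AlgSp.IsFppfCover (fun _ : PUnit.{u + 1} => Z.obj)
      (fun _ => AlgSt.spMapOfOver (BasedFunctor.comp ez (fpFst y z))))
    (F' : AlgSp.Space S)
    (e'' : AlgSt.ofSp F'.obj ⥤ᵇ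
      fp (BasedFunctor.comp (BasedFunctor.comp ez (fpSnd y z)) z) f) (he'' : IsEquivOver e'')
    (hP' : P (ObjectProperty.homMk (pshMapOf (BasedFunctor.comp e'' (fpFst _ f))) :
      F'.obj ⟶ Z.obj)) :
    P (AlgSt.spMapOfOver (BasedFunctor.comp e (fpFst y f))) := by
  obtain ⟨γ1⟩ : Nonempty (Stk.ofPshMap
      (AlgSt.spMapOfOver (BasedFunctor.comp ez (fpFst y z))).hom ≅
      BasedFunctor.comp (BasedFunctor.comp ez (fpFst y z)) (AlgSt.ofOverCat U)) := by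
    rw [spMapOfOver_hom]
    exact ofPshMap_pshMapOf _
  have γ2 : BasedFunctor.comp (Stk.ofPshMap
      (AlgSt.spMapOfOver (BasedFunctor.comp ez (fpFst y z))).hom)
      (BasedFunctor.comp (AlgSt.toOverCat U) y) ≅
      BasedFunctor.comp ez (BasedFunctor.comp (fpFst y z) y) :=
    whiskerRightIso γ1 (BasedFunctor.comp (AlgSt.toOverCat U) y)
  have γ3 : BasedFunctor.comp ez (BasedFunctor.comp (fpFst y z) y) ≅
      BasedFunctor.comp (BasedFunctor.comp ez (fpSnd y z)) z :=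
    whiskerLeftIso ez (fpIso y z)
  refine P_of_cover P hP f U y F e he (fun _ : PUnit.{u + 1} => Z)
    (fun _ => AlgSt.spMapOfOver (BasedFunctor.comp ez (fpFst y z))) hcov (fun _ => F')
    (fun _ => BasedFunctor.comp e'' (congrLeft (γ2 ≪≫ γ3).symm f))
    (fun _ => isEquivOver_comp _ _ he'' (congrLeft_isEquivOver _ f)) (fun _ => hP')

end Groth.Agent.H32.SpComp
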