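import Groth.Agent.H32.Fp4

/-!
# The magic square: `𝒱 ×_𝒴 𝒰 ≃ (𝒱 ×_𝒵 𝒰) ×_{𝒴 ×_𝒵 𝒴} 𝒴` (helper32)
-/

set_option autoImplicit false
open CategoryTheory Opposite
universe v u

namespace Groth.Agent.H32.Magic

open FibCat Groth.Agent.H32.FibProd Groth.Agent.H32.StkLoc Groth.Agent.H32.Fp2 Groth.Agent.H32.Fp3
  Groth.Agent.H32.Fp4

variable {C : Type u} [Category.{v} C]

/-- whiskering a 2-isomorphism on the right. -/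
def whiskerR {𝒜 ℬ 𝒞 : BasedCategory.{v, max u v} C} {A B : 𝒜 ⥤ᵇ ℬ} (ε : A ≅ B)
    (H : ℬ ⥤ᵇ 𝒞) : BasedFunctor.comp A H ≅ BasedFunctor.comp B H :=
  BasedNatIso.mkNatIso
    (NatIso.ofComponents (fun a => H.toFunctor.mapIso (appIso ε a))
      (fun {a a'} k => by
        change H.map (A.map k) ≫ H.map (appIso ε a').hom = H.map (appIso ε a).hom ≫ H.map (B.map k)
        rw [← H.toFunctor.map_comp, ← H.toFunctor.map_comp]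
        exact congrArg (fun t => H.map t) (appIso_naturality ε k)))
    (fun a => (BasedFunctor.isHomLift_iff H _ _).mpr (appIso_isHomLift ε a))

variable {𝒱 𝒰 𝒴 𝒵 : BasedCategory.{v, max u v} C}
variable (y₁ : 𝒱 ⥤ᵇ 𝒴) (y₂ : 𝒰 ⥤ᵇ 𝒴) (g : 𝒴 ⥤ᵇ 𝒵)

/-- `y₁ ×_g y₂ : 𝒱 ×_𝒵 𝒰 ⟶ 𝒴 ×_𝒵 𝒴`. -/
def prodF : fp (BasedFunctor.comp y₁ g) (BasedFunctor.comp y₂ g) ⥤ᵇ fp g g :=
  fpLift (F := g) (G := g) (BasedFunctor.comp (fpFst _ _) y₁) (BasedFunctor.comp (fpSnd _ _) y₂)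
    (fpIso (BasedFunctor.comp y₁ g) (BasedFunctor.comp y₂ g))

/-- the 2-isomorphism of the magic square. -/
def magicIso :
    BasedFunctor.comp (BasedFunctor.comp (fpFst (prodF y₁ y₂ g) (diag g)) (fpFst _ _)) y₁ ≅
      BasedFunctor.comp (BasedFunctor.comp (fpFst (prodF y₁ y₂ g) (diag g)) (fpSnd _ _)) y₂ :=
  (whiskerR (fpIso (prodF y₁ y₂ g) (diag g)) (fpFst g g)) ≪≫
    (whiskerR (fpIso (prodF y₁ y₂ g) (diag g)) (fpSnd g g)).symm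

/-- the magic square functor. -/
def magic : fp (prodF y₁ y₂ g) (diag g) ⥤ᵇ fp y₁ y₂ :=
  fpLift (F := y₁) (G := y₂)
    (BasedFunctor.comp (fpFst (prodF y₁ y₂ g) (diag g)) (fpFst _ _))
    (BasedFunctor.comp (fpFst (prodF y₁ y₂ g) (diag g)) (fpSnd _ _)) (magicIso y₁ y₂ g)

theorem magic_iso_hom (ω : (fp (prodF y₁ y₂ g) (diag g)).obj) :
    ((magic y₁ y₂ g).obj ω).obj.iso.hom = ω.obj.iso.hom.hom.fst ≫ ω.obj.iso.inv.hom.snd := rfl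

theorem diag_iso_hom (η : 𝒴.obj) : ((diag g).obj η).obj.iso.hom = 𝟙 (g.obj η) := rfl

theorem prodF_iso (t : (fp (BasedFunctor.comp y₁ g) (BasedFunctor.comp y₂ g)).obj) :
    ((prodF y₁ y₂ g).obj t).obj.iso = t.obj.iso := rfl

section aux
variable {D D' : Type*} [Category D] [Category D'] (G : D ⥤ D')

theorem aux_tau {a b η : D} (φ₁ : a ≅ η) (φ₂ : b ≅ η) (τ : G.obj a ⟶ G.obj b) (i : G.obj η ⟶ G.obj η)
    (hi : i = 𝟙 _) (h : G.map φ₁.hom ≫ i = τ ≫ G.map φ₂.hom) :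
    τ = G.map (φ₁.hom ≫ φ₂.inv) := by
  subst hi
  rw [Category.comp_id] at h
  rw [G.map_comp, h, Category.assoc, ← G.map_comp, Iso.hom_inv_id, G.map_id, Category.comp_id]

theorem aux_full1 {a b η a' b' η' : D} (φ₁ : a ≅ η) (φ₂ : b ≅ η) (φ₁' : a' ≅ η') (φ₂' : b' ≅ η')
    (p : a ⟶ a') (q : b ⟶ b')
    (h : p ≫ (φ₁'.hom ≫ φ₂'.inv) = (φ₁.hom ≫ φ₂.inv) ≫ q) :
    q ≫ φ₂'.hom = φ₂.hom ≫ (φ₁.inv ≫ p ≫ φ₁'.hom) := by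
  have h' : p ≫ φ₁'.hom = (φ₁.hom ≫ φ₂.inv) ≫ q ≫ φ₂'.hom := by
    have := congrArg (fun t => t ≫ φ₂'.hom) h
    simpa using this
  rw [h']
  simp

theorem aux_full2 {a η a' η' : D} (φ₁ : a ≅ η) (φ₁' : a' ≅ η') (p : a ⟶ a') :
    p ≫ φ₁'.hom = φ₁.hom ≫ (φ₁.inv ≫ p ≫ φ₁'.hom) := by simp

theorem aux_faith {a η a' η' : D} (φ₁ : a ≅ η) (φ₁' : a' ⟶ η') (p : a ⟶ a') (k k' : η ⟶ η')
    (h : p ≫ φ₁' = φ₁.hom ≫ k) (h' : p ≫ φ₁' = φ₁.hom ≫ k') : k = k' :=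
  (cancel_epi φ₁.hom).mp (h.symm.trans h')

theorem aux_inv_id {b : D} (i : b ≅ b) (h : i.hom = 𝟙 b) : i.inv = 𝟙 b := by
  rw [← cancel_mono i.hom, Iso.inv_hom_id, h, Category.comp_id]

theorem aux_ess {a b : D} (ψ : a ⟶ b) (i : G.obj b ⟶ G.obj b) (j : b ⟶ b) (hi : i = 𝟙 _)
    (hj : j = 𝟙 _) : G.map ψ ≫ i = G.map ψ ≫ G.map j := by
  subst hi hj; simp

theorem aux_map {a b a' b' : D} (ψ : a ⟶ b) (ψ' : a' ⟶ b') (p : a ⟶ a') (q : b ⟶ b')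
    (τ : G.obj a ⟶ G.obj b) (τ' : G.obj a' ⟶ G.obj b') (hτ : τ = G.map ψ) (hτ' : τ' = G.map ψ')
    (h : p ≫ ψ' = ψ ≫ q) : G.map p ≫ τ' = τ ≫ G.map q := by
  rw [hτ, hτ', ← G.map_comp, ← G.map_comp, h]

end aux

/-- the components of an isomorphism in a 2-fibre product. -/
def fstIso {𝒜 ℬ 𝒮 : BasedCategory.{v, max u v} C} {F : 𝒜 ⥤ᵇ 𝒮} {G : ℬ ⥤ᵇ 𝒮} {A B : (fp F G).obj}
    (φ : A ≅ B) : A.obj.fst ≅ B.obj.fst := (fpFst F G).toFunctor.mapIso φ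

def sndIso {𝒜 ℬ 𝒮 : BasedCategory.{v, max u v} C} {F : 𝒜 ⥤ᵇ 𝒮} {G : ℬ ⥤ᵇ 𝒮} {A B : (fp F G).obj}
    (φ : A ≅ B) : A.obj.snd ≅ B.obj.snd := (fpSnd F G).toFunctor.mapIso φ

/-- first component of the isomorphism of an object of the magic square. -/
def φ1 (ω : (fp (prodF y₁ y₂ g) (diag g)).obj) : y₁.obj ω.obj.fst.obj.fst ≅ ω.obj.snd :=
  fstIso ω.obj.iso

/-- second component of the isomorphism of an object of the magic square. -/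
def φ2 (ω : (fp (prodF y₁ y₂ g) (diag g)).obj) : y₂.obj ω.obj.fst.obj.snd ≅ ω.obj.snd :=
  sndIso ω.obj.iso

theorem magic_iso_hom' (ω : (fp (prodF y₁ y₂ g) (diag g)).obj) :
    ((magic y₁ y₂ g).obj ω).obj.iso.hom = (φ1 y₁ y₂ g ω).hom ≫ (φ2 y₁ y₂ g ω).inv := rfl

theorem tau_eq (ω : (fp (prodF y₁ y₂ g) (diag g)).obj) :
    ω.obj.fst.obj.iso.hom = g.map ((φ1 y₁ y₂ g ω).hom ≫ (φ2 y₁ y₂ g ω).inv) :=
  aux_tau g.toFunctor (φ1 y₁ y₂ g ω) (φ2 y₁ y₂ g ω) ω.obj.fst.obj.iso.hom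
    ((diag g).obj ω.obj.snd).obj.iso.hom (diag_iso_hom g ω.obj.snd) ω.obj.iso.hom.hom.w

theorem magic_isEquivOver : IsEquivOver (magic y₁ y₂ g) := by
  rw [Groth.Agent.S5139.result]
  refine ⟨⟨⟨fun {ω ω'} n => ?_⟩, ⟨fun {ω ω'} m m' hmm' => ?_⟩⟩, fun ζ => ?_⟩
  · -- full
    have hn : y₁.map n.hom.fst ≫ ((φ1 y₁ y₂ g ω').hom ≫ (φ2 y₁ y₂ g ω').inv) =
        ((φ1 y₁ y₂ g ω).hom ≫ (φ2 y₁ y₂ g ω).inv) ≫ y₂.map n.hom.snd := n.hom.w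
    have c0 : (BasedFunctor.comp y₁ g).map n.hom.fst ≫ ω'.obj.fst.obj.iso.hom =
        ω.obj.fst.obj.iso.hom ≫ (BasedFunctor.comp y₂ g).map n.hom.snd :=
      aux_map g.toFunctor _ _ (y₁.map n.hom.fst) (y₂.map n.hom.snd) _ _ (tau_eq y₁ y₂ g ω)
        (tau_eq y₁ y₂ g ω') hn
    let mt : ω.obj.fst ⟶ ω'.obj.fst :=
      mkHom (BasedFunctor.comp y₁ g) (BasedFunctor.comp y₂ g) n.hom.fst n.hom.snd c0
    let mη : ω.obj.snd ⟶ ω'.obj.snd :=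
      (φ1 y₁ y₂ g ω).inv ≫ y₁.map n.hom.fst ≫ (φ1 y₁ y₂ g ω').hom
    have c1 : (prodF y₁ y₂ g).map mt ≫ ω'.obj.iso.hom = ω.obj.iso.hom ≫ (diag g).map mη := by
      refine fp_hom_ext _ _ ?_ ?_
      · exact aux_full2 (φ1 y₁ y₂ g ω) (φ1 y₁ y₂ g ω') (y₁.map n.hom.fst)
      · exact aux_full1 (φ1 y₁ y₂ g ω) (φ2 y₁ y₂ g ω) (φ1 y₁ y₂ g ω')
          (φ2 y₁ y₂ g ω') (y₁.map n.hom.fst) (y₂.map n.hom.snd) hn
    exact ⟨mkHom (prodF y₁ y₂ g) (diag g) mt mη c1, fp_hom_ext _ _ rfl rfl⟩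
  · -- faithful
    have h1 : m.hom.fst.hom.fst = m'.hom.fst.hom.fst := congrArg (fun t => t.hom.fst) hmm'
    have h2 : m.hom.fst.hom.snd = m'.hom.fst.hom.snd := congrArg (fun t => t.hom.snd) hmm'
    have hw : y₁.map m.hom.fst.hom.fst ≫ (φ1 y₁ y₂ g ω').hom =
        (φ1 y₁ y₂ g ω).hom ≫ m.hom.snd := congrArg (fun t => t.hom.fst) m.hom.w
    have hw' : y₁.map m.hom.fst.hom.fst ≫ (φ1 y₁ y₂ g ω').hom =
        (φ1 y₁ y₂ g ω).hom ≫ m'.hom.snd := by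
      rw [h1]; exact congrArg (fun t => t.hom.fst) m'.hom.w
    have h3 : m.hom.snd = m'.hom.snd := aux_faith (φ1 y₁ y₂ g ω) _ _ _ _ hw hw'
    exact fp_hom_ext _ _ (fp_hom_ext _ _ h1 h2) h3
  · -- essentially surjective over the identity
    have hψ : 𝒴.p.IsHomLift (𝟙 (𝒱.p.obj ζ.obj.fst)) ζ.obj.iso.hom := ζ.property
    have hgψ : 𝒵.p.IsHomLift (𝟙 (𝒱.p.obj ζ.obj.fst)) (g.map ζ.obj.iso.hom) :=
      (BasedFunctor.isHomLift_iff g _ _).mpr hψ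
    let t : (fp (BasedFunctor.comp y₁ g) (BasedFunctor.comp y₂ g)).obj :=
      mkObj (BasedFunctor.comp y₁ g) (BasedFunctor.comp y₂ g) ζ.obj.fst ζ.obj.snd
        (g.toFunctor.mapIso ζ.obj.iso) hgψ
    have c : g.map ζ.obj.iso.hom ≫ ((diag g).obj (y₂.obj ζ.obj.snd)).obj.iso.hom =
        ((prodF y₁ y₂ g).obj t).obj.iso.hom ≫ g.map (𝟙 (y₂.obj ζ.obj.snd)) :=
      aux_ess g.toFunctor ζ.obj.iso.hom _ _ (diag_iso_hom g _) rfl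
    let φh : (prodF y₁ y₂ g).obj t ⟶ (diag g).obj (y₂.obj ζ.obj.snd) :=
      mkHom g g ζ.obj.iso.hom (𝟙 (y₂.obj ζ.obj.snd)) c
    have hφ : IsIso φh :=
      fp_isIso φh (inferInstanceAs (IsIso ζ.obj.iso.hom)) (inferInstanceAs (IsIso (𝟙 _)))
    have hl0 : (fp g g).p.IsHomLift (𝟙 (𝒱.p.obj ζ.obj.fst)) φh :=
      (fp_isHomLift_iff g g _ _).mpr hψ
    let ω : (fp (prodF y₁ y₂ g) (diag g)).obj :=
      mkObj (prodF y₁ y₂ g) (diag g) t (y₂.obj ζ.obj.snd) (asIso φh) hl0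
    have h2 : (φ2 y₁ y₂ g ω).inv = 𝟙 _ := aux_inv_id (φ2 y₁ y₂ g ω) rfl
    have c2 : y₁.map (𝟙 ζ.obj.fst) ≫ ζ.obj.iso.hom =
        ((magic y₁ y₂ g).obj ω).obj.iso.hom ≫ y₂.map (𝟙 ζ.obj.snd) := by
      change y₁.map (𝟙 ζ.obj.fst) ≫ ζ.obj.iso.hom =
        (ζ.obj.iso.hom ≫ (φ2 y₁ y₂ g ω).inv) ≫ y₂.map (𝟙 ζ.obj.snd)
      exact assoc_aux5 _ _ _ _ (y₁.toFunctor.map_id _) h2 (y₂.toFunctor.map_id _)
    let e : (magic y₁ y₂ g).obj ω ⟶ ζ := mkHom y₁ y₂ (𝟙 ζ.obj.fst) (𝟙 ζ.obj.snd) c2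
    have he : IsIso e :=
      fp_isIso e (inferInstanceAs (IsIso (𝟙 _))) (inferInstanceAs (IsIso (𝟙 _)))
    have hl : (fp y₁ y₂).p.IsHomLift (𝟙 ((fp y₁ y₂).p.obj ζ)) e :=
      (fp_isHomLift_iff _ _ _ _).mpr (IsHomLift.id rfl)
    exact ⟨ω, asIso e, hl⟩

end Groth.Agent.H32.Magic
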