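import Groth.Agent.H32.SpBridge
import Groth.Agent.H32.Fp4

/-!
# Products of slice categories over `(Sch/S)` are representable (helper32)
-/

set_option autoImplicit false
open CategoryTheory CategoryTheory.Limits AlgebraicGeometry Opposite
universe u

namespace Groth.Agent.H32.Prod

open FibCat Stk Groth.Agent.H32.FibProd Groth.Agent.H32.Fp2 Groth.Agent.H32.Fp3
  Groth.Agent.H32.Fp4 Groth.Agent.H32.SpBridge Groth.Agent.H32.StkLoc

variable {S : Scheme.{u}}

theorem basedFunctor_ext {𝒜 ℬ : AlgSt.Cat S} (F G : 𝒜 ⥤ᵇ ℬ) (h : F.toFunctor = G.toFunctor) :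
    F = G := by
  cases F; cases G
  cases h
  rfl

theorem eq_toSelf {𝒜 : AlgSt.Cat S} (t : 𝒜 ⥤ᵇ FibCat.selfOver (Over S)) :
    t = FibCat.toSelf 𝒜 := by
  apply basedFunctor_ext
  exact t.w

/-- the comparison functor `(Sch/(V × U)) ⟶ (Sch/V) × (Sch/U)`. -/
noncomputable def prodFunctor (V U : Over S) :
    FibCat.overCat (V ⨯ U) ⥤ᵇ fp (FibCat.toSelf (FibCat.overCat V)) (FibCat.toSelf (FibCat.overCat U)) :=
  fpLift (F := FibCat.toSelf (FibCat.overCat V)) (G := FibCat.toSelf (FibCat.overCat U))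
    (AlgSt.overMap (prod.fst : V ⨯ U ⟶ V)) (AlgSt.overMap (prod.snd : V ⨯ U ⟶ U)) (Iso.refl _)

theorem aux_prod {D : Type*} [Category D] {A B X X' : D} [HasBinaryProduct A B] (k k' : X ⟶ X')
    (c : X ⟶ A ⨯ B) (c' : X' ⟶ A ⨯ B) (hk : k = k') (h1 : k ≫ c' ≫ prod.fst = c ≫ prod.fst)
    (h2 : k' ≫ c' ≫ prod.snd = c ≫ prod.snd) : k ≫ c' = c := by
  subst hk
  apply prod.hom_ext
  · rw [Category.assoc]; exact h1
  · rw [Category.assoc]; exact h2

theorem aux_id {D : Type*} [Category D] {X Y : D} (k : X ⟶ Y) (k' : X ⟶ Y)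
    (h : k ≫ 𝟙 _ = 𝟙 _ ≫ k') : k = k' := by simpa using h

theorem prodFunctor_isEquivOver (V U : Over S) : IsEquivOver (prodFunctor V U) := by
  rw [Groth.Agent.S5139.result]
  refine ⟨⟨⟨fun {c c'} n => ?_⟩, ⟨fun {c c'} m m' hmm' => ?_⟩⟩, fun η => ?_⟩
  · -- full
    have hw : n.hom.fst.left ≫ 𝟙 _ = 𝟙 _ ≫ n.hom.snd.left := n.hom.w
    have hk : n.hom.fst.left = n.hom.snd.left := aux_id _ _ hw
    have h1 : n.hom.fst.left ≫ (Comma.hom c' ≫ prod.fst) = Comma.hom c ≫ prod.fst :=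
      Over.w n.hom.fst
    have h2 : n.hom.snd.left ≫ (Comma.hom c' ≫ prod.snd) = Comma.hom c ≫ prod.snd :=
      Over.w n.hom.snd
    have h3 : n.hom.fst.left ≫ Comma.hom c' = Comma.hom c :=
      aux_prod _ _ _ _ hk h1 h2
    refine ⟨(Over.homMk n.hom.fst.left h3 : c ⟶ c'), ?_⟩
    refine fp_hom_ext _ _ ?_ ?_
    · apply Over.OverMorphism.ext; rfl
    · apply Over.OverMorphism.ext; exact hk
  · -- faithful
    have h1 : m.left = m'.left := congrArg (fun t => t.hom.fst.left) hmm'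
    exact Over.OverMorphism.ext h1
  · -- essentially surjective
    obtain ⟨θ, hθ⟩ : ∃ θ : (η.obj.fst : Over V).left ≅ (η.obj.snd : Over U).left,
        θ.hom = η.obj.iso.hom := ⟨η.obj.iso, rfl⟩
    let c : Over (V ⨯ U) :=
      Over.mk (prod.lift (η.obj.fst : Over V).hom (θ.hom ≫ (η.obj.snd : Over U).hom))
    have w1 : 𝟙 (η.obj.fst : Over V).left ≫ (η.obj.fst : Over V).hom =
        prod.lift (η.obj.fst : Over V).hom (θ.hom ≫ (η.obj.snd : Over U).hom) ≫ prod.fst :=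
      (Category.id_comp _).trans (prod.lift_fst _ _).symm
    have w2 : θ.hom ≫ (η.obj.snd : Over U).hom =
        prod.lift (η.obj.fst : Over V).hom (θ.hom ≫ (η.obj.snd : Over U).hom) ≫ prod.snd :=
      (prod.lift_snd _ _).symm
    let m1 : (Over.map (prod.fst : V ⨯ U ⟶ V)).obj c ⟶ (η.obj.fst : Over V) :=
      Over.homMk (𝟙 (η.obj.fst : Over V).left) w1
    let m2 : (Over.map (prod.snd : V ⨯ U ⟶ U)).obj c ⟶ (η.obj.snd : Over U) :=
      Over.homMk θ.hom w2
    have i1 : IsIso m1 := by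
      have : IsIso ((Over.forget V).map m1) := inferInstanceAs (IsIso (𝟙 (η.obj.fst : Over V).left))
      exact isIso_of_reflects_iso m1 (Over.forget V)
    have i2 : IsIso m2 := by
      have : IsIso ((Over.forget U).map m2) := inferInstanceAs (IsIso θ.hom)
      exact isIso_of_reflects_iso m2 (Over.forget U)
    have cw : (FibCat.toSelf (FibCat.overCat V)).map m1 ≫ η.obj.iso.hom =
        ((prodFunctor V U).obj c).obj.iso.hom ≫ (FibCat.toSelf (FibCat.overCat U)).map m2 := by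
      change 𝟙 _ ≫ η.obj.iso.hom = 𝟙 _ ≫ θ.hom
      rw [hθ]
      rfl
    let e : (prodFunctor V U).obj c ⟶ η :=
      mkHom (FibCat.toSelf (FibCat.overCat V)) (FibCat.toSelf (FibCat.overCat U)) m1 m2 cw
    have he : IsIso e := fp_isIso e i1 i2
    have hl : (fp (FibCat.toSelf (FibCat.overCat V)) (FibCat.toSelf (FibCat.overCat U))).p.IsHomLift
        (𝟙 ((fp (FibCat.toSelf (FibCat.overCat V)) (FibCat.toSelf (FibCat.overCat U))).p.obj η)) e := by
      refine (fp_isHomLift_iff _ _ _ _).mpr ?_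
      exact (IsHomLift.map (Over.forget V) m1 : (Over.forget V).IsHomLift ((Over.forget V).map m1) m1)
    exact ⟨c, asIso e, hl⟩

theorem repByAlgSp_overCat (W : Over S) : AlgSt.RepByAlgSp (FibCat.overCat W) :=
  ⟨⟨(AlgSp.yon S).obj W, AlgSp.IsAlgSpace.yon_obj W⟩, AlgSt.toOverCat W, toOverCat_isEquivOver W⟩

theorem repByAlgSp_prod (V U : Over S) :
    AlgSt.RepByAlgSp (fp (FibCat.toSelf (FibCat.overCat V)) (FibCat.toSelf (FibCat.overCat U))) :=
  repByAlgSp_of_equiv _ (prodFunctor_isEquivOver V U) (repByAlgSp_overCat _)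

theorem repByAlgSp_fp_selfOver (V U : Over S) (t₁ : FibCat.overCat V ⥤ᵇ FibCat.selfOver (Over S))
    (t₂ : FibCat.overCat U ⥤ᵇ FibCat.selfOver (Over S)) : AlgSt.RepByAlgSp (fp t₁ t₂) := by
  rw [eq_toSelf t₁, eq_toSelf t₂]
  exact repByAlgSp_prod V U

/-- every functor over `(Sch/S)` from a slice category to `(Sch/S)` itself is representable by
algebraic spaces. -/
theorem repByAlgSp1_to_selfOver (U : Over S) (t : FibCat.overCat U ⥤ᵇ FibCat.selfOver (Over S)) :
    AlgSt.RepByAlgSp1 t := fun V s => repByAlgSp_fp_selfOver V U s t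

end Groth.Agent.H32.Prod
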