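import Groth.Agent.H32.FibFull

/-!
# 2-Yoneda lemma for fibred categories: functors `𝒪 ⥤ᵇ 𝒳` out of a based category with a terminal
object all of whose morphisms are strongly cartesian (e.g. `C/U`)
-/

set_option autoImplicit false
open CategoryTheory CategoryTheory.Limits
universe v₅ u₅ v₄ u₄ v₃ u₃ v₂ u₂ v u

namespace Groth.Agent.H32.Yoneda2

open FibCat Groth.Agent.H32.FibProd

variable {C : Type u} [Category.{v} C]

/-- every morphism of `C/U` is strongly cartesian over its image. -/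
theorem over_sc {U : C} {X' X : Over U} (k : X' ⟶ X) :
    (Over.forget U).IsStronglyCartesian ((Over.forget U).map k) k := by
  refine ⟨?_⟩
  intro X'' g m' hm'
  have h1 : g ≫ (Over.forget U).map k = (Over.forget U).map m' :=
    IsHomLift.eq_of_isHomLift (Over.forget U) (g ≫ (Over.forget U).map k) m'
  let g' : X''.left ⟶ X'.left := g
  have h1' : g' ≫ k.left = m'.left := h1
  have hw : g' ≫ X'.hom = X''.hom := by
    rw [← Over.w k, ← Category.assoc, h1', Over.w]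
  refine ⟨Over.homMk g' hw, ⟨?_, ?_⟩, ?_⟩
  · exact inferInstanceAs ((Over.forget U).IsHomLift ((Over.forget U).map (Over.homMk g' hw))
      (Over.homMk g' hw))
  · apply Over.OverMorphism.ext
    exact h1'
  · rintro χ' ⟨h1'', h2''⟩
    apply Over.OverMorphism.ext
    have : g = (Over.forget U).map χ' := IsHomLift.eq_of_isHomLift (Over.forget U) g χ'
    exact this.symm

variable {𝒪 : BasedCategory.{v₃, u₃} C} {T : 𝒪.obj} (hT : IsTerminal T)
variable {𝒳 : BasedCategory.{v₂, u₂} C}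

theorem τ_comp {X' X : 𝒪.obj} (k : X' ⟶ X) : k ≫ hT.from X = hT.from X' := hT.hom_ext _ _

theorem τ_T : hT.from T = 𝟙 T := hT.hom_ext _ _

/-- Lemma A: a 2-morphism into a cartesian functor is determined by its value at the terminal
object. -/
theorem natTrans_ext {G H : 𝒪 ⥤ᵇ 𝒳}
    (hH : ∀ X, 𝒳.p.IsStronglyCartesian (𝒪.p.map (hT.from X)) (H.map (hT.from X))) (α β : G ⟶ H)
    (h : α.toNatTrans.app T = β.toNatTrans.app T) : α = β := by
  apply BasedNatTrans.ext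
  ext X
  have sc := hH X
  have hα : 𝒳.p.IsHomLift (𝟙 (𝒪.p.obj X)) (α.toNatTrans.app X) := α.isHomLift' X
  have hβ : 𝒳.p.IsHomLift (𝟙 (𝒪.p.obj X)) (β.toNatTrans.app X) := β.isHomLift' X
  refine Functor.IsStronglyCartesian.ext 𝒳.p (𝒪.p.map (hT.from X)) (H.map (hT.from X))
    (𝟙 (𝒪.p.obj X)) ?_
  have n1 := α.toNatTrans.naturality (hT.from X)
  have n2 := β.toNatTrans.naturality (hT.from X)
  exact n1.symm.trans ((congrArg (fun t => G.map (hT.from X) ≫ t) h).trans n2)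

/-- Lemma B: a morphism `G T ⟶ H T` over the identity extends to a 2-morphism `G ⟶ H`. -/
theorem exists_natTrans {G H : 𝒪 ⥤ᵇ 𝒳}
    (hH : ∀ X, 𝒳.p.IsStronglyCartesian (𝒪.p.map (hT.from X)) (H.map (hT.from X)))
    (t : G.obj T ⟶ H.obj T) [ht : 𝒳.p.IsHomLift (𝟙 (𝒪.p.obj T)) t] :
    ∃ α : G ⟶ H, α.toNatTrans.app T = t := by
  have hGt : ∀ X : 𝒪.obj, 𝒳.p.IsHomLift (𝒪.p.map (hT.from X)) (G.map (hT.from X) ≫ t) :=
    fun X => inferInstance
  have hid : ∀ X : 𝒪.obj, 𝒪.p.map (hT.from X) = 𝟙 (𝒪.p.obj X) ≫ 𝒪.p.map (hT.from X) :=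
    fun X => (Category.id_comp _).symm
  let a : ∀ X : 𝒪.obj, G.obj X ⟶ H.obj X := fun X =>
    Functor.IsStronglyCartesian.map 𝒳.p (𝒪.p.map (hT.from X)) (H.map (hT.from X)) (hid X)
      (G.map (hT.from X) ≫ t)
  have ha : ∀ X : 𝒪.obj, 𝒳.p.IsHomLift (𝟙 (𝒪.p.obj X)) (a X) := fun X => inferInstance
  have hfac : ∀ X : 𝒪.obj, a X ≫ H.map (hT.from X) = G.map (hT.from X) ≫ t := fun X =>
    Functor.IsStronglyCartesian.fac 𝒳.p (𝒪.p.map (hT.from X)) (H.map (hT.from X)) (hid X)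
      (G.map (hT.from X) ≫ t)
  have nat : ∀ {X' X : 𝒪.obj} (k : X' ⟶ X), G.map k ≫ a X = a X' ≫ H.map k := by
    intro X' X k
    have l3 : 𝒳.p.IsHomLift (𝒪.p.map k) (G.map k ≫ a X) := inferInstance
    have l4 : 𝒳.p.IsHomLift (𝒪.p.map k) (a X' ≫ H.map k) := inferInstance
    have := hH X
    refine Functor.IsStronglyCartesian.ext 𝒳.p (𝒪.p.map (hT.from X)) (H.map (hT.from X))
      (𝒪.p.map k) ?_
    have e1 : G.map k ≫ G.map (hT.from X) = G.map (hT.from X') := by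
      rw [← τ_comp hT k]; exact (G.toFunctor.map_comp _ _).symm
    have e2 : H.map k ≫ H.map (hT.from X) = H.map (hT.from X') := by
      rw [← τ_comp hT k]; exact (H.toFunctor.map_comp _ _).symm
    rw [Category.assoc, hfac, ← Category.assoc, e1, Category.assoc, e2, hfac]
  refine ⟨{ app := a, naturality := fun X' X k => nat k, isHomLift' := fun X => ha X }, ?_⟩
  change a T = t
  have h1 := hfac T
  rw [τ_T hT] at h1
  have h2 : H.map (𝟙 T) = 𝟙 _ := H.toFunctor.map_id _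
  have h3 : G.map (𝟙 T) = 𝟙 _ := G.toFunctor.map_id _
  rw [h2, h3, Category.comp_id, Category.id_comp] at h1
  exact h1

section essSurj

variable [𝒳.p.IsFibered] (a : 𝒳.obj) (ha : 𝒳.p.obj a = 𝒪.p.obj T)

/-- the chosen pullback of `a` along the image of `X ⟶ T`. -/
noncomputable def pbObj (X : 𝒪.obj) : 𝒳.obj :=
  Functor.IsPreFibered.pullbackObj ha (𝒪.p.map (hT.from X))

/-- the chosen cartesian arrow. -/
noncomputable def pbMap (X : 𝒪.obj) : pbObj hT a ha X ⟶ a :=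
  Functor.IsPreFibered.pullbackMap ha (𝒪.p.map (hT.from X))

instance pbMap_isCartesian (X : 𝒪.obj) :
    𝒳.p.IsCartesian (𝒪.p.map (hT.from X)) (pbMap hT a ha X) :=
  inferInstanceAs (𝒳.p.IsCartesian (𝒪.p.map (hT.from X))
    (Functor.IsPreFibered.pullbackMap ha (𝒪.p.map (hT.from X))))

instance pbMap_sc (X : 𝒪.obj) :
    𝒳.p.IsStronglyCartesian (𝒪.p.map (hT.from X)) (pbMap hT a ha X) := inferInstance

theorem pb_hk {X' X : 𝒪.obj} (k : X' ⟶ X) :
    𝒪.p.map (hT.from X') = 𝒪.p.map k ≫ 𝒪.p.map (hT.from X) := by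
  rw [← 𝒪.p.map_comp, τ_comp hT k]

/-- the functor `𝒪 ⥤ 𝒳`, `X ↦ (X ⟶ T)^* a`. -/
noncomputable def pbFunctor : 𝒪.obj ⥤ 𝒳.obj where
  obj X := pbObj hT a ha X
  map {X' X} k := Functor.IsStronglyCartesian.map 𝒳.p (𝒪.p.map (hT.from X)) (pbMap hT a ha X)
    (pb_hk hT k) (pbMap hT a ha X')
  map_id X := by
    symm
    have : 𝒳.p.IsHomLift (𝒪.p.map (𝟙 X)) (𝟙 (pbObj hT a ha X)) := by
      rw [𝒪.p.map_id]
      exact IsHomLift.id (IsHomLift.domain_eq 𝒳.p (𝒪.p.map (hT.from X)) (pbMap hT a ha X))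
    exact Functor.IsStronglyCartesian.map_uniq 𝒳.p (𝒪.p.map (hT.from X)) (pbMap hT a ha X) _
      (pbMap hT a ha X) (𝟙 (pbObj hT a ha X)) (Category.id_comp _)
  map_comp {X'' X' X} k l := by
    symm
    have : 𝒳.p.IsHomLift (𝒪.p.map (k ≫ l))
        (Functor.IsStronglyCartesian.map 𝒳.p (𝒪.p.map (hT.from X')) (pbMap hT a ha X')
          (pb_hk hT k) (pbMap hT a ha X'') ≫
        Functor.IsStronglyCartesian.map 𝒳.p (𝒪.p.map (hT.from X)) (pbMap hT a ha X)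
          (pb_hk hT l) (pbMap hT a ha X')) := by
      rw [𝒪.p.map_comp]
      infer_instance
    refine Functor.IsStronglyCartesian.map_uniq 𝒳.p (𝒪.p.map (hT.from X)) (pbMap hT a ha X) _
      (pbMap hT a ha X'') _ ?_
    rw [Category.assoc, Functor.IsStronglyCartesian.fac, Functor.IsStronglyCartesian.fac]

instance pbFunctor_map_isHomLift {X' X : 𝒪.obj} (k : X' ⟶ X) :
    𝒳.p.IsHomLift (𝒪.p.map k) ((pbFunctor hT a ha).map k) :=
  inferInstanceAs (𝒳.p.IsHomLift (𝒪.p.map k)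
    (Functor.IsStronglyCartesian.map 𝒳.p (𝒪.p.map (hT.from X)) (pbMap hT a ha X)
      (pb_hk hT k) (pbMap hT a ha X')))

theorem pbFunctor_map_fac {X' X : 𝒪.obj} (k : X' ⟶ X) :
    (pbFunctor hT a ha).map k ≫ pbMap hT a ha X = pbMap hT a ha X' :=
  Functor.IsStronglyCartesian.fac 𝒳.p (𝒪.p.map (hT.from X)) (pbMap hT a ha X) (pb_hk hT k)
    (pbMap hT a ha X')

/-- the based functor `𝒪 ⥤ᵇ 𝒳`, `X ↦ (X ⟶ T)^* a`. -/
noncomputable def pbBased : 𝒪 ⥤ᵇ 𝒳 where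
  toFunctor := pbFunctor hT a ha
  w := Functor.ext
    (fun X => (IsHomLift.domain_eq 𝒳.p (𝒪.p.map (hT.from X)) (pbMap hT a ha X) :
      𝒳.p.obj (pbObj hT a ha X) = 𝒪.p.obj X))
    (fun _ _ k => IsHomLift.fac' 𝒳.p (𝒪.p.map k) ((pbFunctor hT a ha).map k))

theorem pbBased_map_sc {X' X : 𝒪.obj} (k : X' ⟶ X) :
    𝒳.p.IsStronglyCartesian (𝒪.p.map k) ((pbBased hT a ha).map k) := by
  have h3 : 𝒳.p.IsStronglyCartesian (𝒪.p.map k ≫ 𝒪.p.map (hT.from X))
      ((pbFunctor hT a ha).map k ≫ pbMap hT a ha X) := by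
    rw [pbFunctor_map_fac, ← pb_hk hT k]
    exact pbMap_sc hT a ha X'
  have h6 : 𝒳.p.IsStronglyCartesian (a := (pbFunctor hT a ha).obj X) (𝒪.p.map (hT.from X))
      (pbMap hT a ha X) := pbMap_sc hT a ha X
  exact Functor.IsStronglyCartesian.of_comp 𝒳.p (f := 𝒪.p.map k) (g := 𝒪.p.map (hT.from X))
      (φ := (pbFunctor hT a ha).map k) (ψ := pbMap hT a ha X)

theorem pbBased_preserves : PreservesStronglyCartesian (pbBased hT a ha) := by
  intro R S f X' X k hk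
  have h1 : 𝒪.p.IsHomLift f k := hk.toIsHomLift
  have h2 : 𝒳.p.IsHomLift f ((pbBased hT a ha).map k) := inferInstance
  have h4 := pbBased_map_sc hT a ha k
  have h5 := sc_map_of_sc 𝒳.p (𝒪.p.map k) ((pbBased hT a ha).map k)
  exact sc_of_homLift 𝒳.p f ((pbBased hT a ha).map k) h5

include hT ha in
/-- Lemma C. -/
theorem exists_based_functor :
    ∃ (G : 𝒪 ⥤ᵇ 𝒳), PreservesStronglyCartesian G ∧
      ∃ t : G.obj T ⟶ a, IsIso t ∧ 𝒳.p.IsHomLift (𝟙 (𝒪.p.obj T)) t := by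
  have hsc : 𝒳.p.IsStronglyCartesian (𝒪.p.map (hT.from T)) (pbMap hT a ha T) := pbMap_sc hT a ha T
  rw [τ_T hT, 𝒪.p.map_id] at hsc
  refine ⟨pbBased hT a ha, pbBased_preserves hT a ha, pbMap hT a ha T, ?_, ?_⟩
  · exact @Functor.IsStronglyCartesian.isIso_of_base_isIso _ _ _ _ 𝒳.p _ _ _ _ (𝟙 (𝒪.p.obj T))
      (pbMap hT a ha T) hsc _
  · exact hsc.toIsHomLift

end essSurj

end Groth.Agent.H32.Yoneda2
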