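import Groth.Prelude.Def_FibCat2
import Groth.Prelude.Def_W4stkcategoriessitesFib
import Mathlib.CategoryTheory.FiberedCategory.BasedCategory
import Mathlib.CategoryTheory.FiberedCategory.Fibered
import Mathlib.CategoryTheory.FiberedCategory.Cartesian

/-!
# Helpers on the 2-fibre product `FibCat.fp F G` over a base (general `𝒮`)
-/

set_option autoImplicit false
open CategoryTheory CategoryTheory.Limits
universe v₅ u₅ v₄ u₄ v₃ u₃ v₂ u₂ v u

namespace Groth.Agent.H32.FibProd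

open FibCat

section general
variable {C : Type u} [Category.{v} C] {𝒳 : Type u₂} [Category.{v₂} 𝒳] (p : 𝒳 ⥤ C)

theorem isHomLift_id_of_eq {S S' : C} (h : S = S') {a b : 𝒳} (φ : a ⟶ b)
    (hφ : p.IsHomLift (𝟙 S) φ) : p.IsHomLift (𝟙 S') φ := by
  subst h; exact hφ

theorem sc_of_homLift {R T : C} {a b : 𝒳} (f : R ⟶ T) (φ : a ⟶ b) [p.IsHomLift f φ]
    (h : p.IsStronglyCartesian (p.map φ) φ) : p.IsStronglyCartesian f φ := by
  subst_hom_lift p f φ; exact h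

theorem sc_map_of_sc {R T : C} {a b : 𝒳} (f : R ⟶ T) (φ : a ⟶ b)
    [h : p.IsStronglyCartesian f φ] : p.IsStronglyCartesian (p.map φ) φ := by
  subst_hom_lift p f φ; exact h

/-- lifting in a category fibred in groupoids, with a propositional equality on the target. -/
theorem exists_lift_of_eq (h : IsFibGrpd p) {x : 𝒳} {V S : C} (hx : p.obj x = S) (f : V ⟶ S) :
    ∃ (y : 𝒳) (φ : y ⟶ x), p.IsHomLift f φ := by
  subst hx; exact h.exists_lift f

/-- in a category fibred in groupoids every lift is strongly cartesian. -/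
theorem sc_of_isFibGrpd (h : IsFibGrpd p) {R T : C} {a b : 𝒳} (f : R ⟶ T) (φ : a ⟶ b)
    [p.IsHomLift f φ] : p.IsStronglyCartesian f φ :=
  sc_of_homLift p f φ (h.isStronglyCartesian φ)

/-- in a category fibred in groupoids every morphism over an isomorphism is an isomorphism. -/
theorem isIso_of_isFibGrpd (h : IsFibGrpd p) {R T : C} {a b : 𝒳} (f : R ⟶ T) [IsIso f] (φ : a ⟶ b)
    [p.IsHomLift f φ] : IsIso φ := by
  have := sc_of_isFibGrpd p h f φ
  exact Functor.IsStronglyCartesian.isIso_of_base_isIso p f φ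

variable {𝒜 : Type u₃} [Category.{v₃} 𝒜] (K : 𝒜 ⥤ 𝒳)

theorem isHomLift_comp_iff {R S : C} (f : R ⟶ S) {a b : 𝒜} (m : a ⟶ b) :
    (K ⋙ p).IsHomLift f m ↔ p.IsHomLift f (K.map m) := by
  constructor
  · intro h
    subst_hom_lift (K ⋙ p) f m
    exact inferInstanceAs (p.IsHomLift (p.map (K.map m)) (K.map m))
  · intro h
    subst_hom_lift p f (K.map m)
    exact inferInstanceAs ((K ⋙ p).IsHomLift ((K ⋙ p).map m) m)

end general

section fp
variable {C : Type u} [Category.{v} C] {𝒳 : BasedCategory.{v₂, u₂} C}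
  {𝒴 : BasedCategory.{v₃, u₃} C} {𝒮 : BasedCategory.{v₄, u₄} C} (F : 𝒳 ⥤ᵇ 𝒮) (G : 𝒴 ⥤ᵇ 𝒮)

theorem fp_isHomLift_iff {z' z : (fp F G).obj} {R S : C} (f : R ⟶ S) (m : z' ⟶ z) :
    (fp F G).p.IsHomLift f m ↔ 𝒳.p.IsHomLift f m.hom.fst :=
  isHomLift_comp_iff 𝒳.p ((fpProp F G).ι ⋙ CategoricalPullback.π₁ F.toFunctor G.toFunctor) f m

theorem fp_isHomLift_snd' {z' z : (fp F G).obj} {R S : C} (f : R ⟶ S) (m : z' ⟶ z)
    [h : (fp F G).p.IsHomLift f m] : 𝒴.p.IsHomLift f m.hom.snd := by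
  subst_hom_lift (fp F G).p f m
  exact fp_isHomLift_snd F G m

theorem fp_iso_isHomLift (z : (fp F G).obj) :
    𝒮.p.IsHomLift (𝟙 (𝒳.p.obj z.obj.fst)) z.obj.iso.hom := z.property

theorem fp_snd_obj_eq (z : (fp F G).obj) : 𝒴.p.obj z.obj.snd = 𝒳.p.obj z.obj.fst := by
  have := fp_iso_isHomLift F G z
  exact (G.w_obj z.obj.snd).symm.trans
    (IsHomLift.codomain_eq 𝒮.p (𝟙 (𝒳.p.obj z.obj.fst)) z.obj.iso.hom)

/-- Object constructor for `fp F G`. -/
def mkObj (x : 𝒳.obj) (y : 𝒴.obj) (θ : F.obj x ≅ G.obj y)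
    (hθ : 𝒮.p.IsHomLift (𝟙 (𝒳.p.obj x)) θ.hom) : (fp F G).obj :=
  ⟨⟨x, y, θ⟩, hθ⟩

/-- Morphism constructor for `fp F G`. -/
def mkHom {z' z : (fp F G).obj} (a : z'.obj.fst ⟶ z.obj.fst) (b : z'.obj.snd ⟶ z.obj.snd)
    (w : F.map a ≫ z.obj.iso.hom = z'.obj.iso.hom ≫ G.map b) : z' ⟶ z :=
  ObjectProperty.homMk { fst := a, snd := b, w := w }

@[simp] theorem mkHom_fst {z' z : (fp F G).obj} (a : z'.obj.fst ⟶ z.obj.fst)
    (b : z'.obj.snd ⟶ z.obj.snd) (w) : (mkHom F G a b w).hom.fst = a := rfl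

@[simp] theorem mkHom_snd {z' z : (fp F G).obj} (a : z'.obj.fst ⟶ z.obj.fst)
    (b : z'.obj.snd ⟶ z.obj.snd) (w) : (mkHom F G a b w).hom.snd = b := rfl

theorem fp_hom_ext {z' z : (fp F G).obj} {m m' : z' ⟶ z} (h1 : m.hom.fst = m'.hom.fst)
    (h2 : m.hom.snd = m'.hom.snd) : m = m' := by
  apply ObjectProperty.hom_ext
  exact CategoricalPullback.hom_ext h1 h2

/-- A morphism of `fp F G` whose two components are strongly cartesian, and whose second component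
has strongly cartesian image in `𝒮`, is strongly cartesian. -/
theorem fp_isStronglyCartesian {z' z : (fp F G).obj} {R S : C} (f : R ⟶ S) (m : z' ⟶ z)
    [h1 : 𝒳.p.IsStronglyCartesian f m.hom.fst] [h2 : 𝒴.p.IsStronglyCartesian f m.hom.snd]
    [h3 : 𝒮.p.IsStronglyCartesian f (G.map m.hom.snd)] :
    (fp F G).p.IsStronglyCartesian f m := by
  have hm : (fp F G).p.IsHomLift f m := (fp_isHomLift_iff F G f m).mpr inferInstance
  refine ⟨?_⟩
  intro z'' g m' hm'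
  have hm'1 : 𝒳.p.IsHomLift (g ≫ f) m'.hom.fst := (fp_isHomLift_iff F G _ m').mp hm'
  have hm'2 : 𝒴.p.IsHomLift (g ≫ f) m'.hom.snd := fp_isHomLift_snd' F G _ m'
  let χ₁ : z''.obj.fst ⟶ z'.obj.fst :=
    Functor.IsStronglyCartesian.map 𝒳.p f m.hom.fst (f' := g ≫ f) rfl m'.hom.fst
  let χ₂ : z''.obj.snd ⟶ z'.obj.snd :=
    Functor.IsStronglyCartesian.map 𝒴.p f m.hom.snd (f' := g ≫ f) rfl m'.hom.snd
  have hχ₁ : 𝒳.p.IsHomLift g χ₁ := inferInstance
  have hχ₂ : 𝒴.p.IsHomLift g χ₂ := inferInstance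
  have fac₁ : χ₁ ≫ m.hom.fst = m'.hom.fst :=
    Functor.IsStronglyCartesian.fac 𝒳.p f m.hom.fst rfl m'.hom.fst
  have fac₂ : χ₂ ≫ m.hom.snd = m'.hom.snd :=
    Functor.IsStronglyCartesian.fac 𝒴.p f m.hom.snd rfl m'.hom.snd
  have hz'' : 𝒮.p.IsHomLift (𝟙 ((fp F G).p.obj z'')) z''.obj.iso.hom := fp_iso_isHomLift F G z''
  have hz' := fp_iso_isHomLift F G z'
  have hz'2 : 𝒮.p.IsHomLift (𝟙 ((fp F G).p.obj z')) z'.obj.iso.hom := hz'
  have hdom : 𝒳.p.obj z'.obj.fst = R := IsHomLift.domain_eq 𝒳.p f m.hom.fst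
  have hz'3 : 𝒮.p.IsHomLift (𝟙 R) z'.obj.iso.hom := isHomLift_id_of_eq 𝒮.p hdom _ hz'
  have l1 : 𝒮.p.IsHomLift g (F.map χ₁ ≫ z'.obj.iso.hom) := inferInstance
  have l2 : 𝒮.p.IsHomLift g (z''.obj.iso.hom ≫ G.map χ₂) := inferInstance
  have w : F.map χ₁ ≫ z'.obj.iso.hom = z''.obj.iso.hom ≫ G.map χ₂ := by
    refine Functor.IsStronglyCartesian.ext 𝒮.p f (G.map m.hom.snd) g ?_
    have e1 := m.hom.w
    have e2 := m'.hom.w
    calc (F.map χ₁ ≫ z'.obj.iso.hom) ≫ G.map m.hom.snd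
        = F.map χ₁ ≫ (F.map m.hom.fst ≫ z.obj.iso.hom) := by
          rw [Category.assoc]; congr 1; exact e1.symm
      _ = F.map (χ₁ ≫ m.hom.fst) ≫ z.obj.iso.hom := by
          rw [← Category.assoc]; congr 1; exact (F.toFunctor.map_comp _ _).symm
      _ = z''.obj.iso.hom ≫ G.map (χ₂ ≫ m.hom.snd) := by
          rw [fac₁, fac₂]; exact e2
      _ = (z''.obj.iso.hom ≫ G.map χ₂) ≫ G.map m.hom.snd := by
          rw [Category.assoc]; congr 1; exact G.toFunctor.map_comp _ _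
  refine ⟨mkHom F G χ₁ χ₂ w, ⟨?_, ?_⟩, ?_⟩
  · exact (fp_isHomLift_iff F G g _).mpr hχ₁
  · exact fp_hom_ext F G fac₁ fac₂
  · rintro n ⟨hn1, hn2⟩
    have hn1' : 𝒳.p.IsHomLift g n.hom.fst := (fp_isHomLift_iff F G g n).mp hn1
    have hn1'' : 𝒴.p.IsHomLift g n.hom.snd := fp_isHomLift_snd' F G g n
    have c1 : n.hom.fst ≫ m.hom.fst = m'.hom.fst := by
      have := congrArg (fun k => k.hom.fst) hn2
      exact this
    have c2 : n.hom.snd ≫ m.hom.snd = m'.hom.snd := by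
      have := congrArg (fun k => k.hom.snd) hn2
      exact this
    apply fp_hom_ext
    · exact Functor.IsStronglyCartesian.map_uniq 𝒳.p f m.hom.fst rfl m'.hom.fst n.hom.fst c1
    · exact Functor.IsStronglyCartesian.map_uniq 𝒴.p f m.hom.snd rfl m'.hom.snd n.hom.snd c2

end fp

end Groth.Agent.H32.FibProd
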