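import Groth.Agent.H32.FibProd
import Groth.Agent.S5139
import Groth.Agent.S6411
import Mathlib.CategoryTheory.Adjunction.Limits
import Mathlib.CategoryTheory.Limits.Preserves.Shapes.Terminal
import Mathlib.CategoryTheory.EqToHom

/-!
# Representable categories over `C` and terminal objects; the category `𝒮 ×_C 𝒮`
-/

set_option autoImplicit false
open CategoryTheory CategoryTheory.Limits
universe v₅ u₅ v₄ u₄ v₃ u₃ v₂ u₂ v u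

namespace Groth.Agent.H32.Repr

open FibCat Groth.Agent.H32.FibProd

variable {C : Type u} [Category.{v} C]

/-! ### terminal objects and representability -/

/-- a representable category over `C` has a terminal object. -/
theorem exists_terminal_of_isRepresentable {𝒳 : BasedCategory.{v₂, u₂} C}
    (h : IsRepresentable 𝒳) : ∃ ξ : 𝒳.obj, Nonempty (IsTerminal ξ) := by
  obtain ⟨U, F, G, ⟨η⟩, ⟨ε⟩⟩ := h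
  let η₀ : F.toFunctor ⋙ G.toFunctor ≅ 𝟭 𝒳.obj := (BasedNatTrans.forgetful _ _).mapIso η
  let ε₀ : G.toFunctor ⋙ F.toFunctor ≅ 𝟭 (Over U) := (BasedNatTrans.forgetful _ _).mapIso ε
  let E : 𝒳.obj ≌ Over U :=
    CategoryTheory.Equivalence.mk F.toFunctor G.toFunctor η₀.symm ε₀
  exact ⟨E.inverse.obj (Over.mk (𝟙 U)),
    ⟨IsTerminal.isTerminalObj E.inverse (Over.mk (𝟙 U)) Over.mkIdTerminal⟩⟩

section R2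
variable {𝒳 : BasedCategory.{v₂, u₂} C} {ξ : 𝒳.obj} (hξ : IsTerminal ξ)

/-- the functor `𝒳 ⥤ C/p(ξ)` determined by a terminal object `ξ`. -/
def toOver : 𝒳 ⥤ᵇ overCat (𝒳.p.obj ξ) where
  toFunctor :=
    { obj := fun x => Over.mk (𝒳.p.map (hξ.from x))
      map := fun {x y} f => Over.homMk (𝒳.p.map f) (by
        change 𝒳.p.map f ≫ 𝒳.p.map (hξ.from y) = 𝒳.p.map (hξ.from x)
        rw [← 𝒳.p.map_comp, hξ.hom_ext (f ≫ hξ.from y) (hξ.from x)])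
      map_id := fun x => by
        apply Over.OverMorphism.ext
        exact 𝒳.p.map_id x
      map_comp := fun f g => by
        apply Over.OverMorphism.ext
        exact 𝒳.p.map_comp f g }
  w := rfl

theorem toOver_full (h𝒳 : IsFibGrpd 𝒳.p) : (toOver hξ).toFunctor.Full := by
  refine ⟨fun {x y} k => ?_⟩
  have sc : 𝒳.p.IsStronglyCartesian (𝒳.p.map (hξ.from y)) (hξ.from y) :=
    h𝒳.isStronglyCartesian _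
  let kl : 𝒳.p.obj x ⟶ 𝒳.p.obj y := k.left
  have hk : 𝒳.p.map (hξ.from x) = kl ≫ 𝒳.p.map (hξ.from y) := (Over.w k).symm
  let χ : x ⟶ y :=
    Functor.IsStronglyCartesian.map 𝒳.p (𝒳.p.map (hξ.from y)) (hξ.from y) hk (hξ.from x)
  have hχ : 𝒳.p.IsHomLift kl χ := inferInstance
  refine ⟨χ, ?_⟩
  apply Over.OverMorphism.ext
  exact (IsHomLift.eq_of_isHomLift 𝒳.p kl χ).symm

theorem toOver_faithful (h𝒳 : IsFibGrpd 𝒳.p) : (toOver hξ).toFunctor.Faithful := by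
  refine ⟨fun {x y} f g hfg => ?_⟩
  have h1 : 𝒳.p.map f = 𝒳.p.map g := congrArg (fun t => t.left) hfg
  have sc : 𝒳.p.IsStronglyCartesian (𝒳.p.map (hξ.from y)) (hξ.from y) :=
    h𝒳.isStronglyCartesian _
  have l1 : 𝒳.p.IsHomLift (𝒳.p.map f) f := inferInstance
  have l2 : 𝒳.p.IsHomLift (𝒳.p.map f) g := by rw [h1]; infer_instance
  exact Functor.IsStronglyCartesian.ext 𝒳.p (𝒳.p.map (hξ.from y)) (hξ.from y) (𝒳.p.map f)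
    (hξ.hom_ext _ _)

theorem toOver_essSurj (h𝒳 : IsFibGrpd 𝒳.p) (η : Over (𝒳.p.obj ξ)) :
    ∃ (y : 𝒳.obj) (e : (toOver hξ).toFunctor.obj y ≅ η),
      (Over.forget (𝒳.p.obj ξ)).IsHomLift (𝟙 η.left) e.hom := by
  obtain ⟨y, φ, hφ⟩ := h𝒳.exists_lift (x := ξ) η.hom
  have e1 : φ = hξ.from y := hξ.hom_ext _ _
  have hd : 𝒳.p.obj y = η.left := IsHomLift.domain_eq 𝒳.p η.hom φ
  have hw : 𝒳.p.map φ = eqToHom hd ≫ η.hom ≫ eqToHom rfl := IsHomLift.fac' 𝒳.p η.hom φ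
  have hw' : eqToHom hd ≫ η.hom = 𝒳.p.map (hξ.from y) := by
    rw [← e1, hw, eqToHom_refl, Category.comp_id]
  let e : (toOver hξ).toFunctor.obj y ≅ η := Over.isoMk (eqToIso hd) hw'
  refine ⟨y, e, ?_⟩
  refine IsHomLift.of_fac' (Over.forget (𝒳.p.obj ξ)) (𝟙 η.left) e.hom hd rfl ?_
  have h2 : (Over.forget (𝒳.p.obj ξ)).map e.hom = eqToHom hd := rfl
  rw [h2]
  simp <;> rfl

end R2

/-- a category fibred in groupoids with a terminal object is representable. -/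
theorem isRepresentable_of_isTerminal {𝒳 : BasedCategory.{v, max u v} C} (h𝒳 : IsFibGrpd 𝒳.p)
    {ξ : 𝒳.obj} (hξ : IsTerminal ξ) : IsRepresentable 𝒳 := by
  refine ⟨𝒳.p.obj ξ, toOver hξ, ?_⟩
  rw [Groth.Agent.S5139.result]
  exact ⟨⟨toOver_full hξ h𝒳, toOver_faithful hξ h𝒳⟩, fun η => toOver_essSurj hξ h𝒳 η⟩

/-! ### fibred in groupoids -/

theorem id_isFibGrpd : IsFibGrpd (𝟭 C) := by
  refine ⟨?_, ?_⟩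
  · intro x V f
    exact ⟨V, f, inferInstanceAs ((𝟭 C).IsHomLift ((𝟭 C).map f) f)⟩
  · intro y x φ
    have hm : (𝟭 C).IsHomLift ((𝟭 C).map φ) φ := inferInstance
    refine ⟨?_⟩
    intro a' g φ' hφ'
    have e : g ≫ (𝟭 C).map φ = (𝟭 C).map φ' :=
      IsHomLift.eq_of_isHomLift (𝟭 C) (g ≫ (𝟭 C).map φ) φ'
    refine ⟨g, ⟨inferInstanceAs ((𝟭 C).IsHomLift ((𝟭 C).map g) g), e⟩, ?_⟩
    rintro χ ⟨h1, h2⟩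
    exact (IsHomLift.eq_of_isHomLift (𝟭 C) g χ).symm

theorem self_isFibGrpd : IsFibGrpd (selfOver C).p := id_isFibGrpd

theorem fp_isFibGrpd {𝒳 : BasedCategory.{v₂, u₂} C} {𝒴 : BasedCategory.{v₃, u₃} C}
    {𝒮 : BasedCategory.{v₄, u₄} C} (F : 𝒳 ⥤ᵇ 𝒮) (G : 𝒴 ⥤ᵇ 𝒮) (h𝒳 : IsFibGrpd 𝒳.p)
    (h𝒴 : IsFibGrpd 𝒴.p) (h𝒮 : IsFibGrpd 𝒮.p) : IsFibGrpd (fp F G).p := by
  refine ⟨?_, ?_⟩
  · intro z V f
    change V ⟶ 𝒳.p.obj z.obj.fst at f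
    obtain ⟨x', φ, hφ⟩ := h𝒳.exists_lift (x := z.obj.fst) f
    obtain ⟨y', ψ, hψ⟩ := exists_lift_of_eq 𝒴.p h𝒴 (fp_snd_obj_eq F G z) f
    have hGψ : 𝒮.p.IsHomLift f (G.map ψ) := inferInstance
    have hsc : 𝒮.p.IsStronglyCartesian f (G.map ψ) := sc_of_isFibGrpd 𝒮.p h𝒮 f (G.map ψ)
    have hz := fp_iso_isHomLift F G z
    have h1 : 𝒮.p.IsHomLift f (F.map φ ≫ z.obj.iso.hom) := inferInstance
    have hid : f = 𝟙 V ≫ f := (Category.id_comp f).symm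
    let t : F.obj x' ⟶ G.obj y' :=
      Functor.IsStronglyCartesian.map 𝒮.p f (G.map ψ) hid (F.map φ ≫ z.obj.iso.hom)
    have ht : 𝒮.p.IsHomLift (𝟙 V) t := inferInstance
    have hfac : t ≫ G.map ψ = F.map φ ≫ z.obj.iso.hom :=
      Functor.IsStronglyCartesian.fac 𝒮.p f (G.map ψ) hid (F.map φ ≫ z.obj.iso.hom)
    have hiso : IsIso t := isIso_of_isFibGrpd 𝒮.p h𝒮 (𝟙 V) t
    have hθ' : 𝒮.p.IsHomLift (𝟙 (𝒳.p.obj x')) (asIso t).hom :=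
      isHomLift_id_of_eq 𝒮.p (IsHomLift.domain_eq 𝒳.p f φ).symm t ht
    let z' : (FibCat.fp F G).obj := mkObj F G x' y' (asIso t) hθ'
    let m : z' ⟶ z := mkHom F G (z' := z') (z := z) φ ψ hfac.symm
    exact ⟨z', m, (fp_isHomLift_iff F G f m).mpr hφ⟩
  · intro z' z m
    have h1 : 𝒳.p.IsStronglyCartesian ((FibCat.fp F G).p.map m) m.hom.fst :=
      h𝒳.isStronglyCartesian m.hom.fst
    have h2 : 𝒴.p.IsStronglyCartesian ((FibCat.fp F G).p.map m) m.hom.snd :=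
      sc_of_isFibGrpd 𝒴.p h𝒴 _ m.hom.snd
    have h3 : 𝒮.p.IsStronglyCartesian ((FibCat.fp F G).p.map m) (G.map m.hom.snd) :=
      sc_of_isFibGrpd 𝒮.p h𝒮 _ (G.map m.hom.snd)
    exact fp_isStronglyCartesian F G _ m

/-- base change formula for the second component of a morphism of a 2-fibre product. -/
theorem fp_map_snd_eq {𝒳 : BasedCategory.{v₂, u₂} C} {𝒴 : BasedCategory.{v₃, u₃} C}
    {𝒮 : BasedCategory.{v₄, u₄} C} (F : 𝒳 ⥤ᵇ 𝒮) (G : 𝒴 ⥤ᵇ 𝒮) {z z' : (fp F G).obj}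
    (n : z ⟶ z') :
    𝒴.p.map n.hom.snd = eqToHom (fp_snd_obj_eq F G z) ≫ 𝒳.p.map n.hom.fst ≫
      eqToHom (fp_snd_obj_eq F G z').symm :=
  IsHomLift.fac' 𝒴.p ((fp F G).p.map n) n.hom.snd

/-- a morphism of `C` lying over an identity for the identity functor is an `eqToHom`. -/
theorem id_lift_eq {X Y : C} (e : X ⟶ Y) (h : (𝟭 C).IsHomLift (𝟙 X) e) :
    ∃ h' : X = Y, e = eqToHom h' := by
  have hc : Y = X := IsHomLift.codomain_eq (𝟭 C) (𝟙 X) e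
  subst hc
  refine ⟨rfl, ?_⟩
  have h2 := IsHomLift.fac' (𝟭 C) (𝟙 Y) e
  simpa using h2

theorem map_eqToHom_comm {𝒳 : Type u₂} [Category.{v₂} 𝒳] (p : 𝒳 ⥤ C) {a b a' b' : 𝒳} {R S : C}
    (f : R ⟶ S) (ψ₁ : a ⟶ a') (ψ₂ : b ⟶ b') [p.IsHomLift f ψ₁] [p.IsHomLift f ψ₂]
    (h : p.obj a = p.obj b) (h' : p.obj a' = p.obj b') :
    p.map ψ₁ ≫ eqToHom h' = eqToHom h ≫ p.map ψ₂ := by
  rw [IsHomLift.fac' p f ψ₁, IsHomLift.fac' p f ψ₂]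
  simp

/-! ### the category `𝒮 ×_C 𝒮` -/

section PP
variable {𝒮 : BasedCategory.{v₂, u₂} C}

variable (𝒮) in
/-- `𝒮 ×_C 𝒮`. -/
abbrev PP : BasedCategory.{max v₂ v₂, max u₂ u₂ v} C := fp (toSelf 𝒮) (toSelf 𝒮)

theorem PP_isFibGrpd (h𝒮 : IsFibGrpd 𝒮.p) : IsFibGrpd (PP 𝒮).p :=
  fp_isFibGrpd (toSelf 𝒮) (toSelf 𝒮) h𝒮 h𝒮 self_isFibGrpd

theorem PP_iso_hom_eq (z : (PP 𝒮).obj) :
    ∃ h : 𝒮.p.obj z.obj.fst = 𝒮.p.obj z.obj.snd, z.obj.iso.hom = eqToHom h :=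
  id_lift_eq z.obj.iso.hom z.property

/-- any pair of morphisms over the same morphism of `C` is a morphism of `𝒮 ×_C 𝒮`. -/
theorem PP_w {z z' : (PP 𝒮).obj} {R S : C} (f : R ⟶ S) (ψ₁ : z.obj.fst ⟶ z'.obj.fst)
    (ψ₂ : z.obj.snd ⟶ z'.obj.snd) (h₁ : 𝒮.p.IsHomLift f ψ₁) (h₂ : 𝒮.p.IsHomLift f ψ₂) :
    (toSelf 𝒮).map ψ₁ ≫ z'.obj.iso.hom = z.obj.iso.hom ≫ (toSelf 𝒮).map ψ₂ := by
  obtain ⟨h, e⟩ := PP_iso_hom_eq z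
  obtain ⟨h', e'⟩ := PP_iso_hom_eq z'
  rw [e, e']
  exact map_eqToHom_comm 𝒮.p f ψ₁ ψ₂ h h'

/-- isomorphisms of `𝒮 ×_C 𝒮` from pairs of isomorphisms over an identity. -/
def PP_mkIso {z z' : (PP 𝒮).obj} (R : C) (ψ₁ : z.obj.fst ≅ z'.obj.fst)
    (ψ₂ : z.obj.snd ≅ z'.obj.snd) (h₁ : 𝒮.p.IsHomLift (𝟙 R) ψ₁.hom)
    (h₂ : 𝒮.p.IsHomLift (𝟙 R) ψ₂.hom) : z ≅ z' where
  hom := mkHom (toSelf 𝒮) (toSelf 𝒮) ψ₁.hom ψ₂.hom (PP_w (𝟙 R) ψ₁.hom ψ₂.hom h₁ h₂)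
  inv := mkHom (toSelf 𝒮) (toSelf 𝒮) ψ₁.inv ψ₂.inv
    (PP_w (𝟙 R) ψ₁.inv ψ₂.inv (IsHomLift.lift_id_inv 𝒮.p R ψ₁) (IsHomLift.lift_id_inv 𝒮.p R ψ₂))
  hom_inv_id := fp_hom_ext (toSelf 𝒮) (toSelf 𝒮) ψ₁.hom_inv_id ψ₂.hom_inv_id
  inv_hom_id := fp_hom_ext (toSelf 𝒮) (toSelf 𝒮) ψ₁.inv_hom_id ψ₂.inv_hom_id

/-- any two functors into `C` over `C` are isomorphic. -/
def selfIso {𝒲 : BasedCategory.{v₃, u₃} C} (a b : 𝒲 ⥤ᵇ 𝒮) :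
    BasedFunctor.comp a (toSelf 𝒮) ≅ BasedFunctor.comp b (toSelf 𝒮) :=
  BasedNatIso.mkNatIso (eqToIso (a.w.trans b.w.symm)) (fun T => by
    rw [eqToIso.hom, eqToHom_app]
    refine IsHomLift.of_fac' (𝟭 C) _ _ (a.w_obj T) (b.w_obj T) ?_
    simp <;> rfl)

end PP

/-! ### objects of `𝒲 ×_{𝒮 ×_C 𝒮} 𝒮` -/

section HD
variable {𝒮 : BasedCategory.{v₂, u₂} C} {𝒲 : BasedCategory.{v₃, u₃} C} (H : 𝒲 ⥤ᵇ PP 𝒮)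

/-- first component of `H`. -/
abbrev G₁ : 𝒲 ⥤ᵇ 𝒮 := BasedFunctor.comp H (fpFst (toSelf 𝒮) (toSelf 𝒮))
/-- second component of `H`. -/
abbrev G₂ : 𝒲 ⥤ᵇ 𝒮 := BasedFunctor.comp H (fpSnd (toSelf 𝒮) (toSelf 𝒮))

/-- the diagonal. -/
abbrev DD : 𝒮 ⥤ᵇ PP 𝒮 := diag (toSelf 𝒮)

variable (ζ : (fp H (DD (𝒮 := 𝒮))).obj)

/-- first component of the isomorphism of an object of `𝒲 ×_{𝒮 ×_C 𝒮} 𝒮`. -/
def ψ₁ : (G₁ H).obj ζ.obj.fst ≅ ζ.obj.snd :=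
  (fpFst (toSelf 𝒮) (toSelf 𝒮)).toFunctor.mapIso ζ.obj.iso

/-- second component. -/
def ψ₂ : (G₂ H).obj ζ.obj.fst ≅ ζ.obj.snd :=
  (fpSnd (toSelf 𝒮) (toSelf 𝒮)).toFunctor.mapIso ζ.obj.iso

theorem ψ₁_lift : 𝒮.p.IsHomLift (𝟙 (𝒲.p.obj ζ.obj.fst)) (ψ₁ H ζ).hom := by
  have h : (PP 𝒮).p.IsHomLift (𝟙 (𝒲.p.obj ζ.obj.fst)) ζ.obj.iso.hom := ζ.property
  exact (fp_isHomLift_iff (toSelf 𝒮) (toSelf 𝒮) _ ζ.obj.iso.hom).mp h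

theorem ψ₂_lift : 𝒮.p.IsHomLift (𝟙 (𝒲.p.obj ζ.obj.fst)) (ψ₂ H ζ).hom := by
  have h : (PP 𝒮).p.IsHomLift (𝟙 (𝒲.p.obj ζ.obj.fst)) ζ.obj.iso.hom := ζ.property
  exact fp_isHomLift_snd' (toSelf 𝒮) (toSelf 𝒮) _ ζ.obj.iso.hom

/-- the induced isomorphism between the two components. -/
def θ : (G₁ H).obj ζ.obj.fst ≅ (G₂ H).obj ζ.obj.fst := ψ₁ H ζ ≪≫ (ψ₂ H ζ).symm

theorem θ_hom : (θ H ζ).hom = (ψ₁ H ζ).hom ≫ (ψ₂ H ζ).inv := rfl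

theorem θ_lift : 𝒮.p.IsHomLift (𝟙 (𝒲.p.obj ζ.obj.fst)) (θ H ζ).hom := by
  have h1 := ψ₁_lift H ζ
  have h2 := ψ₂_lift H ζ
  have h3 : 𝒮.p.IsHomLift (𝟙 (𝒲.p.obj ζ.obj.fst)) (ψ₂ H ζ).inv :=
    IsHomLift.lift_id_inv 𝒮.p _ (ψ₂ H ζ)
  rw [θ_hom]
  exact IsHomLift.comp_of_lift_id 𝒮.p _ _ _

variable {ζ} in
theorem w₁ {ζ' : (fp H (DD (𝒮 := 𝒮))).obj} (μ : ζ ⟶ ζ') :
    (G₁ H).map μ.hom.fst ≫ (ψ₁ H ζ').hom = (ψ₁ H ζ).hom ≫ μ.hom.snd :=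
  congrArg (fun t => t.hom.fst) μ.hom.w

variable {ζ} in
theorem w₂ {ζ' : (fp H (DD (𝒮 := 𝒮))).obj} (μ : ζ ⟶ ζ') :
    (G₂ H).map μ.hom.fst ≫ (ψ₂ H ζ').hom = (ψ₂ H ζ).hom ≫ μ.hom.snd :=
  congrArg (fun t => t.hom.snd) μ.hom.w

/-- object constructor. -/
def mkζ (T : 𝒲.obj) (s : 𝒮.obj) (p₁ : (G₁ H).obj T ≅ s) (p₂ : (G₂ H).obj T ≅ s)
    (h₁ : 𝒮.p.IsHomLift (𝟙 (𝒲.p.obj T)) p₁.hom) (h₂ : 𝒮.p.IsHomLift (𝟙 (𝒲.p.obj T)) p₂.hom) :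
    (fp H (DD (𝒮 := 𝒮))).obj :=
  mkObj H (DD (𝒮 := 𝒮)) T s
    (PP_mkIso (z := H.obj T) (z' := (DD (𝒮 := 𝒮)).obj s) (𝒲.p.obj T) p₁ p₂ h₁ h₂)
    ((fp_isHomLift_iff (toSelf 𝒮) (toSelf 𝒮) (𝟙 (𝒲.p.obj T)) _).mpr h₁)

@[simp] theorem mkζ_fst (T s p₁ p₂ h₁ h₂) : (mkζ H T s p₁ p₂ h₁ h₂).obj.fst = T := rfl
@[simp] theorem mkζ_snd (T s p₁ p₂ h₁ h₂) : (mkζ H T s p₁ p₂ h₁ h₂).obj.snd = s := rfl
theorem mkζ_ψ₁ (T s p₁ p₂ h₁ h₂) : (ψ₁ H (mkζ H T s p₁ p₂ h₁ h₂)).hom = p₁.hom := rfl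
theorem mkζ_ψ₂ (T s p₁ p₂ h₁ h₂) : (ψ₂ H (mkζ H T s p₁ p₂ h₁ h₂)).hom = p₂.hom := rfl
theorem mkζ_ψ₂_inv (T s p₁ p₂ h₁ h₂) : (ψ₂ H (mkζ H T s p₁ p₂ h₁ h₂)).inv = p₂.inv := rfl

/-- morphism constructor. -/
def mkμ {ζ ζ' : (fp H (DD (𝒮 := 𝒮))).obj} (k : ζ.obj.fst ⟶ ζ'.obj.fst)
    (m : ζ.obj.snd ⟶ ζ'.obj.snd)
    (h₁ : (G₁ H).map k ≫ (ψ₁ H ζ').hom = (ψ₁ H ζ).hom ≫ m)
    (h₂ : (G₂ H).map k ≫ (ψ₂ H ζ').hom = (ψ₂ H ζ).hom ≫ m) : ζ ⟶ ζ' :=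
  mkHom H (DD (𝒮 := 𝒮)) k m (fp_hom_ext (toSelf 𝒮) (toSelf 𝒮) h₁ h₂)

end HD

end Groth.Agent.H32.Repr
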