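import Groth.Agent.H32.Yoneda2
import Groth.Agent.S5139
import Mathlib.CategoryTheory.FiberedCategory.Grothendieck
import Mathlib.CategoryTheory.Bicategory.Functor.LocallyDiscrete

/-!
# Every fibred category is equivalent to a split one (helper32)

For a fibred category `𝒳` over `C` we build the strict functor `Fun 𝒳 : Cᵒᵖ ⥤ Cat` with
`Fun 𝒳 U` = cartesian functors `C/U ⥤ᵇ 𝒳` (morphisms: morphisms between the values at `𝟙 U` lying
over `𝟙 U`, which by the 2-Yoneda lemma are the same as natural transformations over `C`), and the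
evaluation functor `∫ᶜ Fun 𝒳 ⥤ᵇ 𝒳`, an equivalence over `C`.
-/

set_option autoImplicit false
open CategoryTheory CategoryTheory.Limits Opposite

universe v₄ u₄ v₃ u₃ v₂ u₂ v u

namespace Groth.Agent.H32.Split

open FibCat Groth.Agent.H32.FibProd Groth.Agent.H32.Yoneda2

variable {C : Type u} [Category.{v} C]

/-- the terminal object `𝟙 U` of `C/U`. -/
abbrev T (U : C) : (overCat U).obj := Over.mk (𝟙 U)

/-- `𝟙 U` is terminal in `C/U`. -/
noncomputable def hT (U : C) : IsTerminal (T U) := Over.mkIdTerminal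

/-- `Over.map f` as a functor over `C`. -/
def overMapB {V U : C} (f : V ⟶ U) : overCat V ⥤ᵇ overCat U := ⟨Over.map f, Over.mapForget_eq f⟩

theorem overMapB_preserves {V U : C} (f : V ⟶ U) : PreservesStronglyCartesian (overMapB f) := by
  intro R S g X' X k hk
  have h1 : (overCat V).p.IsHomLift g k := hk.toIsHomLift
  have h2 : (overCat U).p.IsHomLift g ((overMapB f).map k) := inferInstance
  have h4 : (overCat U).p.IsStronglyCartesian ((overCat U).p.map ((overMapB f).map k))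
      ((overMapB f).map k) := over_sc ((overMapB f).map k)
  exact sc_of_homLift (overCat U).p g ((overMapB f).map k) h4

theorem overMapB_id_obj {U : C} (X : (overCat U).obj) : (overMapB (𝟙 U)).obj X = X := by
  show (Over.map (𝟙 U)).obj X = X
  rw [Over.mapId_eq]; rfl

theorem overMapB_comp_obj {W V U : C} (g : W ⟶ V) (f : V ⟶ U) (X : (overCat W).obj) :
    (overMapB (g ≫ f)).obj X = (overMapB f).obj ((overMapB g).obj X) := by
  show (Over.map (g ≫ f)).obj X = (Over.map f).obj ((Over.map g).obj X)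
  rw [Over.mapComp_eq]; rfl

theorem comp_preserves {𝒜 : BasedCategory.{v₂, u₂} C} {ℬ : BasedCategory.{v₃, u₃} C}
    {𝒵 : BasedCategory.{v₄, u₄} C} {F : 𝒜 ⥤ᵇ ℬ} {G : ℬ ⥤ᵇ 𝒵}
    (hF : PreservesStronglyCartesian F) (hG : PreservesStronglyCartesian G) :
    PreservesStronglyCartesian (BasedFunctor.comp F G) :=
  fun _ _ f _ _ φ h => hG f (F.map φ) (hF f φ h)

theorem basedFunctor_ext {𝒜 : BasedCategory.{v₂, u₂} C} {ℬ : BasedCategory.{v₃, u₃} C}
    {F G : 𝒜 ⥤ᵇ ℬ} (h : F.toFunctor = G.toFunctor) : F = G := by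
  cases F; cases G; simp only at h; subst h; rfl

theorem app_congr {𝒜 : BasedCategory.{v₂, u₂} C} {ℬ : BasedCategory.{v₃, u₃} C}
    {G H : 𝒜 ⥤ᵇ ℬ} (α : G ⟶ H) {X Y : 𝒜.obj} (h : X = Y) :
    α.toNatTrans.app X =
      eqToHom (congrArg G.obj h) ≫ α.toNatTrans.app Y ≫ eqToHom (congrArg H.obj h.symm) := by
  subst h; simp

variable (𝒳 : BasedCategory.{v, max u v} C)

theorem map_sc {U : C} {G : overCat U ⥤ᵇ 𝒳} (hG : PreservesStronglyCartesian G)
    {X' X : (overCat U).obj} (k : X' ⟶ X) :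
    𝒳.p.IsStronglyCartesian ((overCat U).p.map k) (G.map k) :=
  hG ((overCat U).p.map k) k (over_sc k)

/-- cartesian functors `C/U ⥤ᵇ 𝒳`. -/
structure CartFun (U : C) where
  /-- the functor over `C` -/
  fn : overCat U ⥤ᵇ 𝒳
  /-- it preserves strongly cartesian morphisms -/
  cart : PreservesStronglyCartesian fn

namespace CartFun

variable {𝒳} {U : C}

theorem ext' {G H : CartFun 𝒳 U} (h : G.fn = H.fn) : G = H := by
  cases G; cases H; simp only at h; subst h; rfl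

/-- the value at the terminal object. -/
abbrev val (G : CartFun 𝒳 U) : 𝒳.obj := G.fn.obj (T U)

theorem val_obj (G : CartFun 𝒳 U) : 𝒳.p.obj G.val = U := G.fn.w_obj (T U)

instance : Category.{v} (CartFun 𝒳 U) where
  Hom G H := {t : G.val ⟶ H.val // 𝒳.p.IsHomLift (𝟙 U) t}
  id G := ⟨𝟙 _, IsHomLift.id G.val_obj⟩
  comp s t := ⟨s.1 ≫ t.1, by
    have := s.2
    have := t.2
    have h : 𝒳.p.IsHomLift (𝟙 U ≫ 𝟙 U) (s.1 ≫ t.1) := inferInstance
    rwa [Category.comp_id] at h⟩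
  id_comp s := Subtype.ext (Category.id_comp _)
  comp_id s := Subtype.ext (Category.comp_id _)
  assoc s t r := Subtype.ext (Category.assoc _ _ _)

@[simp] theorem id_val (G : CartFun 𝒳 U) : (𝟙 G : G ⟶ G).1 = 𝟙 G.val := rfl

@[simp] theorem comp_val {G H K : CartFun 𝒳 U} (s : G ⟶ H) (t : H ⟶ K) :
    (s ≫ t).1 = s.1 ≫ t.1 := rfl

theorem hom_ext {G H : CartFun 𝒳 U} {s t : G ⟶ H} (h : s.1 = t.1) : s = t := Subtype.ext h

theorem eqToHom_val {G H : CartFun 𝒳 U} (h : G = H) :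
    (eqToHom h : G ⟶ H).1 = eqToHom (congrArg val h) := by
  subst h; rfl

theorem exists_ext {G H : CartFun 𝒳 U} (t : G ⟶ H) :
    ∃ α : G.fn ⟶ H.fn, α.toNatTrans.app (T U) = t.1 :=
  exists_natTrans (hT U) (fun X => map_sc 𝒳 H.cart ((hT U).from X)) t.1 (ht := t.2)

/-- the natural transformation over `C` extending a morphism between the values at `𝟙 U`. -/
noncomputable def ext {G H : CartFun 𝒳 U} (t : G ⟶ H) : G.fn ⟶ H.fn := (exists_ext t).choose

theorem ext_app_T {G H : CartFun 𝒳 U} (t : G ⟶ H) : (ext t).toNatTrans.app (T U) = t.1 :=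
  (exists_ext t).choose_spec

theorem ext_unique {G H : CartFun 𝒳 U} (t : G ⟶ H) (α : G.fn ⟶ H.fn)
    (h : α.toNatTrans.app (T U) = t.1) : α = ext t :=
  natTrans_ext (hT U) (fun X => map_sc 𝒳 H.cart ((hT U).from X)) α (ext t)
    (h.trans (ext_app_T t).symm)

/-- restriction along `f : V ⟶ U`. -/
def res {V U : C} (f : V ⟶ U) (G : CartFun 𝒳 U) : CartFun 𝒳 V :=
  ⟨BasedFunctor.comp (overMapB f) G.fn, comp_preserves (overMapB_preserves f) G.cart⟩

/-- restriction along `f : V ⟶ U` as a functor. -/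
noncomputable def resF {V U : C} (f : V ⟶ U) : CartFun 𝒳 U ⥤ CartFun 𝒳 V where
  obj := res f
  map {G H} t := ⟨(ext t).toNatTrans.app ((overMapB f).obj (T V)),
    (ext t).isHomLift' ((overMapB f).obj (T V))⟩
  map_id G := by
    apply hom_ext
    have : ext (𝟙 G) = 𝟙 G.fn := (ext_unique (𝟙 G) (𝟙 G.fn) rfl).symm
    show (ext (𝟙 G)).toNatTrans.app _ = 𝟙 _
    rw [this]; rfl
  map_comp s t := by
    apply hom_ext
    have : ext (s ≫ t) = ext s ≫ ext t := (ext_unique (s ≫ t) (ext s ≫ ext t) (by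
      show (ext s).toNatTrans.app _ ≫ (ext t).toNatTrans.app _ = s.1 ≫ t.1
      rw [ext_app_T, ext_app_T])).symm
    show (ext (s ≫ t)).toNatTrans.app _ = (ext s).toNatTrans.app _ ≫ (ext t).toNatTrans.app _
    rw [this]; rfl

theorem resF_map_val {V U : C} (f : V ⟶ U) {G H : CartFun 𝒳 U} (t : G ⟶ H) :
    ((resF f).map t).1 = (ext t).toNatTrans.app ((overMapB f).obj (T V)) := rfl

theorem res_id (G : CartFun 𝒳 U) : res (𝟙 U) G = G := by
  apply ext'
  apply basedFunctor_ext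
  show Over.map (𝟙 U) ⋙ G.fn.toFunctor = G.fn.toFunctor
  rw [Over.mapId_eq]; rfl

theorem res_comp {W V U : C} (g : W ⟶ V) (f : V ⟶ U) (G : CartFun 𝒳 U) :
    res (g ≫ f) G = res g (res f G) := by
  apply ext'
  apply basedFunctor_ext
  show Over.map (g ≫ f) ⋙ G.fn.toFunctor = Over.map g ⋙ (Over.map f ⋙ G.fn.toFunctor)
  rw [Over.mapComp_eq]; rfl

theorem resF_id_obj (G : CartFun 𝒳 U) : (resF (𝟙 U)).obj G = (𝟭 (CartFun 𝒳 U)).obj G := res_id G

theorem resF_comp_obj {W V U : C} (g : W ⟶ V) (f : V ⟶ U) (G : CartFun 𝒳 U) :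
    (resF (g ≫ f)).obj G = (resF f ⋙ resF g).obj G := res_comp g f G

theorem resF_id (U : C) : resF (𝒳 := 𝒳) (𝟙 U) = 𝟭 _ := by
  refine Functor.ext (fun G => resF_id_obj G) (fun G H t => ?_)
  apply hom_ext
  rw [comp_val, comp_val, eqToHom_val, eqToHom_val, resF_map_val]
  rw [app_congr (ext t) (overMapB_id_obj (T U)), ext_app_T]
  rfl

theorem ext_res {V U : C} (f : V ⟶ U) {G H : CartFun 𝒳 U} (t : G ⟶ H) :
    ext ((resF f).map t) = BasedCategory.whiskerLeft (overMapB f) (ext t) :=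
  (ext_unique ((resF f).map t) (BasedCategory.whiskerLeft (overMapB f) (ext t)) rfl).symm

theorem resF_comp {W V U : C} (g : W ⟶ V) (f : V ⟶ U) :
    resF (𝒳 := 𝒳) (g ≫ f) = resF f ⋙ resF g := by
  refine Functor.ext (fun G => resF_comp_obj g f G) (fun G H t => ?_)
  apply hom_ext
  rw [comp_val, comp_val, eqToHom_val, eqToHom_val, Functor.comp_map, resF_map_val, resF_map_val,
    ext_res]
  rw [app_congr (ext t) (overMapB_comp_obj g f (T W))]
  rfl

end CartFun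

open CartFun

/-- the strict functor `U ↦ {cartesian functors C/U ⥤ᵇ 𝒳}`. -/
noncomputable def Fun : Cᵒᵖ ⥤ Cat.{v, max u v} where
  obj U := Cat.of (CartFun 𝒳 (unop U))
  map f := (resF f.unop).toCatHom
  map_id U := by
    show (resF (𝟙 (unop U))).toCatHom = _
    rw [resF_id]; rfl
  map_comp f g := by
    show (resF (g.unop ≫ f.unop)).toCatHom = _
    rw [resF_comp]; rfl

/-- the pseudofunctor attached to `Fun 𝒳`. -/
noncomputable abbrev F' := (Fun 𝒳).toPseudofunctor'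

/-- the total category `∫ᶜ Fun 𝒳`. -/
abbrev Tot := Pseudofunctor.CoGrothendieck (F' 𝒳)

variable {𝒳}

/-- the fibre component, as a cartesian functor. -/
abbrev fib (X : Tot 𝒳) : CartFun 𝒳 X.base := X.fiber

/-- the fibre component of a morphism. -/
abbrev homFib {X Y : Tot 𝒳} (m : X ⟶ Y) : fib X ⟶ (resF m.base).obj (fib Y) := m.fiber

theorem id_fiber (X : Tot 𝒳) :
    homFib (𝟙 X) =
      (eqToHom (resF_id_obj (fib X)).symm : fib X ⟶ (resF (𝟙 X : X ⟶ X).base).obj (fib X)) := by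
  show (𝟙 X : X ⟶ X).fiber = _
  rw [Pseudofunctor.CoGrothendieck.categoryStruct_id_fiber, Functor.toPseudofunctor'_mapId,
    eqToIso.inv]
  erw [Cat.eqToHom_app]
  rfl

theorem comp_fiber {X Y Z : Tot 𝒳} (m : X ⟶ Y) (n : Y ⟶ Z) :
    homFib (m ≫ n) =
      (homFib m ≫ (resF m.base).map (homFib n) ≫
        eqToHom (resF_comp_obj m.base n.base (fib Z)).symm :
          fib X ⟶ (resF (m ≫ n).base).obj (fib Z)) := by
  show (m ≫ n).fiber = _
  rw [Pseudofunctor.CoGrothendieck.categoryStruct_comp_fiber, Functor.toPseudofunctor'_mapComp,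
    eqToIso.inv]
  erw [Cat.eqToHom_app]
  rfl

/-- the canonical morphism `f_* (𝟙 V) ⟶ 𝟙 U` of `C/U`. -/
noncomputable abbrev kk {V U : C} (f : V ⟶ U) : (overMapB f).obj (T V) ⟶ T U := (hT U).from _

theorem kk_left {V U : C} (f : V ⟶ U) : (overCat U).p.map (kk f) = f := by
  have h : Over.Hom.left (kk f) = f := by
    have := Over.w (kk f)
    simpa [overMapB] using this
  exact h

/-- the evaluation functor on morphisms. -/
noncomputable def evalMap {X Y : Tot 𝒳} (m : X ⟶ Y) : (fib X).val ⟶ (fib Y).val :=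
  (homFib m).1 ≫ (fib Y).fn.map (kk m.base)

theorem evalMap_id (X : Tot 𝒳) : evalMap (𝟙 X) = 𝟙 _ := by
  unfold evalMap
  rw [id_fiber, eqToHom_val]
  have h2 : kk (𝟙 X : X ⟶ X).base = eqToHom (overMapB_id_obj (T X.base)) := (hT X.base).hom_ext _ _
  rw [h2, eqToHom_map]
  exact (eqToHom_trans _ _).trans (eqToHom_refl _ _)

theorem aux_comp {𝒟 : Type*} [Category 𝒟] {x y₁ y z₁ z₂ z₃ z : 𝒟} (s : x ⟶ y₁) (A : y₁ ⟶ z₁)
    (E E' : z₁ ⟶ z₂) (K : z₂ ⟶ z) (k₁ : y₁ ⟶ y) (t : y ⟶ z₃) (K₂ : z₃ ⟶ z) (B : z₁ ⟶ z₃)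
    (hE : E = E') (nat : k₁ ≫ t = A ≫ B) (h4 : B ≫ K₂ = E' ≫ K) :
    (s ≫ A ≫ E) ≫ K = (s ≫ k₁) ≫ t ≫ K₂ := by
  subst hE
  simp only [Category.assoc]
  rw [reassoc_of% nat, h4]

theorem evalMap_comp {X Y Z : Tot 𝒳} (m : X ⟶ Y) (n : Y ⟶ Z) :
    evalMap (m ≫ n) = evalMap m ≫ evalMap n := by
  unfold evalMap
  rw [comp_fiber, comp_val, comp_val]
  have nat := (ext (homFib n)).toNatTrans.naturality (kk m.base)
  rw [ext_app_T] at nat
  have h3 : (overMapB n.base).map (kk m.base) ≫ kk n.base =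
      eqToHom (overMapB_comp_obj m.base n.base (T X.base)).symm ≫ kk (m ≫ n).base :=
    (hT Z.base).hom_ext _ _
  have h4 := congrArg (fun k => (fib Z).fn.map k) h3
  simp only [Functor.map_comp, eqToHom_map] at h4
  exact aux_comp _ _ _ _ _ _ _ _ _ (eqToHom_val _) nat h4

/-- the evaluation functor `∫ᶜ Fun 𝒳 ⥤ 𝒳`. -/
noncomputable def evalFunctor : Tot 𝒳 ⥤ 𝒳.obj where
  obj X := (fib X).val
  map m := evalMap m
  map_id X := evalMap_id X
  map_comp m n := evalMap_comp m n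

instance evalMap_isHomLift {X Y : Tot 𝒳} (m : X ⟶ Y) : 𝒳.p.IsHomLift m.base (evalMap m) := by
  have h1 : 𝒳.p.IsHomLift (𝟙 X.base) (homFib m).1 := (homFib m).2
  have h2 : 𝒳.p.IsHomLift ((overCat Y.base).p.map (kk m.base)) ((fib Y).fn.map (kk m.base)) :=
    inferInstance
  rw [kk_left] at h2
  exact @IsHomLift.comp_lift_id_left _ _ _ _ 𝒳.p _ _ _ _ _ m.base ((fib Y).fn.map (kk m.base)) h2
    (homFib m).1 h1

theorem evalFunctor_w :
    evalFunctor ⋙ 𝒳.p = Pseudofunctor.CoGrothendieck.forget (F' 𝒳) :=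
  Functor.ext (fun X => (fib X).val_obj)
    (fun X Y m => IsHomLift.fac' 𝒳.p m.base (evalMap m))

/-- the evaluation functor as a functor over `C`. -/
noncomputable def evalB :
    BasedCategory.ofFunctor (Pseudofunctor.CoGrothendieck.forget (F' 𝒳)) ⥤ᵇ 𝒳 where
  toFunctor := evalFunctor
  w := evalFunctor_w

theorem hom_eq_of_isHomLift {𝒮 : Type*} [Category 𝒮] {𝒴 : Type*} [Category 𝒴] (p : 𝒴 ⥤ 𝒮)
    {R S : 𝒮} {a b : 𝒴} (f f' : R ⟶ S) (φ : a ⟶ b) [p.IsHomLift f φ] [p.IsHomLift f' φ] :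
    f = f' := by
  have h1 := IsHomLift.fac' p f φ
  have h2 := IsHomLift.fac' p f' φ
  rw [h1] at h2
  exact (cancel_mono (eqToHom _)).mp ((cancel_epi (eqToHom _)).mp h2)

instance evalFunctor_faithful : (evalFunctor (𝒳 := 𝒳)).Faithful where
  map_injective {X Y} m m' h := by
    have h' : evalMap m = evalMap m' := h
    have hb : m.base = m'.base := by
      have : 𝒳.p.IsHomLift m'.base (evalMap m) := by rw [h']; infer_instance
      exact hom_eq_of_isHomLift 𝒳.p m.base m'.base (evalMap m)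
    obtain ⟨f, t⟩ := m
    obtain ⟨f', t'⟩ := m'
    dsimp only at hb
    subst hb
    congr 1
    have hsc := map_sc 𝒳 (fib Y).cart (kk f)
    have l1 : 𝒳.p.IsHomLift (𝟙 X.base) (homFib (⟨f, t⟩ : X ⟶ Y)).1 := (homFib _).2
    have l2 : 𝒳.p.IsHomLift (𝟙 X.base) (homFib (⟨f, t'⟩ : X ⟶ Y)).1 := (homFib _).2
    have hval : (homFib (⟨f, t⟩ : X ⟶ Y)).1 = (homFib (⟨f, t'⟩ : X ⟶ Y)).1 :=
      @Functor.IsStronglyCartesian.ext _ _ _ _ 𝒳.p _ _ _ _ ((overCat Y.base).p.map (kk f))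
        ((fib Y).fn.map (kk f)) hsc _ _ (𝟙 X.base) _ _ l1 l2 h'
    exact hom_ext (G := fib X) (H := (resF f).obj (fib Y)) hval

theorem exists_preimage {X Y : Tot 𝒳} (φ : (fib X).val ⟶ (fib Y).val) :
    ∃ m : X ⟶ Y, evalMap m = φ := by
  let f : X.base ⟶ Y.base :=
    eqToHom (fib X).val_obj.symm ≫ 𝒳.p.map φ ≫ eqToHom (fib Y).val_obj
  have hf : 𝒳.p.IsHomLift f φ :=
    IsHomLift.of_fac 𝒳.p f φ (fib X).val_obj (fib Y).val_obj rfl
  have hsc : 𝒳.p.IsStronglyCartesian f ((fib Y).fn.map (kk f)) := by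
    have := map_sc 𝒳 (fib Y).cart (kk f)
    rwa [kk_left] at this
  have hid : f = 𝟙 X.base ≫ f := (Category.id_comp f).symm
  have ht : 𝒳.p.IsHomLift (𝟙 X.base)
      (Functor.IsStronglyCartesian.map 𝒳.p f ((fib Y).fn.map (kk f)) hid φ) := inferInstance
  have hfac : Functor.IsStronglyCartesian.map 𝒳.p f ((fib Y).fn.map (kk f)) hid φ ≫
      (fib Y).fn.map (kk f) = φ :=
    Functor.IsStronglyCartesian.fac 𝒳.p f ((fib Y).fn.map (kk f)) hid φ
  exact ⟨(⟨f, (⟨Functor.IsStronglyCartesian.map 𝒳.p f ((fib Y).fn.map (kk f)) hid φ, ht⟩ :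
    fib X ⟶ (resF f).obj (fib Y))⟩ : Pseudofunctor.CoGrothendieck.Hom X Y), hfac⟩

instance evalFunctor_full : (evalFunctor (𝒳 := 𝒳)).Full where
  map_surjective {X Y} φ := exists_preimage (X := X) (Y := Y) φ

theorem evalB_isEquivOver [𝒳.p.IsFibered] : IsEquivOver (evalB (𝒳 := 𝒳)) := by
  rw [Groth.Agent.S5139.result]
  refine ⟨⟨evalFunctor_full, evalFunctor_faithful⟩, fun η => ?_⟩
  obtain ⟨G, hG, t, htiso, htlift⟩ := exists_based_functor (hT (𝒳.p.obj η)) η rfl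
  exact ⟨⟨𝒳.p.obj η, (⟨G, hG⟩ : CartFun 𝒳 (𝒳.p.obj η))⟩, @asIso _ _ _ _ t htiso, htlift⟩

variable (𝒳)

/-- Every fibred category is equivalent over `C` to the Grothendieck construction of a strict
functor. -/
theorem exists_equivOver [𝒳.p.IsFibered] :
    ∃ E : 𝒳 ⥤ᵇ BasedCategory.ofFunctor
        (Pseudofunctor.CoGrothendieck.forget (Fun 𝒳).toPseudofunctor'), IsEquivOver E := by
  obtain ⟨E, h1, h2⟩ := evalB_isEquivOver (𝒳 := 𝒳)
  exact ⟨E, evalB, h2, h1⟩

theorem isFibered_of_isFibGrpd (h : IsFibGrpd 𝒳.p) : 𝒳.p.IsFibered := by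
  apply Functor.IsFibered.of_exists_isStronglyCartesian
  intro a R f
  obtain ⟨b, φ, hφ⟩ := h.exists_lift f
  exact ⟨b, φ, sc_of_isFibGrpd 𝒳.p h f φ⟩

theorem isGroupoid_cartFun (h : IsFibGrpd 𝒳.p) (U : C) : IsGroupoid (CartFun 𝒳 U) where
  all_isIso {G H} t := by
    have := t.2
    have hiso : IsIso t.1 := isIso_of_isFibGrpd 𝒳.p h (𝟙 U) t.1
    have hl : 𝒳.p.IsHomLift (𝟙 U) (inv t.1) := inferInstance
    exact ⟨⟨⟨inv t.1, hl⟩, hom_ext (by simp), hom_ext (by simp)⟩⟩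

end Groth.Agent.H32.Split
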