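import Groth.Prelude.Def_AlgSt
import Groth.Agent.H32.Split

/-!
# Local-to-global lemmas for automorphisms in a prestack (helper32)
-/

set_option autoImplicit false
open CategoryTheory
universe v₄ u₄ v₃ u₃ v₂ u₂ v u

namespace Groth.Agent.H32.StkLoc

open FibCat Groth.Agent.H32.FibProd Groth.Agent.H32.Yoneda2

theorem isHomLift_comp_id_left {C : Type*} [Category C] {𝒳 : Type*} [Category 𝒳] (p : 𝒳 ⥤ C)
    {R S : C} (f : R ⟶ S) {a b c : 𝒳} (φ : a ⟶ b) (ψ : b ⟶ c) (h1 : p.IsHomLift (𝟙 R) φ)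
    (h2 : p.IsHomLift f ψ) : p.IsHomLift f (φ ≫ ψ) := inferInstance

theorem isHomLift_comp_id_right {C : Type*} [Category C] {𝒳 : Type*} [Category 𝒳] (p : 𝒳 ⥤ C)
    {R S : C} (f : R ⟶ S) {a b c : 𝒳} (φ : a ⟶ b) (ψ : b ⟶ c) (h1 : p.IsHomLift f φ)
    (h2 : p.IsHomLift (𝟙 S) ψ) : p.IsHomLift f (φ ≫ ψ) := inferInstance

theorem aux1 {D : Type*} [Category D] {Ya T t : D} (Yτ : Ya ⟶ T) (τ₀ : T ⟶ t) (τ₀i : t ⟶ T)
    (α : t ⟶ t) (β : Ya ⟶ Ya) (h0 : τ₀i ≫ τ₀ = 𝟙 t)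
    (n : Yτ ≫ (τ₀ ≫ α ≫ τ₀i) = β ≫ Yτ) (h : (Yτ ≫ τ₀) ≫ α = Yτ ≫ τ₀) :
    β ≫ (Yτ ≫ τ₀) = 𝟙 Ya ≫ (Yτ ≫ τ₀) := by
  rw [Category.id_comp, ← Category.assoc, ← n]
  simp only [Category.assoc, h0, Category.comp_id]
  simpa using h

section

variable {C : Type u} [Category.{v} C]

section fib
variable {𝒯 : Type u₂} [Category.{v₂} 𝒯] (p : 𝒯 ⥤ C)

/-- two morphisms over the same base morphism differ by an automorphism of the source. -/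
theorem exists_aut (h : IsFibGrpd p) {R S : C} (u : R ⟶ S) {t t' : 𝒯} (b b' : t ⟶ t')
    (hb : p.IsHomLift u b) (hb' : p.IsHomLift u b') :
    ∃ α : t ⟶ t, p.IsHomLift (𝟙 R) α ∧ α ≫ b = b' := by
  have sc := sc_of_isFibGrpd p h u b
  have hid : u = 𝟙 R ≫ u := (Category.id_comp u).symm
  exact ⟨Functor.IsStronglyCartesian.map p u b hid b', inferInstance,
    Functor.IsStronglyCartesian.fac p u b hid b'⟩

/-- conjugating an automorphism of the target along a morphism. -/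
theorem exists_conj (h : IsFibGrpd p) {R S : C} (f : R ⟶ S) {s t : 𝒯} (ψ : s ⟶ t)
    (hψ : p.IsHomLift f ψ) (α : t ⟶ t) (hα : p.IsHomLift (𝟙 S) α) :
    ∃ β : s ⟶ s, p.IsHomLift (𝟙 R) β ∧ β ≫ ψ = ψ ≫ α := by
  have sc := sc_of_isFibGrpd p h f ψ
  have hid : f = 𝟙 R ≫ f := (Category.id_comp f).symm
  have h1 : p.IsHomLift f (ψ ≫ α) := isHomLift_comp_id_right p f ψ α hψ hα
  exact ⟨Functor.IsStronglyCartesian.map p f ψ hid (ψ ≫ α), inferInstance,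
    Functor.IsStronglyCartesian.fac p f ψ hid (ψ ≫ α)⟩

/-- a morphism over an identity that becomes trivial after composing with a morphism is trivial. -/
theorem eq_id_of_comp (h : IsFibGrpd p) {R S : C} (f : R ⟶ S) {s t : 𝒯} (ψ : s ⟶ t)
    (hψ : p.IsHomLift f ψ) (β : s ⟶ s) (hβ : p.IsHomLift (𝟙 R) β) (hβψ : β ≫ ψ = ψ) :
    β = 𝟙 s := by
  have sc := sc_of_isFibGrpd p h f ψ
  have l2 : p.IsHomLift (𝟙 R) (𝟙 s) := IsHomLift.id (IsHomLift.domain_eq p f ψ)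
  refine Functor.IsStronglyCartesian.ext p f ψ (𝟙 R) ?_
  rw [hβψ, Category.id_comp]

end fib

variable {𝒯 : BasedCategory.{v, max u v} C}

/-- an automorphism over an identity in a prestack that is locally trivial is trivial. -/
theorem aut_eq_id (h𝒯 : IsFibGrpd 𝒯.p) {W : C} (R : Sieve W)
    (hfa : (Stk.resSieve R 𝒯).Faithful) (t : 𝒯.obj) (ht : 𝒯.p.obj t = W) (α : t ⟶ t)
    (hα : 𝒯.p.IsHomLift (𝟙 W) α)
    (hloc : ∀ (a : (Stk.sieveCat R).obj) (s : 𝒯.obj) (ψ : s ⟶ t),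
      𝒯.p.IsHomLift a.obj.hom ψ → ψ ≫ α = ψ) : α = 𝟙 t := by
  haveI : 𝒯.p.IsFibered := Groth.Agent.H32.Split.isFibered_of_isFibGrpd 𝒯 h𝒯
  obtain ⟨Y, -, τ₀, hτ₀iso, hτ₀⟩ := exists_based_functor (Groth.Agent.H32.Split.hT W) t ht
  have hτ₀' : 𝒯.p.IsHomLift (𝟙 W) τ₀ := hτ₀
  have hinv : 𝒯.p.IsHomLift (𝟙 W) (inv τ₀) := inferInstance
  let α' : Y.obj (Groth.Agent.H32.Split.T W) ⟶ Y.obj (Groth.Agent.H32.Split.T W) :=
    τ₀ ≫ α ≫ inv τ₀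
  have hα' : 𝒯.p.IsHomLift (𝟙 ((FibCat.overCat W).p.obj (Groth.Agent.H32.Split.T W))) α' := by
    have h1 : 𝒯.p.IsHomLift (𝟙 W) (α ≫ inv τ₀) := isHomLift_comp_id_left 𝒯.p (𝟙 W) _ _ hα hinv
    exact isHomLift_comp_id_left 𝒯.p (𝟙 W) _ _ hτ₀' h1
  have hsc : ∀ X, 𝒯.p.IsStronglyCartesian
      ((FibCat.overCat W).p.map ((Groth.Agent.H32.Split.hT W).from X))
      (Y.map ((Groth.Agent.H32.Split.hT W).from X)) := fun X =>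
    sc_of_isFibGrpd 𝒯.p h𝒯 _ _
  obtain ⟨A, hA⟩ := exists_natTrans (Groth.Agent.H32.Split.hT W) hsc α' (ht := hα')
  have hA1 : A = 𝟙 Y := by
    apply (Stk.resSieve R 𝒯).map_injective
    apply BasedNatTrans.homCategory.ext
    refine NatTrans.ext (funext fun a => ?_)
    change A.toNatTrans.app a.obj = 𝟙 (Y.obj a.obj)
    let τ : a.obj ⟶ Groth.Agent.H32.Split.T W := Over.homMk a.obj.hom (by simp)
    have hτl : (FibCat.overCat W).p.IsHomLift a.obj.hom τ :=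
      IsHomLift.map (FibCat.overCat W).p τ
    have hYτ : 𝒯.p.IsHomLift a.obj.hom (Y.map τ) :=
      (BasedFunctor.isHomLift_iff Y a.obj.hom τ).mpr hτl
    have hψ : 𝒯.p.IsHomLift a.obj.hom (Y.map τ ≫ τ₀) :=
      isHomLift_comp_id_right 𝒯.p a.obj.hom _ _ hYτ hτ₀'
    have n := A.toNatTrans.naturality τ
    rw [hA] at n
    have hβ : 𝒯.p.IsHomLift (𝟙 a.obj.left) (A.toNatTrans.app a.obj) := A.isHomLift' a.obj
    have h0 : inv τ₀ ≫ τ₀ = 𝟙 t := IsIso.inv_hom_id τ₀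
    have key := aux1 (Y.map τ) τ₀ (inv τ₀) α (A.toNatTrans.app a.obj) h0 n
      (hloc a _ (Y.map τ ≫ τ₀) hψ)
    rw [Category.id_comp] at key
    exact eq_id_of_comp 𝒯.p h𝒯 a.obj.hom (Y.map τ ≫ τ₀) hψ _ hβ key
  have hα'1 : α' = 𝟙 _ := by
    rw [← hA, hA1]
    rfl
  have : τ₀ ≫ α = τ₀ := by
    have h2 : (τ₀ ≫ α ≫ inv τ₀) ≫ τ₀ = 𝟙 _ ≫ τ₀ := by rw [← hα'1]
    simpa using h2
  exact (cancel_epi τ₀).mp (this.trans (Category.comp_id τ₀).symm)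

end

section theta

variable {C : Type u} [Category.{v} C] {𝒮₂ : BasedCategory.{v₂, u₂} C}
  {𝒯₁ : BasedCategory.{v₃, u₃} C} {𝒮₁ : BasedCategory.{v₄, u₄} C} (F : 𝒮₂ ⥤ᵇ 𝒮₁)
  (G : 𝒯₁ ⥤ᵇ 𝒮₁)

theorem exists_theta (h₁ : IsFibGrpd 𝒮₁.p) {V W : C} (f : V ⟶ W) {y : 𝒮₁.obj} (x : 𝒮₂.obj)
    (s : 𝒯₁.obj) (φ : F.obj x ⟶ y) (ψ' : G.obj s ⟶ y) (hφ : 𝒮₁.p.IsHomLift f φ)
    (hψ' : 𝒮₁.p.IsHomLift f ψ') :
    ∃ θ : F.obj x ⟶ G.obj s, IsIso θ ∧ 𝒮₁.p.IsHomLift (𝟙 (𝒮₂.p.obj x)) θ ∧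
      𝒮₁.p.IsHomLift (𝟙 V) θ := by
  have sc := sc_of_isFibGrpd 𝒮₁.p h₁ f ψ'
  have hid : f = 𝟙 V ≫ f := (Category.id_comp f).symm
  have hθ : 𝒮₁.p.IsHomLift (𝟙 V) (Functor.IsStronglyCartesian.map 𝒮₁.p f ψ' hid φ) :=
    inferInstance
  have hV : V = 𝒮₂.p.obj x :=
    (IsHomLift.domain_eq 𝒮₁.p f φ).symm.trans (F.w_obj x)
  exact ⟨Functor.IsStronglyCartesian.map 𝒮₁.p f ψ' hid φ,
    isIso_of_isFibGrpd 𝒮₁.p h₁ (𝟙 V) _, isHomLift_id_of_eq 𝒮₁.p hV _ hθ, hθ⟩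

end theta

end Groth.Agent.H32.StkLoc
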