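import Groth.Agent.H32.SpBridge
import Groth.Agent.H32.Repr
import Groth.Agent.S12776

/-!
# Bootstrap: base change of a morphism representable by algebraic spaces to an algebraic space
(helper32)
-/

set_option autoImplicit false
open CategoryTheory CategoryTheory.Limits AlgebraicGeometry Opposite
universe u

namespace Groth.Agent.H32.SpBoot

open FibCat Stk Groth.Agent.H32.FibProd Groth.Agent.H32.Fp2 Groth.Agent.H32.Fp3
  Groth.Agent.H32.PshFp Groth.Agent.H32.PshStack Groth.Agent.H32.SpBridge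

variable {S : Scheme.{u}} {𝒳 𝒴 : AlgSt.Cat S}

theorem thin_fp_of_faithful {P : AlgSp.PSp S} (g' : Stk.ofPsh P ⥤ᵇ 𝒴) (f : 𝒳 ⥤ᵇ 𝒴)
    (hfaith : f.toFunctor.Faithful) (U : Over S) : Quiver.IsThin ((fp g' f).p.Fiber U) := by
  intro a b
  refine ⟨fun m m' => ?_⟩
  apply Functor.Fiber.hom_ext
  have hm : (fp g' f).p.IsHomLift (𝟙 U) m.1 := m.2
  have hm' : (fp g' f).p.IsHomLift (𝟙 U) m'.1 := m'.2
  have e1 : m.1.hom.fst = m'.1.hom.fst :=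
    hom_eq_of_lift _ _ (𝟙 U) ((fp_isHomLift_iff _ _ _ _).mp hm) ((fp_isHomLift_iff _ _ _ _).mp hm')
  refine fp_hom_ext _ _ e1 ?_
  apply hfaith.map_injective
  have w1 : g'.map m.1.hom.fst ≫ b.1.obj.iso.hom = a.1.obj.iso.hom ≫ f.map m.1.hom.snd :=
    m.1.hom.w
  have w2 : g'.map m'.1.hom.fst ≫ b.1.obj.iso.hom = a.1.obj.iso.hom ≫ f.map m'.1.hom.snd :=
    m'.1.hom.w
  have w3 : a.1.obj.iso.hom ≫ f.map m.1.hom.snd = a.1.obj.iso.hom ≫ f.map m'.1.hom.snd := by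
    rw [← w1, ← w2, e1]
  exact (cancel_epi a.1.obj.iso.hom).mp w3

/-- bootstrap for the category of an algebraic space. -/
theorem repByAlgSp_fp_ofSp (h𝒳 : IsFibGrpd 𝒳.p) (h𝒴 : IsFibGrpd 𝒴.p) (Z : AlgSp.Space S)
    (g' : AlgSt.ofSp Z.obj ⥤ᵇ 𝒴) (f : 𝒳 ⥤ᵇ 𝒴) (hf : AlgSt.RepByAlgSp1 f) :
    AlgSt.RepByAlgSp (fp g' f) := by
  have hfaith : f.toFunctor.Faithful := Groth.Agent.S12776.faithful_of_rep h𝒳 h𝒴 f hf
  have h𝒫 : IsFibGrpd (fp g' f).p :=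
    Groth.Agent.H32.Repr.fp_isFibGrpd g' f inferInstance h𝒳 h𝒴
  have hthin : ∀ U, Quiver.IsThin ((fp g' f).p.Fiber U) := thin_fp_of_faithful g' f hfaith
  have := h𝒫
  have hΨ := Groth.Agent.H32.IsoClEquiv.toIsoCl_isEquivOver (fp g' f) hthin
  obtain ⟨Ψ', hΨ', -, -⟩ := exists_inv_isEquivOver hΨ
  obtain ⟨α⟩ := ofPshMap_pshMapOf (BasedFunctor.comp Ψ' (fpFst g' f))
  have hrep1 : AlgSt.RepByAlgSp1
      (Stk.ofPshMap (pshMapOf (BasedFunctor.comp Ψ' (fpFst g' f)))) := by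
    intro U y
    have h1 := hf U (BasedFunctor.comp y g')
    have h2 := repByAlgSp_of_equiv _ (paste_isEquivOver y g' f) h1
    have h3 := repByAlgSp_of_equiv' _ (pasteMidR_isEquivOver y Ψ' (fpFst g' f) hΨ') h2
    exact repByAlgSp_of_equiv' _ (congrRight_isEquivOver y α) h3
  have hrep := repBySp_of_repByAlgSp1 _ hrep1
  have hP : AlgSp.IsAlgSpaceP (Gerb.isoClPsh (fp g' f)) :=
    Groth.Agent.H50.isAlgSpaceP_of_repBySp _ hrep ((AlgSp.isAlgSpaceP_obj_iff Z.obj).2 Z.property)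
  exact repByAlgSp_of_equiv Ψ' hΨ' (repByAlgSp_ofPsh _ hP)

/-- bootstrap: the base change of a morphism representable by algebraic spaces to a category
representable by an algebraic space is representable by an algebraic space. -/
theorem repByAlgSp_fp {𝒵 : AlgSt.Cat S} (h𝒳 : IsFibGrpd 𝒳.p) (h𝒴 : IsFibGrpd 𝒴.p)
    (f : 𝒳 ⥤ᵇ 𝒴) (g : 𝒵 ⥤ᵇ 𝒴) (hf : AlgSt.RepByAlgSp1 f) (hZ : AlgSt.RepByAlgSp 𝒵) :
    AlgSt.RepByAlgSp (fp g f) := by
  obtain ⟨Z, eZ, heZ⟩ := hZ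
  have h1 := repByAlgSp_fp_ofSp h𝒳 h𝒴 Z (BasedFunctor.comp eZ g) f hf
  exact repByAlgSp_of_equiv _ (pasteMid_isEquivOver eZ g f heZ) h1

end Groth.Agent.H32.SpBoot
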