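import Groth.Agent.H32.Prod
import Groth.Agent.H32.SpComp
import Groth.Agent.S12765
import Groth.Agent.S12782
import Groth.Agent.H84.StackEquiv

/-!
# Invariance of algebraic stacks under equivalence (helper32)
-/

set_option autoImplicit false
open CategoryTheory CategoryTheory.Limits AlgebraicGeometry Opposite
universe u

namespace Groth.Agent.H32.AlgStackEquiv

open FibCat Stk Groth.Agent.H32.FibProd Groth.Agent.H32.Fp2 Groth.Agent.H32.Fp3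
  Groth.Agent.H32.Fp4 Groth.Agent.H32.SpBridge

variable {S : Scheme.{u}}

theorem repByAlgSp1_iff_top {𝒳 𝒴 : AlgSt.Cat S} (f : 𝒳 ⥤ᵇ 𝒴) :
    AlgSt.RepByAlgSp1 f ↔ AlgSt.RepByAlgSpWith (⊤ : MorphismProperty (AlgSp.Sp S)) f := by
  constructor
  · intro h U y
    obtain ⟨F, e, he⟩ := h U y
    exact ⟨F, e, he, trivial⟩
  · intro h U y
    obtain ⟨F, e, he, -⟩ := h U y
    exact ⟨F, e, he⟩

theorem repByAlgSp1_of_with {P : MorphismProperty (AlgSp.Sp S)} {𝒳 𝒴 : AlgSt.Cat S} {f : 𝒳 ⥤ᵇ 𝒴}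
    (h : AlgSt.RepByAlgSpWith P f) : AlgSt.RepByAlgSp1 f := by
  intro U y
  obtain ⟨F, e, he, -⟩ := h U y
  exact ⟨F, e, he⟩

/-- transport of `RepByAlgSpWith P` for functors from a slice category along an equivalence of
the target. -/
theorem repByAlgSpWith_comp_equiv (P : MorphismProperty (AlgSp.Sp S)) {𝒳 𝒴 : AlgSt.Cat S}
    (h𝒳 : IsFibGrpd 𝒳.p) (h𝒴 : IsFibGrpd 𝒴.p) (e : 𝒳 ⥤ᵇ 𝒴) (he : IsEquivOver e) (U : Over S)
    (x : FibCat.overCat U ⥤ᵇ 𝒳) :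
    AlgSt.RepByAlgSpWith P (BasedFunctor.comp x e) ↔ AlgSt.RepByAlgSpWith P x :=
  Groth.Agent.S12782.result (Groth.Agent.S6411.over_isFibGrpd U) h𝒴
    (Groth.Agent.S6411.over_isFibGrpd U) h𝒳 P (BasedFunctor.comp x e) x (BasedFunctor.id _) e
    (isEquivOver_id _) he (Iso.refl _)

theorem hasAtlas_of_equiv (P : MorphismProperty (AlgSp.Sp S)) {𝒳 𝒴 : AlgSt.Cat S}
    (h𝒳 : IsFibGrpd 𝒳.p) (h𝒴 : IsFibGrpd 𝒴.p) (e : 𝒳 ⥤ᵇ 𝒴) (he : IsEquivOver e)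
    (h : AlgSt.HasAtlas P 𝒳) : AlgSt.HasAtlas P 𝒴 := by
  obtain ⟨U, x, h1, h2⟩ := h
  exact ⟨U, BasedFunctor.comp x e, (repByAlgSpWith_comp_equiv P h𝒳 h𝒴 e he U x).mpr h1,
    (repByAlgSpWith_comp_equiv _ h𝒳 h𝒴 e he U x).mpr h2⟩

theorem diag_of_equiv {𝒳 𝒴 : AlgSt.Cat S} (h𝒳 : IsFibGrpd 𝒳.p) (h𝒴 : IsFibGrpd 𝒴.p)
    (e : 𝒳 ⥤ᵇ 𝒴) (he : IsEquivOver e)
    (h : AlgSt.RepByAlgSp1 (FibCat.diag (FibCat.toSelf 𝒳))) :
    AlgSt.RepByAlgSp1 (FibCat.diag (FibCat.toSelf 𝒴)) := by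
  rw [Groth.Agent.S12765.result h𝒴]
  rw [Groth.Agent.S12765.result h𝒳] at h
  intro U y
  obtain ⟨x, ⟨β⟩⟩ := exists_factor_iso he y
  have h1 : AlgSt.RepByAlgSpWith (⊤ : MorphismProperty (AlgSp.Sp S)) x :=
    (repByAlgSp1_iff_top x).mp (h U x)
  have h2 := (repByAlgSpWith_comp_equiv _ h𝒳 h𝒴 e he U x).mpr h1
  have h3 : AlgSt.RepByAlgSpWith (⊤ : MorphismProperty (AlgSp.Sp S)) y :=
    (Groth.Agent.S12782.result (Groth.Agent.S6411.over_isFibGrpd U) h𝒴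
      (Groth.Agent.S6411.over_isFibGrpd U) h𝒴 _ y (BasedFunctor.comp x e) (BasedFunctor.id _)
      (BasedFunctor.id _) (isEquivOver_id _) (isEquivOver_id _) β).mpr h2
  exact repByAlgSp1_of_with h3

theorem isAlgStack_of_equiv {𝒳 𝒴 : AlgSt.Cat S} (e : 𝒳 ⥤ᵇ 𝒴) (he : IsEquivOver e)
    (h : AlgSt.IsAlgStack Scheme.fppfPrecoverage 𝒳) :
    AlgSt.IsAlgStack Scheme.fppfPrecoverage 𝒴 := by
  have hs := Groth.Agent.H84.isStack_of_isEquivOver _ e he h.isStack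
  exact ⟨hs, diag_of_equiv h.isStack.1 hs.1 e he h.diag,
    hasAtlas_of_equiv _ h.isStack.1 hs.1 e he h.atlas⟩

end Groth.Agent.H32.AlgStackEquiv
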