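import Groth.Prelude.Def_AlgSt
import Groth.Agent.H32.Repr

/-!
# Restriction of functors over `C` into a 2-fibre product (helper32)

For `ι : 𝒜 ⥤ᵇ ℬ`, if restriction along `ι` is an equivalence for `𝒳` and `𝒴` and fully faithful for
`𝒮`, it is an equivalence for `fp F G`.
-/

set_option autoImplicit false
open CategoryTheory
universe v₆ u₆ v₅ u₅ v₄ u₄ v₃ u₃ v₂ u₂ v u

namespace Groth.Agent.H32.StkFp

open FibCat Groth.Agent.H32.FibProd

variable {C : Type u} [Category.{v} C]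

section post
variable {𝒜 : BasedCategory.{v₅, u₅} C} {𝒳 : BasedCategory.{v₂, u₂} C}
  {𝒮 : BasedCategory.{v₄, u₄} C}

/-- postcomposition with a functor over `C`. -/
def post (F : 𝒳 ⥤ᵇ 𝒮) : (𝒜 ⥤ᵇ 𝒳) ⥤ (𝒜 ⥤ᵇ 𝒮) where
  obj H := BasedFunctor.comp H F
  map α := BasedCategory.whiskerRight α F
  map_id H := by
    apply BasedNatTrans.homCategory.ext
    ext a
    exact F.toFunctor.map_id _
  map_comp α β := by
    apply BasedNatTrans.homCategory.ext
    ext a
    exact F.toFunctor.map_comp _ _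

end post

theorem aux_cancel {D : Type*} [Category D] {A B E E' : D} (p : A ⟶ B) (q : B ⟶ E) (r : E ⟶ E')
    (s : E' ⟶ E) (h : r ≫ s = 𝟙 E) (X : A ⟶ E') (hX : X = p ≫ q ≫ r) : p ≫ q = X ≫ s := by
  subst hX
  simp [h]

section main
variable {𝒜 : BasedCategory.{v₅, u₅} C} {ℬ : BasedCategory.{v₆, u₆} C} (ι : 𝒜 ⥤ᵇ ℬ)
variable {𝒳 : BasedCategory.{v₂, u₂} C} {𝒴 : BasedCategory.{v₃, u₃} C}
  {𝒮 : BasedCategory.{v₄, u₄} C} (F : 𝒳 ⥤ᵇ 𝒮) (G : 𝒴 ⥤ᵇ 𝒮)

theorem restr_fp_faithful (h1 : (Stk.restr ι 𝒳).Faithful) (h2 : (Stk.restr ι 𝒴).Faithful) :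
    (Stk.restr ι (fp F G)).Faithful := by
  refine ⟨fun {H H'} α β hαβ => ?_⟩
  have e1 : BasedCategory.whiskerRight α (fpFst F G) =
      BasedCategory.whiskerRight β (fpFst F G) := by
    apply (Stk.restr ι 𝒳).map_injective
    apply BasedNatTrans.homCategory.ext
    ext a
    exact congrArg (fun γ => (γ.toNatTrans.app a).hom.fst) hαβ
  have e2 : BasedCategory.whiskerRight α (fpSnd F G) =
      BasedCategory.whiskerRight β (fpSnd F G) := by
    apply (Stk.restr ι 𝒴).map_injective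
    apply BasedNatTrans.homCategory.ext
    ext a
    exact congrArg (fun γ => (γ.toNatTrans.app a).hom.snd) hαβ
  apply BasedNatTrans.homCategory.ext
  refine NatTrans.ext (funext fun b => ?_)
  apply fp_hom_ext
  · exact congrArg (fun γ => γ.toNatTrans.app b) e1
  · exact congrArg (fun γ => γ.toNatTrans.app b) e2

theorem restr_fp_full (h1 : (Stk.restr ι 𝒳).Full) (h2 : (Stk.restr ι 𝒴).Full)
    (h3 : (Stk.restr ι 𝒮).Faithful) : (Stk.restr ι (fp F G)).Full := by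
  refine ⟨fun {H H'} γ => ?_⟩
  let γ₁ : (Stk.restr ι 𝒳).obj (BasedFunctor.comp H (fpFst F G)) ⟶
      (Stk.restr ι 𝒳).obj (BasedFunctor.comp H' (fpFst F G)) :=
    BasedCategory.whiskerRight γ (fpFst F G)
  let γ₂ : (Stk.restr ι 𝒴).obj (BasedFunctor.comp H (fpSnd F G)) ⟶
      (Stk.restr ι 𝒴).obj (BasedFunctor.comp H' (fpSnd F G)) :=
    BasedCategory.whiskerRight γ (fpSnd F G)
  obtain ⟨α₁, hα₁⟩ := (Stk.restr ι 𝒳).map_surjective γ₁
  obtain ⟨α₂, hα₂⟩ := (Stk.restr ι 𝒴).map_surjective γ₂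
  have hα₁' : ∀ a, α₁.toNatTrans.app (ι.obj a) = (γ.toNatTrans.app a).hom.fst := fun a =>
    congrArg (fun δ => δ.toNatTrans.app a) hα₁
  have hα₂' : ∀ a, α₂.toNatTrans.app (ι.obj a) = (γ.toNatTrans.app a).hom.snd := fun a =>
    congrArg (fun δ => δ.toNatTrans.app a) hα₂
  let L : BasedFunctor.comp H (BasedFunctor.comp (fpFst F G) F) ⟶
      BasedFunctor.comp H' (BasedFunctor.comp (fpSnd F G) G) :=
    (show BasedFunctor.comp H (BasedFunctor.comp (fpFst F G) F) ⟶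
        BasedFunctor.comp H' (BasedFunctor.comp (fpFst F G) F) from
      BasedCategory.whiskerRight α₁ F) ≫ BasedCategory.whiskerLeft H' (fpIso F G).hom
  let Rr : BasedFunctor.comp H (BasedFunctor.comp (fpFst F G) F) ⟶
      BasedFunctor.comp H' (BasedFunctor.comp (fpSnd F G) G) :=
    BasedCategory.whiskerLeft H (fpIso F G).hom ≫
      (show BasedFunctor.comp H (BasedFunctor.comp (fpSnd F G) G) ⟶
        BasedFunctor.comp H' (BasedFunctor.comp (fpSnd F G) G) from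
      BasedCategory.whiskerRight α₂ G)
  have hLR : L = Rr := by
    apply (Stk.restr ι 𝒮).map_injective
    apply BasedNatTrans.homCategory.ext
    ext a
    change F.map (α₁.toNatTrans.app (ι.obj a)) ≫ (H'.obj (ι.obj a)).obj.iso.hom =
      (H.obj (ι.obj a)).obj.iso.hom ≫ G.map (α₂.toNatTrans.app (ι.obj a))
    rw [hα₁', hα₂']
    exact (γ.toNatTrans.app a).hom.w
  have w : ∀ b, F.map (α₁.toNatTrans.app b) ≫ (H'.obj b).obj.iso.hom =
      (H.obj b).obj.iso.hom ≫ G.map (α₂.toNatTrans.app b) := fun b =>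
    congrArg (fun δ => δ.toNatTrans.app b) hLR
  refine ⟨{ app := fun b => mkHom F G (α₁.toNatTrans.app b) (α₂.toNatTrans.app b) (w b)
            naturality := fun b b' k => fp_hom_ext F G (α₁.toNatTrans.naturality k)
              (α₂.toNatTrans.naturality k)
            isHomLift' := fun b => (fp_isHomLift_iff F G _ _).mpr (α₁.isHomLift' b) }, ?_⟩
  apply BasedNatTrans.homCategory.ext
  refine NatTrans.ext (funext fun a => ?_)
  apply fp_hom_ext
  · exact hα₁' a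
  · exact hα₂' a

theorem restr_fp_essSurj (hP : IsFibGrpd (fp F G).p) (h1 : (Stk.restr ι 𝒳).EssSurj)
    (h2 : (Stk.restr ι 𝒴).EssSurj) (h3 : (Stk.restr ι 𝒮).Full)
    (h4 : (Stk.restr ι 𝒮).Faithful) : (Stk.restr ι (fp F G)).EssSurj := by
  refine ⟨fun K => ?_⟩
  obtain ⟨H₁, ⟨e₁⟩⟩ := h1.mem_essImage (BasedFunctor.comp K (fpFst F G))
  obtain ⟨H₂, ⟨e₂⟩⟩ := h2.mem_essImage (BasedFunctor.comp K (fpSnd F G))
  let κ : (Stk.restr ι 𝒮).obj (BasedFunctor.comp H₁ F) ≅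
      (Stk.restr ι 𝒮).obj (BasedFunctor.comp H₂ G) :=
    (show (Stk.restr ι 𝒮).obj (BasedFunctor.comp H₁ F) ≅
        BasedFunctor.comp K (BasedFunctor.comp (fpFst F G) F) from (post F).mapIso e₁) ≪≫
    (Stk.restr K 𝒮).mapIso (fpIso F G) ≪≫
    (show BasedFunctor.comp K (BasedFunctor.comp (fpSnd F G) G) ≅
        (Stk.restr ι 𝒮).obj (BasedFunctor.comp H₂ G) from ((post G).mapIso e₂).symm)
  let τ : BasedFunctor.comp H₁ F ≅ BasedFunctor.comp H₂ G := (Stk.restr ι 𝒮).preimageIso κ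
  have hτ : (Stk.restr ι 𝒮).map τ.hom = κ.hom := (Stk.restr ι 𝒮).map_preimage κ.hom
  let H : ℬ ⥤ᵇ fp F G := fpLift H₁ H₂ τ
  have hiso : ∀ a, (H.obj (ι.obj a)).obj.iso.hom =
      F.map (e₁.hom.toNatTrans.app a) ≫ (K.obj a).obj.iso.hom ≫
        G.map (e₂.inv.toNatTrans.app a) := fun a =>
    congrArg (fun δ => δ.toNatTrans.app a) hτ
  have hinv : ∀ a, e₂.inv.toNatTrans.app a ≫ e₂.hom.toNatTrans.app a = 𝟙 _ := fun a =>
    congrArg (fun δ => δ.toNatTrans.app a) e₂.inv_hom_id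
  have w : ∀ a, F.map (e₁.hom.toNatTrans.app a) ≫ (K.obj a).obj.iso.hom =
      (H.obj (ι.obj a)).obj.iso.hom ≫ G.map (e₂.hom.toNatTrans.app a) := by
    intro a
    have hG : G.toFunctor.map (e₂.inv.toNatTrans.app a) ≫
        G.toFunctor.map (e₂.hom.toNatTrans.app a) = 𝟙 _ := by
      rw [← G.toFunctor.map_comp, hinv a, G.toFunctor.map_id]
    exact aux_cancel _ _ _ _ hG _ (hiso a)
  let ε : (Stk.restr ι (fp F G)).obj H ⟶ K :=
    { app := fun a => mkHom F G (e₁.hom.toNatTrans.app a) (e₂.hom.toNatTrans.app a) (w a)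
      naturality := fun a a' k => fp_hom_ext F G (e₁.hom.toNatTrans.naturality k)
        (e₂.hom.toNatTrans.naturality k)
      isHomLift' := fun a => (fp_isHomLift_iff F G _ _).mpr (e₁.hom.isHomLift' a) }
  have hiso_app : ∀ a, IsIso (ε.toNatTrans.app a) := fun a => by
    have hl : (fp F G).p.IsHomLift (𝟙 (𝒜.p.obj a)) (ε.toNatTrans.app a) := ε.isHomLift' a
    exact isIso_of_isFibGrpd (fp F G).p hP (𝟙 (𝒜.p.obj a)) (ε.toNatTrans.app a)
  have h5 : IsIso (X := ((Stk.restr ι (fp F G)).obj H).toFunctor) ε.toNatTrans :=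
    NatIso.isIso_of_isIso_app _
  have h6 : IsIso ε := BasedNatIso.isIso_of_toNatTrans_isIso ε
  exact ⟨H, ⟨asIso ε⟩⟩

theorem restr_fp_isEquivalence (hP : IsFibGrpd (fp F G).p)
    (h1 : (Stk.restr ι 𝒳).IsEquivalence) (h2 : (Stk.restr ι 𝒴).IsEquivalence)
    (h3 : (Stk.restr ι 𝒮).Full) (h4 : (Stk.restr ι 𝒮).Faithful) :
    (Stk.restr ι (fp F G)).IsEquivalence :=
  { faithful := restr_fp_faithful ι F G h1.faithful h2.faithful
    full := restr_fp_full ι F G h1.full h2.full h4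
    essSurj := restr_fp_essSurj ι F G hP h1.essSurj h2.essSurj h3 h4 }

end main

end Groth.Agent.H32.StkFp
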