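import Groth.Agent.H32.CompMap
import Groth.Agent.S12792

/-!
# Products and 2-fibre products of algebraic stacks (helper32)
-/

set_option autoImplicit false
open CategoryTheory CategoryTheory.Limits AlgebraicGeometry Opposite
universe u

namespace Groth.Agent.H32.AlgStackFp

open FibCat Stk Groth.Agent.H32.FibProd Groth.Agent.H32.Fp2 Groth.Agent.H32.Fp3
  Groth.Agent.H32.Fp4 Groth.Agent.H32.SpBridge Groth.Agent.H32.PFacts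
  Groth.Agent.H32.AlgStackEquiv Groth.Agent.H32.AtlasRep Groth.Agent.H32.SpComp
  Groth.Agent.H32.StackOps Groth.Agent.H32.Magic Groth.Agent.H32.Sect Groth.Agent.H32.Repr
  Groth.Agent.H32.SectSt Groth.Agent.H32.DiagRep Groth.Agent.H32.GoodMore
  Groth.Agent.H32.AtlasCover Groth.Agent.H32.DiagApps Groth.Agent.H32.DiagDescent
  Groth.Agent.H32.Prod Groth.Agent.H32.Cover Groth.Agent.H32.CompMap

variable {S : Scheme.{u}}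

section prodF2
variable {𝒳₁ 𝒳₂ 𝒴₁ 𝒴₂ 𝒵 : AlgSt.Cat S} (f₁ : 𝒳₁ ⥤ᵇ 𝒴₁) (f₂ : 𝒳₂ ⥤ᵇ 𝒴₂) (s₁ : 𝒴₁ ⥤ᵇ 𝒵)
  (s₂ : 𝒴₂ ⥤ᵇ 𝒵)

/-- the product `f₁ × f₂ : 𝒳₁ ×_𝒵 𝒳₂ ⟶ 𝒴₁ ×_𝒵 𝒴₂`. -/
def prodF2 : fp (BasedFunctor.comp f₁ s₁) (BasedFunctor.comp f₂ s₂) ⥤ᵇ fp s₁ s₂ :=
  fpLift (F := s₁) (G := s₂) (BasedFunctor.comp (fpFst _ _) f₁) (BasedFunctor.comp (fpSnd _ _) f₂)
    (fpIso (BasedFunctor.comp f₁ s₁) (BasedFunctor.comp f₂ s₂))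

def prodF2Iso : prodF2 f₁ f₂ s₁ s₂ ≅
    BasedFunctor.comp (pasteMidR (BasedFunctor.comp f₁ s₁) f₂ s₂) (pasteMid f₁ s₁ s₂) :=
  fpIsoMk _ _ (fun _ => Iso.refl _) (fun _ => Iso.refl _)
    (fun t => isHomLift_id_of_eq 𝒴₁.p (f₁.w_obj t.obj.fst) _ (IsHomLift.id rfl))
    (fun _ => sq_id_aux2 _ _ _ _ (s₁.toFunctor.map_id _) (s₂.toFunctor.map_id _) rfl)
    (fun _ => id_nat_aux _ _ rfl) (fun _ => id_nat_aux _ _ rfl)

theorem with_prodF2 {P : MorphismProperty (AlgSp.Sp S)} (hG : Good P)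
    (h𝒳₁ : IsFibGrpd 𝒳₁.p) (h𝒳₂ : IsFibGrpd 𝒳₂.p) (h𝒴₁ : IsFibGrpd 𝒴₁.p) (h𝒴₂ : IsFibGrpd 𝒴₂.p)
    (h𝒵 : IsFibGrpd 𝒵.p) (h₁ : AlgSt.RepByAlgSpWith P f₁) (h₂ : AlgSt.RepByAlgSpWith P f₂) :
    AlgSt.RepByAlgSpWith P (prodF2 f₁ f₂ s₁ s₂) := by
  have i1 : IsFibGrpd (fp (BasedFunctor.comp f₁ s₁) (BasedFunctor.comp f₂ s₂)).p :=
    fp_isFibGrpd _ _ h𝒳₁ h𝒳₂ h𝒵
  have i2 : IsFibGrpd (fp (BasedFunctor.comp f₁ s₁) s₂).p := fp_isFibGrpd _ _ h𝒳₁ h𝒴₂ h𝒵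
  have i3 : IsFibGrpd (fp s₁ s₂).p := fp_isFibGrpd _ _ h𝒴₁ h𝒴₂ h𝒵
  have hA : AlgSt.RepByAlgSpWith P (pasteMidR (BasedFunctor.comp f₁ s₁) f₂ s₂) :=
    with_pasteMidR P h𝒳₁ h𝒴₂ h𝒵 h𝒳₂ _ f₂ s₂ h₂
  have hB : AlgSt.RepByAlgSpWith P (pasteMid f₁ s₁ s₂) := with_pasteMid P h𝒳₁ h𝒴₁ h𝒵 h𝒴₂ f₁ s₁ s₂ h₁
  exact with_of_iso P i1 i3 (prodF2Iso f₁ f₂ s₁ s₂) (with_comp hG i1 i2 i3 _ _ hA hB)

end prodF2

theorem isStack_selfOver :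
    Stk.IsStack (QuotSh.J Scheme.fppfPrecoverage S) (FibCat.selfOver (Over S)) := by
  have hst : Stk.IsStack (QuotSh.J Scheme.fppfPrecoverage S) (AlgSt.ofSch (T₀ S)) :=
    Groth.Agent.H32.PshStack.isStack_of_isSheaf _
      ((isSheaf_iff_isSheaf_of_type _ _).mp ((AlgSp.yon S).obj (T₀ S)).property)
  have h2 := Groth.Agent.H84.isStack_of_isEquivOver _ _ (toOverCat_isEquivOver (T₀ S)) hst
  exact Groth.Agent.H84.isStack_of_isEquivOver _ _ toSelf_T₀_isEquivOver h2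

theorem exists_prod_equiv (U V : Over S) (t₁ : FibCat.overCat U ⥤ᵇ FibCat.selfOver (Over S))
    (t₂ : FibCat.overCat V ⥤ᵇ FibCat.selfOver (Over S)) :
    ∃ E : FibCat.overCat (U ⨯ V) ⥤ᵇ fp t₁ t₂, IsEquivOver E := by
  rw [eq_toSelf t₁, eq_toSelf t₂]
  exact ⟨prodFunctor U V, prodFunctor_isEquivOver U V⟩

theorem isPrestack_of_isStack {J : GrothendieckTopology (Over S)} {𝒳 : AlgSt.Cat S}
    (h : Stk.IsStack J 𝒳) : Stk.IsPrestack J 𝒳 :=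
  ⟨h.1, fun _ R hR => ⟨(h.2 R hR).full, (h.2 R hR).faithful⟩⟩

/-- the product of two algebraic stacks is an algebraic stack. -/
theorem isAlgStack_prod {𝒳 𝒴 : AlgSt.Cat S} (h𝒳 : AlgSt.IsAlgStack Scheme.fppfPrecoverage 𝒳)
    (h𝒴 : AlgSt.IsAlgStack Scheme.fppfPrecoverage 𝒴) :
    AlgSt.IsAlgStack Scheme.fppfPrecoverage (FibCat.fp (FibCat.toSelf 𝒳) (FibCat.toSelf 𝒴)) := by
  have hself : IsFibGrpd (FibCat.selfOver (Over S)).p := self_isFibGrpd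
  have iX := h𝒳.isStack.1
  have iY := h𝒴.isStack.1
  have iP : IsFibGrpd (fp (FibCat.toSelf 𝒳) (FibCat.toSelf 𝒴)).p := fp_isFibGrpd _ _ iX iY hself
  refine ⟨Groth.Agent.S12792.result _ _ _ h𝒳.isStack h𝒴.isStack
    (isPrestack_of_isStack isStack_selfOver), ?_, ?_⟩
  · -- diagonal
    have h1 : AlgSt.RepByAlgSpWith (⊤ : MorphismProperty (AlgSp.Sp S))
        (FibCat.diag (fpFst (FibCat.toSelf 𝒳) (FibCat.toSelf 𝒴))) :=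
      with_diag_fpFst _ iY hself iX _ _ ((repByAlgSp1_iff_top _).mp h𝒴.diag)
    have h2 : AlgSt.RepByAlgSpWith (⊤ : MorphismProperty (AlgSp.Sp S))
        (FibCat.diag (BasedFunctor.comp (fpFst (FibCat.toSelf 𝒳) (FibCat.toSelf 𝒴))
          (FibCat.toSelf 𝒳))) :=
      with_diag_comp good_top iP iX hself _ _ h1 ((repByAlgSp1_iff_top _).mp h𝒳.diag)
    rw [eq_toSelf (BasedFunctor.comp (fpFst (FibCat.toSelf 𝒳) (FibCat.toSelf 𝒴))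
      (FibCat.toSelf 𝒳))] at h2
    exact (repByAlgSp1_iff_top _).mpr h2
  · -- atlas
    obtain ⟨U, x, hx1, hx2⟩ := h𝒳.atlas
    obtain ⟨V, y, hy1, hy2⟩ := h𝒴.atlas
    obtain ⟨E, hE⟩ := exists_prod_equiv U V (BasedFunctor.comp x (FibCat.toSelf 𝒳))
      (BasedFunctor.comp y (FibCat.toSelf 𝒴))
    have iU := Groth.Agent.S6411.over_isFibGrpd U
    have iV := Groth.Agent.S6411.over_isFibGrpd V
    have i1 : IsFibGrpd (fp (BasedFunctor.comp x (FibCat.toSelf 𝒳))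
        (BasedFunctor.comp y (FibCat.toSelf 𝒴))).p := fp_isFibGrpd _ _ iU iV hself
    refine ⟨U ⨯ V, BasedFunctor.comp E (prodF2 x y (FibCat.toSelf 𝒳) (FibCat.toSelf 𝒴)), ?_, ?_⟩
    · exact with_precomp_equiv _ (Groth.Agent.S6411.over_isFibGrpd _) i1 iP E hE _
        (with_prodF2 x y _ _ good_smooth iU iV iX iY hself hx1 hy1)
    · exact with_precomp_equiv _ (Groth.Agent.S6411.over_isFibGrpd _) i1 iP E hE _
        (with_prodF2 x y _ _ good_surjective iU iV iX iY hself hx2 hy2)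

/-- the 2-fibre product of two algebraic stacks over a stack with representable diagonal is an
algebraic stack. -/
theorem isAlgStack_fp {𝒳 𝒴 𝒵 : AlgSt.Cat S}
    (h𝒵 : IsFibGrpd 𝒵.p) (hΔ : AlgSt.RepByAlgSp1 (FibCat.diag (FibCat.toSelf 𝒵)))
    (h𝒳 : AlgSt.IsAlgStack Scheme.fppfPrecoverage 𝒳) (h𝒴 : AlgSt.IsAlgStack Scheme.fppfPrecoverage 𝒴)
    (f : 𝒳 ⥤ᵇ 𝒵) (g : 𝒴 ⥤ᵇ 𝒵) :
    AlgSt.IsAlgStack Scheme.fppfPrecoverage (FibCat.fp f g) := by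
  have hself : IsFibGrpd (FibCat.selfOver (Over S)).p := self_isFibGrpd
  have iX := h𝒳.isStack.1
  have iY := h𝒴.isStack.1
  have hP : AlgSt.IsAlgStack Scheme.fppfPrecoverage
      (fp (BasedFunctor.comp f (FibCat.toSelf 𝒵)) (BasedFunctor.comp g (FibCat.toSelf 𝒵))) := by
    rw [eq_toSelf (BasedFunctor.comp f (FibCat.toSelf 𝒵)),
      eq_toSelf (BasedFunctor.comp g (FibCat.toSelf 𝒵))]
    exact isAlgStack_prod h𝒳 h𝒴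
  have hj : AlgSt.RepByAlgSp1 (fpLift (F := BasedFunctor.comp f (FibCat.toSelf 𝒵))
      (G := BasedFunctor.comp g (FibCat.toSelf 𝒵)) (fpFst f g) (fpSnd f g)
      (whiskerR (fpIso f g) (FibCat.toSelf 𝒵))) :=
    (repByAlgSp1_iff_top _).mpr (with_compMap f g (FibCat.toSelf 𝒵) _ (fun _ => rfl) _ iX iY h𝒵 hself
      ((repByAlgSp1_iff_top _).mp hΔ))
  exact isAlgStack_of_repByAlgSp1 (fp_isFibGrpd _ _ iX iY h𝒵) hP _ hj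

end Groth.Agent.H32.AlgStackFp
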