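import Groth.Agent.H32.AlgStackEquiv
import Groth.Agent.S12778
import Groth.Agent.H50.Fibre

/-!
# Charts `h_T ⟶ G` representable by schemes as 1-morphisms `(Sch/T) ⟶ ofSp G` (helper32)
-/

set_option autoImplicit false
open CategoryTheory CategoryTheory.Limits AlgebraicGeometry Opposite
universe u

namespace Groth.Agent.H32.AtlasRep

open FibCat Stk Groth.Agent.H32.FibProd Groth.Agent.H32.Fp2 Groth.Agent.H32.Fp3
  Groth.Agent.H32.Fp4 Groth.Agent.H32.SpBridge Groth.Agent.H32.AtlasCover Groth.Agent.H32.SpComp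

variable {S : Scheme.{u}}

/-- a representable surjective morphism to a scheme is surjective on points. -/
theorem isSurjectiveMor_of_repWith_to_yon {F' : AlgSp.Sp S} {U : Over S}
    (snd : F' ⟶ (AlgSp.yon S).obj U) (h : AlgSp.RepWith @Surjective snd) :
    AlgSp.IsSurjectiveMor snd := by
  have hrep : AlgSp.Representable snd := h.rep
  have sq := hrep.isPullback (𝟙 ((AlgSp.yon S).obj U))
  have hi : IsIso (hrep.fst (𝟙 ((AlgSp.yon S).obj U))) := sq.isIso_fst_of_isIso
  have h1 : AlgSp.RepWith @Surjective ((AlgSp.yon S).map (hrep.snd (𝟙 ((AlgSp.yon S).obj U)))) :=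
    Groth.Agent.H50.repWith_snd_of_isPullback sq h
  have h2 := isSurjectiveMor_of_repWith _ h1
  have e : snd = (asIso (hrep.fst (𝟙 ((AlgSp.yon S).obj U)))).symm.hom ≫
      (AlgSp.yon S).map (hrep.snd (𝟙 ((AlgSp.yon S).obj U))) := by
    rw [Iso.symm_hom, asIso_inv, IsIso.eq_inv_comp, sq.w, Category.comp_id]
  rw [e]
  exact isSurjectiveMor_iso_comp _ _ h2

theorem locP_respectsIso (Q : MorphismProperty Scheme.{u}) :
    (AlgSp.LocP (S := S) Q).RespectsIso := by
  refine MorphismProperty.RespectsIso.mk _ (fun e f hf => locP_iso_comp e f hf) ?_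
  intro X Y Z e f hf U V a b k ha hb comm
  refine hf a (b ≫ e.inv) k ha (MorphismProperty.RespectsIso.postcomp _ _ _ hb) ?_
  rw [← Category.assoc, ← comm, Category.assoc, Category.assoc, Iso.hom_inv_id, Category.comp_id]

theorem isSurjectiveMor_respectsIso : (AlgSp.IsSurjectiveMor (S := S)).RespectsIso := by
  refine MorphismProperty.RespectsIso.mk _ (fun e f hf => isSurjectiveMor_iso_comp e f hf) ?_
  intro X Y Z e f hf z
  obtain ⟨x, hx⟩ := hf (AlgSp.Points.map e.inv z)
  refine ⟨x, ?_⟩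
  rw [AlgSp.Points.map_comp, hx, ← AlgSp.Points.map_comp, Iso.inv_hom_id, AlgSp.Points.map_id]

theorem isEtaleMor_respectsIso : (AlgSp.IsEtaleMor (S := S)).RespectsIso := by
  refine MorphismProperty.RespectsIso.mk _ ?_ ?_
  · intro X Y Z e f hf U φ hφ
    rw [← Category.assoc]
    exact hf (φ ≫ e.hom) (MorphismProperty.RespectsIso.postcomp _ _ _ hφ)
  · intro X Y Z e f hf U φ hφ
    rw [← Category.assoc]
    exact MorphismProperty.RespectsIso.postcomp _ _ _ (hf φ hφ)

/-- a chart representable by schemes with `P`, where `P`-morphisms of schemes give `Q`-morphisms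
of algebraic spaces, is representable by algebraic spaces with `Q` as a 1-morphism. -/
theorem repByAlgSpWith_ofPoint (P : MorphismProperty Scheme.{u}) (Q : MorphismProperty (AlgSp.Sp S))
    [Q.RespectsIso]
    (hPQ : ∀ ⦃F' : AlgSp.Sp S⦄ ⦃U : Over S⦄ (snd : F' ⟶ (AlgSp.yon S).obj U),
      AlgSp.RepWith P snd → Q snd)
    {G : AlgSp.Sp S} {T : Over S} (p : (AlgSp.yon S).obj T ⟶ G) (hp : AlgSp.RepWith P p) :
    AlgSt.RepByAlgSpWith Q (ofPoint p.hom) := by
  have h1 : AlgSp.RepBySpWith Q p.hom := by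
    rw [AlgSp.repBySpWith_hom_iff]
    intro U ξ F' fst snd sq
    have h2 : AlgSp.RepWith P snd := Groth.Agent.H50.repWith_snd_of_isPullback sq hp
    exact ⟨Groth.Agent.H50.isAlgSpace_of_representable h2.rep (AlgSp.IsAlgSpace.yon_obj U),
      hPQ snd h2⟩
  have h3 : AlgSt.RepByAlgSpWith Q (Stk.ofPshMap p.hom) :=
    (Groth.Agent.S12778.result Q p.hom h1.repBySp).mp h1
  have i1 : IsFibGrpd (AlgSt.ofSch T).p := inferInstanceAs (IsFibGrpd (EltObj.forget _))
  have i2 : IsFibGrpd (AlgSt.ofSp G).p := inferInstanceAs (IsFibGrpd (EltObj.forget _))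
  exact (Groth.Agent.S12782.result i1 i2 (Groth.Agent.S6411.over_isFibGrpd T) i2 Q
    (Stk.ofPshMap p.hom) (ofPoint p.hom) (AlgSt.ofOverCat T)
    (BasedFunctor.id _) (ofOverCat_isEquivOver T) (isEquivOver_id _) (Iso.refl _)).mp h3

theorem locP_smooth_of_repWith_etale {F' G : AlgSp.Sp S} (snd : F' ⟶ G)
    (h : AlgSp.RepWith @Etale snd) : AlgSp.LocP @Smooth snd := by
  have hle : ∀ ⦃A B : Scheme.{u}⦄ (g : A ⟶ B), Etale g → Smooth g := fun A B g hg => inferInstance
  exact Groth.Agent.H50.locP_of_repWith (P := @Smooth) hle (repWith_mono hle h)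

theorem isEtaleMor_of_repWith_etale {F' G : AlgSp.Sp S} (snd : F' ⟶ G)
    (h : AlgSp.RepWith @Etale snd) : AlgSp.IsEtaleMor snd := by
  intro U φ hφ
  have := AlgSp.repWith_isMultiplicative (S := S) @Etale
  exact (AlgSp.RepWith @Etale).comp_mem φ snd hφ h

/-- an etale surjective chart of an algebraic space gives atlases of its category. -/
theorem hasAtlas_ofSp (F : AlgSp.Space S) :
    AlgSt.HasAtlas (AlgSp.LocP @Smooth) (AlgSt.ofSp F.obj) ∧
      AlgSt.HasAtlas AlgSp.IsEtaleMor (AlgSt.ofSp F.obj) := by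
  obtain ⟨T, p, hp1, hp2⟩ := F.property.atlas
  have i1 := locP_respectsIso (S := S) @Smooth
  have i2 := isSurjectiveMor_respectsIso (S := S)
  have i3 := isEtaleMor_respectsIso (S := S)
  have hs := repByAlgSpWith_ofPoint @Surjective AlgSp.IsSurjectiveMor
    (fun F' U snd h => isSurjectiveMor_of_repWith_to_yon snd h) p hp2
  exact ⟨⟨T, ofPoint p.hom, repByAlgSpWith_ofPoint @Etale (AlgSp.LocP @Smooth)
      (fun F' U snd h => locP_smooth_of_repWith_etale snd h) p hp1, hs⟩,
    ⟨T, ofPoint p.hom, repByAlgSpWith_ofPoint @Etale AlgSp.IsEtaleMor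
      (fun F' U snd h => isEtaleMor_of_repWith_etale snd h) p hp1, hs⟩⟩

theorem isAlgStack_ofSp (F : AlgSp.Space S) :
    AlgSt.IsAlgStack Scheme.fppfPrecoverage (AlgSt.ofSp F.obj) := by
  have i2 : IsFibGrpd (AlgSt.ofSp F.obj).p := inferInstanceAs (IsFibGrpd (EltObj.forget _))
  refine ⟨?_, ?_, (hasAtlas_ofSp F).1⟩
  · exact Groth.Agent.H32.PshStack.isStack_of_isSheaf _
      ((isSheaf_iff_isSheaf_of_type _ _).mp F.obj.property)
  · rw [Groth.Agent.S12765.result i2]
    intro U x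
    exact repByAlgSp1_of_repByAlgSp (Groth.Agent.H32.Prod.repByAlgSp_overCat U)
      ⟨F, BasedFunctor.id _, isEquivOver_id _⟩ x

theorem isDM_ofSp (F : AlgSp.Space S) : AlgSt.IsDM Scheme.fppfPrecoverage (AlgSt.ofSp F.obj) :=
  ⟨isAlgStack_ofSp F, (hasAtlas_ofSp F).2⟩

end Groth.Agent.H32.AtlasRep
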