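import Groth.Agent.H51.EtaleMono
import Groth.Agent.H52.FibProd
import Groth.Agent.H52.Topology
import Groth.Agent.H50.Points
import Groth.Prelude.Def_AlgSpCov
import Groth.Prelude.Def_AlgSpEt

/-!
# The small etale site of an algebraic space inside its big etale site (helper32)
-/

set_option autoImplicit false
universe u
open CategoryTheory CategoryTheory.Limits AlgebraicGeometry Opposite

namespace Groth.Agent.H32.BigEt

open AlgSp

variable {S : Scheme.{u}}

/-- a sieve on an algebraic space is refined, over every scheme mapping to it and around every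
point of that scheme, by an etale morphism of schemes. -/
def Refines {T : Space S} (R : Sieve T) : Prop :=
  ∀ (U : Over S) (e : (AlgSp.ofScheme S).obj U ⟶ T) (u : ↥U.left),
    ∃ (V : Over S) (g : V ⟶ U), Etale g.left ∧ u ∈ Set.range g.left ∧
      R.arrows ((AlgSp.ofScheme S).map g ≫ e)

theorem refines_of_mem_spacesPre {T : Space S} (R₀ : Presieve T)
    (hR₀ : R₀ ∈ spacesPre S IsEtaleMor T) : Refines (Sieve.generate R₀) := by
  intro U e u
  obtain ⟨hP, hx⟩ := hR₀
  obtain ⟨Y, g, hg, y, hy⟩ := hx (Points.map e.hom (Points.ofScheme U u))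
  have sq := IsPullback.of_hasPullback g.hom e.hom
  have hU : IsAlgSpace ((yon S).obj U) := IsAlgSpace.yon_obj U
  have hPalg : IsAlgSpace (pullback g.hom e.hom) :=
    Groth.Agent.H52.isAlgSpace_of_isPullback sq T.property.diag Y.property hU
  have hsnd : IsEtaleMor (pullback.snd g.hom e.hom) :=
    Groth.Agent.H51.isEtaleMor_snd_of_isPullback Y.property T.property hU hPalg sq (hP g hg)
  obtain ⟨z, hz1, hz2⟩ := Groth.Agent.H50.exists_point_of_isPullback sq y (Points.ofScheme U u) hy
  obtain ⟨W, a, ha, hs⟩ := hPalg.atlas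
  obtain ⟨w, rfl⟩ := Groth.Agent.H52.surjective_ofPt_of_surjective a hs z
  have hb : RepWith @Etale (a ≫ pullback.snd g.hom e.hom) := hsnd a ha
  obtain ⟨g', hg'⟩ := (yon S).map_surjective (a ≫ pullback.snd g.hom e.hom)
  have hb' : RepWith @Etale ((yon S).map g') := by rw [hg']; exact hb
  have hg'et : Etale g'.left := (repWith_yon_map_iff _ _).1 hb'
  refine ⟨W, g', hg'et, ⟨w, ?_⟩, ?_⟩
  · have h1 : Points.ofPt ((yon S).map g') w = Points.ofScheme U u := by
      rw [hg', ← Points.map_ofPt]
      exact hz2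
    have h2 := Points.toScheme_ofPt g' w
    rw [h1, Points.toScheme_ofScheme] at h2
    exact h2.symm
  · refine ⟨Y, (ObjectProperty.homMk (a ≫ pullback.fst g.hom e.hom) :
      (AlgSp.ofScheme S).obj W ⟶ Y), g, hg, ?_⟩
    apply ObjectProperty.hom_ext
    change (a ≫ pullback.fst g.hom e.hom) ≫ g.hom = (yon S).map g' ≫ e.hom
    exact (Category.assoc _ _ _).trans ((congrArg (a ≫ ·) sq.w).trans
      ((Category.assoc _ _ _).symm.trans (congrArg (· ≫ e.hom) hg'.symm)))

theorem refines_of_mem_spacesTop {T : Space S} (R : Sieve T)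
    (hR : R ∈ spacesTop S IsEtaleMor T) : Refines R := by
  change (spacesPre S IsEtaleMor).Saturate T R at hR
  induction hR with
  | of X R₀ hR₀ => exact refines_of_mem_spacesPre R₀ hR₀
  | top X =>
    intro U e u
    exact ⟨U, 𝟙 U, inferInstance, ⟨u, rfl⟩, trivial⟩
  | pullback X R _ Y f ih =>
    intro U e u
    obtain ⟨V, g, hg, hu, hR⟩ := ih U (e ≫ f) u
    refine ⟨V, g, hg, hu, ?_⟩
    change R.arrows (((AlgSp.ofScheme S).map g ≫ e) ≫ f)
    rw [Category.assoc]
    exact hR
  | transitive X R R' _ _ ihR ihR' =>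
    intro U e u
    obtain ⟨V, g, hg, ⟨v, rfl⟩, hgR⟩ := ihR U e u
    obtain ⟨V', g', hg', ⟨v', hv'⟩, hgR'⟩ := ihR' hgR V (𝟙 _) v
    refine ⟨V', g' ≫ g, ?_, ⟨v', ?_⟩, ?_⟩
    · change Etale (g'.left ≫ g.left)
      infer_instance
    · change (g'.left ≫ g.left) v' = g.left v
      rw [Scheme.Hom.comp_apply, hv']
    · have h1 : R'.arrows (((AlgSp.ofScheme S).map g' ≫ 𝟙 _) ≫ (AlgSp.ofScheme S).map g ≫ e) :=
        hgR'
      rw [Category.comp_id, ← Category.assoc, ← Functor.map_comp] at h1
      exact h1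

/-- the functor from the small etale site of `Y` to the big etale site of spaces over `Y`. -/
noncomputable abbrev incl (Y : Space S) : EtOver Y.obj ⥤ Over Y :=
  EtOver.toEtSpOver Y ⋙ ObjectProperty.ι (fun E : Over Y => IsEtaleMor E.hom.hom)

theorem incl_isCocontinuous (Y : Space S) :
    (incl Y).IsCocontinuous (etTop Y.obj) (spacesTopOver IsEtaleMor Y) where
  cover_lift {E} R hR := by
    rw [GrothendieckTopology.mem_over_iff] at hR
    obtain ⟨R', rfl⟩ := (Sieve.overEquiv _).symm.surjective R
    rw [OrderIso.apply_symm_apply] at hR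
    have href := refines_of_mem_spacesTop R' hR
    have key : ∀ u : ↥E.obj.left.left, ∃ (V : EtOver Y.obj) (g : V ⟶ E),
        (Sieve.functorPullback (incl Y) ((Sieve.overEquiv ((incl Y).obj E)).symm R')).arrows g ∧
          u ∈ Set.range g.hom.left.left := by
      intro u
      obtain ⟨V, g, hg, hu, hR'⟩ := href E.obj.left (𝟙 _) u
      let EV : EtOver Y.obj := EtOver.mk ((yon S).map g ≫ E.obj.hom)
        ((repWith_isMultiplicative (S := S) @Etale).comp_mem _ _
          ((repWith_yon_map_iff _ _).2 hg) E.property)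
      let g' : EV ⟶ E := EtOver.homMk g rfl
      refine ⟨EV, g', ?_, hu⟩
      change R'.arrows ((AlgSp.ofScheme S).map g)
      exact cast (congrArg (fun k => R'.arrows k)
        (Category.comp_id ((AlgSp.ofScheme S).map g))) hR'
    choose V g hg hu using key
    refine (etTop Y.obj).superset_covering ?_ (ofArrows_mem_etTop V g (fun u => ⟨u, hu u⟩))
    rw [Sieve.ofArrows, Sieve.generate_le_iff]
    rintro _ _ ⟨u⟩
    exact hg u

end Groth.Agent.H32.BigEt
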