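import Groth.Agent.H32.BigEt
import Mathlib.CategoryTheory.Limits.Constructions.Over.Connected

/-!
# Continuity of the inclusion of the small etale site into the big etale site (helper32)
-/

set_option autoImplicit false
universe u
open CategoryTheory CategoryTheory.Limits AlgebraicGeometry Opposite

namespace Groth.Agent.H32.BigEt

open AlgSp

variable {S : Scheme.{u}}

section Pullbacks

variable {Y : Space S} {E₁ E₂ E₀ : EtOver Y.obj} (g₁ : E₁ ⟶ E₀) (g₂ : E₂ ⟶ E₀)

theorem isPullback_incl :
    IsPullback ((incl Y).map (EtOver.pullbackFst g₁ g₂)) ((incl Y).map (EtOver.pullbackSnd g₁ g₂))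
      ((incl Y).map g₁) ((incl Y).map g₂) := by
  have sqS := (IsPullback.of_hasPullback g₁.hom.left g₂.hom.left).map (yon S)
  have sqSp : IsPullback ((AlgSp.ofScheme S).map (pullback.fst g₁.hom.left g₂.hom.left))
      ((AlgSp.ofScheme S).map (pullback.snd g₁.hom.left g₂.hom.left))
      ((AlgSp.ofScheme S).map g₁.hom.left) ((AlgSp.ofScheme S).map g₂.hom.left) :=
    IsPullback.of_map (ObjectProperty.ι (IsAlgSpace (S := S)))
      (by rw [← Functor.map_comp, ← Functor.map_comp, pullback.condition]) sqS
  refine IsPullback.of_map (Over.forget Y) ?_ sqSp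
  rw [← Functor.map_comp, ← Functor.map_comp, EtOver.pullback_condition]

instance preservesLimit_cospan_incl : PreservesLimit (cospan g₁ g₂) (incl Y) :=
  preservesLimit_of_preserves_limit_cone (EtOver.pullbackIsLimit g₁ g₂)
    ((isLimitMapConePullbackConeEquiv _ _).symm (isPullback_incl g₁ g₂).isLimit)

instance preservesPullbacks_incl : PreservesLimitsOfShape WalkingCospan (incl Y) where
  preservesLimit {K} := preservesLimit_of_iso_diagram _ (diagramIsoCospan K).symm

end Pullbacks

/-- the image in the big site of a covering of the small etale site generates a covering sieve. -/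
theorem generate_map_incl_mem {Y : Space S} {E : EtOver Y.obj} (R : Presieve E)
    (hR : R ∈ etPre Y.obj E) :
    Sieve.generate (R.map (incl Y)) ∈ spacesTopOver IsEtaleMor Y ((incl Y).obj E) := by
  rw [GrothendieckTopology.mem_over_iff]
  obtain ⟨ι, V, g, rfl⟩ := R.exists_eq_ofArrows
  have hsurj := (ofArrows_mem_etPre_iff V g).1 hR
  rw [Presieve.map_ofArrows]
  let R₀ : Presieve ((AlgSp.ofScheme S).obj E.obj.left) :=
    Presieve.ofArrows (fun i => (AlgSp.ofScheme S).obj (V i).obj.left)
      (fun i => (AlgSp.ofScheme S).map (g i).hom.left)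
  have hR₀ : R₀ ∈ spacesPre S IsEtaleMor ((AlgSp.ofScheme S).obj E.obj.left) := by
    refine ⟨?_, ?_⟩
    · rintro _ _ ⟨i⟩
      change IsEtaleMor ((yon S).map (g i).hom.left)
      exact (isEtaleMor_yon_map_iff _).2 (EtOver.etale_left (g i))
    · intro x
      obtain ⟨u, rfl⟩ := (Points.schemeEquiv E.obj.left).surjective x
      obtain ⟨i, v, hv⟩ := hsurj u
      refine ⟨_, (AlgSp.ofScheme S).map (g i).hom.left, ⟨i⟩, Points.ofScheme _ v, ?_⟩
      change Points.map ((yon S).map (g i).hom.left) (Points.ofScheme _ v) = Points.ofScheme _ u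
      rw [Groth.Agent.H52.map_yon_map_ofScheme, hv]
  refine (spacesTop S IsEtaleMor).superset_covering ?_
    (Precoverage.generate_mem_toGrothendieck hR₀)
  rw [Sieve.generate_le_iff]
  rintro _ _ ⟨i⟩
  rw [Sieve.overEquiv_iff]
  refine ⟨(incl _).obj (V i), Over.homMk (𝟙 _) ?_, (incl _).map (g i), ⟨i⟩, ?_⟩
  · exact (Category.id_comp _).trans (Over.w ((incl _).map (g i))).symm
  · apply Over.OverMorphism.ext
    exact Category.id_comp _

theorem incl_isContinuous (Y : Space S) :
    (incl Y).IsContinuous (etTop Y.obj) (spacesTopOver IsEtaleMor Y) where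
  op_comp_isSheaf_of_types := fun ⟨G, H⟩ => by
    rw [isSheaf_iff_isSheaf_of_type] at H
    unfold etTop
    rw [← Precoverage.toGrothendieck_toCoverage, Presieve.isSheaf_coverage]
    intro E R hR
    rw [Presieve.IsSheafFor.comp_iff_of_preservesPairwisePullbacks, Presieve.isSheafFor_iff_generate]
    exact H _ (generate_map_incl_mem R hR)

end Groth.Agent.H32.BigEt
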