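import Groth.Agent.H32.EtStalk2
import Groth.Prelude.Def_AlgSpDec
import Mathlib.CategoryTheory.Sites.Point.Skyscraper
import Mathlib.Algebra.Category.Grp.AB

/-!
# Geometric points detect coverings of the small etale site of an algebraic space (helper32)
-/

set_option autoImplicit false
set_option backward.isDefEq.respectTransparency false
universe u
open CategoryTheory CategoryTheory.Limits AlgebraicGeometry Opposite

namespace Groth.Agent.H32.EtStalk

open AlgSp

variable {S : Scheme.{u}} {X : AlgSp.Sp S}

/-- the field-valued point of `X` given by a field-valued point of a scheme mapping to `X`. -/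
noncomputable def ptOf {T : Over S} (a : (yon S).obj T ⟶ X) {K : Type u} [Field K]
    (s : Spec (CommRingCat.of K) ⟶ T.left) : FieldPt X where
  K := K
  str := s ≫ T.hom
  val := a.hom.app (op (Over.mk (s ≫ T.hom))) ⟨Over.homMk s rfl⟩

theorem ptOf_toHom {T : Over S} (a : (yon S).obj T ⟶ X) {K : Type u} [Field K]
    (s : Spec (CommRingCat.of K) ⟶ T.left) :
    (ptOf a s).toHom = (yon S).map (Over.homMk s rfl : (ptOf a s).pt ⟶ T) ≫ a := by
  apply (J S).uliftYonedaEquiv.injective
  rw [FieldPt.uliftYonedaEquiv_toHom, GrothendieckTopology.uliftYonedaEquiv_comp,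
    GrothendieckTopology.uliftYonedaEquiv_uliftYoneda_map]
  rfl

/-- the canonical lift of `ptOf a s` to `T`. -/
noncomputable def ptOfLift (E : EtOver X) {K : Type u} [Field K]
    (s : Spec (CommRingCat.of K) ⟶ E.obj.left.left) :
    (FieldPt.liftsTo (ptOf E.obj.hom s)).obj E :=
  ⟨Over.homMk s rfl, (ptOf_toHom E.obj.hom s).symm⟩

/-- a sieve of the small etale site is covering as soon as every lift of every geometric point
lifts further to a member of the sieve. -/
theorem sieve_mem_etTop_of_geometric {E : EtOver X} (R : Sieve E)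
    (h : ∀ (p : FieldPt X) (_ : IsAlgClosed p.K) (l : (FieldPt.liftsTo p).obj E),
      ∃ (V : EtOver X) (g : V ⟶ E) (_ : R g) (l' : (FieldPt.liftsTo p).obj V),
        (FieldPt.liftsTo p).map g l' = l) : R ∈ etTop X E := by
  have key : ∀ x : ↥E.obj.left.left, ∃ (V : EtOver X) (g : V ⟶ E) (_ : R g),
      x ∈ Set.range g.hom.left.left := by
    intro x
    let K := AlgebraicClosure (E.obj.left.left.residueField x)
    let s : Spec (CommRingCat.of K) ⟶ E.obj.left.left :=
      Spec.map (CommRingCat.ofHom (algebraMap (E.obj.left.left.residueField x) K)) ≫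
        E.obj.left.left.fromSpecResidueField x
    have hK : IsAlgClosed (ptOf E.obj.hom s).K := inferInstanceAs (IsAlgClosed K)
    obtain ⟨V, g, hg, l', hl'⟩ := h (ptOf E.obj.hom s) hK (ptOfLift E s)
    refine ⟨V, g, hg, ⟨l'.1.left (default : ↥(Spec (CommRingCat.of K))), ?_⟩⟩
    have h1 : l'.1 ≫ g.hom.left = (ptOfLift E s).1 := congrArg Subtype.val hl'
    have h2 : l'.1.left ≫ g.hom.left.left = s := congrArg (fun m => m.left) h1
    have h3 : g.hom.left.left (l'.1.left (default : ↥(Spec (CommRingCat.of K)))) =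
        s (default : ↥(Spec (CommRingCat.of K))) :=
      congrArg (fun (m : Spec (CommRingCat.of K) ⟶ E.obj.left.left) =>
        m (default : ↥(Spec (CommRingCat.of K)))) h2
    refine h3.trans ?_
    change (E.obj.left.left.fromSpecResidueField x) _ = x
    exact Scheme.fromSpecResidueField_apply _ _
  choose V g hg hx using key
  refine (etTop X).superset_covering ?_ (ofArrows_mem_etTop V g (fun x => ⟨x, hx x⟩))
  rw [Sieve.ofArrows, Sieve.generate_le_iff]
  rintro _ _ ⟨x⟩
  exact hg x

section Conservative

theorem injective_app_of_stalk (hX : IsAlgSpace X) {F G : EtSh X (Type (u + 1))} (a : F ⟶ G)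
    (h : ∀ p : FieldPt X, p.IsGeometric →
      Function.Injective ((stalkEtFunctor (Type (u + 1)) p).map a)) (E : EtOver X) :
    Function.Injective (a.hom.app (op E)) := by
  intro s t hst
  have hR : Presheaf.equalizerSieve (F := F.obj) (X := op E) s t ∈ etTop X E := by
    apply sieve_mem_etTop_of_geometric
    intro p hp l
    have : IsAlgClosed p.K := hp
    let Φ := point hX p
    have h1 : Φ.presheafFiber.map a.hom (Φ.toPresheafFiber E l F.obj s) =
        Φ.presheafFiber.map a.hom (Φ.toPresheafFiber E l F.obj t) := by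
      rw [Φ.toPresheafFiber_naturality_apply, Φ.toPresheafFiber_naturality_apply, hst]
    have h2 : Φ.toPresheafFiber E l F.obj s = Φ.toPresheafFiber E l F.obj t := h p hp h1
    obtain ⟨V, f, y, hy, hf⟩ := (Φ.toPresheafFiber_eq_iff' (P := F.obj) E l s t).1 h2
    exact ⟨V, f, hf, y, hy⟩
  exact (((isSheaf_iff_isSheaf_of_type _ _).1 F.property).isSeparated _ hR).ext
    (fun Y f hf => hf)

theorem isLocallySurjective_of_stalk (hX : IsAlgSpace X) {F G : EtSh X (Type (u + 1))}
    (a : F ⟶ G)
    (h : ∀ p : FieldPt X, p.IsGeometric →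
      Function.Surjective ((stalkEtFunctor (Type (u + 1)) p).map a)) :
    Presheaf.IsLocallySurjective (etTop X) a.hom where
  imageSieve_mem {E} t := by
    apply sieve_mem_etTop_of_geometric
    intro p hp l
    have : IsAlgClosed p.K := hp
    let Φ := point hX p
    obtain ⟨y, hy⟩ := h p hp (Φ.toPresheafFiber E l G.obj t)
    obtain ⟨V, v, s, rfl⟩ := Φ.toPresheafFiber_jointly_surjective (P := F.obj) y
    have h1 : Φ.toPresheafFiber V v G.obj (a.hom.app (op V) s) =
        Φ.toPresheafFiber E l G.obj t := by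
      rw [← Φ.toPresheafFiber_naturality_apply]
      exact hy
    -- a common refinement
    have : IsCofiltered (EtNbhd p) := isCofiltered_etNbhd hX p
    obtain ⟨⟨W, w⟩, α, β, -⟩ := cone_objs_etNbhd p (⟨V, v⟩ : EtNbhd p) (⟨E, l⟩ : EtNbhd p)
    have hα : (FieldPt.liftsTo p).map α.1 w = v := α.2
    have hβ : (FieldPt.liftsTo p).map β.1 w = l := β.2
    have h2 : Φ.toPresheafFiber W w G.obj (G.obj.map α.1.op (a.hom.app (op V) s)) =
        Φ.toPresheafFiber W w G.obj (G.obj.map β.1.op t) := by
      rw [Φ.toPresheafFiber_w_apply, Φ.toPresheafFiber_w_apply]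
      change Φ.toPresheafFiber V ((FieldPt.liftsTo p).map α.1 w) G.obj _ =
        Φ.toPresheafFiber E ((FieldPt.liftsTo p).map β.1 w) G.obj _
      rw [hα, hβ]
      exact h1
    obtain ⟨W', f, w', hw', hf⟩ := (Φ.toPresheafFiber_eq_iff' (P := G.obj) W w _ _).1 h2
    refine ⟨W', f ≫ β.1, ⟨F.obj.map (f ≫ α.1).op s, ?_⟩, w', ?_⟩
    · rw [NatTrans.naturality_apply, op_comp, Functor.map_comp_apply, op_comp,
        Functor.map_comp_apply]
      exact hf
    · rw [Functor.map_comp]
      change (FieldPt.liftsTo p).map β.1 ((FieldPt.liftsTo p).map f w') = l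
      have hw'' : (FieldPt.liftsTo p).map f w' = w := hw'
      rw [hw'', hβ]

end Conservative

end Groth.Agent.H32.EtStalk
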