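import Groth.Agent.H32.CIStalk3
import Groth.Agent.H32.EtStalk3
import Mathlib.CategoryTheory.Sites.DenseSubsite.Basic

/-!
# Base change of the small etale site along a closed immersion is cover dense and locally full (helper32)
-/

set_option autoImplicit false
set_option backward.isDefEq.respectTransparency false
universe u
open CategoryTheory CategoryTheory.Limits AlgebraicGeometry Opposite

namespace Groth.Agent.H32.CIFF

open AlgSp Groth.Agent.H32.CIStalk

variable {S : Scheme.{u}} {Z X : AlgSp.Sp S} {i : Z ⟶ X}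

/-- (CD) base change along a closed immersion is cover dense. -/
theorem bc_isCoverDense (hZ : IsAlgSpace Z) (hX : IsAlgSpace X)
    (hi : RepWith @IsClosedImmersion i) : (EtOver.bc hi.1).IsCoverDense (etTop Z) where
  is_cover EM := by
    apply EtStalk.sieve_mem_etTop_of_geometric
    intro p hp l
    have : IsAlgClosed p.K := hp
    have hinit := nbhdBC_initial p hZ hX hi
    obtain ⟨c⟩ : Nonempty (CostructuredArrow (nbhdBC hi.1 p) (⟨EM, l⟩ : EtNbhd p)) :=
      (hinit.out ⟨EM, l⟩).is_nonempty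
    let g : (EtOver.bc hi.1).obj c.left.1 ⟶ EM := c.hom.1
    have hg : (Sieve.coverByImage (EtOver.bc hi.1) EM).arrows g :=
      Presieve.in_coverByImage (EtOver.bc hi.1) g
    exact ⟨(EtOver.bc hi.1).obj c.left.1, g, hg, ((nbhdBC hi.1 p).obj c.left).2, c.hom.2⟩


section Graph

variable (hr : AlgSp.Representable i) {U V : EtOver X}
  (f : (EtOver.bc hr).obj U ⟶ (EtOver.bc hr).obj V)

theorem graph_cond' :
    (yon S).map (f.hom.left ≫ hr.snd V.obj.hom) ≫ V.obj.hom =
      (yon S).map (hr.snd U.obj.hom) ≫ U.obj.hom := by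
  rw [Functor.map_comp, Category.assoc, ← hr.w, ← hr.w, ← Category.assoc]
  exact congrArg (· ≫ i) (EtOver.w f)

/-- the map `Z ×_X U ⟶ U ×_X V` underlying the graph. -/
noncomputable def graphB : ((EtOver.bc hr).obj U).obj.left ⟶ (EtOver.prodObj U V).obj.left :=
  V.property.1.lift' (f.hom.left ≫ hr.snd V.obj.hom) (hr.snd U.obj.hom) (graph_cond' hr f)

theorem graphB_fst : graphB hr f ≫ (EtOver.prodSnd U V).hom.left = f.hom.left ≫ hr.snd V.obj.hom :=
  Functor.relativelyRepresentable.lift'_fst _ _ _ _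

theorem graphB_snd : graphB hr f ≫ (EtOver.prodFst U V).hom.left = hr.snd U.obj.hom :=
  Functor.relativelyRepresentable.lift'_snd _ _ _ _

theorem graph_cond :
    hr.fst U.obj.hom ≫ i = (yon S).map (graphB hr f) ≫ (EtOver.prodObj U V).obj.hom := by
  change _ = (yon S).map (graphB hr f) ≫ (yon S).map (EtOver.prodFst U V).hom.left ≫ U.obj.hom
  rw [← Category.assoc, ← Functor.map_comp, graphB_snd, hr.w]

/-- the graph of `f` as a morphism of the small etale site of `Z`. -/
noncomputable def graph : (EtOver.bc hr).obj U ⟶ (EtOver.bc hr).obj (EtOver.prodObj U V) :=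
  EtOver.homMk (hr.lift (hr.fst U.obj.hom) (graphB hr f) (graph_cond hr f)) (hr.lift_fst _ _ _)

theorem graph_snd : (graph hr f).hom.left ≫ hr.snd (EtOver.prodObj U V).obj.hom = graphB hr f :=
  hr.lift_snd _ _ _

theorem graph_fst : (yon S).map (graph hr f).hom.left ≫ hr.fst (EtOver.prodObj U V).obj.hom =
    hr.fst U.obj.hom := hr.lift_fst _ _ _

theorem graph_prodFst : graph hr f ≫ (EtOver.bc hr).map (EtOver.prodFst U V) = 𝟙 _ := by
  apply EtOver.hom_ext
  apply hr.hom_ext
  · change (yon S).map ((graph hr f).hom.left ≫ (EtOver.bcMap hr (EtOver.prodFst U V)).hom.left) ≫ _ =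
      (yon S).map (𝟙 _) ≫ _
    rw [Functor.map_comp, Category.assoc, EtOver.map_bcMap_fst, graph_fst,
      CategoryTheory.Functor.map_id, Category.id_comp]
  · change ((graph hr f).hom.left ≫ (EtOver.bcMap hr (EtOver.prodFst U V)).hom.left) ≫ _ = 𝟙 _ ≫ _
    rw [Category.assoc, EtOver.bcMap_snd, ← Category.assoc, graph_snd, graphB_snd, Category.id_comp]

theorem graph_prodSnd : graph hr f ≫ (EtOver.bc hr).map (EtOver.prodSnd U V) = f := by
  apply EtOver.hom_ext
  apply hr.hom_ext
  · change (yon S).map ((graph hr f).hom.left ≫ (EtOver.bcMap hr (EtOver.prodSnd U V)).hom.left) ≫ _ =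
      (yon S).map f.hom.left ≫ _
    rw [Functor.map_comp, Category.assoc, EtOver.map_bcMap_fst, graph_fst]
    exact (EtOver.w f).symm
  · change ((graph hr f).hom.left ≫ (EtOver.bcMap hr (EtOver.prodSnd U V)).hom.left) ≫ _ =
      f.hom.left ≫ _
    rw [Category.assoc, EtOver.bcMap_snd, ← Category.assoc, graph_snd, graphB_fst]

end Graph


/-- (LF) base change along a closed immersion is locally full. -/
theorem bc_isLocallyFull (hi : RepWith @IsClosedImmersion i) :
    (EtOver.bc hi.1).IsLocallyFull (etTop Z) where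
  functorPushforward_imageSieve_mem {U V} f := by
    apply EtStalk.sieve_mem_etTop_of_geometric
    intro p hp l
    have : IsAlgClosed p.K := hp
    have hr := hi.1
    -- the etale neighbourhood of the image point given by the product
    have hlN : (yon S).map (l.1 ≫ graphB hi.1 f) ≫ (EtOver.prodObj U V).obj.hom =
        (p.map i).toHom := by
      rw [Functor.map_comp, Category.assoc, ← graph_cond hi.1 f, ← Category.assoc,
        FieldPt.toHom_map]
      exact congrArg (· ≫ i) l.2
    let N : EtNbhd (p.map i) := ⟨EtOver.prodObj U V, ⟨l.1 ≫ graphB hi.1 f, hlN⟩⟩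
    let M : EtNbhd p := ⟨(EtOver.bc hi.1).obj U, l⟩
    have hμ : (FieldPt.liftsTo p).map (graph hi.1 f) l = ((nbhdBC hi.1 p).obj N).2 := by
      apply lift_ext hi.1 p
      change (l.1 ≫ (graph hi.1 f).hom.left) ≫ _ = (nbhdObj hi.1 p N).2.1 ≫ _
      rw [Category.assoc, graph_snd, nbhdObj_lift_snd]
    let μ : M ⟶ (nbhdBC hi.1 p).obj N := ⟨graph hi.1 f, hμ⟩
    obtain ⟨N', t, m, hm⟩ := exists_dominate p hi N M μ
    have hm1 : m.1 ≫ graph hi.1 f = (EtOver.bc hi.1).map t.1 := congrArg Subtype.val hm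
    have e1 : (EtOver.bc hi.1).map (t.1 ≫ EtOver.prodFst U V) = m.1 := by
      rw [Functor.map_comp, ← hm1, Category.assoc, graph_prodFst, Category.comp_id]
    have e2 : (EtOver.bc hi.1).map (t.1 ≫ EtOver.prodSnd U V) =
        (EtOver.bc hi.1).map (t.1 ≫ EtOver.prodFst U V) ≫ f := by
      rw [e1, Functor.map_comp, ← hm1, Category.assoc, graph_prodSnd]
    refine ⟨(EtOver.bc hi.1).obj N'.1, m.1, ?_, ((nbhdBC hi.1 p).obj N').2, m.2⟩
    exact ⟨N'.1, t.1 ≫ EtOver.prodFst U V, 𝟙 _, ⟨t.1 ≫ EtOver.prodSnd U V, e2⟩,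
      by rw [Category.id_comp, e1]⟩

end Groth.Agent.H32.CIFF
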