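import Groth.Agent.H32.CIFF
import Groth.Agent.H50.Basic
import Mathlib.CategoryTheory.Adjunction.FullyFaithful
/-! helper32: pushforward of O-modules along a closed immersion of algebraic spaces is fully faithful. -/
set_option autoImplicit false
set_option backward.isDefEq.respectTransparency false
universe u
open CategoryTheory CategoryTheory.Limits AlgebraicGeometry Opposite

namespace Groth.Agent.H32.CIFF

open AlgSp Groth.Agent.H32.CIStalk

variable {S : Scheme.{u}} {Z X : AlgSp.Sp S} {i : Z ⟶ X}

/-- the sieve of morphisms factoring through the base change of an affine etale chart. -/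
def affineSieve (hr : AlgSp.Representable i) (EM : EtOver Z) : Sieve EM where
  arrows W g := ∃ (U : EtOver X) (_ : IsAffine U.obj.left.left) (a : W ⟶ (EtOver.bc hr).obj U)
    (b : (EtOver.bc hr).obj U ⟶ EM), g = a ≫ b
  downward_closed := by
    rintro W W' g ⟨U, hU, a, b, rfl⟩ k
    exact ⟨U, hU, k ≫ a, b, by rw [Category.assoc]⟩

theorem affineSieve_mem (hZ : IsAlgSpace Z) (hX : IsAlgSpace X)
    (hi : RepWith @IsClosedImmersion i) (EM : EtOver Z) : affineSieve hi.1 EM ∈ etTop Z EM := by
  apply EtStalk.sieve_mem_etTop_of_geometric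
  intro p hp l
  have : IsAlgClosed p.K := hp
  have hK : IsSepClosed (p.map i).K := inferInstanceAs (IsSepClosed p.K)
  have hinit := nbhdBC_initial p hZ hX hi
  obtain ⟨c⟩ : Nonempty (CostructuredArrow (nbhdBC hi.1 p) (⟨EM, l⟩ : EtNbhd p)) :=
    (hinit.out ⟨EM, l⟩).is_nonempty
  -- affine refinement
  let E' : EtOver X := c.left.1
  let l' : (FieldPt.liftsTo (p.map i)).obj E' := c.left.2
  let x₀ : ↥E'.obj.left.left := l'.1.left (default : ↥(Spec (CommRingCat.of (p.map i).K)))
  obtain ⟨W, hW, hxW, -⟩ := exists_isAffineOpen_mem_and_subset (x := x₀) (U := ⊤) trivial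
  let ι : H52.overOf (U := E'.obj.left) W.ι ⟶ E'.obj.left := H52.overOfHom W.ι
  let E'' : EtOver X := EtOver.mk ((yon S).map ι ≫ E'.obj.hom)
    (H52.repWith_yon_map_comp @Etale ι (inferInstanceAs (Etale W.ι)) E'.obj.hom E'.property)
  let t₀ : E'' ⟶ E' := EtOver.homMk ι rfl
  obtain ⟨l'', hl'', -⟩ := EtStalk.exists_liftsTo_of_point (p.map i) t₀ l' ⟨x₀, hxW⟩ rfl
  let N'' : EtNbhd (p.map i) := ⟨E'', l''⟩
  let t : N'' ⟶ c.left := ⟨t₀, hl''⟩
  have hE'' : IsAffine E''.obj.left.left := hW
  let m := (nbhdBC hi.1 p).map t ≫ c.hom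
  exact ⟨(EtOver.bc hi.1).obj E'', m.1, ⟨E'', hE'', 𝟙 _, m.1, (Category.id_comp _).symm⟩,
    ((nbhdBC hi.1 p).obj N'').2, m.2⟩

end Groth.Agent.H32.CIFF

namespace Groth.Agent.H32.CIFF

open AlgSp Groth.Agent.H32.CIStalk

variable {S : Scheme.{u}} {Z X : AlgSp.Space S} (i : Z ⟶ X)
  (hi : AlgSp.RepWith @IsClosedImmersion i.hom)

theorem bcRingHom_surjective (E' : AlgSp.EtOver X.obj) (hE' : IsAffine E'.obj.left.left) :
    Function.Surjective ⇑(ConcreteCategory.hom ((AlgSp.bcRingHom hi.1).hom.app (op E'))) := by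
  intro y
  have hci : IsClosedImmersion (hi.1.snd E'.obj.hom).left := hi.property_snd _
  obtain ⟨t, ht⟩ := (IsClosedImmersion.isAffine_surjective_of_isAffine
    (hi.1.snd E'.obj.hom).left).2 (ULift.down y)
  exact ⟨ULift.up t, ULift.ext _ _ ht⟩

theorem pushModEt_faithful : (AlgSp.pushModEt hi.1).Faithful where
  map_injective {G G'} β β' h := by
    have hCD := bc_isCoverDense Z.property X.property hi
    have hLF := bc_isLocallyFull hi
    have h4 : (AlgSp.pushEt hi.1 AddCommGrpCat.{u + 1}).Faithful :=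
      Functor.IsCoverDense.faithful_sheafPushforwardContinuous _ _ _
    apply (SheafOfModules.toSheaf (OEtRing Z.obj)).map_injective
    apply (AlgSp.pushEt hi.1 AddCommGrpCat.{u + 1}).map_injective
    exact congrArg (SheafOfModules.toSheaf (OEtRing X.obj)).map h

end Groth.Agent.H32.CIFF

namespace Groth.Agent.H32.CIFF

open AlgSp Groth.Agent.H32.CIStalk

variable {S : Scheme.{u}} {Z X : AlgSp.Space S} (i : Z ⟶ X)
  (hi : AlgSp.RepWith @IsClosedImmersion i.hom)

theorem pushModEt_full : (AlgSp.pushModEt hi.1).Full where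
  map_surjective {G G'} α := by
    have hCD := bc_isCoverDense Z.property X.property hi
    have hLF := bc_isLocallyFull hi
    have h3 : (AlgSp.pushEt hi.1 AddCommGrpCat.{u + 1}).Full :=
      Functor.IsCoverDense.full_sheafPushforwardContinuous _ _ _
    let a : (AlgSp.pushEt hi.1 AddCommGrpCat.{u + 1}).obj
        ((SheafOfModules.toSheaf (OEtRing Z.obj)).obj G) ⟶
        (AlgSp.pushEt hi.1 AddCommGrpCat.{u + 1}).obj
        ((SheafOfModules.toSheaf (OEtRing Z.obj)).obj G') :=
      (SheafOfModules.toSheaf (OEtRing X.obj)).map α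
    obtain ⟨ψ, hψ⟩ := (AlgSp.pushEt hi.1 AddCommGrpCat.{u + 1}).map_surjective a
    have hψU : ∀ (U : EtOver X.obj) (x : G.val.obj (op ((EtOver.bc hi.1).obj U))),
        ψ.hom.app (op ((EtOver.bc hi.1).obj U)) x = α.val.app (op U) x := by
      intro U x
      have := congrArg (fun (k : (AlgSp.pushEt hi.1 AddCommGrpCat.{u + 1}).obj
        ((SheafOfModules.toSheaf (OEtRing Z.obj)).obj G) ⟶ _) => k.hom.app (op U) x) hψ
      exact this
    let φ : G.val.presheaf ⟶ G'.val.presheaf := ψ.hom
    have hlin : ∀ (V : (EtOver Z.obj)ᵒᵖ) (r : (OEtRing Z.obj).obj.obj V) (m : G.val.obj V),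
        φ.app V (r • m) = r • φ.app V m := by
      intro V r m
      refine EtStalk.ab_separated ((SheafOfModules.toSheaf (OEtRing Z.obj)).obj G') _
        (affineSieve_mem Z.property X.property hi V.unop) _ _ ?_
      rintro W g ⟨U, hU, a, b, rfl⟩
      have key : G'.val.presheaf.map b.op (φ.app V (r • m)) =
          G'.val.presheaf.map b.op (r • φ.app V m) := by
        obtain ⟨r', hr'⟩ := bcRingHom_surjective i hi U hU ((OEtRing Z.obj).obj.map b.op r)
        have nat : ∀ x : G.val.obj V, G'.val.presheaf.map b.op (φ.app V x) =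
            φ.app (op ((EtOver.bc hi.1).obj U)) (G.val.presheaf.map b.op x) := fun x =>
          (CategoryTheory.congr_fun (φ.naturality b.op) x).symm
        have e1 : G.val.presheaf.map b.op (r • m) =
            (OEtRing Z.obj).obj.map b.op r • G.val.presheaf.map b.op m :=
          PresheafOfModules.map_smul G.val b.op r m
        have e2 : G'.val.presheaf.map b.op (r • φ.app V m) =
            (OEtRing Z.obj).obj.map b.op r • G'.val.presheaf.map b.op (φ.app V m) :=
          PresheafOfModules.map_smul G'.val b.op r (φ.app V m)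
        rw [e2, nat, nat, e1, ← hr']
        have e3 := (α.val.app (op U)).hom.map_smul r' (G.val.presheaf.map b.op m)
        have hφU : ∀ (U : EtOver X.obj) (x : G.val.obj (op ((EtOver.bc hi.1).obj U))),
            φ.app (op ((EtOver.bc hi.1).obj U)) x = α.val.app (op U) x := hψU
        rw [hφU, hφU]
        exact e3
      have hc : (a ≫ b).op = b.op ≫ a.op := rfl
      rw [hc, Functor.map_comp]
      exact congrArg (G'.val.presheaf.map a.op) key
    refine ⟨⟨PresheafOfModules.homMk φ hlin⟩, ?_⟩
    apply SheafOfModules.hom_ext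
    apply PresheafOfModules.hom_ext
    intro U
    ext x
    exact hψU U.unop x

end Groth.Agent.H32.CIFF
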