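import Mathlib

/-!
# Lifting etale algebras along a surjection, locally at a prime (helper32)
-/

set_option autoImplicit false
universe u
open TensorProduct Polynomial

namespace Groth.Agent.H32.CIStalk

/-- lifting a standard etale pair along a surjection. -/
theorem exists_pair_lift {A Ab : Type u} [CommRing A] [CommRing Ab] [Nontrivial Ab] [Algebra A Ab]
    (hA : Function.Surjective (algebraMap A Ab)) (Pb : StandardEtalePair Ab) :
    ∃ (P : StandardEtalePair A) (g₀ : A[X]), P.f.map (algebraMap A Ab) = Pb.f ∧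
      g₀.map (algebraMap A Ab) = Pb.g ∧ P.g = g₀ * derivative P.f := by
  obtain ⟨f, hf, -, hfm⟩ := Polynomial.lifts_and_degree_eq_and_monic
    ((Polynomial.mem_lifts _).2 (Polynomial.map_surjective _ hA Pb.f)) Pb.monic_f
  obtain ⟨g₀, hg₀⟩ := Polynomial.map_surjective _ hA Pb.g
  exact ⟨⟨f, hfm, g₀ * derivative f, ⟨g₀, 0, 1, by ring⟩⟩, g₀, hf, hg₀, rfl⟩

/-- the standard etale algebra of a lifted pair receives the original one after base change, with a
retraction. -/
theorem exists_maps_of_pair_lift {A Ab : Type u} [CommRing A] [CommRing Ab] [Algebra A Ab]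
    (Pb : StandardEtalePair Ab) (P : StandardEtalePair A) (g₀ : A[X])
    (h1 : P.f.map (algebraMap A Ab) = Pb.f) (h2 : g₀.map (algebraMap A Ab) = Pb.g)
    (h3 : P.g = g₀ * derivative P.f) :
    ∃ (θ₀ : Pb.Ring →ₐ[Ab] Ab ⊗[A] P.Ring) (θ' : Ab ⊗[A] P.Ring →+* Pb.Ring),
      θ'.comp θ₀.toRingHom = RingHom.id _ := by
  let x : Ab ⊗[A] P.Ring := 1 ⊗ₜ P.X
  have hxinc : x = (Algebra.TensorProduct.includeRight : P.Ring →ₐ[A] Ab ⊗[A] P.Ring) P.X := rfl
  have hunit : IsUnit (aeval P.X g₀) := by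
    have := P.hasMap_X.2
    rw [h3, map_mul] at this
    exact isUnit_of_mul_isUnit_left this
  have hx : Pb.HasMap x := by
    refine ⟨?_, ?_⟩
    · rw [← h1, Polynomial.aeval_map_algebraMap, hxinc, Polynomial.aeval_algHom_apply,
        P.hasMap_X.1, map_zero]
    · rw [← h2, Polynomial.aeval_map_algebraMap, hxinc, Polynomial.aeval_algHom_apply]
      exact hunit.map _
  let _ : Algebra A Pb.Ring := ((algebraMap Ab Pb.Ring).comp (algebraMap A Ab)).toAlgebra
  have : IsScalarTower A Ab Pb.Ring := .of_algebraMap_eq' rfl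
  have H : P.HasMap Pb.X := by
    refine ⟨?_, ?_⟩
    · rw [← Polynomial.aeval_map_algebraMap Ab, h1]
      exact Pb.hasMap_X.1
    · rw [h3, map_mul]
      refine IsUnit.mul ?_ ?_
      · rw [← Polynomial.aeval_map_algebraMap Ab, h2]
        exact Pb.hasMap_X.2
      · rw [← Polynomial.aeval_map_algebraMap Ab, ← Polynomial.derivative_map, h1]
        exact Pb.hasMap_X.isUnit_derivative_f
  let θ₀ : Pb.Ring →ₐ[Ab] Ab ⊗[A] P.Ring := Pb.lift x hx
  let θ' : Ab ⊗[A] P.Ring →ₐ[Ab] Pb.Ring :=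
    Algebra.TensorProduct.lift (Algebra.ofId Ab Pb.Ring) (P.lift Pb.X H) (fun _ _ => .all _ _)
  refine ⟨θ₀, θ'.toRingHom, ?_⟩
  have hcomp : θ'.comp θ₀ = AlgHom.id Ab Pb.Ring := by
    apply Pb.hom_ext
    change θ' (θ₀ Pb.X) = Pb.X
    rw [StandardEtalePair.lift_X]
    change θ' (1 ⊗ₜ P.X) = _
    rw [Algebra.TensorProduct.lift_tmul, map_one, one_mul, StandardEtalePair.lift_X]
  ext y
  exact congrArg (fun (φ : Pb.Ring →ₐ[Ab] Pb.Ring) => φ y) hcomp


/-- (K-alg) lifting an etale algebra over a quotient, locally at a prime. -/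
theorem exists_etale_lift {A Ab Bb : Type u} [CommRing A] [CommRing Ab] [CommRing Bb] [Algebra A Ab]
    (hA : Function.Surjective (algebraMap A Ab)) [Algebra Ab Bb] [Algebra.Etale Ab Bb]
    (q : Ideal Bb) [q.IsPrime] :
    ∃ (B : Type u) (_ : CommRing B) (_ : Algebra A B) (_ : Algebra.Etale A B)
      (θ : Bb →ₐ[Ab] Ab ⊗[A] B) (Q : Ideal (Ab ⊗[A] B)), Q.IsPrime ∧ Q.comap θ.toRingHom = q := by
  have : Nontrivial Bb := ⟨⟨0, 1, fun h => (inferInstance : q.IsPrime).ne_top
    ((Ideal.eq_top_iff_one q).2 (h ▸ q.zero_mem))⟩⟩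
  have : Nontrivial Ab := (algebraMap Ab Bb).domain_nontrivial
  obtain ⟨f₀, hf₀, hstd⟩ := Algebra.IsEtaleAt.exists_isStandardEtale (R := Ab) q
  let SP : StandardEtalePresentation Ab (Localization.Away f₀) :=
    hstd.nonempty_standardEtalePresentation.some
  let Pb : StandardEtalePair Ab := SP.P
  let eq : Localization.Away f₀ ≃ₐ[Ab] Pb.Ring := SP.equivRing
  obtain ⟨P, g₀, h1, h2, h3⟩ := exists_pair_lift hA Pb
  obtain ⟨θ₀, θ', hθ⟩ := exists_maps_of_pair_lift Pb P g₀ h1 h2 h3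
  let loc : Bb →ₐ[Ab] Localization.Away f₀ := IsScalarTower.toAlgHom Ab Bb (Localization.Away f₀)
  let θ : Bb →ₐ[Ab] Ab ⊗[A] P.Ring := θ₀.comp (eq.toAlgHom.comp loc)
  have hdisj : Disjoint (Submonoid.powers f₀ : Set Bb) (q : Set Bb) := by
    rw [Set.disjoint_left]
    rintro _ ⟨n, rfl⟩ hn
    exact hf₀ ((inferInstance : q.IsPrime).mem_of_pow_mem n hn)
  let qloc : Ideal (Localization.Away f₀) := q.map (algebraMap Bb (Localization.Away f₀))
  have hqloc : qloc.IsPrime :=
    IsLocalization.isPrime_of_isPrime_disjoint (Submonoid.powers f₀) _ q inferInstance hdisj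
  have hqloc' : qloc.comap (algebraMap Bb (Localization.Away f₀)) = q :=
    IsLocalization.under_map_of_isPrime_disjoint (Submonoid.powers f₀) _ inferInstance hdisj
  let q' : Ideal Pb.Ring := qloc.comap eq.symm.toRingHom
  have hq' : q'.IsPrime := Ideal.comap_isPrime _ _
  refine ⟨P.Ring, inferInstance, inferInstance, inferInstance, θ, q'.comap θ', Ideal.comap_isPrime _ _, ?_⟩
  ext b
  simp only [Ideal.mem_comap]
  have e1 : θ' (θ.toRingHom b) = eq (algebraMap Bb (Localization.Away f₀) b) := by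
    change (θ'.comp θ₀.toRingHom) (eq (loc b)) = _
    rw [hθ]
    rfl
  rw [e1]
  change eq.symm (eq (algebraMap Bb (Localization.Away f₀) b)) ∈ qloc ↔ _
  rw [AlgEquiv.symm_apply_apply, ← Ideal.mem_comap, hqloc']

end Groth.Agent.H32.CIStalk
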