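import Groth.Agent.H32.CIStalk1

/-!
# Etale neighbourhoods in a closed subscheme lift to the ambient scheme (helper32)
-/

set_option autoImplicit false
universe u
open CategoryTheory CategoryTheory.Limits AlgebraicGeometry TensorProduct

namespace Groth.Agent.H32.CIStalk

/-- (K-sch), all affine. -/
theorem exists_etale_nbhd_lift_affine {N Z M : Scheme.{u}} [IsAffine N] [IsAffine M] (ι : Z ⟶ N)
    [IsClosedImmersion ι] (e : M ⟶ Z) [Etale e] (m : M) :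
    ∃ (N' : Scheme.{u}) (a : N' ⟶ N) (_ : Etale a), ∀ (P : Scheme.{u}) (p₁ : P ⟶ Z) (p₂ : P ⟶ N'),
      IsPullback p₁ p₂ ι a → ∃ (ψ : P ⟶ M) (n' : P), ψ ≫ e = p₁ ∧ ψ n' = m := by
  have hZ : IsAffine Z := isAffine_of_isAffineHom ι
  let _ : Algebra Γ(N, ⊤) Γ(Z, ⊤) := ι.appTop.hom.toAlgebra
  have hA : Function.Surjective (algebraMap Γ(N, ⊤) Γ(Z, ⊤)) :=
    (IsClosedImmersion.isAffine_surjective_of_isAffine (f := ι)).2
  let _ : Algebra Γ(Z, ⊤) Γ(M, ⊤) := e.appTop.hom.toAlgebra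
  have het : Algebra.Etale Γ(Z, ⊤) Γ(M, ⊤) :=
    (HasRingHomProperty.iff_of_isAffine (P := @Etale)).1 (inferInstance : Etale e)
  let q : Ideal Γ(M, ⊤) := (M.isoSpec.hom m).asIdeal
  have hq : q.IsPrime := (M.isoSpec.hom m).isPrime
  obtain ⟨B, _, _, _, θ, Q, hQ, hQq⟩ := exists_etale_lift hA q
  let a₀ : Spec (CommRingCat.of B) ⟶ Spec Γ(N, ⊤) :=
    Spec.map (CommRingCat.ofHom (algebraMap Γ(N, ⊤) B))
  have ha₀ : Etale a₀ := by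
    rw [HasRingHomProperty.Spec_iff (P := @Etale)]
    exact (RingHom.etale_algebraMap).2 inferInstance
  refine ⟨Spec (CommRingCat.of B), a₀ ≫ N.isoSpec.inv, inferInstance, ?_⟩
  intro P p₁ p₂ h
  let inl : CommRingCat.of Γ(Z, ⊤) ⟶ CommRingCat.of (Γ(Z, ⊤) ⊗[Γ(N, ⊤)] B) :=
    CommRingCat.ofHom Algebra.TensorProduct.includeLeftRingHom
  let inr : CommRingCat.of B ⟶ CommRingCat.of (Γ(Z, ⊤) ⊗[Γ(N, ⊤)] B) :=
    CommRingCat.ofHom (Algebra.TensorProduct.includeRight (R := Γ(N, ⊤)) (A := Γ(Z, ⊤)) (B := B)).toRingHom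
  have sqT : IsPullback (Spec.map inl) (Spec.map inr)
      (Spec.map (CommRingCat.ofHom (algebraMap Γ(N, ⊤) Γ(Z, ⊤)))) a₀ :=
    isPullback_SpecMap_of_isPushout _ _ _ _ (CommRingCat.isPushout_tensorProduct Γ(N, ⊤) Γ(Z, ⊤) B)
  have hnat : Spec.map (CommRingCat.ofHom (algebraMap Γ(N, ⊤) Γ(Z, ⊤))) ≫ N.isoSpec.inv =
      Z.isoSpec.inv ≫ ι := Scheme.isoSpec_inv_naturality ι
  have sqT' : IsPullback (Spec.map inl ≫ Z.isoSpec.inv) (Spec.map inr) ι (a₀ ≫ N.isoSpec.inv) :=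
    IsPullback.of_iso sqT (Iso.refl _) Z.isoSpec.symm (Iso.refl _) N.isoSpec.symm
      (by simp) (by simp) (by simpa using hnat) (by simp)
  let κ : P ≅ Spec (CommRingCat.of (Γ(Z, ⊤) ⊗[Γ(N, ⊤)] B)) := h.isoIsPullback _ _ sqT'
  have hκ1 : κ.hom ≫ (Spec.map inl ≫ Z.isoSpec.inv) = p₁ := h.isoIsPullback_hom_fst _ _ sqT'
  let θc : CommRingCat.of Γ(M, ⊤) ⟶ CommRingCat.of (Γ(Z, ⊤) ⊗[Γ(N, ⊤)] B) :=
    CommRingCat.ofHom θ.toRingHom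
  have hθc : e.appTop ≫ θc = inl := by
    ext x
    exact θ.commutes x
  let Qp : ↥(Spec (CommRingCat.of (Γ(Z, ⊤) ⊗[Γ(N, ⊤)] B))) := ⟨Q, hQ⟩
  refine ⟨κ.hom ≫ Spec.map θc ≫ M.isoSpec.inv, κ.inv Qp, ?_, ?_⟩
  · have h2 : M.isoSpec.inv ≫ e = Spec.map e.appTop ≫ Z.isoSpec.inv :=
      (Scheme.isoSpec_inv_naturality e).symm
    rw [Category.assoc, Category.assoc, h2, ← Spec.map_comp_assoc, hθc, hκ1]
  · have h3 : (κ.inv ≫ κ.hom ≫ Spec.map θc ≫ M.isoSpec.inv) Qp = m := by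
      rw [Iso.inv_hom_id_assoc]
      have h4 : (Spec.map θc) Qp = M.isoSpec.hom m := by
        apply PrimeSpectrum.ext
        exact hQq
      rw [Scheme.Hom.comp_apply, h4, ← Scheme.Hom.comp_apply, Iso.hom_inv_id]
      rfl
    exact (Scheme.Hom.comp_apply κ.inv _ Qp).symm.trans h3

/-- (K-sch): etale neighbourhoods in a closed subscheme lift to the ambient scheme. -/
theorem exists_etale_nbhd_lift {N Z M : Scheme.{u}} (ι : Z ⟶ N) [IsClosedImmersion ι]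
    (e : M ⟶ Z) [Etale e] (m : M) :
    ∃ (N' : Scheme.{u}) (a : N' ⟶ N) (_ : Etale a), ∀ (P : Scheme.{u}) (p₁ : P ⟶ Z) (p₂ : P ⟶ N'),
      IsPullback p₁ p₂ ι a → ∃ (ψ : P ⟶ M) (n' : P), ψ ≫ e = p₁ ∧ ψ n' = m := by
  obtain ⟨V, hV, hxV, -⟩ := exists_isAffineOpen_mem_and_subset (x := ι (e m)) (U := ⊤) trivial
  have hUZ : IsAffineOpen (ι ⁻¹ᵁ V) := hV.preimage ι
  have hm1 : m ∈ e ⁻¹ᵁ (ι ⁻¹ᵁ V) := hxV
  obtain ⟨W, hW, hmW, hWle⟩ := exists_isAffineOpen_mem_and_subset (x := m) hm1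
  have : IsAffine (V : Scheme.{u}) := hV
  have : IsAffine (W : Scheme.{u}) := hW
  have hWle' : W ≤ e ⁻¹ᵁ (ι ⁻¹ᵁ V) := hWle
  obtain ⟨N', a', ha', H⟩ := exists_etale_nbhd_lift_affine (ι ∣_ V) (e.resLE (ι ⁻¹ᵁ V) W hWle') ⟨m, hmW⟩
  refine ⟨N', a' ≫ V.ι, inferInstance, ?_⟩
  intro P p₁ p₂ h
  have hrange : Set.range p₁ ⊆ Set.range (ι ⁻¹ᵁ V).ι := by
    rintro _ ⟨y, rfl⟩
    rw [Scheme.Opens.range_ι]
    change ι (p₁ y) ∈ V
    have : (p₁ ≫ ι) y = (p₂ ≫ a' ≫ V.ι) y := by rw [h.w]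
    rw [Scheme.Hom.comp_apply] at this
    rw [this, Scheme.Hom.comp_apply, Scheme.Hom.comp_apply]
    exact (a' (p₂ y)).2
  let p₁' : P ⟶ ((ι ⁻¹ᵁ V : Z.Opens) : Scheme.{u}) := IsOpenImmersion.lift (ι ⁻¹ᵁ V).ι p₁ hrange
  have hp₁' : p₁' ≫ (ι ⁻¹ᵁ V).ι = p₁ := IsOpenImmersion.lift_fac _ _ _
  have hcomm : p₁' ≫ (ι ∣_ V) = p₂ ≫ a' := by
    rw [← cancel_mono V.ι, Category.assoc, morphismRestrict_ι, ← Category.assoc, hp₁', h.w,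
      Category.assoc]
  have sq' : IsPullback p₁' p₂ (ι ∣_ V) a' := by
    refine IsPullback.of_right ?_ hcomm (isPullback_morphismRestrict ι V).flip
    rw [hp₁']
    exact h
  obtain ⟨ψ', n', h1, h2⟩ := H P p₁' p₂ sq'
  refine ⟨ψ' ≫ W.ι, n', ?_, ?_⟩
  · rw [Category.assoc, ← Scheme.Hom.resLE_comp_ι e hWle', ← Category.assoc, h1, hp₁']
  · rw [Scheme.Hom.comp_apply, h2]
    rfl

end Groth.Agent.H32.CIStalk
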