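import Groth.Agent.H32.EtStalk4

/-!
# Germs of sections of abelian sheaves on the small etale site and zero loci (helper32)
-/

set_option autoImplicit false
set_option backward.isDefEq.respectTransparency false
universe u
open CategoryTheory CategoryTheory.Limits AlgebraicGeometry Opposite

namespace Groth.Agent.H32.EtStalk

open AlgSp

variable {S : Scheme.{u}} {X : AlgSp.Sp S}

/-- lifting a lift of a separably closed point along a morphism of the small etale site, through a
given point of the source. -/
theorem exists_liftsTo_of_point (p : FieldPt X) [IsSepClosed p.K] {V E : EtOver X} (f : V ⟶ E)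
    (l : (FieldPt.liftsTo p).obj E) (v : ↥V.obj.left.left)
    (hv : f.hom.left.left v = l.1.left (default : ↥(Spec (CommRingCat.of p.K)))) :
    ∃ l' : (FieldPt.liftsTo p).obj V, (FieldPt.liftsTo p).map f l' = l ∧
      l'.1.left (default : ↥(Spec (CommRingCat.of p.K))) = v := by
  let s : Spec (CommRingCat.of p.K) ⟶ E.obj.left.left := l.1.left
  have : Etale f.hom.left.left := EtOver.etale_left f
  obtain ⟨m, hm, hm'⟩ := Scheme.exists_fac_of_etale_of_isSepClosed f.hom.left.left s v hv
  have hmS : m ≫ V.obj.left.hom = p.pt.hom := by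
    rw [← Over.w f.hom.left, ← Category.assoc, hm]
    exact Over.w l.1
  let u' : p.pt ⟶ V.obj.left := Over.homMk m hmS
  have hu : u' ≫ f.hom.left = l.1 := Over.OverMorphism.ext hm
  have hcompat : (yon S).map u' ≫ V.obj.hom = p.toHom := by
    rw [← EtOver.w f, ← Category.assoc, ← Functor.map_comp, hu]
    exact l.2
  exact ⟨⟨u', hcompat⟩, Subtype.ext hu, hm'⟩

/-- a section of an abelian sheaf vanishes as soon as all its germs vanish. -/
theorem ab_eq_zero_of_germs (hX : IsAlgSpace X) (H : EtSh X AddCommGrpCat.{u + 1})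
    (E : EtOver X) (s : H.obj.obj (op E))
    (hs : ∀ (p : FieldPt X) (_ : IsAlgClosed p.K) (l : (FieldPt.liftsTo p).obj E),
      (point hX p).toPresheafFiber E l H.obj s = 0) : s = 0 := by
  have hR : Presheaf.equalizerSieve (F := H.obj) (X := op E) s 0 ∈ etTop X E := by
    apply sieve_mem_etTop_of_geometric
    intro p hp l
    have : IsAlgClosed p.K := hp
    have h1 : (point hX p).toPresheafFiber E l H.obj s =
        (point hX p).toPresheafFiber E l H.obj 0 := by
      rw [hs p hp l, map_zero]
    obtain ⟨V, f, l', hl', hf⟩ := exists_restrict_eq_of_germ_eq hX H p E l s 0 h1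
    exact ⟨V, f, hf, l', hl'⟩
  exact ab_separated H _ hR s 0 (fun V f hf => hf)

/-- the germ of a section at a lift is the germ of its restriction at a further lift. -/
theorem germ_restrict (hX : IsAlgSpace X) (H : EtSh X AddCommGrpCat.{u + 1})
    (p : FieldPt X) [IsSepClosed p.K] {V E : EtOver X} (f : V ⟶ E)
    (l' : (FieldPt.liftsTo p).obj V) (s : H.obj.obj (op E)) :
    (point hX p).toPresheafFiber V l' H.obj (H.obj.map f.op s) =
      (point hX p).toPresheafFiber E ((FieldPt.liftsTo p).map f l') H.obj s :=
  (point hX p).toPresheafFiber_w_apply f l' H.obj s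

/-- the zero locus of a section of an abelian sheaf on the small etale site. -/
def zeroLocus (H : EtSh X AddCommGrpCat.{u + 1}) (E : EtOver X) (s : H.obj.obj (op E)) :
    TopologicalSpace.Opens ↥E.obj.left.left :=
  ⟨⋃ (V : EtOver X) (f : V ⟶ E) (_ : H.obj.map f.op s = 0), Set.range f.hom.left.left,
    isOpen_iUnion fun V => isOpen_iUnion fun f => isOpen_iUnion fun _ => by
      have : Etale f.hom.left.left := EtOver.etale_left f
      exact f.hom.left.left.isOpenMap.isOpen_range⟩

theorem mem_zeroLocus_iff (H : EtSh X AddCommGrpCat.{u + 1}) (E : EtOver X) (s : H.obj.obj (op E))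
    (x : ↥E.obj.left.left) :
    x ∈ zeroLocus H E s ↔ ∃ (V : EtOver X) (f : V ⟶ E) (_ : H.obj.map f.op s = 0)
      (v : ↥V.obj.left.left), f.hom.left.left v = x := by
  change x ∈ (⋃ (V : EtOver X) (f : V ⟶ E) (_ : H.obj.map f.op s = 0), Set.range f.hom.left.left) ↔ _
  simp only [Set.mem_iUnion, Set.mem_range]

/-- the germ of `s` at a lift vanishes iff the lift lands in the zero locus. -/
theorem germ_eq_zero_iff (hX : IsAlgSpace X) (H : EtSh X AddCommGrpCat.{u + 1})
    (p : FieldPt X) [IsSepClosed p.K] (E : EtOver X) (l : (FieldPt.liftsTo p).obj E)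
    (s : H.obj.obj (op E)) :
    (point hX p).toPresheafFiber E l H.obj s = 0 ↔
      l.1.left (default : ↥(Spec (CommRingCat.of p.K))) ∈ zeroLocus H E s := by
  rw [mem_zeroLocus_iff]
  constructor
  · intro h
    have h1 : (point hX p).toPresheafFiber E l H.obj s =
        (point hX p).toPresheafFiber E l H.obj 0 := by rw [h, map_zero]
    obtain ⟨V, f, l', hl', hf⟩ := exists_restrict_eq_of_germ_eq hX H p E l s 0 h1
    refine ⟨V, f, by rw [hf, map_zero], l'.1.left (default : ↥(Spec (CommRingCat.of p.K))), ?_⟩
    rw [← hl']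
    rfl
  · rintro ⟨V, f, hf, v, hv⟩
    obtain ⟨l', hl', -⟩ := exists_liftsTo_of_point p f l v hv
    rw [← hl', ← germ_restrict hX H p f l' s, hf, map_zero]

/-- a restriction of `s` vanishes iff the morphism lands in the zero locus. -/
theorem restrict_eq_zero_iff (hX : IsAlgSpace X) (H : EtSh X AddCommGrpCat.{u + 1})
    {V E : EtOver X} (f : V ⟶ E) (s : H.obj.obj (op E)) :
    H.obj.map f.op s = 0 ↔
      Set.range f.hom.left.left ⊆ (zeroLocus H E s : Set ↥E.obj.left.left) := by
  constructor
  · rintro h _ ⟨v, rfl⟩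
    exact (mem_zeroLocus_iff H E s _).2 ⟨V, f, h, v, rfl⟩
  · intro h
    apply ab_eq_zero_of_germs hX H V
    intro p hp l
    have : IsAlgClosed p.K := hp
    rw [germ_restrict hX H p f l s, germ_eq_zero_iff]
    apply h
    exact ⟨l.1.left (default : ↥(Spec (CommRingCat.of p.K))), rfl⟩

end Groth.Agent.H32.EtStalk
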