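import Groth.Agent.H32.CIStalk2

import Groth.Agent.H32.EtStalk5
import Groth.Agent.H52.Charts
import Groth.Prelude.Def_AlgSpOX3
import Groth.Prelude.Def_AlgSpOX2

/-!
# Base change of etale neighbourhoods along a closed immersion of algebraic spaces is initial (helper32)
-/

set_option autoImplicit false
set_option backward.isDefEq.respectTransparency false
universe u
open CategoryTheory CategoryTheory.Limits AlgebraicGeometry Opposite

namespace Groth.Agent.H32.CIStalk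

open AlgSp

variable {S : Scheme.{u}} {Z X : AlgSp.Sp S} {i : Z ⟶ X} (hr : AlgSp.Representable i)
  (z : FieldPt Z)

theorem lift_cond (N : EtNbhd (z.map i)) : z.toHom ≫ i = (yon S).map N.2.1 ≫ N.1.obj.hom :=
  (N.2.2.trans (FieldPt.toHom_map i z)).symm

/-- base change of an etale neighbourhood of the image point. -/
noncomputable def nbhdObj (N : EtNbhd (z.map i)) : EtNbhd z :=
  ⟨(EtOver.bc hr).obj N.1, ⟨hr.lift z.toHom N.2.1 (lift_cond z N), hr.lift_fst _ _ _⟩⟩

theorem nbhdObj_lift_snd (N : EtNbhd (z.map i)) :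
    (nbhdObj hr z N).2.1 ≫ hr.snd N.1.obj.hom = N.2.1 := hr.lift_snd _ _ _

/-- a lift to the base change is determined by its projection. -/
theorem lift_ext (E : EtOver X) (l l' : (FieldPt.liftsTo z).obj ((EtOver.bc hr).obj E))
    (h : l.1 ≫ hr.snd E.obj.hom = l'.1 ≫ hr.snd E.obj.hom) : l = l' := by
  apply Subtype.ext
  apply hr.hom_ext
  · exact l.2.trans l'.2.symm
  · exact h

noncomputable def nbhdBC : EtNbhd (z.map i) ⥤ EtNbhd z where
  obj := nbhdObj hr z
  map {N N'} g := ⟨(EtOver.bc hr).map g.1, by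
    apply lift_ext hr z
    change ((nbhdObj hr z N).2.1 ≫ (EtOver.bcMap hr g.1).hom.left) ≫ _ = (nbhdObj hr z N').2.1 ≫ _
    rw [Category.assoc, EtOver.bcMap_snd, ← Category.assoc, nbhdObj_lift_snd, nbhdObj_lift_snd]
    exact congrArg Subtype.val g.2⟩
  map_id N := by
    apply Subtype.ext
    exact (EtOver.bc hr).map_id _
  map_comp g g' := by
    apply Subtype.ext
    exact (EtOver.bc hr).map_comp _ _


/-- (1') every etale neighbourhood of `z` over `N ×_X Z` is dominated by the base change of an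
etale neighbourhood of the image point over `N`. -/
theorem exists_dominate (hi : RepWith @IsClosedImmersion i) [IsSepClosed z.K]
    (N : EtNbhd (z.map i)) (M : EtNbhd z) (μ : M ⟶ (nbhdBC hi.1 z).obj N) :
    ∃ (N' : EtNbhd (z.map i)) (t : N' ⟶ N) (m : (nbhdBC hi.1 z).obj N' ⟶ M),
      m ≫ μ = (nbhdBC hi.1 z).map t := by
  have hr := hi.1
  obtain ⟨E, l⟩ := N
  obtain ⟨EM, lM⟩ := M
  obtain ⟨μ₀, hμ⟩ := μ
  have hι : IsClosedImmersion (hi.1.snd E.obj.hom).left :=
    hi.2 E.obj.hom (hi.1.fst E.obj.hom) (hi.1.snd E.obj.hom) (hi.1.isPullback E.obj.hom)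
  have he : Etale μ₀.hom.left.left := EtOver.etale_left μ₀
  let m₀ : ↥EM.obj.left.left := lM.1.left (default : ↥(Spec (CommRingCat.of z.K)))
  obtain ⟨N'₀, a, ha, H⟩ := exists_etale_nbhd_lift (hi.1.snd E.obj.hom).left μ₀.hom.left.left m₀
  let E' : EtOver X := EtOver.mk ((yon S).map (Groth.Agent.H52.overOfHom a) ≫ E.obj.hom)
    (Groth.Agent.H52.repWith_yon_map_comp @Etale (Groth.Agent.H52.overOfHom a) ha E.obj.hom E.property)
  let t₀ : E' ⟶ E := EtOver.homMk (Groth.Agent.H52.overOfHom a) rfl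
  have sq := EtOver.isPullback_bcMap_left hi.1 t₀
  obtain ⟨ψ, n', hψ1, hψ2⟩ := H _ _ _ sq
  -- ψ as a morphism over S
  have hψS : ψ ≫ EM.obj.left.hom = ((EtOver.bc hi.1).obj E').obj.left.hom := by
    have e1 : μ₀.hom.left.left ≫ ((EtOver.bc hi.1).obj E).obj.left.hom = EM.obj.left.hom :=
      Over.w μ₀.hom.left
    have e2 : (EtOver.bcMap hi.1 t₀).hom.left.left ≫ ((EtOver.bc hi.1).obj E).obj.left.hom =
        ((EtOver.bc hi.1).obj E').obj.left.hom := Over.w (EtOver.bcMap hi.1 t₀).hom.left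
    rw [← e1, ← Category.assoc, hψ1]
    exact e2
  let ψ' : ((EtOver.bc hi.1).obj E').obj.left ⟶ EM.obj.left := Over.homMk ψ hψS
  have hψ' : ψ' ≫ μ₀.hom.left = (EtOver.bcMap hi.1 t₀).hom.left := Over.OverMorphism.ext hψ1
  have hψw : (yon S).map ψ' ≫ EM.obj.hom = ((EtOver.bc hi.1).obj E').obj.hom := by
    rw [← EtOver.w μ₀, ← Category.assoc, ← Functor.map_comp, hψ']
    exact EtOver.map_bcMap_fst hi.1 t₀
  let mψ : (EtOver.bc hi.1).obj E' ⟶ EM := EtOver.homMk ψ' hψw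
  have hmψ : mψ ≫ μ₀ = (EtOver.bc hi.1).map t₀ := EtOver.hom_ext _ _ hψ'
  -- the geometric point
  obtain ⟨l', hl'1, -⟩ := Groth.Agent.H32.EtStalk.exists_liftsTo_of_point z mψ lM n' hψ2
  have hl'1' : l'.1 ≫ ψ' = lM.1 := congrArg Subtype.val hl'1
  have hlN' : (yon S).map (l'.1 ≫ hi.1.snd E'.obj.hom) ≫ E'.obj.hom = (z.map i).toHom := by
    rw [Functor.map_comp, Category.assoc, ← hi.1.w, ← Category.assoc]
    have := l'.2
    rw [FieldPt.toHom_map]
    exact congrArg (· ≫ i) this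
  let lN' : (FieldPt.liftsTo (z.map i)).obj E' := ⟨l'.1 ≫ hi.1.snd E'.obj.hom, hlN'⟩
  let N' : EtNbhd (z.map i) := ⟨E', lN'⟩
  have hΦ : ((nbhdBC hi.1 z).obj N').2 = l' := by
    apply lift_ext hi.1 z
    exact nbhdObj_lift_snd hi.1 z N'
  have hμ' : lM.1 ≫ μ₀.hom.left = ((nbhdBC hi.1 z).obj ⟨E, l⟩).2.1 := congrArg Subtype.val hμ
  have ht : (FieldPt.liftsTo (z.map i)).map t₀ lN' = l := by
    apply Subtype.ext
    change (l'.1 ≫ hi.1.snd E'.obj.hom) ≫ t₀.hom.left = l.1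
    rw [Category.assoc, ← EtOver.bcMap_snd hi.1 t₀, ← hψ', ← Category.assoc, ← Category.assoc,
      hl'1', hμ']
    exact nbhdObj_lift_snd hi.1 z ⟨E, l⟩
  let t : N' ⟶ (⟨E, l⟩ : EtNbhd (z.map i)) := ⟨t₀, ht⟩
  have hm : (FieldPt.liftsTo z).map mψ ((nbhdBC hi.1 z).obj N').2 = lM := by
    rw [hΦ]
    exact hl'1
  let m : (nbhdBC hi.1 z).obj N' ⟶ (⟨EM, lM⟩ : EtNbhd z) := ⟨mψ, hm⟩
  refine ⟨N', t, m, ?_⟩
  apply Subtype.ext
  exact hmψ


/-- base change of etale neighbourhoods along a closed immersion is an initial functor. -/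
theorem nbhdBC_initial (hZ : IsAlgSpace Z) (hX : IsAlgSpace X) (hi : RepWith @IsClosedImmersion i)
    [IsSepClosed z.K] : (nbhdBC hi.1 z).Initial := by
  have hK : IsSepClosed (z.map i).K := inferInstanceAs (IsSepClosed z.K)
  have := Groth.Agent.H32.EtStalk.isCofiltered_etNbhd hZ z
  refine Functor.initial_of_exists_of_isCofiltered _ ?_ ?_
  · intro M
    obtain ⟨N₀⟩ := Groth.Agent.H32.EtStalk.nonempty_etNbhd hX (z.map i)
    obtain ⟨N', t, m, -⟩ := exists_dominate z hi N₀ _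
      (IsCofiltered.minToRight M ((nbhdBC hi.1 z).obj N₀))
    exact ⟨N', ⟨m ≫ IsCofiltered.minToLeft M ((nbhdBC hi.1 z).obj N₀)⟩⟩
  · intro M N s s'
    obtain ⟨N', t, m, hm⟩ := exists_dominate z hi N _ (IsCofiltered.eqHom s s')
    refine ⟨N', t, ?_⟩
    rw [← hm, Category.assoc, Category.assoc, IsCofiltered.eq_condition]

end Groth.Agent.H32.CIStalk
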