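import Groth.Agent.H52.EpiFppf
import Groth.Agent.H52.MonoField
import Groth.Agent.H50.Quot
import Groth.Agent.H32.AtlasCover
import Groth.Prelude.Def_AlgSpOX

/-!
# Morphisms out of an algebraic space are compatible families on its etale charts (helper32)
-/

set_option autoImplicit false
universe u
open CategoryTheory CategoryTheory.Limits AlgebraicGeometry Opposite

namespace Groth.Agent.H32.ChartGlue

open AlgSp

variable {S : Scheme.{u}} {X : AlgSp.Sp S}

theorem etale_le_flat : ∀ ⦃A B : Scheme.{u}⦄ (g : A ⟶ B), Etale g → Flat g :=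
  fun _ _ _ h => inferInstance

theorem etale_le_lfp : ∀ ⦃A B : Scheme.{u}⦄ (g : A ⟶ B), Etale g → LocallyOfFinitePresentation g :=
  fun _ _ _ h => inferInstance

/-- an etale surjective chart is an epimorphism of sheaves. -/
theorem epi_of_etale_surjective {F G : Sp S} (a : F ⟶ G) (ha : RepWith @Etale a)
    (hs : RepWith @Surjective a) : Epi a :=
  Groth.Agent.H52.epi_of_repWith_fppf a (AtlasCover.repWith_mono etale_le_flat ha)
    (AtlasCover.repWith_mono etale_le_lfp ha) hs

/-- two morphisms out of an algebraic space that agree on all etale charts are equal. -/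
theorem hom_ext_of_charts (hX : IsAlgSpace X) {G : Sp S} (f f' : X ⟶ G)
    (h : ∀ E : EtOver X, E.obj.hom ≫ f = E.obj.hom ≫ f') : f = f' := by
  obtain ⟨U, a, ha, hs⟩ := hX.atlas
  have := epi_of_etale_surjective a ha hs
  rw [← cancel_epi a]
  exact h (EtOver.mk a ha)

/-- a compatible family of morphisms from the etale charts of an algebraic space glues. -/
theorem exists_desc_of_compatible (hX : IsAlgSpace X) (G : Sp S)
    (g : ∀ E : EtOver X, (yon S).obj E.obj.left ⟶ G)
    (hg : ∀ {E E' : EtOver X} (h : E ⟶ E'), (yon S).map h.hom.left ≫ g E' = g E) :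
    ∃ f : X ⟶ G, ∀ E : EtOver X, E.obj.hom ≫ f = g E := by
  obtain ⟨U, a, ha, hs⟩ := hX.atlas
  have hepi := epi_of_etale_surjective a ha hs
  have heff := Groth.Agent.H50.effectiveEpi_of_epi a
  let EU : EtOver X := EtOver.mk a ha
  -- charts over a fibre product with the atlas
  have key : ∀ (E : EtOver X), ∃ (W : Over S) (snd : W ⟶ E.obj.left) (fst' : W ⟶ U)
      (_ : IsPullback ((yon S).map fst') ((yon S).map snd) a E.obj.hom)
      (_ : Etale snd.left) (_ : Surjective snd.left),
      (yon S).map fst' ≫ g EU = (yon S).map snd ≫ g E := by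
    intro E
    obtain ⟨W, snd, fst, sq⟩ := ha.1 E.obj.hom
    obtain ⟨fst', rfl⟩ := (yon S).map_surjective fst
    have hsnd : Etale snd.left := ha.2 E.obj.hom _ snd sq
    have hsnd' : Surjective snd.left := hs.2 E.obj.hom _ snd sq
    let EW : EtOver X := EtOver.mk ((yon S).map snd ≫ E.obj.hom)
      ((repWith_isMultiplicative (S := S) @Etale).comp_mem _ _
        ((repWith_yon_map_iff _ _).2 hsnd) E.property)
    let q₁ : EW ⟶ E := EtOver.homMk snd rfl
    let q₂ : EW ⟶ EU := EtOver.homMk fst' sq.w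
    refine ⟨W, snd, fst', sq, hsnd, hsnd', ?_⟩
    exact (hg q₂).trans (hg q₁).symm
  have hq : ∀ {Z : Sp S} (g₁ g₂ : Z ⟶ (yon S).obj U), g₁ ≫ a = g₂ ≫ a →
      g₁ ≫ g EU = g₂ ≫ g EU := by
    intro Z g₁ g₂ h12
    obtain ⟨W, snd, fst', sq, -, -, hW⟩ := key EU
    have h1 : g₁ = sq.lift g₁ g₂ h12 ≫ (yon S).map fst' := (sq.lift_fst _ _ _).symm
    have h2 : g₂ = sq.lift g₁ g₂ h12 ≫ (yon S).map snd := (sq.lift_snd _ _ _).symm
    rw [h1, Category.assoc, hW, ← Category.assoc, ← h2]
  refine ⟨EffectiveEpi.desc a (g EU) hq, ?_⟩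
  intro E
  obtain ⟨W, snd, fst', sq, hsnd, hsnd', hW⟩ := key E
  have : Epi ((yon S).map snd) := Groth.Agent.H52.epi_yon_map_of_fppf snd
  rw [← cancel_epi ((yon S).map snd), ← hW, ← Category.assoc, ← sq.w, Category.assoc,
    EffectiveEpi.fac]

end Groth.Agent.H32.ChartGlue
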