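import Groth.Agent.H32.Cover

/-!
# The comparison morphism `𝒳 ×_𝒵 𝒴 ⟶ 𝒳 ×_𝒯 𝒴` (helper32)
-/

set_option autoImplicit false
open CategoryTheory CategoryTheory.Limits AlgebraicGeometry Opposite
universe u

namespace Groth.Agent.H32.CompMap

open FibCat Stk Groth.Agent.H32.FibProd Groth.Agent.H32.Fp2 Groth.Agent.H32.Fp3
  Groth.Agent.H32.Fp4 Groth.Agent.H32.SpBridge Groth.Agent.H32.PFacts
  Groth.Agent.H32.AlgStackEquiv Groth.Agent.H32.AtlasRep Groth.Agent.H32.SpComp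
  Groth.Agent.H32.StackOps Groth.Agent.H32.Magic Groth.Agent.H32.Sect Groth.Agent.H32.Repr
  Groth.Agent.H32.SectSt

variable {S : Scheme.{u}}

section
variable {𝒱 𝒰 𝒴 𝒵 : AlgSt.Cat S} (y₁ : 𝒱 ⥤ᵇ 𝒴) (y₂ : 𝒰 ⥤ᵇ 𝒴) (g : 𝒴 ⥤ᵇ 𝒵)
  (e : BasedFunctor.comp (fpFst y₁ y₂) (BasedFunctor.comp y₁ g) ≅
    BasedFunctor.comp (fpSnd y₁ y₂) (BasedFunctor.comp y₂ g))
  (he : ∀ x, e.hom.toNatTrans.app x = g.map x.obj.iso.hom)

/-- the comparison morphism is a base change of the diagonal of `g`. -/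
def compIso :
    BasedFunctor.comp (magic y₁ y₂ g)
      (fpLift (F := BasedFunctor.comp y₁ g) (G := BasedFunctor.comp y₂ g)
        (fpFst y₁ y₂) (fpSnd y₁ y₂) e) ≅ fpFst (prodF y₁ y₂ g) (diag g) :=
  fpIsoMk _ _ (fun ω => Iso.refl ω.obj.fst.obj.fst) (fun ω => Iso.refl ω.obj.fst.obj.snd)
    (fun _ => IsHomLift.id rfl)
    (fun ω => sq_id_aux2 _ _ _ _ ((BasedFunctor.comp y₁ g).toFunctor.map_id _)
      ((BasedFunctor.comp y₂ g).toFunctor.map_id _)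
      ((tau_eq y₁ y₂ g ω).trans (he ((magic y₁ y₂ g).obj ω)).symm))
    (fun _ => id_nat_aux _ _ rfl) (fun _ => id_nat_aux _ _ rfl)

include he in
theorem with_compMap (Q : MorphismProperty (AlgSp.Sp S)) (h𝒱 : IsFibGrpd 𝒱.p)
    (h𝒰 : IsFibGrpd 𝒰.p) (h𝒴 : IsFibGrpd 𝒴.p) (h𝒵 : IsFibGrpd 𝒵.p)
    (hΔ : AlgSt.RepByAlgSpWith Q (FibCat.diag g)) :
    AlgSt.RepByAlgSpWith Q (FibCat.fpLift (F := BasedFunctor.comp y₁ g)
      (G := BasedFunctor.comp y₂ g) (fpFst y₁ y₂) (fpSnd y₁ y₂) e) := by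
  have i0 : IsFibGrpd (fp y₁ y₂).p := fp_isFibGrpd _ _ h𝒱 h𝒰 h𝒴
  have hgg : IsFibGrpd (fp g g).p := fp_isFibGrpd _ _ h𝒴 h𝒴 h𝒵
  have h1 : IsFibGrpd (fp (BasedFunctor.comp y₁ g) (BasedFunctor.comp y₂ g)).p :=
    fp_isFibGrpd _ _ h𝒱 h𝒰 h𝒵
  have h2 : IsFibGrpd (fp (prodF y₁ y₂ g) (diag g)).p := fp_isFibGrpd _ _ h1 h𝒴 hgg
  have hπ : AlgSt.RepByAlgSpWith Q (fpFst (prodF y₁ y₂ g) (diag g)) :=
    Groth.Agent.S12779.result h𝒴 hgg h1 Q (diag g) (prodF y₁ y₂ g) hΔ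
  exact (Groth.Agent.S12782.result i0 h1 h2 h1 Q _ (fpFst (prodF y₁ y₂ g) (diag g))
    (magic y₁ y₂ g) (BasedFunctor.id _) (magic_isEquivOver y₁ y₂ g) (isEquivOver_id _)
    (compIso y₁ y₂ g e he).symm).mpr hπ

end

end Groth.Agent.H32.CompMap
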