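import Groth.Agent.H32.DiagDescent
import Groth.Agent.S12766

/-!
# Properties of the absolute diagonal from a flat cover (helper32)
-/

set_option autoImplicit false
open CategoryTheory CategoryTheory.Limits AlgebraicGeometry Opposite
universe u

namespace Groth.Agent.H32.Cover

open FibCat Stk Groth.Agent.H32.FibProd Groth.Agent.H32.Fp2 Groth.Agent.H32.Fp3
  Groth.Agent.H32.Fp4 Groth.Agent.H32.SpBridge Groth.Agent.H32.PFacts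
  Groth.Agent.H32.AlgStackEquiv Groth.Agent.H32.AtlasRep Groth.Agent.H32.SpComp
  Groth.Agent.H32.StackOps Groth.Agent.H32.Magic Groth.Agent.H32.Sect Groth.Agent.H32.Repr
  Groth.Agent.H32.SectSt Groth.Agent.H32.DiagRep Groth.Agent.H32.GoodMore
  Groth.Agent.H32.AtlasCover Groth.Agent.H32.DiagApps Groth.Agent.H32.DiagDescent
  Groth.Agent.H32.Prod

variable {S : Scheme.{u}}

/-- the terminal object of schemes over `S`. -/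
def T₀ (S : Scheme.{u}) : Over S := Over.mk (𝟙 S)

theorem hom_T₀_ext {X : Over S} (a b : X ⟶ T₀ S) : a = b := by
  apply Over.OverMorphism.ext
  have ha : a.left ≫ 𝟙 (T₀ S).left = X.hom := Over.w a
  have hb : b.left ≫ 𝟙 (T₀ S).left = X.hom := Over.w b
  rw [Category.comp_id] at ha hb
  rw [ha, hb]

theorem toSelf_T₀_isEquivOver : IsEquivOver (FibCat.toSelf (FibCat.overCat (T₀ S))) := by
  rw [Groth.Agent.S5139.result]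
  refine ⟨⟨⟨fun {a b} n => ?_⟩, ⟨fun {a b} m m' hmm' => ?_⟩⟩, fun η => ?_⟩
  · exact ⟨Over.homMk n (hom_T₀_ext _ _), rfl⟩
  · exact Over.OverMorphism.ext hmm'
  · refine ⟨Over.mk (Over.homMk η.hom (by simp [T₀]) : η ⟶ T₀ S), Iso.refl _, ?_⟩
    exact IsHomLift.id rfl

theorem repByAlgSp_selfOver : AlgSt.RepByAlgSp (FibCat.selfOver (Over S)) :=
  repByAlgSp_of_equiv _ toSelf_T₀_isEquivOver (repByAlgSp_overCat (T₀ S))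

/-- `𝒰 ×_𝒴 𝒳 ⟶ 𝒰 ×_𝒴 𝒵` is a base change of `E : 𝒳 ⟶ 𝒵`. -/
theorem with_pasteMidR (P : MorphismProperty (AlgSp.Sp S)) {𝒰 𝒵 𝒴 𝒳 : AlgSt.Cat S}
    (h𝒰 : IsFibGrpd 𝒰.p) (h𝒵 : IsFibGrpd 𝒵.p) (h𝒴 : IsFibGrpd 𝒴.p) (h𝒳 : IsFibGrpd 𝒳.p)
    (y : 𝒰 ⥤ᵇ 𝒴) (E : 𝒳 ⥤ᵇ 𝒵) (h : 𝒵 ⥤ᵇ 𝒴) (hE : AlgSt.RepByAlgSpWith P E) :
    AlgSt.RepByAlgSpWith P (pasteMidR y E h) := by
  have h1 : AlgSt.RepByAlgSpWith P (pasteMid E h y) := with_pasteMid P h𝒳 h𝒵 h𝒴 h𝒰 E h y hE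
  have i1 : IsFibGrpd (fp (BasedFunctor.comp E h) y).p := fp_isFibGrpd _ _ h𝒳 h𝒰 h𝒴
  have i2 : IsFibGrpd (fp h y).p := fp_isFibGrpd _ _ h𝒵 h𝒰 h𝒴
  have i3 : IsFibGrpd (fp y (BasedFunctor.comp E h)).p := fp_isFibGrpd _ _ h𝒰 h𝒳 h𝒴
  have i4 : IsFibGrpd (fp y h).p := fp_isFibGrpd _ _ h𝒰 h𝒵 h𝒴
  have h2 : AlgSt.RepByAlgSpWith P (BasedFunctor.comp (pasteMid E h y) (swap h y)) :=
    (with_postcomp_equiv P i1 i2 i4 _ (swap h y) (swap_isEquivOver h y)).mpr h1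
  exact with_precomp_equiv P i3 i1 i4 (swap y (BasedFunctor.comp E h)) (swap_isEquivOver _ _) _ h2

/-- `prodF y₁ y₂ g` as a composite of two base changes. -/
def prodFIso {𝒱 𝒰 𝒴 𝒵 : AlgSt.Cat S} (y₁ : 𝒱 ⥤ᵇ 𝒴) (y₂ : 𝒰 ⥤ᵇ 𝒴) (g : 𝒴 ⥤ᵇ 𝒵) :
    prodF y₁ y₂ g ≅ BasedFunctor.comp (pasteMidR (BasedFunctor.comp y₁ g) y₂ g) (pasteMid y₁ g g) :=
  fpIsoMk _ _ (fun _ => Iso.refl _) (fun _ => Iso.refl _)
    (fun t => isHomLift_id_of_eq 𝒴.p (y₁.w_obj t.obj.fst) _ (IsHomLift.id rfl))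
    (fun _ => sq_id_aux2 _ _ _ _ (g.toFunctor.map_id _) (g.toFunctor.map_id _) rfl)
    (fun _ => id_nat_aux _ _ rfl) (fun _ => id_nat_aux _ _ rfl)

theorem with_prodF {P : MorphismProperty (AlgSp.Sp S)} (hG : Good P) {𝒱 𝒰 𝒴 𝒵 : AlgSt.Cat S}
    (h𝒱 : IsFibGrpd 𝒱.p) (h𝒰 : IsFibGrpd 𝒰.p) (h𝒴 : IsFibGrpd 𝒴.p) (h𝒵 : IsFibGrpd 𝒵.p)
    (y₁ : 𝒱 ⥤ᵇ 𝒴) (y₂ : 𝒰 ⥤ᵇ 𝒴) (g : 𝒴 ⥤ᵇ 𝒵) (h₁ : AlgSt.RepByAlgSpWith P y₁)
    (h₂ : AlgSt.RepByAlgSpWith P y₂) : AlgSt.RepByAlgSpWith P (prodF y₁ y₂ g) := by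
  have i1 : IsFibGrpd (fp (BasedFunctor.comp y₁ g) (BasedFunctor.comp y₂ g)).p :=
    fp_isFibGrpd _ _ h𝒱 h𝒰 h𝒵
  have i2 : IsFibGrpd (fp (BasedFunctor.comp y₁ g) g).p := fp_isFibGrpd _ _ h𝒱 h𝒴 h𝒵
  have i3 : IsFibGrpd (fp g g).p := fp_isFibGrpd _ _ h𝒴 h𝒴 h𝒵
  have hA : AlgSt.RepByAlgSpWith P (pasteMidR (BasedFunctor.comp y₁ g) y₂ g) :=
    with_pasteMidR P h𝒱 h𝒴 h𝒵 h𝒰 _ y₂ g h₂
  have hB : AlgSt.RepByAlgSpWith P (pasteMid y₁ g g) := with_pasteMid P h𝒱 h𝒴 h𝒵 h𝒴 y₁ g g h₁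
  exact with_of_iso P i1 i3 (prodFIso y₁ y₂ g) (with_comp hG i1 i2 i3 _ _ hA hB)

/-- if `𝒳` has a flat, locally finitely presented, surjective cover `w` by (the category of) an
algebraic space and `w` has `Q`, a property that sections of morphisms of algebraic spaces have, then
the absolute diagonal of `𝒳` has `Q`. -/
theorem with_diag_toSelf_of_cover {Q : MorphismProperty (AlgSp.Sp S)} (hG : Good Q)
    (hsec : ∀ (X T : AlgSp.Space S) (f : X ⟶ T) (s : T ⟶ X), s ≫ f = 𝟙 T → Q s.hom)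
    {𝒳 𝒲 : AlgSt.Cat S} (h𝒳 : IsFibGrpd 𝒳.p)
    (h𝒳d : AlgSt.RepByAlgSp1 (FibCat.diag (FibCat.toSelf 𝒳)))
    (h𝒲 : IsFibGrpd 𝒲.p) (hW : AlgSt.RepByAlgSp 𝒲) (w : 𝒲 ⥤ᵇ 𝒳)
    (hw₁ : AlgSt.RepByAlgSpWith (AlgSp.LocP @Flat) w)
    (hw₂ : AlgSt.RepByAlgSpWith (AlgSp.LocP @LocallyOfFinitePresentation) w)
    (hw₃ : AlgSt.RepByAlgSpWith AlgSp.IsSurjectiveMor w)
    (hwQ : AlgSt.RepByAlgSpWith Q w) :
    AlgSt.RepByAlgSpWith Q (FibCat.diag (FibCat.toSelf 𝒳)) := by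
  have hself : IsFibGrpd (FibCat.selfOver (Over S)).p := self_isFibGrpd
  obtain ⟨wt, hwt⟩ : ∃ wt : 𝒲 ⥤ᵇ FibCat.selfOver (Over S),
      wt = BasedFunctor.comp w (FibCat.toSelf 𝒳) := ⟨_, rfl⟩
  have hwt_rep : AlgSt.RepByAlgSp1 wt := repByAlgSp1_of_repByAlgSp hW repByAlgSp_selfOver wt
  have hWW : AlgSt.RepByAlgSp (fp wt wt) :=
    Groth.Agent.S12766.result h𝒲 hself h𝒲 wt wt hwt_rep hW
  have iWW : IsFibGrpd (fp wt wt).p := fp_isFibGrpd _ _ h𝒲 h𝒲 hself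
  have iww : IsFibGrpd (fp w w).p := fp_isFibGrpd _ _ h𝒲 h𝒲 h𝒳
  have itt : IsFibGrpd (fp (FibCat.toSelf 𝒳) (FibCat.toSelf 𝒳)).p := fp_isFibGrpd _ _ h𝒳 h𝒳 hself
  have hc : AlgSt.RepByAlgSp1 (fpFst wt wt) := repByAlgSp1_of_repByAlgSp hWW hW _
  have hΔc : AlgSt.RepByAlgSpWith Q (FibCat.diag (fpFst wt wt)) :=
    with_diag_of_rep Q hG.bc hsec iWW h𝒲 _ hc
  subst hwt
  have hac : AlgSt.RepByAlgSpWith Q (BasedFunctor.comp (diagMap w (FibCat.toSelf 𝒳))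
      (fpFst (BasedFunctor.comp w (FibCat.toSelf 𝒳)) (BasedFunctor.comp w (FibCat.toSelf 𝒳)))) :=
    Groth.Agent.S12779.result h𝒲 h𝒳 h𝒲 Q w w hwQ
  have ha : AlgSt.RepByAlgSpWith Q (diagMap w (FibCat.toSelf 𝒳)) :=
    with_cancel hG iww iWW h𝒲 _ _ hac hΔc
  have i2 : IsFibGrpd (fp (prodF w w (FibCat.toSelf 𝒳)) (diag (FibCat.toSelf 𝒳))).p :=
    fp_isFibGrpd _ _ iWW h𝒳 itt
  have hπ : AlgSt.RepByAlgSpWith Q (fpFst (prodF w w (FibCat.toSelf 𝒳))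
      (diag (FibCat.toSelf 𝒳))) :=
    (Groth.Agent.S12782.result iww iWW i2 iWW Q (diagMap w (FibCat.toSelf 𝒳))
      (fpFst (prodF w w (FibCat.toSelf 𝒳)) (diag (FibCat.toSelf 𝒳)))
      (magic w w (FibCat.toSelf 𝒳)) (BasedFunctor.id _) (magic_isEquivOver w w _)
      (isEquivOver_id _) (diagMapIso w (FibCat.toSelf 𝒳)).symm).mp ha
  exact with_of_fpFst_cover Q hG.loc h𝒳 itt _ h𝒳d (prodF w w (FibCat.toSelf 𝒳))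
    (with_prodF good_flat h𝒲 h𝒲 h𝒳 hself w w _ hw₁ hw₁)
    (with_prodF good_lfp h𝒲 h𝒲 h𝒳 hself w w _ hw₂ hw₂)
    (with_prodF good_surjective h𝒲 h𝒲 h𝒳 hself w w _ hw₃ hw₃) hπ

theorem locP_mono {P P' : MorphismProperty Scheme.{u}}
    (hle : ∀ ⦃A B : Scheme.{u}⦄ (g : A ⟶ B), P g → P' g) {X Y : AlgSp.Sp S} (f : X ⟶ Y)
    (hf : AlgSp.LocP P f) : AlgSp.LocP P' f :=
  fun _ _ a b h ha hb comm => hle _ (hf a b h ha hb comm)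

/-- the absolute diagonal of an algebraic stack is locally of finite type. -/
theorem lft_diag_toSelf {𝒳 : AlgSt.Cat S} (h𝒳 : AlgSt.IsAlgStack Scheme.fppfPrecoverage 𝒳) :
    AlgSt.RepByAlgSpWith (AlgSp.LocP @LocallyOfFiniteType) (FibCat.diag (FibCat.toSelf 𝒳)) := by
  obtain ⟨U, x, hx1, hx2⟩ := h𝒳.atlas
  exact with_diag_toSelf_of_cover good_lft sec_lft h𝒳.isStack.1 h𝒳.diag
    (Groth.Agent.S6411.over_isFibGrpd U) (repByAlgSp_overCat U) x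
    (with_imp (fun _ _ a ha => locP_mono (fun _ _ g hg => by have : Smooth g := hg; infer_instance) a ha) hx1)
    (with_imp (fun _ _ a ha => locP_mono (fun _ _ g hg => by have : Smooth g := hg; infer_instance) a ha) hx1)
    hx2
    (with_imp (fun _ _ a ha => locP_mono (fun _ _ g hg => by have : Smooth g := hg; infer_instance) a ha) hx1)

/-- the diagonal of a morphism of algebraic stacks is locally of finite type. -/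
theorem lft_diag {𝒳 𝒴 : AlgSt.Cat S} (h𝒳 : AlgSt.IsAlgStack Scheme.fppfPrecoverage 𝒳)
    (h𝒴 : AlgSt.IsAlgStack Scheme.fppfPrecoverage 𝒴) (f : 𝒳 ⥤ᵇ 𝒴) :
    AlgSt.RepByAlgSpWith (AlgSp.LocP @LocallyOfFiniteType) (FibCat.diag f) := by
  have h2 : AlgSt.RepByAlgSpWith (AlgSp.LocP @LocallyOfFiniteType)
      (FibCat.diag (BasedFunctor.comp f (FibCat.toSelf 𝒴))) := by
    rw [eq_toSelf (BasedFunctor.comp f (FibCat.toSelf 𝒴))]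
    exact lft_diag_toSelf h𝒳
  exact with_diag_of_comp good_lft sec_lft h𝒳.isStack.1 h𝒴.isStack.1 self_isFibGrpd f
    (FibCat.toSelf 𝒴) h𝒴.diag h2

end Groth.Agent.H32.Cover
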