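import Groth.Agent.H32.PFacts
import Groth.Agent.H51.Proper
import Groth.Agent.H52.QCOps
import Groth.Agent.S10536
import Groth.Agent.S10519
import Groth.Agent.S10520
import Groth.Agent.S10526
import Groth.Agent.S10527
import Groth.Agent.S10530
import Groth.Agent.S10535

/-!
# More `Good` properties of morphisms of algebraic spaces (helper32)
-/

set_option autoImplicit false
open CategoryTheory CategoryTheory.Limits AlgebraicGeometry Opposite
universe u

namespace Groth.Agent.H32.GoodMore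

open Groth.Agent.H32.PFacts AlgSp

variable {S : Scheme.{u}}

theorem good_inf {P Q : MorphismProperty (AlgSp.Sp S)} (hP : Good P) (hQ : Good Q) :
    Good (P ⊓ Q) where
  bc := fun _ _ _ _ h1 h2 h3 h4 a b a' b' sq ha =>
    ⟨hP.bc h1 h2 h3 h4 a b a' b' sq ha.1, hQ.bc h1 h2 h3 h4 a b a' b' sq ha.2⟩
  comp := fun _ _ _ h1 h2 h3 a b ha hb =>
    ⟨hP.comp h1 h2 h3 a b ha.1 hb.1, hQ.comp h1 h2 h3 a b ha.2 hb.2⟩
  loc := by
    intro ι Y Yi g hY hYi hcov X f hX Xi p q hXi hsq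
    constructor
    · intro hf i
      exact ⟨(hP.loc Yi g hY hYi hcov f hX Xi p q hXi hsq).1 hf.1 i,
        (hQ.loc Yi g hY hYi hcov f hX Xi p q hXi hsq).1 hf.2 i⟩
    · intro h
      exact ⟨(hP.loc Yi g hY hYi hcov f hX Xi p q hXi hsq).2 fun i => (h i).1,
        (hQ.loc Yi g hY hYi hcov f hX Xi p q hXi hsq).2 fun i => (h i).2⟩

theorem good_proper : Good (AlgSp.IsProperMor (S := S)) where
  bc := fun X₁ Y₁ X₂ Y₂ hX₁ hY₁ hX₂ hY₂ a b a' b' sq ha =>
    Groth.Agent.H51.isProperMor_of_isPullback (X := ⟨X₁, hX₁⟩) (Y := ⟨Y₁, hY₁⟩) (Y' := ⟨Y₂, hY₂⟩)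
      (X' := ⟨X₂, hX₂⟩) (ObjectProperty.homMk a) (ObjectProperty.homMk b) (ObjectProperty.homMk b')
      (ObjectProperty.homMk a') sq ha
  comp := fun X Y Z hX hY hZ a b ha hb =>
    Groth.Agent.H51.isProperMor_comp (X := ⟨X, hX⟩) (Y := ⟨Y, hY⟩) (Z := ⟨Z, hZ⟩)
      (ObjectProperty.homMk a) (ObjectProperty.homMk b) ha hb
  loc := Groth.Agent.H32.FppfLocal.isLocalOnBase_fppf_of_fpqc _ (Groth.Agent.S10536.result S)

/-- Base change of a quasi-separated morphism of algebraic spaces. -/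
theorem isQuasiSeparatedMor_of_isPullback {X Y Y' X' : AlgSp.Space S} (f : X ⟶ Y) (g : Y' ⟶ Y)
    (fst : X' ⟶ X) (f' : X' ⟶ Y') (sq : IsPullback fst.hom f'.hom f.hom g.hom)
    (hf : IsQuasiSeparatedMor f.hom) : IsQuasiSeparatedMor f'.hom := by
  refine (Groth.Agent.S9903.result f').2.2 fun Z hZ k P fst' snd' sq' => ?_
  exact (Groth.Agent.S9903.result f).2.1 hf Z hZ (k ≫ g.hom) P (fst' ≫ fst.hom) snd'
    (sq'.paste_horiz sq)

/-- Composition of quasi-separated morphisms of algebraic spaces. -/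
theorem isQuasiSeparatedMor_comp {X Y Z : AlgSp.Space S} (f : X ⟶ Y) (g : Y ⟶ Z)
    (hf : IsQuasiSeparatedMor f.hom) (hg : IsQuasiSeparatedMor g.hom) :
    IsQuasiSeparatedMor (f ≫ g).hom := by
  have inst2 := AlgSp.repWith_isMultiplicative (S := S) @QuasiCompact
  show RepWith @QuasiCompact (pullback.diagonal (f.hom ≫ g.hom))
  rw [Groth.Agent.H51.diagonal_comp_eq]
  exact (RepWith @QuasiCompact).comp_mem _ _ hf
    ((Groth.Agent.S9901.result f f g).2.2.2.2.2.2 hg)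

theorem good_quasiSeparated : Good (AlgSp.IsQuasiSeparatedMor (S := S)) where
  bc := fun X₁ Y₁ X₂ Y₂ hX₁ hY₁ hX₂ hY₂ a b a' b' sq ha =>
    isQuasiSeparatedMor_of_isPullback (X := ⟨X₁, hX₁⟩) (Y := ⟨Y₁, hY₁⟩) (Y' := ⟨Y₂, hY₂⟩)
      (X' := ⟨X₂, hX₂⟩) (ObjectProperty.homMk a) (ObjectProperty.homMk b) (ObjectProperty.homMk b')
      (ObjectProperty.homMk a') sq ha
  comp := fun X Y Z hX hY hZ a b ha hb =>
    isQuasiSeparatedMor_comp (X := ⟨X, hX⟩) (Y := ⟨Y, hY⟩) (Z := ⟨Z, hZ⟩)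
      (ObjectProperty.homMk a) (ObjectProperty.homMk b) ha hb
  loc := Groth.Agent.H32.FppfLocal.isLocalOnBase_fppf_of_fpqc _ (Groth.Agent.S10520.result S)

theorem good_quasiCompact : Good (AlgSp.IsQuasiCompactMor (S := S)) where
  bc := fun _ _ _ _ _ _ _ _ _ _ _ _ sq ha => Groth.Agent.H51.isQuasiCompactMor_of_isPullback sq ha
  comp := fun _ _ _ _ hY hZ _ _ ha hb => Groth.Agent.H51.isQuasiCompactMor_comp hY hZ ha hb
  loc := Groth.Agent.H32.FppfLocal.isLocalOnBase_fppf_of_fpqc _ (Groth.Agent.S10519.result S)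

theorem good_qcqs : Good (AlgSp.IsQuasiCompactMor (S := S) ⊓ AlgSp.IsQuasiSeparatedMor) :=
  good_inf good_quasiCompact good_quasiSeparated

theorem good_lft : Good (AlgSp.LocP (S := S) @LocallyOfFiniteType) :=
  good_locP Groth.Agent.H52.etLocal_lft (Groth.Agent.S10526.result S)

theorem good_lfp : Good (AlgSp.LocP (S := S) @LocallyOfFinitePresentation) :=
  good_locP Groth.Agent.H52.etLocal_lfp (Groth.Agent.S10527.result S)

theorem good_flat : Good (AlgSp.LocP (S := S) @Flat) :=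
  good_locP Groth.Agent.H52.etLocal_flat (Groth.Agent.S10530.result S)

/-- Base change of a separated morphism of algebraic spaces. -/
theorem isSeparatedMor_of_isPullback {X Y Y' X' : AlgSp.Space S} (f : X ⟶ Y) (g : Y' ⟶ Y)
    (fst : X' ⟶ X) (f' : X' ⟶ Y') (sq : IsPullback fst.hom f'.hom f.hom g.hom)
    (hf : IsSeparatedMor f.hom) : IsSeparatedMor f'.hom := by
  refine (Groth.Agent.S9903.result f').1.2 fun Z hZ k P fst' snd' sq' => ?_
  exact (Groth.Agent.S9903.result f).1.1 hf Z hZ (k ≫ g.hom) P (fst' ≫ fst.hom) snd'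
    (sq'.paste_horiz sq)

/-- Composition of separated morphisms of algebraic spaces. -/
theorem isSeparatedMor_comp {X Y Z : AlgSp.Space S} (f : X ⟶ Y) (g : Y ⟶ Z)
    (hf : IsSeparatedMor f.hom) (hg : IsSeparatedMor g.hom) :
    IsSeparatedMor (f ≫ g).hom := by
  have inst2 := AlgSp.repWith_isMultiplicative (S := S) @IsClosedImmersion
  show RepWith @IsClosedImmersion (pullback.diagonal (f.hom ≫ g.hom))
  rw [Groth.Agent.H51.diagonal_comp_eq]
  exact (RepWith @IsClosedImmersion).comp_mem _ _ hf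
    ((Groth.Agent.S9901.result f f g).2.2.2.2.2.1 hg)

theorem good_separated : Good (AlgSp.IsSeparatedMor (S := S)) where
  bc := fun X₁ Y₁ X₂ Y₂ hX₁ hY₁ hX₂ hY₂ a b a' b' sq ha =>
    isSeparatedMor_of_isPullback (X := ⟨X₁, hX₁⟩) (Y := ⟨Y₁, hY₁⟩) (Y' := ⟨Y₂, hY₂⟩)
      (X' := ⟨X₂, hX₂⟩) (ObjectProperty.homMk a) (ObjectProperty.homMk b) (ObjectProperty.homMk b')
      (ObjectProperty.homMk a') sq ha
  comp := fun X Y Z hX hY hZ a b ha hb =>
    isSeparatedMor_comp (X := ⟨X, hX⟩) (Y := ⟨Y, hY⟩) (Z := ⟨Z, hZ⟩)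
      (ObjectProperty.homMk a) (ObjectProperty.homMk b) ha hb
  loc := Groth.Agent.H32.FppfLocal.isLocalOnBase_fppf_of_fpqc _ (Groth.Agent.S10535.result S)

end Groth.Agent.H32.GoodMore
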