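import Groth.Agent.H32.DiagRep
import Groth.Agent.H32.GoodMore
import Groth.Agent.H32.Prod
import Groth.Agent.S17265
import Groth.Agent.S10526
import Groth.Agent.S10277

/-!
# Applications: diagonals of representable morphisms and of morphisms of algebraic stacks (helper32)
-/

set_option autoImplicit false
open CategoryTheory CategoryTheory.Limits AlgebraicGeometry Opposite
universe u

namespace Groth.Agent.H32.DiagApps

open FibCat Stk Groth.Agent.H32.FibProd Groth.Agent.H32.Fp2 Groth.Agent.H32.Fp3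
  Groth.Agent.H32.Fp4 Groth.Agent.H32.SpBridge Groth.Agent.H32.PFacts
  Groth.Agent.H32.AlgStackEquiv Groth.Agent.H32.AtlasRep Groth.Agent.H32.SpComp
  Groth.Agent.H32.StackOps Groth.Agent.H32.Magic Groth.Agent.H32.Sect Groth.Agent.H32.Repr
  Groth.Agent.H32.SectSt Groth.Agent.H32.DiagRep Groth.Agent.H32.GoodMore
  Groth.Agent.H32.AtlasCover

variable {S : Scheme.{u}}

theorem bc_mono : BC (MorphismProperty.monomorphisms (AlgSp.Sp S)) := by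
  intro X₁ Y₁ X₂ Y₂ _ _ _ _ a b a' b' sq ha
  exact MorphismProperty.of_isPullback (P := MorphismProperty.monomorphisms (AlgSp.Sp S)) sq ha

theorem sec_mono (X T : AlgSp.Space S) (f : X ⟶ T) (s : T ⟶ X) (hs : s ≫ f = 𝟙 T) :
    MorphismProperty.monomorphisms (AlgSp.Sp S) s.hom := by
  have h : s.hom ≫ f.hom = 𝟙 T.obj := congrArg (fun t => t.hom) hs
  have : Mono (s.hom ≫ f.hom) := by rw [h]; infer_instance
  exact mono_of_mono s.hom f.hom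

theorem sec_props (X T : AlgSp.Space S) (f : X ⟶ T) (s : T ⟶ X) (hs : s ≫ f = 𝟙 T) :
    AlgSp.Representable s.hom ∧
    AlgSp.RepWith @LocallyOfFiniteType s.hom ∧
    AlgSp.RepWith (@LocallyQuasiFinite ⊓ @LocallyOfFiniteType) s.hom ∧
    AlgSp.RepWith @IsSeparated s.hom ∧
    AlgSp.RepWith (MorphismProperty.monomorphisms Scheme.{u}) s.hom ∧
    (AlgSp.IsSeparatedMor f.hom → AlgSp.RepWith @IsClosedImmersion s.hom) ∧
    (AlgSp.IsQuasiSeparatedMor f.hom → AlgSp.RepWith @QuasiCompact s.hom) :=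
  Groth.Agent.H52.section_props X.property T.property f.hom s.hom (congrArg (fun t => t.hom) hs)

theorem sec_unramified (X T : AlgSp.Space S) (f : X ⟶ T) (s : T ⟶ X) (hs : s ≫ f = 𝟙 T) :
    AlgSp.LocP (@LocallyOfFiniteType ⊓ @FormallyUnramified) s.hom := by
  obtain ⟨h1, h2, h3, h4, h5, -, -⟩ := sec_props X T f s hs
  have hR : AlgSp.RepWith (@LocallyOfFiniteType ⊓ @FormallyUnramified) s.hom := by
    refine ⟨h2.1, fun _ _ g fst snd sq => ⟨h2.2 g fst snd sq, ?_⟩⟩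
    have hm : Mono ((Over.forget S).map snd) := h5.2 g fst snd sq
    have : IsIso (pullback.diagonal ((Over.forget S).map snd)) := inferInstance
    have : IsOpenImmersion (pullback.diagonal ((Over.forget S).map snd)) := inferInstance
    exact (inferInstance : FormallyUnramified ((Over.forget S).map snd))
  have := (Groth.Agent.H52.etLocal_unramified.{u}).mult
  exact Groth.Agent.H50.locP_of_repWith Groth.Agent.H52.etLocal_unramified.etale hR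

theorem sec_lqf (X T : AlgSp.Space S) (f : X ⟶ T) (s : T ⟶ X) (hs : s ≫ f = 𝟙 T) :
    AlgSp.LocP (@LocallyQuasiFinite ⊓ @LocallyOfFiniteType) s.hom := by
  obtain ⟨h1, h2, h3, h4, h5, -, -⟩ := sec_props X T f s hs
  have := (Groth.Agent.H52.etLocal_lqf.{u}).mult
  exact Groth.Agent.H50.locP_of_repWith Groth.Agent.H52.etLocal_lqf.etale h3

theorem sec_lft (X T : AlgSp.Space S) (f : X ⟶ T) (s : T ⟶ X) (hs : s ≫ f = 𝟙 T) :
    AlgSp.LocP @LocallyOfFiniteType s.hom := by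
  obtain ⟨h1, h2, h3, h4, h5, -, -⟩ := sec_props X T f s hs
  exact Groth.Agent.H50.locP_of_repWith (fun _ _ g hg => by have := hg; infer_instance) h2

theorem sec_isIso_diagonal (X T : AlgSp.Space S) (f : X ⟶ T) (s : T ⟶ X) (hs : s ≫ f = 𝟙 T) :
    IsIso (pullback.diagonal s.hom) := by
  have hm : Mono s.hom := sec_mono X T f s hs
  infer_instance

theorem sec_separated (X T : AlgSp.Space S) (f : X ⟶ T) (s : T ⟶ X) (hs : s ≫ f = 𝟙 T) :
    AlgSp.IsSeparatedMor s.hom := by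
  have := sec_isIso_diagonal X T f s hs
  have inst2 := AlgSp.repWith_isMultiplicative (S := S) @IsClosedImmersion
  exact MorphismProperty.of_isIso (AlgSp.RepWith @IsClosedImmersion) _

theorem sec_quasiSeparated (X T : AlgSp.Space S) (f : X ⟶ T) (s : T ⟶ X) (hs : s ≫ f = 𝟙 T) :
    AlgSp.IsQuasiSeparatedMor s.hom := by
  have := sec_isIso_diagonal X T f s hs
  have inst2 := AlgSp.repWith_isMultiplicative (S := S) @QuasiCompact
  exact MorphismProperty.of_isIso (AlgSp.RepWith @QuasiCompact) _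

theorem sec_proper (X T : AlgSp.Space S) (f : X ⟶ T) (s : T ⟶ X) (hs : s ≫ f = 𝟙 T)
    (hf : AlgSp.IsSeparatedMor f.hom) : AlgSp.IsProperMor s.hom := by
  obtain ⟨-, -, -, -, -, h6, -⟩ := sec_props X T f s hs
  exact Groth.Agent.S10277.result s (h6 hf)

theorem sec_qcqs (X T : AlgSp.Space S) (f : X ⟶ T) (s : T ⟶ X) (hs : s ≫ f = 𝟙 T)
    (hf : AlgSp.IsQuasiSeparatedMor f.hom) :
    (AlgSp.IsQuasiCompactMor ⊓ AlgSp.IsQuasiSeparatedMor) s.hom := by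
  obtain ⟨-, -, -, -, -, -, h7⟩ := sec_props X T f s hs
  exact ⟨Groth.Agent.H50.isQuasiCompactMor_of_repWith (h7 hf), sec_quasiSeparated X T f s hs⟩

theorem bc_top : BC (⊤ : MorphismProperty (AlgSp.Sp S)) :=
  fun _ _ _ _ _ _ _ _ _ _ _ _ _ _ => trivial

section rep
variable {𝒳 𝒴 : AlgSt.Cat S} (h𝒳 : IsFibGrpd 𝒳.p) (h𝒴 : IsFibGrpd 𝒴.p) (f : 𝒳 ⥤ᵇ 𝒴)
  (hf : AlgSt.RepByAlgSp1 f)
include h𝒳 h𝒴 hf

theorem isMono_diag_of_rep : AlgSt.IsMono (FibCat.diag f) :=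
  with_diag_of_rep _ bc_mono sec_mono h𝒳 h𝒴 f hf

theorem isDMMor_of_rep : AlgSt.IsDMMor f :=
  with_diag_of_rep _ good_unramified.bc sec_unramified h𝒳 h𝒴 f hf

theorem isQuasiDMMor_of_rep : AlgSt.IsQuasiDMMor f :=
  with_diag_of_rep _ good_lqf.bc sec_lqf h𝒳 h𝒴 f hf

theorem lft_diag_of_rep : AlgSt.RepByAlgSpWith (AlgSp.LocP @LocallyOfFiniteType) (FibCat.diag f) :=
  with_diag_of_rep _
    good_lft.bc sec_lft h𝒳 h𝒴 f hf

theorem separated_diag_of_rep : AlgSt.RepByAlgSpWith AlgSp.IsSeparatedMor (FibCat.diag f) :=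
  with_diag_of_rep _ good_separated.bc sec_separated h𝒳 h𝒴 f hf

theorem isSeparatedMor_of_rep_separated (hs : AlgSt.RepByAlgSpWith AlgSp.IsSeparatedMor f) :
    AlgSt.IsSeparatedMor f :=
  with_diag_of_rep' _ _ good_proper.bc sec_proper good_separated.loc h𝒳 h𝒴 f hf hs

theorem isQuasiSeparatedMor_of_rep_quasiSeparated
    (hs : AlgSt.RepByAlgSpWith AlgSp.IsQuasiSeparatedMor f) : AlgSt.IsQuasiSeparatedMor f :=
  with_diag_of_rep' _ _ good_qcqs.bc sec_qcqs good_quasiSeparated.loc h𝒳 h𝒴 f hf hs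

theorem repByAlgSp1_diag_of_rep : AlgSt.RepByAlgSp1 (FibCat.diag f) :=
  (repByAlgSp1_iff_top _).mpr
    (with_diag_of_rep _ bc_top (fun _ _ _ _ _ => trivial) h𝒳 h𝒴 f hf)

end rep

/-- the diagonal of any 1-morphism between categories fibred in groupoids with representable
(absolute) diagonals is representable by algebraic spaces. -/
theorem repByAlgSp1_diag {𝒳 𝒴 : AlgSt.Cat S} (h𝒳 : IsFibGrpd 𝒳.p) (h𝒴 : IsFibGrpd 𝒴.p)
    (h𝒳d : AlgSt.RepByAlgSp1 (FibCat.diag (FibCat.toSelf 𝒳)))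
    (h𝒴d : AlgSt.RepByAlgSp1 (FibCat.diag (FibCat.toSelf 𝒴))) (f : 𝒳 ⥤ᵇ 𝒴) :
    AlgSt.RepByAlgSp1 (FibCat.diag f) := by
  have hself : IsFibGrpd (FibCat.selfOver (Over S)).p := self_isFibGrpd
  have hff : IsFibGrpd (fp f f).p := fp_isFibGrpd _ _ h𝒳 h𝒳 h𝒴
  have h1 : IsFibGrpd (fp (BasedFunctor.comp f (FibCat.toSelf 𝒴))
      (BasedFunctor.comp f (FibCat.toSelf 𝒴))).p := fp_isFibGrpd _ _ h𝒳 h𝒳 hself
  have hc : AlgSt.RepByAlgSp1 (diagMap f (FibCat.toSelf 𝒴)) :=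
    (repByAlgSp1_iff_top _).mpr
      (with_diagMap _ h𝒳 h𝒴 hself f (FibCat.toSelf 𝒴) ((repByAlgSp1_iff_top _).mp h𝒴d))
  have hΔc : AlgSt.RepByAlgSp1 (FibCat.diag (diagMap f (FibCat.toSelf 𝒴))) :=
    repByAlgSp1_diag_of_rep hff h1 _ hc
  have hcomp : AlgSt.RepByAlgSp1 (BasedFunctor.comp (FibCat.diag f) (diagMap f (FibCat.toSelf 𝒴))) := by
    have h2 : AlgSt.RepByAlgSp1 (FibCat.diag (BasedFunctor.comp f (FibCat.toSelf 𝒴))) := by
      rw [Groth.Agent.H32.Prod.eq_toSelf (BasedFunctor.comp f (FibCat.toSelf 𝒴))]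
      exact h𝒳d
    exact (repByAlgSp1_iff_top _).mpr (with_of_iso _ h𝒳 h1 (diagCompIso f (FibCat.toSelf 𝒴))
      ((repByAlgSp1_iff_top _).mp h2))
  exact Groth.Agent.S17265.result h𝒳 hff h1 _ _ hcomp hΔc

theorem with_imp {Q Q' : MorphismProperty (AlgSp.Sp S)}
    (himp : ∀ ⦃X Y : AlgSp.Sp S⦄ (a : X ⟶ Y), Q a → Q' a) {𝒳 𝒴 : AlgSt.Cat S} {f : 𝒳 ⥤ᵇ 𝒴}
    (hf : AlgSt.RepByAlgSpWith Q f) : AlgSt.RepByAlgSpWith Q' f := fun U y => by
  obtain ⟨F, e, he, h⟩ := hf U y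
  exact ⟨F, e, he, himp _ h⟩

theorem isSeparatedMor_of_mono {X Y : AlgSp.Sp S} (a : X ⟶ Y)
    (ha : MorphismProperty.monomorphisms (AlgSp.Sp S) a) : AlgSp.IsSeparatedMor a := by
  have hm : Mono a := ha
  have : IsIso (pullback.diagonal a) := inferInstance
  have inst2 := AlgSp.repWith_isMultiplicative (S := S) @IsClosedImmersion
  exact MorphismProperty.of_isIso (AlgSp.RepWith @IsClosedImmersion) _

/-- a monomorphism is separated and DM. -/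
theorem isSeparatedMor_and_isDMMor_of_isMono {𝒳 𝒴 : AlgSt.Cat S} (h𝒳 : IsFibGrpd 𝒳.p)
    (h𝒴 : IsFibGrpd 𝒴.p) (f : 𝒳 ⥤ᵇ 𝒴) (hf : AlgSt.IsMono f) :
    AlgSt.IsSeparatedMor f ∧ AlgSt.IsDMMor f := by
  have hrep : AlgSt.RepByAlgSp1 f := repByAlgSp1_of_with hf
  exact ⟨isSeparatedMor_of_rep_separated h𝒳 h𝒴 f hrep (with_imp (fun _ _ a ha => isSeparatedMor_of_mono a ha) hf),
    isDMMor_of_rep h𝒳 h𝒴 f hrep⟩

/-- cancellation for diagonals: if the diagonal of `f ≫ g` has `Q` (a property that sections of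
morphisms of algebraic spaces have) and the diagonal of `g` is representable, then the diagonal of
`f` has `Q`. -/
theorem with_diag_of_comp {Q : MorphismProperty (AlgSp.Sp S)} (hG : Good Q)
    (hsec : ∀ (X T : AlgSp.Space S) (f : X ⟶ T) (s : T ⟶ X), s ≫ f = 𝟙 T → Q s.hom)
    {𝒳 𝒴 𝒵 : AlgSt.Cat S} (h𝒳 : IsFibGrpd 𝒳.p) (h𝒴 : IsFibGrpd 𝒴.p) (h𝒵 : IsFibGrpd 𝒵.p)
    (f : 𝒳 ⥤ᵇ 𝒴) (g : 𝒴 ⥤ᵇ 𝒵) (hΔg : AlgSt.RepByAlgSp1 (FibCat.diag g))
    (hfg : AlgSt.RepByAlgSpWith Q (FibCat.diag (BasedFunctor.comp f g))) :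
    AlgSt.RepByAlgSpWith Q (FibCat.diag f) := by
  have hff : IsFibGrpd (fp f f).p := fp_isFibGrpd _ _ h𝒳 h𝒳 h𝒴
  have h1 : IsFibGrpd (fp (BasedFunctor.comp f g) (BasedFunctor.comp f g)).p :=
    fp_isFibGrpd _ _ h𝒳 h𝒳 h𝒵
  have hc : AlgSt.RepByAlgSp1 (diagMap f g) :=
    (repByAlgSp1_iff_top _).mpr
      (with_diagMap _ h𝒳 h𝒴 h𝒵 f g ((repByAlgSp1_iff_top _).mp hΔg))
  have hΔc : AlgSt.RepByAlgSpWith Q (FibCat.diag (diagMap f g)) :=
    with_diag_of_rep Q hG.bc hsec hff h1 _ hc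
  have hac : AlgSt.RepByAlgSpWith Q (BasedFunctor.comp (FibCat.diag f) (diagMap f g)) :=
    with_of_iso Q h𝒳 h1 (diagCompIso f g) hfg
  exact with_cancel hG h𝒳 hff h1 _ _ hac hΔc

/-- cancellation for diagonals, version with a hypothesis `R` on the diagonal of `g`. -/
theorem with_diag_of_comp' {Q R : MorphismProperty (AlgSp.Sp S)} (hG : Good Q) (hGR : Good R)
    (hsec : ∀ (X T : AlgSp.Space S) (f : X ⟶ T) (s : T ⟶ X), s ≫ f = 𝟙 T → R f.hom → Q s.hom)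
    {𝒳 𝒴 𝒵 : AlgSt.Cat S} (h𝒳 : IsFibGrpd 𝒳.p) (h𝒴 : IsFibGrpd 𝒴.p) (h𝒵 : IsFibGrpd 𝒵.p)
    (f : 𝒳 ⥤ᵇ 𝒴) (g : 𝒴 ⥤ᵇ 𝒵) (hΔg : AlgSt.RepByAlgSp1 (FibCat.diag g))
    (hRg : AlgSt.RepByAlgSpWith R (FibCat.diag g))
    (hfg : AlgSt.RepByAlgSpWith Q (FibCat.diag (BasedFunctor.comp f g))) :
    AlgSt.RepByAlgSpWith Q (FibCat.diag f) := by
  have hff : IsFibGrpd (fp f f).p := fp_isFibGrpd _ _ h𝒳 h𝒳 h𝒴
  have h1 : IsFibGrpd (fp (BasedFunctor.comp f g) (BasedFunctor.comp f g)).p :=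
    fp_isFibGrpd _ _ h𝒳 h𝒳 h𝒵
  have hc : AlgSt.RepByAlgSp1 (diagMap f g) :=
    (repByAlgSp1_iff_top _).mpr
      (with_diagMap _ h𝒳 h𝒴 h𝒵 f g ((repByAlgSp1_iff_top _).mp hΔg))
  have hRc : AlgSt.RepByAlgSpWith R (diagMap f g) := with_diagMap _ h𝒳 h𝒴 h𝒵 f g hRg
  have hΔc : AlgSt.RepByAlgSpWith Q (FibCat.diag (diagMap f g)) :=
    with_diag_of_rep' Q R hG.bc hsec hGR.loc hff h1 _ hc hRc
  have hac : AlgSt.RepByAlgSpWith Q (BasedFunctor.comp (FibCat.diag f) (diagMap f g)) :=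
    with_of_iso Q h𝒳 h1 (diagCompIso f g) hfg
  exact with_cancel hG h𝒳 hff h1 _ _ hac hΔc

end Groth.Agent.H32.DiagApps
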