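import Groth.Agent.H32.DiagApps

/-!
# Descent of properties of the diagonal along flat covers (helper32)
-/

set_option autoImplicit false
open CategoryTheory CategoryTheory.Limits AlgebraicGeometry Opposite
universe u

namespace Groth.Agent.H32.DiagDescent

open FibCat Stk Groth.Agent.H32.FibProd Groth.Agent.H32.Fp2 Groth.Agent.H32.Fp3
  Groth.Agent.H32.Fp4 Groth.Agent.H32.SpBridge Groth.Agent.H32.PFacts
  Groth.Agent.H32.AlgStackEquiv Groth.Agent.H32.AtlasRep Groth.Agent.H32.SpComp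
  Groth.Agent.H32.StackOps Groth.Agent.H32.Magic Groth.Agent.H32.Sect Groth.Agent.H32.Repr
  Groth.Agent.H32.SectSt Groth.Agent.H32.DiagRep Groth.Agent.H32.GoodMore
  Groth.Agent.H32.AtlasCover Groth.Agent.H32.DiagApps

variable {S : Scheme.{u}}

/-- descent of `P` along a flat, locally finitely presented, surjective base change. -/
theorem with_of_fpFst_cover (P : MorphismProperty (AlgSp.Sp S))
    (hP : AlgSp.IsLocalOnBase AlgSp.IsFppfCover P) {𝒳 𝒴 𝒵 : AlgSt.Cat S}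
    (h𝒳 : IsFibGrpd 𝒳.p) (h𝒴 : IsFibGrpd 𝒴.p)
    (f : 𝒳 ⥤ᵇ 𝒴) (hf : AlgSt.RepByAlgSp1 f) (z : 𝒵 ⥤ᵇ 𝒴)
    (hz₁ : AlgSt.RepByAlgSpWith (AlgSp.LocP @Flat) z)
    (hz₂ : AlgSt.RepByAlgSpWith (AlgSp.LocP @LocallyOfFinitePresentation) z)
    (hz₃ : AlgSt.RepByAlgSpWith AlgSp.IsSurjectiveMor z)
    (h' : AlgSt.RepByAlgSpWith P (FibCat.fpFst z f)) : AlgSt.RepByAlgSpWith P f := by
  intro U y
  obtain ⟨F, e, he⟩ := hf U y
  refine ⟨F, e, he, ?_⟩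
  obtain ⟨Z, ez, hez, hcov⟩ := exists_cover_of_rep z hz₁ hz₂ hz₃ U y
  obtain ⟨F', e'', he''⟩ := Groth.Agent.H32.SpBoot.repByAlgSp_fp_ofSp h𝒳 h𝒴 Z
    (BasedFunctor.comp (BasedFunctor.comp ez (fpSnd y z)) z) f hf
  have hP' := P_baseChange P hP (fpFst z f) h' Z F' (BasedFunctor.comp ez (fpSnd y z))
    (BasedFunctor.comp e'' (paste _ z f))
    (isEquivOver_comp _ _ he'' (paste_isEquivOver _ _ _))
  exact P_of_rep_cover P hP f z U y F e he Z ez hcov F' e'' he'' hP'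

/-- `𝒰 ×_𝒴 𝒳 ⟶ 𝒵 ×_𝒴 𝒳` is a base change of `y : 𝒰 ⟶ 𝒵`. -/
theorem with_pasteMid (P : MorphismProperty (AlgSp.Sp S)) {𝒰 𝒵 𝒴 𝒳 : AlgSt.Cat S}
    (h𝒰 : IsFibGrpd 𝒰.p) (h𝒵 : IsFibGrpd 𝒵.p) (h𝒴 : IsFibGrpd 𝒴.p) (h𝒳 : IsFibGrpd 𝒳.p)
    (y : 𝒰 ⥤ᵇ 𝒵) (g : 𝒵 ⥤ᵇ 𝒴) (f : 𝒳 ⥤ᵇ 𝒴) (hy : AlgSt.RepByAlgSpWith P y) :
    AlgSt.RepByAlgSpWith P (pasteMid y g f) := by
  have h1 : AlgSt.RepByAlgSpWith P (fpSnd y (fpFst g f)) := repByAlgSpWith_fpSnd P y _ hy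
  have hgf : IsFibGrpd (fp g f).p := fp_isFibGrpd _ _ h𝒵 h𝒳 h𝒴
  exact with_precomp_equiv P (fp_isFibGrpd _ _ h𝒰 h𝒳 h𝒴) (fp_isFibGrpd _ _ h𝒰 hgf h𝒵) hgf
    (paste y g f) (paste_isEquivOver y g f) _ h1

/-- if the diagonal of the base change of `f` along a flat, locally finitely presented,
surjective `w` has `Q`, so does the diagonal of `f`. -/
theorem with_diag_of_fpFst_cover (Q : MorphismProperty (AlgSp.Sp S))
    (hQ : AlgSp.IsLocalOnBase AlgSp.IsFppfCover Q) {𝒳 𝒴 𝒲 : AlgSt.Cat S}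
    (h𝒳 : IsFibGrpd 𝒳.p) (h𝒴 : IsFibGrpd 𝒴.p) (h𝒲 : IsFibGrpd 𝒲.p)
    (f : 𝒳 ⥤ᵇ 𝒴) (hΔ : AlgSt.RepByAlgSp1 (FibCat.diag f)) (w : 𝒲 ⥤ᵇ 𝒴)
    (hw₁ : AlgSt.RepByAlgSpWith (AlgSp.LocP @Flat) w)
    (hw₂ : AlgSt.RepByAlgSpWith (AlgSp.LocP @LocallyOfFinitePresentation) w)
    (hw₃ : AlgSt.RepByAlgSpWith AlgSp.IsSurjectiveMor w)
    (h : AlgSt.RepByAlgSpWith Q (FibCat.diag (FibCat.fpFst w f))) :
    AlgSt.RepByAlgSpWith Q (FibCat.diag f) := by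
  have hwf : IsFibGrpd (fp w f).p := fp_isFibGrpd _ _ h𝒲 h𝒳 h𝒴
  have hff : IsFibGrpd (fp f f).p := fp_isFibGrpd f f h𝒳 h𝒳 h𝒴
  have h2 : IsFibGrpd (fp (BasedFunctor.comp (fpFst w f) w) f).p := fp_isFibGrpd _ _ hwf h𝒳 h𝒴
  have h3 : IsFibGrpd (fp (fpFst w f) (fpFst w f)).p := fp_isFibGrpd _ _ hwf hwf h𝒲
  -- the section `bcSec` has `Q`
  have hs1 : AlgSt.RepByAlgSpWith Q (BasedFunctor.comp (bcSec w f) (paste (fpFst w f) w f)) :=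
    with_of_iso Q hwf h3 (bcIso w f) h
  have hs2 : AlgSt.RepByAlgSpWith Q (bcSec w f) :=
    (with_postcomp_equiv Q hwf h2 h3 (bcSec w f) (paste (fpFst w f) w f)
      (paste_isEquivOver _ _ _)).mp hs1
  -- hence the base change of the diagonal along `prodF` has `Q`
  have h1' : IsFibGrpd (fp (BasedFunctor.comp (fpSnd w f) f)
      (BasedFunctor.comp (BasedFunctor.id 𝒳) f)).p := fp_isFibGrpd _ _ hwf h𝒳 h𝒴
  have h2' : IsFibGrpd (fp (prodF (fpSnd w f) (BasedFunctor.id 𝒳) f) (diag f)).p :=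
    fp_isFibGrpd _ _ h1' h𝒳 hff
  have hπ : AlgSt.RepByAlgSpWith Q (fpFst (prodF (fpSnd w f) (BasedFunctor.id 𝒳) f) (diag f)) :=
    (Groth.Agent.S12782.result hwf h2 h2' h1' Q
      (sec f (fpSnd w f) (BasedFunctor.comp (fpFst w f) w) (fpIso w f))
      (fpFst (prodF (fpSnd w f) (BasedFunctor.id 𝒳) f) (diag f)) (secA f (fpSnd w f))
      (secB f (fpSnd w f) (BasedFunctor.comp (fpFst w f) w) (fpIso w f))
      (secA_isEquivOver f (fpSnd w f))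
      (secB_isEquivOver f (fpSnd w f) (BasedFunctor.comp (fpFst w f) w) (fpIso w f))
      (secIso f (fpSnd w f) (BasedFunctor.comp (fpFst w f) w) (fpIso w f))).mp hs2
  -- `prodF` is a flat, locally finitely presented, surjective cover
  have hz : ∀ P : MorphismProperty (AlgSp.Sp S), AlgSt.RepByAlgSpWith P w →
      AlgSt.RepByAlgSpWith P (prodF (fpSnd w f) (BasedFunctor.id 𝒳) f) := fun P hPw =>
    with_pasteMid P hwf h𝒳 h𝒴 h𝒳 (fpSnd w f) f f (repByAlgSpWith_fpSnd P w f hPw)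
  exact with_of_fpFst_cover Q hQ h𝒳 hff (diag f) hΔ _ (hz _ hw₁) (hz _ hw₂) (hz _ hw₃) hπ

end Groth.Agent.H32.DiagDescent
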