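import Groth.Agent.H32.DiagApps
import Groth.Agent.S12782

/-!
# The diagonal dictionary (helper32)

* `diagSq`: for a 2-commutative square `f' ≫ b ≅ a ≫ f` the induced functor
  `𝒳' ×_{𝒴'} 𝒳' ⟶ 𝒳 ×_𝒴 𝒳`, an equivalence when `a`, `b` are, and compatible with the diagonals.
* `with_diag_sq`: the diagonal of `f` has `P` iff the diagonal of `f'` has `P`.
-/

set_option autoImplicit false
open CategoryTheory Opposite
universe v u

namespace Groth.Agent.H32.DiagDict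

open FibCat Groth.Agent.H32.FibProd Groth.Agent.H32.StkLoc Groth.Agent.H32.Fp2 Groth.Agent.H32.Fp3
  Groth.Agent.H32.Fp4 Groth.Agent.H32.Magic Groth.Agent.H32.Sect

section cat
variable {C : Type u} [Category.{v} C]
variable {𝒳 𝒴 𝒳' 𝒴' : BasedCategory.{v, max u v} C} (f : 𝒳 ⥤ᵇ 𝒴) (f' : 𝒳' ⥤ᵇ 𝒴')
  (a : 𝒳' ⥤ᵇ 𝒳) (b : 𝒴' ⥤ᵇ 𝒴) (e : BasedFunctor.comp f' b ≅ BasedFunctor.comp a f)

/-- the functor `𝒳' ×_{𝒴'} 𝒳' ⟶ 𝒳 ×_𝒴 𝒳` induced by a 2-commutative square. -/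
def diagSq : fp f' f' ⥤ᵇ fp f f :=
  BasedFunctor.comp (sqFunctor f' f f' a b e)
    (BasedFunctor.comp (congrLeft e f) (pasteMid a f f))

theorem diagSq_isEquivOver (ha : IsEquivOver a) (hb : IsEquivOver b) :
    IsEquivOver (diagSq f f' a b e) :=
  isEquivOver_comp _ _ (sqFunctor_isEquivOver f' f f' a b e ha hb)
    (isEquivOver_comp _ _ (congrLeft_isEquivOver e f) (pasteMid_isEquivOver a f f ha))

theorem diagSq_iso_hom (w : (fp f' f').obj) :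
    ((diagSq f f' a b e).obj w).obj.iso.hom =
      (appIso e w.obj.fst).inv ≫ b.map w.obj.iso.hom ≫ (appIso e w.obj.snd).hom := rfl

theorem diagSq_hw_aux {D D' : Type*} [Category D] [Category D'] (b : D ⥤ D') {x : D} {y : D'}
    (i : b.obj x ≅ y) (m : y ⟶ y) (j : y ⟶ y) (n : x ⟶ x) (hm : m = 𝟙 y) (hj : j = 𝟙 y)
    (hn : n = 𝟙 x) : m ≫ j = (i.inv ≫ b.map n ≫ i.hom) ≫ m := by
  subst hm hj hn; simp

/-- the induced functor is compatible with the diagonals. -/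
def diagSqIso : BasedFunctor.comp (diag f') (diagSq f f' a b e) ≅ BasedFunctor.comp a (diag f) :=
  fpIsoMk _ _ (fun t => Iso.refl (a.obj t)) (fun t => Iso.refl (a.obj t))
    (fun t => IsHomLift.id (a.w_obj t))
    (fun t => by
      exact diagSq_hw_aux b.toFunctor (appIso e t) _ _ _ (f.toFunctor.map_id _)
        (diag_iso_hom f (a.obj t)) (diag_iso_hom f' t))
    (fun _ => id_nat_aux _ _ rfl) (fun _ => id_nat_aux _ _ rfl)

end cat

section psh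
open Stk Groth.Agent.H32.PshFp
variable {C : Type u} [Category.{v} C] {F G F' : Cᵒᵖ ⥤ Type (max u v)}

/-- two objects of the category of a presheaf with equal sections are isomorphic over the
identity. -/
def secIsoMk (T : C) (s s' : F.obj (op T)) (h : s = s') : (⟨T, s⟩ : EltObj F) ≅ ⟨T, s'⟩ where
  hom := ⟨𝟙 T, by subst h; simp⟩
  inv := ⟨𝟙 T, by subst h; simp⟩
  hom_inv_id := EltObj.hom_ext (by simp)
  inv_hom_id := EltObj.hom_ext (by simp)

theorem elt_hom_eq_id {T : C} {s s' : G.obj (op T)} (m : (⟨T, s⟩ : EltObj G) ⟶ ⟨T, s'⟩)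
    (hm : (EltObj.forget G).IsHomLift (𝟙 T) m) : m.hom = 𝟙 T :=
  (@IsHomLift.eq_of_isHomLift _ _ _ _ (EltObj.forget G) (⟨T, s⟩ : EltObj G) ⟨T, s'⟩ (𝟙 T) m
    hm).symm

/-- the functor of an isomorphism of presheaves is an equivalence. -/
theorem ofPshMap_isEquivOver (a : F ⟶ G) [IsIso a] : IsEquivOver (ofPshMap a) := by
  refine ⟨ofPshMap (inv a), ?_, ?_⟩
  · refine Groth.Agent.H32.PshStack.exists_iso_of_secAs _ _ (fun x => ?_)
    exact (secAs_mk _ _ _).trans ((congrArg (fun k => k.app (op x.base) x.sec)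
      (IsIso.hom_inv_id a)).trans (secAs_mk x.base x.sec rfl).symm)
  · refine Groth.Agent.H32.PshStack.exists_iso_of_secAs _ _ (fun x => ?_)
    exact (secAs_mk _ _ _).trans ((congrArg (fun k => k.app (op x.base) x.sec)
      (IsIso.inv_hom_id a)).trans (secAs_mk x.base x.sec rfl).symm)

variable (φ : F ⟶ G) (fst snd : F' ⟶ F) (w : fst ≫ φ = snd ≫ φ) (δ : F ⟶ F')
  (h1 : δ ≫ fst = 𝟙 F) (h2 : δ ≫ snd = 𝟙 F)

/-- the diagonal of the functor of a map of presheaves is the functor of the diagonal map,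
followed by the comparison functor of the pullback. -/
noncomputable def pbDiagIso :
    BasedFunctor.comp (ofPshMap δ) (pbFunctor φ φ fst snd w) ≅ diag (ofPshMap φ) :=
  fpIsoMk _ _
    (fun t => secIsoMk t.base _ _ (congrArg (fun k => k.app (op t.base) t.sec) h2))
    (fun t => secIsoMk t.base _ _ (congrArg (fun k => k.app (op t.base) t.sec) h1))
    (fun t => isHomLift_mk (secIsoMk t.base _ _
      (congrArg (fun k => k.app (op t.base) t.sec) h2)).hom)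
    (fun t => by
      refine EltObj.hom_ext ?_
      have hA := elt_hom_eq_id _
        (((BasedFunctor.comp (ofPshMap δ) (pbFunctor φ φ fst snd w)).obj t).property)
      change 𝟙 t.base ≫ 𝟙 t.base = _ ≫ 𝟙 t.base
      rw [hA]
      rfl)
    (fun k => by
      refine EltObj.hom_ext ?_
      change k.hom ≫ 𝟙 _ = 𝟙 _ ≫ k.hom
      simp)
    (fun k => by
      refine EltObj.hom_ext ?_
      change k.hom ≫ 𝟙 _ = 𝟙 _ ≫ k.hom
      simp)

end psh

end Groth.Agent.H32.DiagDict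

namespace Groth.Agent.H32.DiagDict
open CategoryTheory.Limits AlgebraicGeometry
universe u'

open FibCat Stk Groth.Agent.H32.FibProd Groth.Agent.H32.Fp2 Groth.Agent.H32.Fp3
  Groth.Agent.H32.Fp4 Groth.Agent.H32.SpBridge Groth.Agent.H32.PFacts
  Groth.Agent.H32.AlgStackEquiv Groth.Agent.H32.AtlasRep Groth.Agent.H32.SpComp
  Groth.Agent.H32.StackOps Groth.Agent.H32.Magic Groth.Agent.H32.Sect Groth.Agent.H32.Repr
  Groth.Agent.H32.SectSt Groth.Agent.H32.PshFp Groth.Agent.H32.SpTrack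

variable {S : Scheme.{u'}}

/-- the diagonals of the two vertical arrows of a 2-commutative square with horizontal
equivalences have the same properties. -/
theorem with_diag_sq (P : MorphismProperty (AlgSp.Sp S)) {𝒳 𝒴 𝒳' 𝒴' : AlgSt.Cat S}
    (h𝒳 : IsFibGrpd 𝒳.p) (h𝒴 : IsFibGrpd 𝒴.p) (h𝒳' : IsFibGrpd 𝒳'.p) (h𝒴' : IsFibGrpd 𝒴'.p)
    (f : 𝒳 ⥤ᵇ 𝒴) (f' : 𝒳' ⥤ᵇ 𝒴') (a : 𝒳' ⥤ᵇ 𝒳) (b : 𝒴' ⥤ᵇ 𝒴) (ha : IsEquivOver a)
    (hb : IsEquivOver b) (e : BasedFunctor.comp f' b ≅ BasedFunctor.comp a f) :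
    AlgSt.RepByAlgSpWith P (FibCat.diag f) ↔ AlgSt.RepByAlgSpWith P (FibCat.diag f') :=
  Groth.Agent.S12782.result h𝒳 (fp_isFibGrpd f f h𝒳 h𝒳 h𝒴) h𝒳' (fp_isFibGrpd f' f' h𝒳' h𝒳' h𝒴')
    P (FibCat.diag f) (FibCat.diag f') a (diagSq f f' a b e) ha (diagSq_isEquivOver f f' a b e ha hb)
    (diagSqIso f f' a b e)

/-- a morphism of algebraic spaces whose functor is representable with `Q` has `Q`
(`Q` fppf local on the base). -/
theorem of_with_ofSpMap (Q : MorphismProperty (AlgSp.Sp S))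
    (hQ : AlgSp.IsLocalOnBase AlgSp.IsFppfCover Q) (F G : AlgSp.Space S) (δ : F ⟶ G)
    (h : AlgSt.RepByAlgSpWith Q (AlgSt.ofSpMap δ.hom)) : Q δ.hom := by
  have sq : IsPullback (𝟙 F.obj.obj) δ.hom.hom δ.hom.hom (𝟙 G.obj.obj) :=
    IsPullback.of_horiz_isIso ⟨by simp⟩
  have key := P_baseChange Q hQ (AlgSt.ofSpMap δ.hom) h G F (ofPshMap (𝟙 G.obj.obj))
    (pbFunctor δ.hom.hom (𝟙 _) (𝟙 _) δ.hom.hom sq.w) (pbFunctor_isEquivOver _ _ _ _ sq)
  rw [pbFunctor_fst, pshMapOf_ofPshMap] at key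
  exact key

theorem isAlgSpace_pullback_yon (F : AlgSp.Space S) (U : Over S)
    (φ : F.obj ⟶ (AlgSp.yon S).obj U) : AlgSp.IsAlgSpace (pullback φ φ) :=
  Groth.Agent.H52.isAlgSpace_of_isPullback (IsPullback.of_hasPullback φ φ)
    ((AlgSp.ofScheme S).obj U).property.diag F.property F.property

/-- **Dictionary.** If the diagonal of `f` is representable by algebraic spaces with `Q`
(fppf local on the base), then for every base change `F ⟶ h_U` of `f` to a scheme, the diagonal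
`F ⟶ F ×_{h_U} F` of algebraic spaces has `Q`. -/
theorem diagonal_of_with_diag (Q : MorphismProperty (AlgSp.Sp S))
    (hQ : AlgSp.IsLocalOnBase AlgSp.IsFppfCover Q) {𝒳 𝒴 : AlgSt.Cat S}
    (h𝒳 : IsFibGrpd 𝒳.p) (h𝒴 : IsFibGrpd 𝒴.p) (f : 𝒳 ⥤ᵇ 𝒴)
    (hΔ : AlgSt.RepByAlgSpWith Q (FibCat.diag f)) (U : Over S) (y : FibCat.overCat U ⥤ᵇ 𝒴)
    (F : AlgSp.Space S) (E : AlgSt.ofSp F.obj ⥤ᵇ fp y f) (hE : IsEquivOver E) :
    Q (pullback.diagonal (AlgSt.spMapOfOver (BasedFunctor.comp E (fpFst y f)))) := by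
  obtain ⟨g, hg⟩ : ∃ g : AlgSt.ofSp F.obj ⥤ᵇ FibCat.overCat U,
    g = BasedFunctor.comp E (fpFst y f) := ⟨_, rfl⟩
  rw [← hg]
  have hov : IsFibGrpd (FibCat.overCat U).p := Groth.Agent.S6411.over_isFibGrpd U
  have hF : IsFibGrpd (AlgSt.ofSp F.obj).p := ofSp_isFibGrpd F.obj
  have hfp : IsFibGrpd (fp y f).p := fp_isFibGrpd y f hov h𝒳 h𝒴
  have h1 := with_diag_fpFst Q h𝒳 h𝒴 hov y f hΔ
  have h2 : AlgSt.RepByAlgSpWith Q (FibCat.diag g) := by
    rw [hg]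
    exact (with_diag_sq Q hfp hov hF hov (fpFst y f) (BasedFunctor.comp E (fpFst y f)) E
      (BasedFunctor.id _) hE (isEquivOver_id _) (Iso.refl _)).1 h1
  let φ : F.obj ⟶ (AlgSp.yon S).obj U := AlgSt.spMapOfOver g
  change Q (pullback.diagonal φ)
  obtain ⟨ε⟩ := ofPshMap_pshMapOf (BasedFunctor.comp g (AlgSt.ofOverCat U))
  have hφ' : φ.hom = pshMapOf (BasedFunctor.comp g (AlgSt.ofOverCat U)) := by
    exact spMapOfOver_hom g
  have e3 : BasedFunctor.comp g (AlgSt.ofOverCat U) ≅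
      BasedFunctor.comp (BasedFunctor.id _) (AlgSt.ofSpMap φ) := by
    change BasedFunctor.comp g (AlgSt.ofOverCat U) ≅ ofPshMap φ.hom
    rw [hφ']
    exact ε.symm
  have hU : IsFibGrpd (AlgSt.ofSp ((AlgSp.yon S).obj U)).p := ofSp_isFibGrpd _
  have h3 : AlgSt.RepByAlgSpWith Q (FibCat.diag (AlgSt.ofSpMap φ)) :=
    (with_diag_sq Q hF hU hF hov (AlgSt.ofSpMap φ) g (BasedFunctor.id _) (AlgSt.ofOverCat U)
      (isEquivOver_id _) (ofOverCat_isEquivOver U) e3).2 h2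
  -- the fibre product `F ×_{h_U} F`
  have hGs : AlgSp.IsAlgSpace (pullback φ φ) :=
    Groth.Agent.H52.isAlgSpace_of_isPullback (IsPullback.of_hasPullback φ φ)
      ((AlgSp.ofScheme S).obj U).property.diag F.property F.property
  let Gs : AlgSp.Space S := ⟨pullback φ φ, hGs⟩
  let Δ : F ⟶ Gs := ObjectProperty.homMk (pullback.diagonal φ)
  have sqP : IsPullback (pullback.fst φ φ).hom (pullback.snd φ φ).hom φ.hom φ.hom :=
    (IsPullback.of_hasPullback φ φ).map (sheafToPresheaf (AlgSp.J S) (Type (u' + 1)))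
  have hd1 : (pullback.diagonal φ).hom ≫ (pullback.fst φ φ).hom = 𝟙 F.obj.obj :=
    congrArg (fun k => k.hom) (pullback.diagonal_fst φ)
  have hd2 : (pullback.diagonal φ).hom ≫ (pullback.snd φ φ).hom = 𝟙 F.obj.obj :=
    congrArg (fun k => k.hom) (pullback.diagonal_snd φ)
  have iso4 := pbDiagIso φ.hom (pullback.fst φ φ).hom (pullback.snd φ φ).hom sqP.w
    (pullback.diagonal φ).hom hd1 hd2
  have hfpΦ : IsFibGrpd (fp (AlgSt.ofSpMap φ) (AlgSt.ofSpMap φ)).p :=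
    fp_isFibGrpd _ _ hF hF hU
  have h4 : AlgSt.RepByAlgSpWith Q (AlgSt.ofSpMap Δ.hom) :=
    (with_postcomp_equiv Q hF (ofSp_isFibGrpd Gs.obj) hfpΦ (AlgSt.ofSpMap Δ.hom)
      (pbFunctor φ.hom φ.hom (pullback.fst φ φ).hom (pullback.snd φ φ).hom sqP.w)
      (pbFunctor_isEquivOver _ _ _ _ sqP)).1 (with_of_iso Q hF hfpΦ iso4 h3)
  exact of_with_ofSpMap Q hQ F Gs Δ h4

/-- monotonicity of `RepByAlgSpWith` in the property, for implications between morphisms of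
algebraic spaces. -/
theorem with_imp_sp {Q Q' : MorphismProperty (AlgSp.Sp S)}
    (himp : ∀ (X Y : AlgSp.Space S) (a : X ⟶ Y), Q a.hom → Q' a.hom) {𝒳 𝒴 : AlgSt.Cat S}
    {f : 𝒳 ⥤ᵇ 𝒴} (hf : AlgSt.RepByAlgSpWith Q f) : AlgSt.RepByAlgSpWith Q' f := fun U y => by
  obtain ⟨F, e, he, hQ⟩ := hf U y
  exact ⟨F, e, he, himp F ((AlgSp.ofScheme S).obj U) (ObjectProperty.homMk _) hQ⟩

/-- conjunction of two `RepByAlgSpWith` properties (both isomorphism invariant on the source). -/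
theorem with_inf {Q Q' : MorphismProperty (AlgSp.Sp S)}
    (hQ' : ∀ ⦃X X' Y : AlgSp.Sp S⦄ (i : X' ≅ X) (a : X ⟶ Y), Q' a → Q' (i.hom ≫ a))
    {𝒳 𝒴 : AlgSt.Cat S} {f : 𝒳 ⥤ᵇ 𝒴} (hf : AlgSt.RepByAlgSpWith Q f)
    (hf' : AlgSt.RepByAlgSpWith Q' f) : AlgSt.RepByAlgSpWith (Q ⊓ Q') f := fun U y => by
  obtain ⟨F, e, he, hQ⟩ := hf U y
  obtain ⟨F', e', he', hQ''⟩ := hf' U y
  obtain ⟨i, hi⟩ := rep_unique_over f U y F.obj F'.obj e e' he he'
  refine ⟨F, e, he, hQ, ?_⟩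
  rw [← hi]
  exact hQ' i _ hQ''

/-- the diagonal of `f` has `Q` as soon as the graph-type sections `bcSec y f` of all base changes
to schemes have `Q`. -/
theorem with_diag_of_bcSec (Q : MorphismProperty (AlgSp.Sp S)) {𝒳 𝒴 : AlgSt.Cat S}
    (h𝒳 : IsFibGrpd 𝒳.p) (h𝒴 : IsFibGrpd 𝒴.p) (h : 𝒳 ⥤ᵇ 𝒴)
    (hsec : ∀ (U : Over S) (y : FibCat.overCat U ⥤ᵇ 𝒴), AlgSt.RepByAlgSpWith Q (bcSec y h)) :
    AlgSt.RepByAlgSpWith Q (FibCat.diag h) := by
  intro U ζ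
  obtain ⟨y, hy⟩ : ∃ y : FibCat.overCat U ⥤ᵇ 𝒴,
      y = BasedFunctor.comp (BasedFunctor.comp ζ (fpFst h h)) h := ⟨_, rfl⟩
  have h𝒲 : IsFibGrpd (fp y h).p := fp_isFibGrpd _ _ (Groth.Agent.S6411.over_isFibGrpd U) h𝒳 h𝒴
  have hfpk : IsFibGrpd (fp (BasedFunctor.comp (fpFst y h) y) h).p := fp_isFibGrpd _ _ h𝒲 h𝒳 h𝒴
  have hsecW := hsec U y
  have hff : IsFibGrpd (fp h h).p := fp_isFibGrpd h h h𝒳 h𝒳 h𝒴
  have h1 : IsFibGrpd (fp (BasedFunctor.comp (fpSnd y h) h)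
      (BasedFunctor.comp (BasedFunctor.id 𝒳) h)).p := fp_isFibGrpd _ _ h𝒲 h𝒳 h𝒴
  have h2 : IsFibGrpd (fp (prodF (fpSnd y h) (BasedFunctor.id 𝒳) h) (diag h)).p :=
    fp_isFibGrpd _ _ h1 h𝒳 hff
  have hπ : AlgSt.RepByAlgSpWith Q (fpFst (prodF (fpSnd y h) (BasedFunctor.id 𝒳) h) (diag h)) :=
    (Groth.Agent.S12782.result h𝒲 hfpk h2 h1 Q (bcSec y h)
      (fpFst (prodF (fpSnd y h) (BasedFunctor.id 𝒳) h) (diag h)) (secA h (fpSnd y h))
      (secB h (fpSnd y h) (BasedFunctor.comp (fpFst y h) y) (fpIso y h))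
      (secA_isEquivOver h (fpSnd y h))
      (secB_isEquivOver h (fpSnd y h) (BasedFunctor.comp (fpFst y h) y) (fpIso y h))
      (secIso h (fpSnd y h) (BasedFunctor.comp (fpFst y h) y) (fpIso y h))).mp hsecW
  subst hy
  let s₁ : FibCat.overCat U ⥤ᵇ fp (BasedFunctor.comp (BasedFunctor.comp ζ (fpFst h h)) h) h :=
    fpLift (F := BasedFunctor.comp (BasedFunctor.comp ζ (fpFst h h)) h) (G := h)
      (BasedFunctor.id _) (BasedFunctor.comp ζ (fpFst h h)) (Iso.refl _)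
  let ζ' : FibCat.overCat U ⥤ᵇ fp (BasedFunctor.comp
      (fpSnd (BasedFunctor.comp (BasedFunctor.comp ζ (fpFst h h)) h) h) h)
      (BasedFunctor.comp (BasedFunctor.id 𝒳) h) :=
    fpLift (F := BasedFunctor.comp
      (fpSnd (BasedFunctor.comp (BasedFunctor.comp ζ (fpFst h h)) h) h) h)
      (G := BasedFunctor.comp (BasedFunctor.id 𝒳) h) s₁ (BasedFunctor.comp ζ (fpSnd h h))
      (whiskerLeftIso ζ (fpIso h h))
  exact Groth.Agent.H32.DiagRep.withAt_of_paste Q (prodF _ (BasedFunctor.id 𝒳) h) (diag h) U ζ'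
    (hπ U ζ')

/-- the diagonal of `f` has `Q` iff the diagonals of all base changes of `f` to schemes do. -/
theorem with_diag_iff_fpFst (Q : MorphismProperty (AlgSp.Sp S)) {𝒳 𝒴 : AlgSt.Cat S}
    (h𝒳 : IsFibGrpd 𝒳.p) (h𝒴 : IsFibGrpd 𝒴.p) (f : 𝒳 ⥤ᵇ 𝒴) :
    AlgSt.RepByAlgSpWith Q (FibCat.diag f) ↔
      ∀ (T : Over S) (y : FibCat.overCat T ⥤ᵇ 𝒴),
        AlgSt.RepByAlgSpWith Q (FibCat.diag (FibCat.fpFst y f)) := by
  constructor
  · intro h T y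
    exact with_diag_fpFst Q h𝒳 h𝒴 (Groth.Agent.S6411.over_isFibGrpd T) y f h
  · intro h
    refine with_diag_of_bcSec Q h𝒳 h𝒴 f (fun U y => ?_)
    have hov := Groth.Agent.S6411.over_isFibGrpd U
    have hgf : IsFibGrpd (fp y f).p := fp_isFibGrpd _ _ hov h𝒳 h𝒴
    have h2 : IsFibGrpd (fp (BasedFunctor.comp (fpFst y f) y) f).p := fp_isFibGrpd _ _ hgf h𝒳 h𝒴
    have h3 : IsFibGrpd (fp (fpFst y f) (fpFst y f)).p := fp_isFibGrpd _ _ hgf hgf hov
    exact (with_postcomp_equiv Q hgf h2 h3 (bcSec y f) (paste (fpFst y f) y f)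
      (paste_isEquivOver _ _ _)).mp (with_of_iso Q hgf h3 (bcIso y f) (h U y))

end Groth.Agent.H32.DiagDict
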