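import Groth.Agent.H32.SectSt
import Groth.Agent.H32.SpBoot
import Groth.Agent.S12778
import Groth.Agent.H52.Sections

/-!
# The diagonal of a morphism representable by algebraic spaces (helper32)
-/

set_option autoImplicit false
open CategoryTheory CategoryTheory.Limits AlgebraicGeometry Opposite
universe u

namespace Groth.Agent.H32.DiagRep

open FibCat Stk Groth.Agent.H32.FibProd Groth.Agent.H32.Fp2 Groth.Agent.H32.Fp3
  Groth.Agent.H32.Fp4 Groth.Agent.H32.SpBridge Groth.Agent.H32.PFacts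
  Groth.Agent.H32.AlgStackEquiv Groth.Agent.H32.AtlasRep Groth.Agent.H32.SpComp
  Groth.Agent.H32.StackOps Groth.Agent.H32.Magic Groth.Agent.H32.Sect Groth.Agent.H32.Repr
  Groth.Agent.H32.SectSt Groth.Agent.H32.PshFp Groth.Agent.H32.SpTrack Groth.Agent.H32.StkLoc
  Groth.Agent.H32.PshStack

variable {S : Scheme.{u}}

/-- base-change stability of a property of morphisms of algebraic spaces. -/
def BC (Q : MorphismProperty (AlgSp.Sp S)) : Prop :=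
  ∀ ⦃X₁ Y₁ X₂ Y₂ : AlgSp.Sp S⦄, AlgSp.IsAlgSpace X₁ → AlgSp.IsAlgSpace Y₁ →
    AlgSp.IsAlgSpace X₂ → AlgSp.IsAlgSpace Y₂ → ∀ (a : X₁ ⟶ Y₁) (b : Y₂ ⟶ Y₁) (a' : X₂ ⟶ Y₂)
    (b' : X₂ ⟶ X₁), IsPullback b' a' a b → Q a → Q a'

/-- the forward direction of S12778 without the `RespectsIso` hypothesis. -/
theorem with_of_repBySpWith (Q : MorphismProperty (AlgSp.Sp S))
    {F G : AlgSp.PSp S} (a : F ⟶ G) (h : AlgSp.RepBySpWith Q a) :
    AlgSt.RepByAlgSpWith Q (Stk.ofPshMap a) := by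
  intro U y
  have sq := IsPullback.of_hasPullback a (pointMap y)
  obtain ⟨hF', hA, hQ⟩ := h (pointMap y) (Limits.pullback.fst a (pointMap y))
    (Limits.pullback.snd a (pointMap y)) sq
  have h1 : IsEquivOver (pasteMid (AlgSt.ofOverCat U) (Stk.ofPshMap (pointMap y))
      (Stk.ofPshMap a)) := pasteMid_isEquivOver _ _ _ (ofOverCat_isEquivOver U)
  obtain ⟨E1', hE1', -, ⟨ε1⟩⟩ := exists_inv_isEquivOver h1
  obtain ⟨α⟩ := pointMap_iso y
  have h2 : IsEquivOver (pbFunctor a (pointMap y) _ _ sq.w) := pbFunctor_isEquivOver a _ _ _ sq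
  refine ⟨⟨⟨_, hF'⟩, hA⟩, BasedFunctor.comp (pbFunctor a (pointMap y) _ _ sq.w)
    (BasedFunctor.comp E1' (congrLeft α (Stk.ofPshMap a))),
    isEquivOver_comp _ _ h2 (isEquivOver_comp _ _ hE1' (congrLeft_isEquivOver α _)), ?_⟩
  have key : AlgSt.spMapOfOver (BasedFunctor.comp (BasedFunctor.comp
      (pbFunctor a (pointMap y) _ _ sq.w)
      (BasedFunctor.comp E1' (congrLeft α (Stk.ofPshMap a)))) (fpFst y (Stk.ofPshMap a))) =
      (ObjectProperty.homMk (Limits.pullback.snd a (pointMap y)) :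
        (⟨Limits.pullback a (pointMap y), hF'⟩ : AlgSp.Sp S) ⟶ (AlgSp.yon S).obj U) := by
    apply ObjectProperty.hom_ext
    rw [spMapOfOver_hom]
    refine (pshMapOf_eq_of_hom _ (Stk.ofPshMap (Limits.pullback.snd a (pointMap y))) ?_).trans
      (pshMapOf_ofPshMap _)
    intro b
    exact ⟨(fpFst _ _).map (appIso ε1 ((pbFunctor a (pointMap y) _ _ sq.w).obj b)).hom,
      (BasedFunctor.isHomLift_iff (fpFst _ _) _ _).mpr
        (appIso_isHomLift ε1 ((pbFunctor a (pointMap y) _ _ sq.w).obj b))⟩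
  rw [key]
  exact hQ

/-- a morphism of algebraic spaces with a base-change stable property `Q`, viewed as a
1-morphism, is representable by algebraic spaces with `Q`. -/
theorem with_ofSpMap (Q : MorphismProperty (AlgSp.Sp S)) (hbc : BC Q)
    (F F' : AlgSp.Space S) (s : F ⟶ F') (hs : Q s.hom) :
    AlgSt.RepByAlgSpWith Q (AlgSt.ofSpMap s.hom) := by
  have h1 : AlgSp.RepBySpWith Q s.hom.hom := by
    rw [AlgSp.repBySpWith_hom_iff]
    intro U ξ F'' fst snd sq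
    have hF'' : AlgSp.IsAlgSpace F'' :=
      Groth.Agent.H52.isAlgSpace_of_isPullback sq F'.property.diag F.property
        (AlgSp.IsAlgSpace.yon_obj U)
    exact ⟨hF'', hbc F.property F'.property hF'' (AlgSp.IsAlgSpace.yon_obj U) s.hom ξ snd fst sq hs⟩
  exact with_of_repBySpWith Q s.hom.hom h1

/-- a 1-morphism between categories equivalent to those of algebraic spaces, whose associated
morphism of algebraic spaces has a base-change stable property `Q`, is representable by algebraic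
spaces with `Q`. -/
theorem with_of_space_map (Q : MorphismProperty (AlgSp.Sp S)) (hbc : BC Q)
    {𝒜 ℬ : AlgSt.Cat S} (h𝒜 : IsFibGrpd 𝒜.p) (hℬ : IsFibGrpd ℬ.p) (F F' : AlgSp.Space S)
    (a : AlgSt.ofSp F.obj ⥤ᵇ 𝒜) (ha : IsEquivOver a) (b : AlgSt.ofSp F'.obj ⥤ᵇ ℬ)
    (hb : IsEquivOver b) (σ : 𝒜 ⥤ᵇ ℬ) (s : F ⟶ F')
    (e : BasedFunctor.comp (AlgSt.ofSpMap s.hom) b ≅ BasedFunctor.comp a σ) (hs : Q s.hom) :
    AlgSt.RepByAlgSpWith Q σ :=
  (Groth.Agent.S12782.result h𝒜 hℬ (ofSp_isFibGrpd F.obj) (ofSp_isFibGrpd F'.obj) Q σ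
    (AlgSt.ofSpMap s.hom) a b ha hb e).mpr (with_ofSpMap Q hbc F F' s hs)

theorem pshMapOf_id (P : AlgSp.PSp S) : pshMapOf (BasedFunctor.id (Stk.ofPsh P)) = 𝟙 P := by
  have h : Stk.ofPshMap (𝟙 P) = BasedFunctor.id (Stk.ofPsh P) := rfl
  rw [← h, pshMapOf_ofPshMap]

/-- a section `σ` of `ρ` between categories equivalent to those of algebraic spaces has every
base-change stable property that sections of morphisms of algebraic spaces have. -/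
theorem with_section_of_spaces (Q : MorphismProperty (AlgSp.Sp S)) (hbc : BC Q)
    (hsec : ∀ (X T : AlgSp.Space S) (f : X ⟶ T) (s : T ⟶ X), s ≫ f = 𝟙 T → Q s.hom)
    {𝒜 ℬ : AlgSt.Cat S} (h𝒜 : IsFibGrpd 𝒜.p) (hℬ : IsFibGrpd ℬ.p) (F F' : AlgSp.Space S)
    (a : AlgSt.ofSp F.obj ⥤ᵇ 𝒜) (ha : IsEquivOver a) (b : AlgSt.ofSp F'.obj ⥤ᵇ ℬ)
    (hb : IsEquivOver b) (σ : 𝒜 ⥤ᵇ ℬ) (ρ : ℬ ⥤ᵇ 𝒜)
    (hσρ : BasedFunctor.comp σ ρ ≅ BasedFunctor.id 𝒜) :
    AlgSt.RepByAlgSpWith Q σ := by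
  obtain ⟨G', ⟨γ⟩⟩ := exists_factor_iso hb (BasedFunctor.comp a σ)
  obtain ⟨a', -, ⟨η⟩, -⟩ := exists_inv_isEquivOver ha
  obtain ⟨α⟩ := ofPshMap_pshMapOf G'
  let s : F ⟶ F' := ObjectProperty.homMk (ObjectProperty.homMk (pshMapOf G'))
  let f' : F' ⟶ F := ObjectProperty.homMk (ObjectProperty.homMk
    (pshMapOf (BasedFunctor.comp b (BasedFunctor.comp ρ a'))))
  have hsf : s ≫ f' = 𝟙 F := by
    apply ObjectProperty.hom_ext
    apply ObjectProperty.hom_ext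
    change pshMapOf G' ≫ pshMapOf (BasedFunctor.comp b (BasedFunctor.comp ρ a')) = 𝟙 F.obj.obj
    rw [← pshMapOf_comp, ← pshMapOf_id]
    have i1 : BasedFunctor.comp G' (BasedFunctor.comp b (BasedFunctor.comp ρ a')) ≅
        BasedFunctor.comp a (BasedFunctor.comp (BasedFunctor.comp σ ρ) a') :=
      whiskerRightIso γ (BasedFunctor.comp ρ a')
    have i2 : BasedFunctor.comp a (BasedFunctor.comp (BasedFunctor.comp σ ρ) a') ≅
        BasedFunctor.comp a a' :=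
      whiskerLeftIso a (whiskerRightIso hσρ a')
    exact pshMapOf_congr (i1 ≪≫ i2 ≪≫ η).hom
  have e : BasedFunctor.comp (AlgSt.ofSpMap s.hom) b ≅ BasedFunctor.comp a σ :=
    whiskerRightIso α b ≪≫ γ
  exact with_of_space_map Q hbc h𝒜 hℬ F F' a ha b hb σ s e (hsec F' F f' s hsf)

/-- pointwise transfer of `RepByAlgSpWith` along the pasting equivalence. -/
theorem withAt_of_paste (Q : MorphismProperty (AlgSp.Sp S)) {𝒳 𝒴 𝒵 : AlgSt.Cat S}
    (g : 𝒵 ⥤ᵇ 𝒴) (f : 𝒳 ⥤ᵇ 𝒴) (U : Over S) (y' : FibCat.overCat U ⥤ᵇ 𝒵)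
    (h : ∃ (F : AlgSp.Space S) (e : AlgSt.ofSp F.obj ⥤ᵇ fp y' (fpFst g f)),
      IsEquivOver e ∧ Q (AlgSt.spMapOfOver (BasedFunctor.comp e (fpFst y' (fpFst g f))))) :
    ∃ (F : AlgSp.Space S) (e : AlgSt.ofSp F.obj ⥤ᵇ fp (BasedFunctor.comp y' g) f),
      IsEquivOver e ∧ Q (AlgSt.spMapOfOver (BasedFunctor.comp e (fpFst (BasedFunctor.comp y' g) f))) := by
  obtain ⟨F, e, he, hQ⟩ := h
  obtain ⟨E, hE, -, ⟨ε⟩⟩ := exists_inv_isEquivOver (paste_isEquivOver y' g f)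
  refine ⟨F, BasedFunctor.comp e E, isEquivOver_comp _ _ he hE, ?_⟩
  have key : AlgSt.spMapOfOver (BasedFunctor.comp (BasedFunctor.comp e E)
      (fpFst (BasedFunctor.comp y' g) f)) =
      AlgSt.spMapOfOver (BasedFunctor.comp e (fpFst y' (fpFst g f))) := by
    refine spMapOfOver_eq_of_hom _ _ (fun a => ?_)
    refine ⟨(fpFst y' (fpFst g f)).map (appIso ε (e.obj a)).hom, ?_⟩
    have h1 := appIso_isHomLift ε (e.obj a)
    have h2 : (FibCat.overCat U).p.IsHomLift (𝟙 ((fp y' (fpFst g f)).p.obj (e.obj a)))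
        ((fpFst y' (fpFst g f)).map (appIso ε (e.obj a)).hom) :=
      (BasedFunctor.isHomLift_iff (fpFst y' (fpFst g f)) _ _).mpr h1
    exact isHomLift_id_of_eq _ (e.w_obj a) _ h2
  rw [key]
  exact hQ

/-- **The diagonal of a morphism representable by algebraic spaces** has every base-change
stable property that sections of morphisms of algebraic spaces have. -/
theorem with_diag_of_rep (Q : MorphismProperty (AlgSp.Sp S)) (hbc : BC Q)
    (hsec : ∀ (X T : AlgSp.Space S) (f : X ⟶ T) (s : T ⟶ X), s ≫ f = 𝟙 T → Q s.hom)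
    {𝒳 𝒴 : AlgSt.Cat S} (h𝒳 : IsFibGrpd 𝒳.p) (h𝒴 : IsFibGrpd 𝒴.p) (h : 𝒳 ⥤ᵇ 𝒴)
    (hh : AlgSt.RepByAlgSp1 h) : AlgSt.RepByAlgSpWith Q (FibCat.diag h) := by
  intro U ζ
  obtain ⟨y, hy⟩ : ∃ y : FibCat.overCat U ⥤ᵇ 𝒴,
      y = BasedFunctor.comp (BasedFunctor.comp ζ (fpFst h h)) h := ⟨_, rfl⟩
  have h𝒲 : IsFibGrpd (fp y h).p := fp_isFibGrpd _ _ (Groth.Agent.S6411.over_isFibGrpd U) h𝒳 h𝒴
  obtain ⟨q, hq⟩ : ∃ q : fp y h ⥤ᵇ 𝒳, q = fpSnd y h := ⟨_, rfl⟩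
  obtain ⟨k, hk⟩ : ∃ k : fp y h ⥤ᵇ 𝒴, k = BasedFunctor.comp q h := ⟨_, rfl⟩
  obtain ⟨ι, -⟩ : ∃ ι : BasedFunctor.comp (BasedFunctor.id (fp y h)) k ≅ BasedFunctor.comp q h,
      True := ⟨by rw [hk]; exact Iso.refl _, trivial⟩
  have hfpk : IsFibGrpd (fp k h).p := fp_isFibGrpd _ _ h𝒲 h𝒳 h𝒴
  -- the section is representable with `Q`
  have hsecW : AlgSt.RepByAlgSpWith Q (sec h q k ι) := by
    obtain ⟨F, eF, heF⟩ := hh U y
    have h1 : AlgSt.RepByAlgSp (fp (BasedFunctor.comp eF k) h) :=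
      Groth.Agent.H32.SpBoot.repByAlgSp_fp_ofSp h𝒳 h𝒴 F (BasedFunctor.comp eF k) h hh
    obtain ⟨F', eF', heF'⟩ := repByAlgSp_of_equiv (pasteMid eF k h)
      (pasteMid_isEquivOver eF k h heF) h1
    exact with_section_of_spaces Q hbc hsec h𝒲 hfpk F F' eF heF eF' heF' (sec h q k ι)
      (fpFst k h) (Iso.refl _)
  have hff : IsFibGrpd (fp h h).p := fp_isFibGrpd h h h𝒳 h𝒳 h𝒴
  have h1 : IsFibGrpd (fp (BasedFunctor.comp q h) (BasedFunctor.comp (BasedFunctor.id 𝒳) h)).p :=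
    fp_isFibGrpd _ _ h𝒲 h𝒳 h𝒴
  have h2 : IsFibGrpd (fp (prodF q (BasedFunctor.id 𝒳) h) (diag h)).p :=
    fp_isFibGrpd _ _ h1 h𝒳 hff
  have hπ : AlgSt.RepByAlgSpWith Q (fpFst (prodF q (BasedFunctor.id 𝒳) h) (diag h)) :=
    (Groth.Agent.S12782.result h𝒲 hfpk h2 h1 Q (sec h q k ι)
      (fpFst (prodF q (BasedFunctor.id 𝒳) h) (diag h)) (secA h q) (secB h q k ι)
      (secA_isEquivOver h q) (secB_isEquivOver h q k ι) (secIso h q k ι)).mp hsecW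
  subst hq hy
  -- the point `ζ` factors through `prodF`
  let s₁ : FibCat.overCat U ⥤ᵇ fp (BasedFunctor.comp (BasedFunctor.comp ζ (fpFst h h)) h) h :=
    fpLift (F := BasedFunctor.comp (BasedFunctor.comp ζ (fpFst h h)) h) (G := h)
      (BasedFunctor.id _) (BasedFunctor.comp ζ (fpFst h h)) (Iso.refl _)
  let ζ' : FibCat.overCat U ⥤ᵇ fp (BasedFunctor.comp
      (fpSnd (BasedFunctor.comp (BasedFunctor.comp ζ (fpFst h h)) h) h) h)
      (BasedFunctor.comp (BasedFunctor.id 𝒳) h) :=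
    fpLift (F := BasedFunctor.comp
      (fpSnd (BasedFunctor.comp (BasedFunctor.comp ζ (fpFst h h)) h) h) h)
      (G := BasedFunctor.comp (BasedFunctor.id 𝒳) h) s₁ (BasedFunctor.comp ζ (fpSnd h h))
      (whiskerLeftIso ζ (fpIso h h))
  exact withAt_of_paste Q (prodF _ (BasedFunctor.id 𝒳) h) (diag h) U ζ' (hπ U ζ')

/-- version of `with_section_of_spaces` where sections of morphisms with `R` have `Q`, the
retraction being named by a morphism of algebraic spaces. -/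
theorem with_section_of_spaces' (Q R : MorphismProperty (AlgSp.Sp S)) (hbc : BC Q)
    (hsec : ∀ (X T : AlgSp.Space S) (f : X ⟶ T) (s : T ⟶ X), s ≫ f = 𝟙 T → R f.hom → Q s.hom)
    {𝒜 ℬ : AlgSt.Cat S} (h𝒜 : IsFibGrpd 𝒜.p) (hℬ : IsFibGrpd ℬ.p) (F F' : AlgSp.Space S)
    (a : AlgSt.ofSp F.obj ⥤ᵇ 𝒜) (ha : IsEquivOver a) (b : AlgSt.ofSp F'.obj ⥤ᵇ ℬ)
    (hb : IsEquivOver b) (σ : 𝒜 ⥤ᵇ ℬ) (ρ : ℬ ⥤ᵇ 𝒜)
    (hσρ : BasedFunctor.comp σ ρ ≅ BasedFunctor.id 𝒜) (f' : F' ⟶ F)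
    (hf' : BasedFunctor.comp (AlgSt.ofSpMap f'.hom) a ≅ BasedFunctor.comp b ρ)
    (hR : R f'.hom) :
    AlgSt.RepByAlgSpWith Q σ := by
  obtain ⟨G', ⟨γ⟩⟩ := exists_factor_iso hb (BasedFunctor.comp a σ)
  obtain ⟨a', -, ⟨η⟩, -⟩ := exists_inv_isEquivOver ha
  obtain ⟨α⟩ := ofPshMap_pshMapOf G'
  let s : F ⟶ F' := ObjectProperty.homMk (ObjectProperty.homMk (pshMapOf G'))
  have hsf : s ≫ f' = 𝟙 F := by
    apply ObjectProperty.hom_ext
    apply ObjectProperty.hom_ext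
    change pshMapOf G' ≫ f'.hom.hom = 𝟙 F.obj.obj
    have e0 : f'.hom.hom = pshMapOf (BasedFunctor.comp (AlgSt.ofSpMap f'.hom)
        (BasedFunctor.comp a a')) := by
      have i0 : BasedFunctor.comp (AlgSt.ofSpMap f'.hom) (BasedFunctor.comp a a') ≅
          AlgSt.ofSpMap f'.hom := whiskerLeftIso (AlgSt.ofSpMap f'.hom) η
      rw [pshMapOf_congr i0.hom]
      exact (pshMapOf_ofPshMap _).symm
    rw [e0, ← pshMapOf_comp, ← pshMapOf_id]
    have i1 : BasedFunctor.comp G' (BasedFunctor.comp (AlgSt.ofSpMap f'.hom)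
        (BasedFunctor.comp a a')) ≅
        BasedFunctor.comp G' (BasedFunctor.comp (BasedFunctor.comp b ρ) a') :=
      whiskerLeftIso G' (whiskerRightIso hf' a')
    have i2 : BasedFunctor.comp G' (BasedFunctor.comp (BasedFunctor.comp b ρ) a') ≅
        BasedFunctor.comp a (BasedFunctor.comp (BasedFunctor.comp σ ρ) a') :=
      whiskerRightIso γ (BasedFunctor.comp ρ a')
    have i3 : BasedFunctor.comp a (BasedFunctor.comp (BasedFunctor.comp σ ρ) a') ≅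
        BasedFunctor.comp a a' :=
      whiskerLeftIso a (whiskerRightIso hσρ a')
    exact pshMapOf_congr (i1 ≪≫ i2 ≪≫ i3 ≪≫ η).hom
  have e : BasedFunctor.comp (AlgSt.ofSpMap s.hom) b ≅ BasedFunctor.comp a σ :=
    whiskerRightIso α b ≪≫ γ
  exact with_of_space_map Q hbc h𝒜 hℬ F F' a ha b hb σ s e (hsec F' F f' s hsf hR)

/-- **The diagonal of a morphism `h` representable by algebraic spaces with `R`** has every
base-change stable property that sections of morphisms of algebraic spaces with `R` have. -/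
theorem with_diag_of_rep' (Q R : MorphismProperty (AlgSp.Sp S)) (hbc : BC Q)
    (hsec : ∀ (X T : AlgSp.Space S) (f : X ⟶ T) (s : T ⟶ X), s ≫ f = 𝟙 T → R f.hom → Q s.hom)
    (hRloc : AlgSp.IsLocalOnBase AlgSp.IsFppfCover R)
    {𝒳 𝒴 : AlgSt.Cat S} (h𝒳 : IsFibGrpd 𝒳.p) (h𝒴 : IsFibGrpd 𝒴.p) (h : 𝒳 ⥤ᵇ 𝒴)
    (hh : AlgSt.RepByAlgSp1 h) (hR : AlgSt.RepByAlgSpWith R h) :
    AlgSt.RepByAlgSpWith Q (FibCat.diag h) := by
  intro U ζ
  obtain ⟨y, hy⟩ : ∃ y : FibCat.overCat U ⥤ᵇ 𝒴,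
      y = BasedFunctor.comp (BasedFunctor.comp ζ (fpFst h h)) h := ⟨_, rfl⟩
  have h𝒲 : IsFibGrpd (fp y h).p := fp_isFibGrpd _ _ (Groth.Agent.S6411.over_isFibGrpd U) h𝒳 h𝒴
  obtain ⟨q, hq⟩ : ∃ q : fp y h ⥤ᵇ 𝒳, q = fpSnd y h := ⟨_, rfl⟩
  obtain ⟨k, hk⟩ : ∃ k : fp y h ⥤ᵇ 𝒴, k = BasedFunctor.comp q h := ⟨_, rfl⟩
  obtain ⟨ι, -⟩ : ∃ ι : BasedFunctor.comp (BasedFunctor.id (fp y h)) k ≅ BasedFunctor.comp q h,
      True := ⟨by rw [hk]; exact Iso.refl _, trivial⟩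
  have hfpk : IsFibGrpd (fp k h).p := fp_isFibGrpd _ _ h𝒲 h𝒳 h𝒴
  -- the section is representable with `Q`
  have hsecW : AlgSt.RepByAlgSpWith Q (sec h q k ι) := by
    obtain ⟨F, eF, heF⟩ := hh U y
    obtain ⟨F', e₁, he₁⟩ :=
      Groth.Agent.H32.SpBoot.repByAlgSp_fp_ofSp h𝒳 h𝒴 F (BasedFunctor.comp eF k) h hh
    obtain ⟨β⟩ := ofPshMap_pshMapOf (BasedFunctor.comp e₁ (fpFst (BasedFunctor.comp eF k) h))
    exact with_section_of_spaces' Q R hbc hsec h𝒲 hfpk F F' eF heF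
      (BasedFunctor.comp e₁ (pasteMid eF k h))
      (isEquivOver_comp _ _ he₁ (pasteMid_isEquivOver eF k h heF)) (sec h q k ι)
      (fpFst k h) (Iso.refl _)
      (ObjectProperty.homMk (ObjectProperty.homMk
        (pshMapOf (BasedFunctor.comp e₁ (fpFst (BasedFunctor.comp eF k) h)))))
      (whiskerRightIso β eF)
      (P_baseChange R hRloc h hR F F' (BasedFunctor.comp eF k) e₁ he₁)
  have hff : IsFibGrpd (fp h h).p := fp_isFibGrpd h h h𝒳 h𝒳 h𝒴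
  have h1 : IsFibGrpd (fp (BasedFunctor.comp q h) (BasedFunctor.comp (BasedFunctor.id 𝒳) h)).p :=
    fp_isFibGrpd _ _ h𝒲 h𝒳 h𝒴
  have h2 : IsFibGrpd (fp (prodF q (BasedFunctor.id 𝒳) h) (diag h)).p :=
    fp_isFibGrpd _ _ h1 h𝒳 hff
  have hπ : AlgSt.RepByAlgSpWith Q (fpFst (prodF q (BasedFunctor.id 𝒳) h) (diag h)) :=
    (Groth.Agent.S12782.result h𝒲 hfpk h2 h1 Q (sec h q k ι)
      (fpFst (prodF q (BasedFunctor.id 𝒳) h) (diag h)) (secA h q) (secB h q k ι)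
      (secA_isEquivOver h q) (secB_isEquivOver h q k ι) (secIso h q k ι)).mp hsecW
  subst hq hy
  let s₁ : FibCat.overCat U ⥤ᵇ fp (BasedFunctor.comp (BasedFunctor.comp ζ (fpFst h h)) h) h :=
    fpLift (F := BasedFunctor.comp (BasedFunctor.comp ζ (fpFst h h)) h) (G := h)
      (BasedFunctor.id _) (BasedFunctor.comp ζ (fpFst h h)) (Iso.refl _)
  let ζ' : FibCat.overCat U ⥤ᵇ fp (BasedFunctor.comp
      (fpSnd (BasedFunctor.comp (BasedFunctor.comp ζ (fpFst h h)) h) h) h)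
      (BasedFunctor.comp (BasedFunctor.id 𝒳) h) :=
    fpLift (F := BasedFunctor.comp
      (fpSnd (BasedFunctor.comp (BasedFunctor.comp ζ (fpFst h h)) h) h) h)
      (G := BasedFunctor.comp (BasedFunctor.id 𝒳) h) s₁ (BasedFunctor.comp ζ (fpSnd h h))
      (whiskerLeftIso ζ (fpIso h h))
  exact withAt_of_paste Q (prodF _ (BasedFunctor.id 𝒳) h) (diag h) U ζ' (hπ U ζ')

/-- cancellation: if `a ≫ c` has `Q` and the diagonal of `c` has `Q` then `a` has `Q`. -/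
theorem with_cancel {Q : MorphismProperty (AlgSp.Sp S)} (hG : Good Q) {𝒳 ℬ ℬ' : AlgSt.Cat S}
    (h𝒳 : IsFibGrpd 𝒳.p) (hℬ : IsFibGrpd ℬ.p) (hℬ' : IsFibGrpd ℬ'.p) (a : 𝒳 ⥤ᵇ ℬ) (c : ℬ ⥤ᵇ ℬ')
    (hac : AlgSt.RepByAlgSpWith Q (BasedFunctor.comp a c))
    (hΔc : AlgSt.RepByAlgSpWith Q (FibCat.diag c)) : AlgSt.RepByAlgSpWith Q a := by
  have h1 : AlgSt.RepByAlgSpWith Q (fpLift (F := BasedFunctor.comp a c) (G := c)
      (BasedFunctor.id 𝒳) a (Iso.refl _)) :=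
    with_sec Q h𝒳 hℬ hℬ' c a (BasedFunctor.comp a c) (Iso.refl _) hΔc
  have h2 : AlgSt.RepByAlgSpWith Q (fpSnd (BasedFunctor.comp a c) c) :=
    repByAlgSpWith_fpSnd Q (BasedFunctor.comp a c) c hac
  exact with_comp hG h𝒳 (fp_isFibGrpd _ _ h𝒳 hℬ hℬ') hℬ _ _ h1 h2

end Groth.Agent.H32.DiagRep
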