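import Groth.Agent.H32.Magic

/-!
# Sections, graphs and the section lemma (helper32) — categorical part
-/

set_option autoImplicit false
open CategoryTheory Opposite
universe v u

namespace Groth.Agent.H32.Sect

open FibCat Groth.Agent.H32.FibProd Groth.Agent.H32.StkLoc Groth.Agent.H32.Fp2 Groth.Agent.H32.Fp3
  Groth.Agent.H32.Fp4 Groth.Agent.H32.Magic

variable {C : Type u} [Category.{v} C]

section aux
variable {D D' : Type*} [Category D] [Category D']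

theorem inv_w_aux {a a' b b' : D} (α : a ≅ a') (β : b ≅ b') (i : a ⟶ b) (i' : a' ⟶ b')
    (h : α.hom ≫ i' = i ≫ β.hom) : α.inv ≫ i = i' ≫ β.inv := by
  rw [Iso.inv_comp_eq, ← Category.assoc, Iso.eq_comp_inv, h]

theorem full_aux {a a' b b' : D} (i : a ≅ b) (i' : a' ≅ b') (p : a ⟶ a') :
    p ≫ i'.hom = i.hom ≫ (i.inv ≫ p ≫ i'.hom) := by simp

theorem faith_aux2 {a a' b b' : D} (i : a ≅ b) (i' : a' ⟶ b') (p : a ⟶ a') (k k' : b ⟶ b')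
    (h : p ≫ i' = i.hom ≫ k) (h' : p ≫ i' = i.hom ≫ k') : k = k' :=
  (cancel_epi i.hom).mp (h.symm.trans h')

end aux

section equiv
variable {𝒳 𝒴 𝒮 : BasedCategory.{v, max u v} C} (F : 𝒳 ⥤ᵇ 𝒮) (G : 𝒴 ⥤ᵇ 𝒮)

/-- the base change of an equivalence is an equivalence. -/
theorem fpFst_isEquivOver (hG : IsEquivOver G) : IsEquivOver (fpFst F G) := by
  rw [Groth.Agent.S5139.result] at hG ⊢
  obtain ⟨⟨hfull, hfaith⟩, hess⟩ := hG
  refine ⟨⟨⟨fun {w w'} n => ?_⟩, ⟨fun {w w'} m m' hmm' => ?_⟩⟩, fun η => ?_⟩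
  · -- full
    obtain ⟨k, hk⟩ := hfull.map_surjective (w.obj.iso.inv ≫ F.map n ≫ w'.obj.iso.hom)
    have hk' : G.map k = w.obj.iso.inv ≫ F.map n ≫ w'.obj.iso.hom := hk
    have c : F.map n ≫ w'.obj.iso.hom = w.obj.iso.hom ≫ G.map k :=
      (full_aux w.obj.iso w'.obj.iso (F.map n)).trans (congrArg (fun t => w.obj.iso.hom ≫ t) hk'.symm)
    exact ⟨mkHom F G n k c, rfl⟩
  · -- faithful
    have e1 : m.hom.fst = m'.hom.fst := hmm'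
    have hw : F.map m.hom.fst ≫ w'.obj.iso.hom = w.obj.iso.hom ≫ G.map m.hom.snd := m.hom.w
    have hw' : F.map m'.hom.fst ≫ w'.obj.iso.hom = w.obj.iso.hom ≫ G.map m'.hom.snd := m'.hom.w
    rw [← e1] at hw'
    have e2 : G.map m.hom.snd = G.map m'.hom.snd := faith_aux2 w.obj.iso _ _ _ _ hw hw'
    exact fp_hom_ext _ _ e1 (hfaith.map_injective e2)
  · -- essentially surjective
    obtain ⟨y, e, he⟩ := hess (F.obj η)
    have heq : 𝒮.p.obj (F.obj η) = 𝒳.p.obj η := F.w_obj η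
    have h1 : 𝒮.p.IsHomLift (𝟙 (𝒮.p.obj (F.obj η))) e.inv := inferInstance
    have h2 : 𝒮.p.IsHomLift (𝟙 (𝒳.p.obj η)) e.symm.hom := isHomLift_id_of_eq 𝒮.p heq _ h1
    let ξ : (fp F G).obj := mkObj F G η y e.symm h2
    refine ⟨ξ, Iso.refl _, ?_⟩
    change 𝒳.p.IsHomLift (𝟙 (𝒳.p.obj η)) (𝟙 η)
    infer_instance

theorem fpSnd_isEquivOver (hF : IsEquivOver F) : IsEquivOver (fpSnd F G) := by
  have h : IsEquivOver (BasedFunctor.comp (swap F G) (fpFst G F)) :=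
    isEquivOver_comp _ _ (swap_isEquivOver F G) (fpFst_isEquivOver G F hF)
  exact h

end equiv

section isoMk
variable {𝒯 𝒳 𝒴 𝒮 : BasedCategory.{v, max u v} C} {F : 𝒳 ⥤ᵇ 𝒮} {G : 𝒴 ⥤ᵇ 𝒮}

/-- an isomorphism in a 2-fibre product from isomorphisms of components. -/
def objIsoMk {z z' : (fp F G).obj} (α : z.obj.fst ≅ z'.obj.fst) (β : z.obj.snd ≅ z'.obj.snd)
    (hw : F.map α.hom ≫ z'.obj.iso.hom = z.obj.iso.hom ≫ G.map β.hom) : z ≅ z' where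
  hom := mkHom F G α.hom β.hom hw
  inv := mkHom F G α.inv β.inv
    (inv_w_aux (F.toFunctor.mapIso α) (G.toFunctor.mapIso β) z.obj.iso.hom z'.obj.iso.hom hw)
  hom_inv_id := fp_hom_ext _ _ α.hom_inv_id β.hom_inv_id
  inv_hom_id := fp_hom_ext _ _ α.inv_hom_id β.inv_hom_id

/-- a 2-isomorphism between functors into a 2-fibre product from componentwise isomorphisms. -/
def fpIsoMk (A B : 𝒯 ⥤ᵇ fp F G)
    (α : ∀ t, (A.obj t).obj.fst ≅ (B.obj t).obj.fst)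
    (β : ∀ t, (A.obj t).obj.snd ≅ (B.obj t).obj.snd)
    (hα : ∀ t, 𝒳.p.IsHomLift (𝟙 (𝒯.p.obj t)) (α t).hom)
    (hw : ∀ t, F.map (α t).hom ≫ (B.obj t).obj.iso.hom = (A.obj t).obj.iso.hom ≫ G.map (β t).hom)
    (nα : ∀ {t t' : 𝒯.obj} (k : t ⟶ t'),
      (A.map k).hom.fst ≫ (α t').hom = (α t).hom ≫ (B.map k).hom.fst)
    (nβ : ∀ {t t' : 𝒯.obj} (k : t ⟶ t'),
      (A.map k).hom.snd ≫ (β t').hom = (β t).hom ≫ (B.map k).hom.snd) : A ≅ B :=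
  BasedNatIso.mkNatIso
    (NatIso.ofComponents (fun t => objIsoMk (α t) (β t) (hw t))
      (fun k => fp_hom_ext _ _ (nα k) (nβ k)))
    (fun t => (fp_isHomLift_iff F G _ _).mpr (hα t))

end isoMk

section magicNat
variable {𝒱 𝒰 𝒴 𝒵 : BasedCategory.{v, max u v} C} (y₁ : 𝒱 ⥤ᵇ 𝒴) (y₂ : 𝒰 ⥤ᵇ 𝒴) (g : 𝒴 ⥤ᵇ 𝒵)

theorem φ1_nat {ω ω' : (fp (prodF y₁ y₂ g) (diag g)).obj} (n : ω ⟶ ω') :
    y₁.map n.hom.fst.hom.fst ≫ (φ1 y₁ y₂ g ω').hom = (φ1 y₁ y₂ g ω).hom ≫ n.hom.snd :=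
  congrArg (fun t => t.hom.fst) n.hom.w

theorem φ2_nat {ω ω' : (fp (prodF y₁ y₂ g) (diag g)).obj} (n : ω ⟶ ω') :
    y₂.map n.hom.fst.hom.snd ≫ (φ2 y₁ y₂ g ω').hom = (φ2 y₁ y₂ g ω).hom ≫ n.hom.snd :=
  congrArg (fun t => t.hom.snd) n.hom.w

end magicNat

section aux2
variable {D D' : Type*} [Category D] [Category D'] (f : D ⥤ D')

theorem sec_w_aux {a : D'} {c x : D} (km : a ⟶ a) (hkm : km = 𝟙 a) (i : a ⟶ f.obj c)
    (τ : f.obj c ⟶ f.obj x) (φ : c ≅ x) (hτ : τ = f.map φ.hom) :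
    km ≫ i = (i ≫ τ) ≫ f.map φ.inv := by
  subst hkm hτ
  rw [Category.id_comp, Category.assoc, ← f.map_comp, Iso.hom_inv_id, f.map_id, Category.comp_id]

theorem sec_nat_aux {c c' x x' η η' : D} (φ1 : c ≅ η) (φ2 : x ≅ η) (φ1' : c' ≅ η') (φ2' : x' ≅ η')
    (p : c ⟶ c') (r : x ⟶ x') (m : η ⟶ η') (h1 : p ≫ φ1'.hom = φ1.hom ≫ m)
    (h2 : r ≫ φ2'.hom = φ2.hom ≫ m) :
    r ≫ (φ2'.hom ≫ φ1'.inv) = (φ2.hom ≫ φ1.inv) ≫ p := by
  have h3 : m ≫ φ1'.inv = φ1.inv ≫ p := by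
    rw [Iso.eq_inv_comp, ← Category.assoc, ← h1, Category.assoc, Iso.hom_inv_id, Category.comp_id]
  rw [← Category.assoc, h2, Category.assoc, h3, Category.assoc]

theorem id_nat_aux {a b : D} (p p' : a ⟶ b) (h : p = p') : p ≫ 𝟙 b = 𝟙 a ≫ p' := by
  subst h; simp

end aux2

section sectionIso
variable {𝒲 𝒳 𝒴 : BasedCategory.{v, max u v} C} (f : 𝒳 ⥤ᵇ 𝒴) (q : 𝒲 ⥤ᵇ 𝒳) (k : 𝒲 ⥤ᵇ 𝒴)
  (ι : BasedFunctor.comp (BasedFunctor.id 𝒲) k ≅ BasedFunctor.comp q f)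

/-- the equivalence from the magic fibre product to `𝒲`. -/
def secA : fp (prodF q (BasedFunctor.id 𝒳) f) (diag f) ⥤ᵇ 𝒲 :=
  BasedFunctor.comp (magic q (BasedFunctor.id 𝒳) f) (fpFst q (BasedFunctor.id 𝒳))

theorem secA_isEquivOver : IsEquivOver (secA f q) :=
  isEquivOver_comp _ _ (magic_isEquivOver q (BasedFunctor.id 𝒳) f)
    (fpFst_isEquivOver q (BasedFunctor.id 𝒳) ⟨BasedFunctor.id _, ⟨Iso.refl _⟩, ⟨Iso.refl _⟩⟩)

/-- change of the first leg. -/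
def secB : fp (BasedFunctor.comp q f) (BasedFunctor.comp (BasedFunctor.id 𝒳) f) ⥤ᵇ fp k f :=
  congrLeft (y := BasedFunctor.comp q f) (y' := k) ι.symm f

theorem secB_isEquivOver : IsEquivOver (secB f q k ι) :=
  congrLeft_isEquivOver (y := BasedFunctor.comp q f) (y' := k) ι.symm f

/-- the section `𝒲 ⟶ 𝒲 ×_𝒴 𝒳`. -/
def sec : 𝒲 ⥤ᵇ fp k f := fpLift (F := k) (G := f) (BasedFunctor.id 𝒲) q ι

/-- the 2-isomorphism exhibiting the section as a base change of the diagonal. -/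
def secIso :
    BasedFunctor.comp (fpFst (prodF q (BasedFunctor.id 𝒳) f) (diag f)) (secB f q k ι) ≅
      BasedFunctor.comp (secA f q) (sec f q k ι) :=
  fpIsoMk _ _
    (fun ω => Iso.refl ω.obj.fst.obj.fst)
    (fun ω => (φ2 q (BasedFunctor.id 𝒳) f ω) ≪≫ (φ1 q (BasedFunctor.id 𝒳) f ω).symm)
    (fun _ => IsHomLift.id rfl)
    (fun ω => sec_w_aux f.toFunctor _ (k.toFunctor.map_id _) (appIso ι ω.obj.fst.obj.fst).hom
      ω.obj.fst.obj.iso.hom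
      ((φ1 q (BasedFunctor.id 𝒳) f ω) ≪≫ (φ2 q (BasedFunctor.id 𝒳) f ω).symm)
      (tau_eq q (BasedFunctor.id 𝒳) f ω))
    (fun _ => id_nat_aux _ _ rfl)
    (fun {ω ω'} n => sec_nat_aux (φ1 q (BasedFunctor.id 𝒳) f ω) (φ2 q (BasedFunctor.id 𝒳) f ω)
      (φ1 q (BasedFunctor.id 𝒳) f ω') (φ2 q (BasedFunctor.id 𝒳) f ω')
      (q.map n.hom.fst.hom.fst) n.hom.fst.hom.snd n.hom.snd
      (φ1_nat q (BasedFunctor.id 𝒳) f n) (φ2_nat q (BasedFunctor.id 𝒳) f n))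

end sectionIso

section aux3
variable {D D' : Type*} [Category D] [Category D']

theorem sq_id_aux {a b : D} (p p' : a ⟶ b) (hp : p = p') (i1 : b ⟶ b) (i2 : a ⟶ a) (h1 : i1 = 𝟙 b)
    (h2 : i2 = 𝟙 a) : p ≫ i1 = i2 ≫ p' := by
  subst hp h1 h2; simp

theorem sq_id_aux2 {a b : D} (m1 : a ⟶ a) (m2 : b ⟶ b) (τ τ' : a ⟶ b) (h1 : m1 = 𝟙 a)
    (h2 : m2 = 𝟙 b) (hτ : τ = τ') : m1 ≫ τ = τ' ≫ m2 := by
  subst h1 h2 hτ; simp

end aux3

section diagBC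
variable {𝒳 𝒴 𝒵 : BasedCategory.{v, max u v} C} (g : 𝒵 ⥤ᵇ 𝒴) (f : 𝒳 ⥤ᵇ 𝒴)

/-- the section `𝒵 ×_𝒴 𝒳 ⟶ (𝒵 ×_𝒴 𝒳) ×_𝒴 𝒳` whose composite with the pasting equivalence is the
diagonal of the projection `𝒵 ×_𝒴 𝒳 ⟶ 𝒵`. -/
def bcSec : fp g f ⥤ᵇ fp (BasedFunctor.comp (fpFst g f) g) f :=
  sec f (fpSnd g f) (BasedFunctor.comp (fpFst g f) g) (fpIso g f)

/-- the diagonal of the base change as a composite. -/
def bcIso : BasedFunctor.comp (bcSec g f) (paste (fpFst g f) g f) ≅ diag (fpFst g f) :=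
  fpIsoMk _ _ (fun a => Iso.refl a) (fun a => Iso.refl a) (fun _ => IsHomLift.id rfl)
    (fun _ => sq_id_aux _ _ rfl _ _ rfl rfl)
    (fun _ => id_nat_aux _ _ rfl) (fun _ => id_nat_aux _ _ rfl)

end diagBC

section diagComp
variable {𝒳 𝒴 𝒵 : BasedCategory.{v, max u v} C} (f : 𝒳 ⥤ᵇ 𝒴) (g : 𝒴 ⥤ᵇ 𝒵)

/-- the canonical functor `𝒳 ×_𝒴 𝒳 ⟶ 𝒳 ×_𝒵 𝒳`. -/
def diagMap : fp f f ⥤ᵇ fp (BasedFunctor.comp f g) (BasedFunctor.comp f g) :=
  fpLift (F := BasedFunctor.comp f g) (G := BasedFunctor.comp f g) (fpFst f f) (fpSnd f f)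
    (whiskerR (fpIso f f) g)

/-- the diagonal of a composite factors through the diagonal of the first functor. -/
def diagCompIso : BasedFunctor.comp (diag f) (diagMap f g) ≅ diag (BasedFunctor.comp f g) :=
  fpIsoMk _ _ (fun a => Iso.refl a) (fun a => Iso.refl a) (fun _ => IsHomLift.id rfl)
    (fun _ => sq_id_aux _ _ rfl _ _ rfl (g.toFunctor.map_id _))
    (fun _ => id_nat_aux _ _ rfl) (fun _ => id_nat_aux _ _ rfl)

/-- `𝒳 ×_𝒴 𝒳 ⟶ 𝒳 ×_𝒵 𝒳` is a base change of the diagonal of `g`. -/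
def diagMapIso :
    BasedFunctor.comp (magic f f g) (diagMap f g) ≅ fpFst (prodF f f g) (diag g) :=
  fpIsoMk _ _ (fun ω => Iso.refl ω.obj.fst.obj.fst) (fun ω => Iso.refl ω.obj.fst.obj.snd)
    (fun _ => IsHomLift.id rfl)
    (fun ω => sq_id_aux2 _ _ _ _ ((BasedFunctor.comp f g).toFunctor.map_id _)
      ((BasedFunctor.comp f g).toFunctor.map_id _) (tau_eq f f g ω))
    (fun _ => id_nat_aux _ _ rfl) (fun _ => id_nat_aux _ _ rfl)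

end diagComp

end Groth.Agent.H32.Sect
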