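import Groth.Agent.H32.StTop
import Groth.Agent.H32.AlgStackFp
import Groth.Agent.H32.SpComp
import Groth.Agent.H32.SpBoot

/-!
# Universal topological properties of morphisms of algebraic stacks representable by algebraic
spaces, read on points (helper32)
-/

set_option autoImplicit false
universe u
open CategoryTheory CategoryTheory.Limits AlgebraicGeometry Opposite Topology

namespace Groth.Agent.H32.StUniv

open FibCat Stk Groth.Agent.H32.Fp2 Groth.Agent.H32.Fp3 Groth.Agent.H32.Fp4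
open Groth.Agent.H32.PshStack Groth.Agent.H32.StPoints
open Groth.Agent.H32.SpBridge Groth.Agent.H32.AtlasRep Groth.Agent.H32.DiagDict
open Groth.Agent.H32.PFacts Groth.Agent.H32.GoodMore Groth.Agent.H32.StackOps
open Groth.Agent.H32.AlgStackEquiv Groth.Agent.H32.StTop Groth.Agent.H32.SpComp
open Groth.Agent.H32.PshFp Groth.Agent.H32.SpTrack

variable {S : Scheme.{u}}

/-- properties of maps of topological spaces that are invariant under homeomorphisms and descend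
along open quotient squares. -/
structure TopProp (𝒯 : ∀ {A B : Type (u + 1)} [TopologicalSpace A] [TopologicalSpace B],
    (A → B) → Prop) : Prop where
  homeo : ∀ {A A' B B' : Type (u + 1)} [TopologicalSpace A] [TopologicalSpace A']
    [TopologicalSpace B] [TopologicalSpace B'] (α : A' ≃ₜ A) (β : B ≃ₜ B') (φ : A → B),
    𝒯 φ → 𝒯 (β ∘ φ ∘ α)
  descend : ∀ {A A' B B' : Type (u + 1)} [TopologicalSpace A] [TopologicalSpace A']
    [TopologicalSpace B] [TopologicalSpace B'] (p' : A' → A) (p : B' → B) (φ' : A' → B')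
    (φ : A → B), IsOpenQuotientMap p → IsOpenQuotientMap p' → Continuous φ → Continuous φ' →
    (∀ a', φ (p' a') = p (φ' a')) → (∀ a b', φ a = p b' → ∃ a', p' a' = a ∧ φ' a' = b') →
    𝒯 φ' → 𝒯 φ

section inst

theorem preimage_image_sq {A A' B B' : Type*} (p' : A' → A) (p : B' → B) (φ' : A' → B')
    (φ : A → B) (hc : ∀ a', φ (p' a') = p (φ' a'))
    (hs : ∀ a b', φ a = p b' → ∃ a', p' a' = a ∧ φ' a' = b') (O : Set A) :
    p ⁻¹' (φ '' O) = φ' '' (p' ⁻¹' O) := by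
  ext b'
  constructor
  · rintro ⟨a, ha, hab⟩
    obtain ⟨a', rfl, rfl⟩ := hs a b' hab
    exact ⟨a', ha, rfl⟩
  · rintro ⟨a', ha', rfl⟩
    exact ⟨p' a', ha', hc a'⟩

theorem topProp_isOpenMap : TopProp.{u} (fun φ => IsOpenMap φ) where
  homeo := fun α β φ h => β.isOpenMap.comp (h.comp α.isOpenMap)
  descend := fun p' p φ' φ hp hp' _ _ hc hs h O hO => by
    rw [← hp.isQuotientMap.isOpen_preimage, preimage_image_sq p' p φ' φ hc hs]
    exact h _ (hO.preimage hp'.continuous)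

theorem topProp_isClosedMap : TopProp.{u} (fun φ => IsClosedMap φ) where
  homeo := fun α β φ h => β.isClosedMap.comp (h.comp α.isClosedMap)
  descend := fun p' p φ' φ hp hp' _ _ hc hs h O hO => by
    rw [← hp.isQuotientMap.isClosed_preimage, preimage_image_sq p' p φ' φ hc hs]
    exact h _ (hO.preimage hp'.continuous)

theorem injective_descend {A A' B B' : Type*} (p' : A' → A) (p : B' → B) (φ' : A' → B')
    (φ : A → B) (hp : Function.Surjective p)
    (hs : ∀ a b', φ a = p b' → ∃ a', p' a' = a ∧ φ' a' = b') (h : Function.Injective φ') :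
    Function.Injective φ := by
  intro a₁ a₂ h12
  obtain ⟨b', hb'⟩ := hp (φ a₁)
  obtain ⟨a₁', rfl, h1⟩ := hs a₁ b' hb'.symm
  obtain ⟨a₂', rfl, h2⟩ := hs a₂ b' (h12.symm.trans hb'.symm)
  rw [h (h1.trans h2.symm)]

theorem surjective_descend {A A' B B' : Type*} (p' : A' → A) (p : B' → B) (φ' : A' → B')
    (φ : A → B) (hp : Function.Surjective p) (hc : ∀ a', φ (p' a') = p (φ' a'))
    (h : Function.Surjective φ') : Function.Surjective φ := by
  intro b
  obtain ⟨b', rfl⟩ := hp b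
  obtain ⟨a', rfl⟩ := h b'
  exact ⟨p' a', hc a'⟩

theorem topProp_injective : TopProp.{u} (fun φ => Function.Injective φ) where
  homeo := fun α β _ h => β.injective.comp (h.comp α.injective)
  descend := fun p' p φ' φ hp _ _ _ _ hs h => injective_descend p' p φ' φ hp.surjective hs h

theorem topProp_isQuotientMap : TopProp.{u} (fun φ => IsQuotientMap φ) where
  homeo := fun α β _ h => β.isQuotientMap.comp (h.comp α.isQuotientMap)
  descend := fun p' p φ' φ hp hp' hφ _ hc _ h => by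
    refine (isQuotientMap_iff φ).2 ⟨isCoinducing_iff.2 fun s => ⟨fun hs => ?_, fun hs => hs.preimage hφ⟩,
      surjective_descend p' p φ' φ hp.surjective hc h.surjective⟩
    rw [← hp.isQuotientMap.isOpen_preimage, ← h.isOpen_preimage]
    have : φ' ⁻¹' (p ⁻¹' s) = p' ⁻¹' (φ ⁻¹' s) := by
      ext a'
      simp only [Set.mem_preimage, hc]
    rw [this]
    exact hs.preimage hp'.continuous

theorem topProp_isHomeomorph : TopProp.{u} (fun φ => IsHomeomorph φ) where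
  homeo := fun α β φ h => β.isHomeomorph.comp (h.comp α.isHomeomorph)
  descend := fun p' p φ' φ hp hp' hφ hφ' hc hs h =>
    ⟨hφ, topProp_isOpenMap.descend p' p φ' φ hp hp' hφ hφ' hc hs h.isOpenMap,
      injective_descend p' p φ' φ hp.surjective hs h.injective,
      surjective_descend p' p φ' φ hp.surjective hc h.surjective⟩

end inst

noncomputable section

section fwd
variable {𝒳 𝒴 𝒵 : AlgSt.Cat S}

/-- an equivalence of algebraic stacks is a homeomorphism on points. -/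
def homeoOfEquiv {𝒜 ℬ : AlgSt.Cat S} (h𝒜 : AlgSt.IsAlgStack Scheme.fppfPrecoverage 𝒜)
    (hℬ : AlgSt.IsAlgStack Scheme.fppfPrecoverage ℬ) (E : 𝒜 ⥤ᵇ ℬ) (E' : ℬ ⥤ᵇ 𝒜)
    (α : BasedFunctor.comp E E' ≅ BasedFunctor.id 𝒜) (β : BasedFunctor.comp E' E ≅ BasedFunctor.id ℬ) :
    AlgSt.Points 𝒜 ≃ₜ AlgSt.Points ℬ where
  toFun := AlgSt.Points.map E
  invFun := AlgSt.Points.map E'
  left_inv := fun x => by rw [← map_comp, map_congr α, map_id]
  right_inv := fun y => by rw [← map_comp, map_congr β, map_id]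
  continuous_toFun := continuous_map hℬ E
  continuous_invFun := continuous_map h𝒜 E'

theorem isHomeomorph_of_equiv {𝒜 ℬ : AlgSt.Cat S} (h𝒜 : AlgSt.IsAlgStack Scheme.fppfPrecoverage 𝒜)
    (hℬ : AlgSt.IsAlgStack Scheme.fppfPrecoverage ℬ) (E : 𝒜 ⥤ᵇ ℬ) (hE : IsEquivOver E) :
    IsHomeomorph (AlgSt.Points.map E) := by
  obtain ⟨E', ⟨α⟩, ⟨β⟩⟩ := hE
  exact (homeoOfEquiv h𝒜 hℬ E E' α β).isHomeomorph

theorem isAlgStack_fp' (h𝒳 : AlgSt.IsAlgStack Scheme.fppfPrecoverage 𝒳)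
    (h𝒴 : AlgSt.IsAlgStack Scheme.fppfPrecoverage 𝒴) (h𝒵 : AlgSt.IsAlgStack Scheme.fppfPrecoverage 𝒵)
    (g : 𝒵 ⥤ᵇ 𝒴) (f : 𝒳 ⥤ᵇ 𝒴) : AlgSt.IsAlgStack Scheme.fppfPrecoverage (fp g f) :=
  Groth.Agent.H32.AlgStackFp.isAlgStack_fp h𝒴.isStack.1 h𝒴.diag h𝒵 h𝒳 g f

/-- the base change of a smooth surjective chart is an open quotient map on points. -/
theorem fpSnd_isOpenQuotientMap {𝒲 : AlgSt.Cat S} (h𝒲 : AlgSt.IsAlgStack Scheme.fppfPrecoverage 𝒲)
    (h𝒵 : AlgSt.IsAlgStack Scheme.fppfPrecoverage 𝒵) {V : Over S} (a : FibCat.overCat V ⥤ᵇ 𝒵)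
    (ha : AlgSt.RepByAlgSpWith (AlgSp.LocP @Smooth) a)
    (hs : AlgSt.RepByAlgSpWith AlgSp.IsSurjectiveMor a) (φ : 𝒲 ⥤ᵇ 𝒵) :
    IsOpenQuotientMap (AlgSt.Points.map (fpSnd a φ)) := by
  have hfp : AlgSt.IsAlgStack Scheme.fppfPrecoverage (fp a φ) :=
    isAlgStack_fp' h𝒲 h𝒵 (isAlgStack_overCat V) a φ
  have h1 : AlgSt.RepByAlgSpWith (AlgSp.LocP @Smooth) (fpSnd a φ) := repByAlgSpWith_fpSnd _ a φ ha
  have h2 : AlgSt.RepByAlgSpWith AlgSp.IsSurjectiveMor (fpSnd a φ) := repByAlgSpWith_fpSnd _ a φ hs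
  exact ⟨(surj_iff hfp h𝒲 _ (repByAlgSp1_of_with h2)).2 h2, continuous_map h𝒲 _,
    isOpenMap_of_flat_lfp hfp h𝒲 _ (Groth.Agent.H32.DiagApps.with_imp flat_lfp_of_smooth h1)⟩

end fwd

section fwd2
variable {𝒳 𝒴 𝒵 : AlgSt.Cat S}

theorem isHomeomorph_isOpenQuotientMap {A B : Type*} [TopologicalSpace A] [TopologicalSpace B]
    {φ : A → B} (h : IsHomeomorph φ) : IsOpenQuotientMap φ :=
  ⟨h.surjective, h.continuous, h.isOpenMap⟩

/-- a universal property of the base changes to schemes gives the property for all base changes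
to algebraic stacks, on points. -/
theorem stackwise_of_univ {𝒯 : ∀ {A B : Type (u + 1)} [TopologicalSpace A] [TopologicalSpace B],
    (A → B) → Prop} (h𝒯 : TopProp.{u} @𝒯)
    (h𝒳 : AlgSt.IsAlgStack Scheme.fppfPrecoverage 𝒳) (h𝒴 : AlgSt.IsAlgStack Scheme.fppfPrecoverage 𝒴)
    (f : 𝒳 ⥤ᵇ 𝒴)
    (hfQ : AlgSt.RepByAlgSpWith (AlgSp.UnivSp fun _ _ a => 𝒯 (AlgSp.Points.map a)) f)
    (h𝒵 : AlgSt.IsAlgStack Scheme.fppfPrecoverage 𝒵) (g : 𝒵 ⥤ᵇ 𝒴) :
    𝒯 (AlgSt.Points.map (fpFst g f)) := by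
  obtain ⟨V, a, ha, hs⟩ := h𝒵.atlas
  obtain ⟨F, e, he, hQ⟩ := hfQ V (BasedFunctor.comp a g)
  have hfp : AlgSt.IsAlgStack Scheme.fppfPrecoverage (fp g f) := isAlgStack_fp' h𝒳 h𝒴 h𝒵 g f
  have hfp2 : AlgSt.IsAlgStack Scheme.fppfPrecoverage (fp a (fpFst g f)) :=
    isAlgStack_fp' hfp h𝒵 (isAlgStack_overCat V) a (fpFst g f)
  let pV := AlgSt.spMapOfOver (BasedFunctor.comp e (fpFst (BasedFunctor.comp a g) f))
  have hQ0 : 𝒯 (AlgSp.Points.map pV) :=
    hQ (AlgSp.IsAlgSpace.yon_obj V) (𝟙 _) (𝟙 _) pV IsPullback.of_id_fst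
  let E : AlgSt.ofSp F.obj ⥤ᵇ fp a (fpFst g f) := BasedFunctor.comp e (paste a g f)
  have hE : IsEquivOver E := isEquivOver_comp _ _ he (paste_isEquivOver a g f)
  have hEh := isHomeomorph_of_equiv (isAlgStack_ofSp F) hfp2 E hE
  let p' : AlgSp.Points F.obj → AlgSt.Points (fp g f) := fun r =>
    AlgSt.Points.map (fpSnd a (fpFst g f)) (AlgSt.Points.map E (toSt F.obj r))
  let p : AlgSp.Points ((AlgSp.yon S).obj V) → AlgSt.Points 𝒵 := fun b =>
    AlgSt.Points.ofChart a (AlgSp.Points.toScheme V b)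
  have hp : IsOpenQuotientMap p :=
    (ofChart_isOpenQuotientMap h𝒵 a (flat_lfp_of_smooth_chart ha) hs).comp
      (AlgSp.Points.schemeHomeo V).symm.isOpenQuotientMap
  have hp' : IsOpenQuotientMap p' :=
    (fpSnd_isOpenQuotientMap hfp h𝒵 a ha hs (fpFst g f)).comp
      ((isHomeomorph_isOpenQuotientMap hEh).comp (ptsHomeo F).isOpenQuotientMap)
  have key : ∀ r : AlgSp.Points F.obj,
      AlgSt.Points.map (fpFst a (fpFst g f)) (AlgSt.Points.map E (toSt F.obj r)) =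
        ptOf V (AlgSp.Points.toScheme V (AlgSp.Points.map pV r)) := by
    intro r
    rw [← map_toSt_over, ← map_comp]
    rfl
  refine h𝒯.descend p' p (AlgSp.Points.map pV) (AlgSt.Points.map (fpFst g f)) hp hp'
    (continuous_map h𝒵 _) (AlgSp.Points.continuous_map pV) (fun r => ?_) (fun w b' hwb => ?_) hQ0
  · change AlgSt.Points.map (fpFst g f) (AlgSt.Points.map (fpSnd a (fpFst g f)) _) =
      AlgSt.Points.ofChart a _
    rw [ofChart_eq, ← key r]
    exact ((map_comp _ _ _).symm.trans (map_congr (fpIso a (fpFst g f)) _).symm).trans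
      (map_comp _ _ _)
  · obtain ⟨w', hw1, hw2⟩ := Groth.Agent.S12818.result hfp h𝒵 (isAlgStack_overCat V) (fpFst g f) a
      (ptOf V (AlgSp.Points.toScheme V b')) w hwb.symm
    obtain ⟨w'', rfl⟩ := hEh.surjective w'
    obtain ⟨r, rfl⟩ := (ptsEquiv F.obj).surjective w''
    refine ⟨r, hw2, ?_⟩
    have h1 := (ptOf_bijective V).1 ((key r).symm.trans hw1)
    exact (AlgSp.Points.schemeEquiv V).symm.injective h1

end fwd2

section bwd
variable {𝒳 𝒴 : AlgSt.Cat S}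

/-- an isomorphism of sheaves is a homeomorphism on points. -/
def homeoOfIso {X Y : AlgSp.Sp S} (i : X ≅ Y) : AlgSp.Points X ≃ₜ AlgSp.Points Y where
  toFun := AlgSp.Points.map i.hom
  invFun := AlgSp.Points.map i.inv
  left_inv := fun x => by rw [← AlgSp.Points.map_comp, Iso.hom_inv_id, AlgSp.Points.map_id]
  right_inv := fun x => by rw [← AlgSp.Points.map_comp, Iso.inv_hom_id, AlgSp.Points.map_id]
  continuous_toFun := AlgSp.Points.continuous_map _
  continuous_invFun := AlgSp.Points.continuous_map _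

/-- the property for the projection of a fibre product over an algebraic space, read on a
representing algebraic space. -/
theorem prop_of_rep {𝒯 : ∀ {A B : Type (u + 1)} [TopologicalSpace A] [TopologicalSpace B],
    (A → B) → Prop} (h𝒯 : TopProp.{u} @𝒯) {𝒲 : AlgSt.Cat S}
    (h𝒲 : AlgSt.IsAlgStack Scheme.fppfPrecoverage 𝒲) (Z V : AlgSp.Space S)
    (φ : 𝒲 ⥤ᵇ AlgSt.ofSp Z.obj) (eV : AlgSt.ofSp V.obj ⥤ᵇ 𝒲) (heV : IsEquivOver eV)
    (sndV : V.obj ⟶ Z.obj) (hsnd : sndV.hom = pshMapOf (BasedFunctor.comp eV φ))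
    (h : 𝒯 (AlgSt.Points.map φ)) : 𝒯 (AlgSp.Points.map sndV) := by
  obtain ⟨eV', ⟨α⟩, ⟨β⟩⟩ := heV
  let a : AlgSp.Points V.obj ≃ₜ AlgSt.Points 𝒲 :=
    (ptsHomeo V).trans (homeoOfEquiv (isAlgStack_ofSp V) h𝒲 eV eV' α β)
  have h1 := h𝒯.homeo a (ptsHomeo Z).symm _ h
  have h2 : (ptsHomeo Z).symm ∘ AlgSt.Points.map φ ∘ a = AlgSp.Points.map sndV := by
    funext r
    apply (ptsHomeo Z).injective
    change ptsHomeo Z ((ptsHomeo Z).symm _) = _
    rw [Homeomorph.apply_symm_apply]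
    change AlgSt.Points.map φ (AlgSt.Points.map eV (toSt V.obj r)) = toSt Z.obj _
    rw [toSt_map, ← map_comp]
    obtain ⟨γ⟩ := ofPshMap_pshMapOf (BasedFunctor.comp eV φ)
    have h3 : AlgSt.ofSpMap sndV = Stk.ofPshMap (pshMapOf (BasedFunctor.comp eV φ)) := by
      change Stk.ofPshMap sndV.hom = _
      rw [hsnd]
    rw [h3]
    exact (map_congr γ _).symm
  rwa [h2] at h1

end bwd

section bwd2
variable {𝒳 𝒴 : AlgSt.Cat S}

/-- the property on points for all base changes to algebraic stacks gives the universal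
property of the base changes to schemes. -/
theorem univ_of_stackwise {𝒯 : ∀ {A B : Type (u + 1)} [TopologicalSpace A] [TopologicalSpace B],
    (A → B) → Prop} (h𝒯 : TopProp.{u} @𝒯)
    (h𝒳 : AlgSt.IsAlgStack Scheme.fppfPrecoverage 𝒳) (h𝒴 : AlgSt.IsAlgStack Scheme.fppfPrecoverage 𝒴)
    (f : 𝒳 ⥤ᵇ 𝒴) (hf : AlgSt.RepByAlgSp1 f)
    (H : ∀ (𝒵 : AlgSt.Cat S), AlgSt.IsAlgStack Scheme.fppfPrecoverage 𝒵 → ∀ (g : 𝒵 ⥤ᵇ 𝒴),
      𝒯 (AlgSt.Points.map (fpFst g f))) :
    AlgSt.RepByAlgSpWith (AlgSp.UnivSp fun _ _ a => 𝒯 (AlgSp.Points.map a)) f := by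
  intro U y
  obtain ⟨F, e, he⟩ := hf U y
  refine ⟨F, e, he, ?_⟩
  intro Z Z' hZ g fst snd sq
  let h : AlgSt.ofSch U ⥤ᵇ 𝒴 := BasedFunctor.comp (AlgSt.toOverCat U) y
  obtain ⟨E', hE', -, ⟨β'⟩⟩ := exists_inv_isEquivOver
    (pasteMid_isEquivOver (AlgSt.toOverCat U) y f (toOverCat_isEquivOver U))
  let eF : AlgSt.ofSp F.obj ⥤ᵇ fp h f := BasedFunctor.comp e E'
  have heF : IsEquivOver eF := isEquivOver_comp _ _ he hE'
  let z : AlgSt.ofSp Z ⥤ᵇ 𝒴 := BasedFunctor.comp (AlgSt.ofSpMap g) h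
  obtain ⟨V, eV, heV⟩ := Groth.Agent.H32.SpBoot.repByAlgSp_fp_ofSp h𝒳.isStack.1 h𝒴.isStack.1
    ⟨Z, hZ⟩ z f hf
  obtain ⟨q, hq⟩ := exists_isPullback_baseChange f h eF heF g.hom eV heV
  have hpU : pshMapOf (BasedFunctor.comp eF (fpFst h f)) =
      (AlgSt.spMapOfOver (BasedFunctor.comp e (fpFst y f))).hom := by
    rw [spMapOfOver_hom]
    exact pshMapOf_congr (whiskerRightIso (whiskerLeftIso e β')
      (BasedFunctor.comp (fpFst y f) (AlgSt.ofOverCat U))).hom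
  rw [hpU] at hq
  have sq' : IsPullback fst.hom snd.hom
      (AlgSt.spMapOfOver (BasedFunctor.comp e (fpFst y f))).hom g.hom :=
    sq.map (sheafToPresheaf (AlgSp.J S) (Type (u + 1)))
  let i0 := sq'.isoIsPullback _ _ hq
  have hi0 : i0.hom ≫ pshMapOf (BasedFunctor.comp eV (fpFst z f)) = snd.hom :=
    sq'.isoIsPullback_hom_snd _ _ hq
  let i : Z' ≅ V.obj := (fullyFaithfulSheafToPresheaf (AlgSp.J S) (Type (u + 1))).preimageIso i0
  let sndV : V.obj ⟶ Z := ObjectProperty.homMk (pshMapOf (BasedFunctor.comp eV (fpFst z f)))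
  have hsnd : snd = i.hom ≫ sndV := by
    apply ObjectProperty.hom_ext
    exact hi0.symm
  have hfp : AlgSt.IsAlgStack Scheme.fppfPrecoverage (fp z f) :=
    isAlgStack_fp' h𝒳 h𝒴 (isAlgStack_ofSp ⟨Z, hZ⟩) z f
  have h1 : 𝒯 (AlgSp.Points.map sndV) :=
    prop_of_rep h𝒯 hfp ⟨Z, hZ⟩ V (fpFst z f) eV heV sndV rfl
      (H (AlgSt.ofSp Z) (isAlgStack_ofSp ⟨Z, hZ⟩) z)
  have h2 := h𝒯.homeo (homeoOfIso i) (Homeomorph.refl _) _ h1
  have h3 : (Homeomorph.refl (AlgSp.Points Z)) ∘ AlgSp.Points.map sndV ∘ homeoOfIso i =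
      AlgSp.Points.map snd := by
    funext r
    rw [hsnd, AlgSp.Points.map_comp]
    rfl
  rwa [h3] at h2

end bwd2

end

end Groth.Agent.H32.StUniv
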