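import Groth.Agent.H32.StPoints
import Groth.Agent.H32.StUniv
import Groth.Agent.H32.AtlasCover
import Groth.Agent.H32.Sect
import Groth.Agent.H63.SurjK
import Groth.Agent.S12939

/-!
# Surjectivity of the diagonal on points and lifting of 2-arrows over algebraically closed fields
(helper32)
-/

set_option autoImplicit false
open CategoryTheory CategoryTheory.Limits AlgebraicGeometry Opposite
universe u

namespace Groth.Agent.H32.DiagSurj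

open FibCat Stk Groth.Agent.H32.FibProd Groth.Agent.H32.Fp2 Groth.Agent.H32.Fp3
  Groth.Agent.H32.Sect Groth.Agent.H32.StPoints Groth.Agent.H32.StUniv

variable {S : Scheme.{u}} {𝒳 𝒴 : AlgSt.Cat S}

theorem key_alpha (h𝒳 : IsFibGrpd 𝒳.p) (f : 𝒳 ⥤ᵇ 𝒴) {x a₁ a₂ : 𝒳.obj} {T : Over S}
    (u₁ : x ⟶ a₁) (u₂ : x ⟶ a₂) (h₁ : 𝒳.p.IsHomLift (𝟙 T) u₁) (h₂ : 𝒳.p.IsHomLift (𝟙 T) u₂)
    (β : f.obj a₁ ⟶ f.obj a₂) (hβ : f.map u₁ ≫ β = f.map u₂) :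
    ∃ α : a₁ ⟶ a₂, 𝒳.p.IsHomLift (𝟙 T) α ∧ f.map α = β := by
  have : IsIso u₁ := isIso_of_isFibGrpd 𝒳.p h𝒳 (𝟙 T) u₁
  have h3 : 𝒳.p.IsHomLift (inv (𝟙 T)) (inv u₁) := inferInstance
  have h4 : 𝒳.p.IsHomLift (inv (𝟙 T) ≫ 𝟙 T) (inv u₁ ≫ u₂) := inferInstance
  rw [IsIso.inv_hom_id] at h4
  refine ⟨inv u₁ ≫ u₂, h4, ?_⟩
  rw [f.toFunctor.map_comp, ← hβ, ← Category.assoc, ← f.toFunctor.map_comp, IsIso.inv_hom_id,
    f.toFunctor.map_id, Category.id_comp]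

/-- lifting of 2-arrows over algebraically closed fields implies that the diagonal is surjective
on points. -/
theorem surjective_diag_of_lift (h𝒳 : AlgSt.IsAlgStack Scheme.fppfPrecoverage 𝒳)
    (h𝒴 : AlgSt.IsAlgStack Scheme.fppfPrecoverage 𝒴) (f : 𝒳 ⥤ᵇ 𝒴)
    (H : ∀ (k : Type u) [Field k] [IsAlgClosed k] (s : Spec (CommRingCat.of k) ⟶ S) (a₁ a₂ : 𝒳.obj)
        (_ : 𝒳.p.obj a₁ = Over.mk s) (_ : 𝒳.p.obj a₂ = Over.mk s) (β : f.obj a₁ ⟶ f.obj a₂),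
        𝒴.p.IsHomLift (𝟙 (Over.mk s)) β →
          ∃ α : a₁ ⟶ a₂, 𝒳.p.IsHomLift (𝟙 (Over.mk s)) α ∧ f.map α = β) :
    AlgSt.IsSurjective (FibCat.diag f) := by
  intro ζ
  obtain ⟨p, rfl⟩ := AlgSt.Points.mk_surjective ζ
  have hfp : IsFibGrpd (fp f f).p :=
    Groth.Agent.H32.Repr.fp_isFibGrpd f f h𝒳.isStack.1 h𝒳.isStack.1 h𝒴.isStack.1
  let m₀ : Spec (CommRingCat.of (AlgebraicClosure p.K)) ⟶ Spec (CommRingCat.of p.K) :=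
    Spec.map (CommRingCat.ofHom (algebraMap p.K (AlgebraicClosure p.K)))
  let mT : Over.mk (m₀ ≫ p.str) ⟶ Over.mk p.str := Over.homMk m₀ rfl
  obtain ⟨b', ψ, hψ⟩ := exists_lift_of_eq (fp f f).p hfp p.lies mT
  have lies' : (fp f f).p.obj b' = Over.mk (m₀ ≫ p.str) := IsHomLift.domain_eq (fp f f).p mT ψ
  let q : AlgSt.FPt (fp f f) := ⟨AlgebraicClosure p.K, m₀ ≫ p.str, b', lies'⟩
  have hq : AlgSt.Points.mk q = AlgSt.Points.mk p := AlgSt.Points.sound ⟨q, 𝟙 _, ψ, trivial⟩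
  have h1 : 𝒳.p.obj b'.obj.fst = Over.mk (m₀ ≫ p.str) := lies'
  have h2 : 𝒳.p.obj b'.obj.snd = Over.mk (m₀ ≫ p.str) := (fp_snd_obj_eq f f b').trans h1
  have hβ : 𝒴.p.IsHomLift (𝟙 (Over.mk (m₀ ≫ p.str))) b'.obj.iso.hom :=
    isHomLift_id_of_eq 𝒴.p h1 _ b'.property
  obtain ⟨α, hα, hfα⟩ := H (AlgebraicClosure p.K) (m₀ ≫ p.str) b'.obj.fst b'.obj.snd h1 h2
    b'.obj.iso.hom hβ
  have : IsIso α := isIso_of_isFibGrpd 𝒳.p h𝒳.isStack.1 (𝟙 (Over.mk (m₀ ≫ p.str))) α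
  let r : AlgSt.FPt 𝒳 := ⟨AlgebraicClosure p.K, m₀ ≫ p.str, b'.obj.fst, h1⟩
  refine ⟨AlgSt.Points.mk r, ?_⟩
  rw [← hq]
  let αi : b'.obj.fst ≅ b'.obj.snd := asIso α
  have e : (FibCat.diag f).obj b'.obj.fst ≅ b' :=
    objIsoMk (Iso.refl _) αi (by
      change f.map (𝟙 _) ≫ b'.obj.iso.hom = 𝟙 _ ≫ f.map α
      rw [hfα, f.toFunctor.map_id, Category.id_comp])
  exact AlgSt.Points.sound ⟨r.map (FibCat.diag f), 𝟙 _, e.hom, trivial⟩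

/-- a nonempty algebraic space locally of finite type over an algebraically closed field has a
rational point. -/
theorem exists_section (k : Type u) [Field k] [IsAlgClosed k] (s : Spec (CommRingCat.of k) ⟶ S)
    (F : AlgSp.Space S) (π : F.obj ⟶ (AlgSp.yon S).obj (Over.mk s))
    (hπ : AlgSp.LocP @LocallyOfFiniteType π) (hne : Nonempty (AlgSp.Points F.obj)) :
    ∃ c : F.obj.obj.obj (op (Over.mk s)), π.hom.app (op (Over.mk s)) c = ⟨𝟙 _⟩ := by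
  obtain ⟨U, p, hp1, hp2⟩ := F.property.atlas
  obtain ⟨r⟩ := hne
  obtain ⟨z, -⟩ := Groth.Agent.H32.AtlasCover.isSurjectiveMor_of_repWith p hp2 r
  let g : U ⟶ Over.mk s := (AlgSp.yon S).preimage (p ≫ π)
  have hg : (AlgSp.yon S).map g = p ≫ π := (AlgSp.yon S).map_preimage _
  have hci : MorphismProperty.ContainsIdentities (@Etale.{u}) :=
    (inferInstance : MorphismProperty.IsMultiplicative (@Etale.{u})).toContainsIdentities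
  have hlft : LocallyOfFiniteType g.left :=
    hπ p (𝟙 _) g hp1 (AlgSp.repWith_id @Etale _) (by rw [hg, Category.comp_id])
  let X : Over (Spec (CommRingCat.of k)) := Over.mk g.left
  have : LocallyOfFiniteType X.hom := hlft
  have : Nonempty X.left := ⟨AlgSp.Points.toScheme U z⟩
  obtain ⟨pt⟩ := Groth.Agent.H63.SurjK.exists_Kpoint (k := k) k X
  have hpt : pt.left ≫ g.left = 𝟙 _ := by
    have h1 := Over.w pt
    have h2 : (Groth.Agent.H63.SurjK.Kpt k k).hom = 𝟙 _ := by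
      change Spec.map (CommRingCat.ofHom (algebraMap k k)) = 𝟙 _
      rw [Algebra.algebraMap_self]
      exact Spec.map_id _
    rw [h2] at h1
    exact h1
  have hgw : g.left ≫ s = U.hom := Over.w g
  let σ : Over.mk s ⟶ U := Over.homMk pt.left (by
    change pt.left ≫ U.hom = s
    rw [← hgw, ← Category.assoc, hpt, Category.id_comp])
  have hσ : σ ≫ g = 𝟙 _ := Over.OverMorphism.ext hpt
  refine ⟨p.hom.app (op (Over.mk s)) ⟨σ⟩, ?_⟩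
  have h1 : π.hom.app (op (Over.mk s)) (p.hom.app (op (Over.mk s)) ⟨σ⟩) =
      (p ≫ π).hom.app (op (Over.mk s)) ⟨σ⟩ := rfl
  rw [h1, ← hg]
  change (⟨σ ≫ g⟩ : ULift _) = _
  rw [hσ]

/-- if the diagonal is surjective on points, 2-arrows over algebraically closed fields lift. -/
theorem lift_of_surjective_diag (h𝒳 : AlgSt.IsAlgStack Scheme.fppfPrecoverage 𝒳)
    (h𝒴 : AlgSt.IsAlgStack Scheme.fppfPrecoverage 𝒴) (f : 𝒳 ⥤ᵇ 𝒴)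
    (hs : AlgSt.IsSurjective (FibCat.diag f))
    (k : Type u) [Field k] [IsAlgClosed k] (s : Spec (CommRingCat.of k) ⟶ S) (a₁ a₂ : 𝒳.obj)
    (h₁ : 𝒳.p.obj a₁ = Over.mk s) (_h₂ : 𝒳.p.obj a₂ = Over.mk s) (β : f.obj a₁ ⟶ f.obj a₂)
    (hβ : 𝒴.p.IsHomLift (𝟙 (Over.mk s)) β) :
    ∃ α : a₁ ⟶ a₂, 𝒳.p.IsHomLift (𝟙 (Over.mk s)) α ∧ f.map α = β := by
  have hfpS : AlgSt.IsAlgStack Scheme.fppfPrecoverage (fp f f) := isAlgStack_fp' h𝒳 h𝒴 h𝒳 f f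
  have hβi : IsIso β := isIso_of_isFibGrpd 𝒴.p h𝒴.isStack.1 (𝟙 (Over.mk s)) β
  let βi : f.obj a₁ ≅ f.obj a₂ := asIso β
  let b : (fp f f).obj := mkObj f f a₁ a₂ βi (isHomLift_id_of_eq 𝒴.p h₁.symm _ hβ)
  have hb : (fp f f).p.obj b = Over.mk s := h₁
  have : (fp f f).p.IsFibered :=
    Groth.Agent.H32.Split.isFibered_of_isFibGrpd (fp f f) hfpS.isStack.1
  obtain ⟨y, -, τ, -, hτ⟩ := Groth.Agent.H32.Yoneda2.exists_based_functor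
    (Groth.Agent.H32.Split.hT (Over.mk s)) b hb
  obtain ⟨F, e, he, hlft⟩ := Groth.Agent.S12939.result S 𝒳 𝒴 h𝒳 h𝒴 f (Over.mk s) y
  let t₀ : ↥(Over.mk s).left := IsLocalRing.closedPoint k
  obtain ⟨x, hx⟩ := hs (AlgSt.Points.ofChart y t₀)
  obtain ⟨r, -, -⟩ := exists_point_fp h𝒳 hfpS (FibCat.diag f) y F.obj e he t₀ x hx.symm
  obtain ⟨c, hc⟩ := exists_section k s F _ hlft ⟨r⟩
  have hsec : AlgSt.secHom (BasedFunctor.comp e (fpFst y (FibCat.diag f))) ⟨Over.mk s, c⟩ =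
      𝟙 _ := congrArg ULift.down hc
  obtain ⟨G, x', ι, hGl, hι, hG⟩ : ∃ (G : Over (Over.mk s)) (x' : 𝒳.obj)
      (ι : y.obj G ≅ (FibCat.diag f).obj x') (hGl : G.left = Over.mk s),
      (fp f f).p.IsHomLift (𝟙 G.left) ι.hom ∧ eqToHom hGl.symm ≫ G.hom = 𝟙 _ :=
    ⟨(e.obj ⟨Over.mk s, c⟩).obj.fst, (e.obj ⟨Over.mk s, c⟩).obj.snd,
      (e.obj ⟨Over.mk s, c⟩).obj.iso,
      (BasedFunctor.comp e (fpFst y (FibCat.diag f))).w_obj ⟨Over.mk s, c⟩,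
      (e.obj ⟨Over.mk s, c⟩).property, hsec⟩
  obtain ⟨T', ⟨⟨⟩⟩, g⟩ := G
  change T' = Over.mk s at hGl
  subst hGl
  have hg : g = 𝟙 _ := by
    have := hG
    rw [eqToHom_refl] at this
    exact (Category.id_comp _).symm.trans this
  subst hg
  have hι' : (fp f f).p.IsHomLift (𝟙 (Over.mk s)) ι.inv := by
    have : (fp f f).p.IsHomLift (𝟙 (Over.mk s)) ι.hom := hι
    infer_instance
  have hΘ : (fp f f).p.IsHomLift (𝟙 (Over.mk s)) (ι.inv ≫ τ) :=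
    Groth.Agent.H32.StkLoc.isHomLift_comp_id_left _ _ _ _ hι' hτ
  have hw := (ι.inv ≫ τ).hom.w
  refine key_alpha h𝒳.isStack.1 f (ι.inv ≫ τ).hom.fst (ι.inv ≫ τ).hom.snd
    ((fp_isHomLift_iff f f _ _).1 hΘ) (fp_isHomLift_snd' f f (𝟙 (Over.mk s)) (ι.inv ≫ τ)) β ?_
  have hw' : f.map (ι.inv ≫ τ).hom.fst ≫ β = 𝟙 _ ≫ f.map (ι.inv ≫ τ).hom.snd := hw
  exact hw'.trans (Category.id_comp _)

/-- S12832. -/
theorem surjective_diag_iff (h𝒳 : AlgSt.IsAlgStack Scheme.fppfPrecoverage 𝒳)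
    (h𝒴 : AlgSt.IsAlgStack Scheme.fppfPrecoverage 𝒴) (f : 𝒳 ⥤ᵇ 𝒴) :
    AlgSt.IsSurjective (FibCat.diag f) ↔
      ∀ (k : Type u) [Field k] [IsAlgClosed k] (s : Spec (CommRingCat.of k) ⟶ S) (a₁ a₂ : 𝒳.obj)
        (_ : 𝒳.p.obj a₁ = Over.mk s) (_ : 𝒳.p.obj a₂ = Over.mk s) (β : f.obj a₁ ⟶ f.obj a₂),
        𝒴.p.IsHomLift (𝟙 (Over.mk s)) β →
          ∃ α : a₁ ⟶ a₂, 𝒳.p.IsHomLift (𝟙 (Over.mk s)) α ∧ f.map α = β :=
  ⟨fun hs k _ _ s a₁ a₂ h₁ h₂ β hβ => lift_of_surjective_diag h𝒳 h𝒴 f hs k s a₁ a₂ h₁ h₂ β hβ,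
    surjective_diag_of_lift h𝒳 h𝒴 f⟩

end Groth.Agent.H32.DiagSurj
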