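import Mathlib.RingTheory.Henselian
import Mathlib.RingTheory.Etale.StandardEtale
import Mathlib.RingTheory.Unramified.LocalStructure
import Mathlib.RingTheory.Unramified.Finite
import Mathlib.RingTheory.Etale.Basic
import Mathlib.RingTheory.EssentialFiniteness
import Mathlib.RingTheory.LocalRing.ResidueField.Basic

/-!
# Lifting algebra maps from etale algebras to henselian local rings (helper32)

Universe-polymorphic versions of `Groth.Agent.H14.exists_lift_of_etale` (helper14) and
`Groth.Agent.S2782.algHom_eq_of_residue_eq`: the target ring may live in another universe.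
-/

set_option autoImplicit false

namespace Groth.Agent.H32.EtSH

universe u v

open Polynomial IsLocalRing

theorem exists_lift_of_standardEtalePresentation {A S : Type u} {B : Type v} [CommRing A]
    [CommRing S] [Algebra A S] [CommRing B] [HenselianLocalRing B] [Algebra A B]
    (P : StandardEtalePresentation A S) (ρ : S →ₐ[A] ResidueField B) :
    ∃ φ : S →ₐ[A] B, ∀ s, residue B (φ s) = ρ s := by
  have hmap : P.P.HasMap (ρ P.x) := P.hasMap.map ρ
  have hder : IsUnit (aeval (ρ P.x) (derivative P.f)) := hmap.isUnit_derivative_f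
  have hH := ((HenselianLocalRing.TFAE B).out 0 1).mp ‹HenselianLocalRing B›
  obtain ⟨b, hb1, hb2⟩ := hH (P.f.map (algebraMap A B)) (P.monic_f.map _) (ρ P.x)
    (by rw [aeval_map_algebraMap]; exact hmap.1)
    (by rw [derivative_map, aeval_map_algebraMap]; exact hder.ne_zero)
  have hres : ∀ p : A[X], residue B (aeval b p) = aeval (ρ P.x) p := by
    intro p
    have := aeval_algHom_apply (IsScalarTower.toAlgHom A B (ResidueField B)) b p
    simp only [IsScalarTower.coe_toAlgHom', ResidueField.algebraMap_eq] at this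
    rw [← this, hb2]
  have hb : P.P.HasMap b := by
    refine ⟨?_, ?_⟩
    · have : aeval b P.f = eval b (P.f.map (algebraMap A B)) := by
        rw [eval_map_algebraMap]
      rw [this]; exact hb1
    · have h1 : residue B (aeval b P.g) ≠ 0 := by rw [hres]; exact hmap.2.ne_zero
      by_contra hnu
      exact h1 ((residue_eq_zero_iff _).mpr ((mem_maximalIdeal _).mpr hnu))
  refine ⟨(P.P.lift b hb).comp P.equivRing.toAlgHom, ?_⟩
  have key : (IsScalarTower.toAlgHom A B (ResidueField B)).comp
      ((P.P.lift b hb).comp P.equivRing.toAlgHom) = ρ := by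
    apply P.hom_ext
    change residue B ((P.P.lift b hb) (P.equivRing P.x)) = ρ P.x
    rw [P.equivRing_x, StandardEtalePair.lift_X]
    exact hb2
  intro s
  have := DFunLike.congr_fun key s
  simpa only [AlgHom.comp_apply, IsScalarTower.coe_toAlgHom', ResidueField.algebraMap_eq]
    using this

theorem exists_lift_of_etale {A C : Type u} {B : Type v} [CommRing A] [CommRing C] [Algebra A C]
    [Algebra.Etale A C] [CommRing B] [HenselianLocalRing B] [Algebra A B]
    (ρ : C →ₐ[A] ResidueField B) :
    ∃ φ : C →ₐ[A] B, ∀ c, residue B (φ c) = ρ c := by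
  have hprime : (RingHom.ker ρ.toRingHom).IsPrime := RingHom.ker_isPrime ρ.toRingHom
  obtain ⟨f, hf, hstd⟩ := Algebra.IsEtaleAt.exists_isStandardEtale (R := A) (RingHom.ker ρ.toRingHom)
  have hfu : ∀ y : Submonoid.powers f, IsUnit (ρ y) := by
    rintro ⟨_, n, rfl⟩
    rw [map_pow]
    apply IsUnit.pow
    rw [isUnit_iff_ne_zero]
    exact fun h => hf h
  let ρf : Localization.Away f →ₐ[A] ResidueField B :=
    IsLocalization.liftAlgHom (M := Submonoid.powers f) (f := ρ) hfu
  obtain ⟨φf, hφf⟩ := exists_lift_of_standardEtalePresentation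
    hstd.nonempty_standardEtalePresentation.some ρf
  refine ⟨φf.comp (IsScalarTower.toAlgHom A C (Localization.Away f)), fun c => ?_⟩
  rw [AlgHom.comp_apply, hφf]
  simp [ρf]

open scoped TensorProduct in
theorem algHom_eq_of_residue_eq {A A₁ : Type u} {A₂ : Type v} [CommRing A]
    [CommRing A₁] [Algebra A A₁] [CommRing A₂] [IsLocalRing A₂] [Algebra A A₂]
    [Algebra.FormallyUnramified A A₁] [Algebra.EssFiniteType A A₁]
    (ψ ψ' : A₁ →ₐ[A] A₂)
    (h : ∀ x : A₁, IsLocalRing.residue A₂ (ψ x) = IsLocalRing.residue A₂ (ψ' x)) : ψ = ψ' := by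
  obtain ⟨t, ht1, ht2⟩ :=
    (Algebra.FormallyUnramified.iff_exists_tensorProduct (R := A) (S := A₁)).mp inferInstance
  let Φ : A₁ ⊗[A] A₁ →ₐ[A] A₂ := Algebra.TensorProduct.productMap ψ ψ'
  have hres : ∀ y : A₁ ⊗[A] A₁, IsLocalRing.residue A₂ (Φ y) =
      IsLocalRing.residue A₂ (ψ (Algebra.TensorProduct.lmul' A y)) := by
    intro y
    induction y using TensorProduct.induction_on with
    | zero => simp
    | tmul a b =>
      simp only [Φ, Algebra.TensorProduct.productMap_apply_tmul,
        Algebra.TensorProduct.lmul'_apply_tmul, map_mul, h b]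
    | add x y hx hy => simp only [map_add, hx, hy]
  have hunit : IsUnit (Φ t) := by
    have h1 : IsLocalRing.residue A₂ (Φ t) = 1 := by rw [hres, ht2, map_one, map_one]
    by_contra hnu
    have : IsLocalRing.residue A₂ (Φ t) = 0 := by
      rw [IsLocalRing.residue_eq_zero_iff]
      exact (IsLocalRing.mem_maximalIdeal _).mpr hnu
    rw [this] at h1
    exact zero_ne_one h1
  ext x
  have h2 : Φ (((1 : A₁) ⊗ₜ[A] x - x ⊗ₜ[A] (1 : A₁)) * t) = 0 := by rw [ht1 x, map_zero]
  rw [map_mul, map_sub] at h2
  simp only [Φ, Algebra.TensorProduct.productMap_apply_tmul, map_one, one_mul, mul_one] at h2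
  have h3 := hunit.mul_left_eq_zero.mp h2
  exact (sub_eq_zero.mp h3).symm

end Groth.Agent.H32.EtSH
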