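import Mathlib
import Groth.Prelude.Def_Hensel
import Groth.Agent.H32.EtSH1

/-!
# helper32: henselization along an unramified local map with trivial residue extension (ring level)
-/

set_option autoImplicit false
universe u
open IsLocalRing

namespace Groth.Agent.H32.ElemHens

/-- If `A → A'` is a local unramified map (ess. of finite type) of local rings, any ring map out of `A'` whose
restriction to `A` is local is local. -/
theorem isLocalHom_of_comp {A A' T : Type u} [CommRing A] [IsLocalRing A] [CommRing A']
    [IsLocalRing A'] [CommRing T] [IsLocalRing T] [Algebra A A'] [IsLocalHom (algebraMap A A')]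
    [Algebra.FormallyUnramified A A'] [Algebra.EssFiniteType A A'] (k : A' →+* T)
    (hk : IsLocalHom (k.comp (algebraMap A A'))) : IsLocalHom k := by
  have hle : maximalIdeal A' ≤ (maximalIdeal T).comap k := by
    rw [← Algebra.FormallyUnramified.map_maximalIdeal (R := A) (S := A'), Ideal.map_le_iff_le_comap]
    intro a ha
    rw [Ideal.mem_comap, Ideal.mem_comap, mem_maximalIdeal, mem_nonunits_iff]
    intro hu
    have : IsUnit a := hk.map_nonunit a hu
    exact ha this
  constructor
  intro x hx
  by_contra hnu
  have h1 : x ∈ maximalIdeal A' := (mem_maximalIdeal _).mpr hnu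
  have h2 := hle h1
  rw [Ideal.mem_comap, mem_maximalIdeal, mem_nonunits_iff] at h2
  exact h2 hx

theorem eq_of_comp_eq {A A' T : Type u} [CommRing A] [IsLocalRing A] [CommRing A']
    [IsLocalRing A'] [CommRing T] [IsLocalRing T] [Algebra A A'] [IsLocalHom (algebraMap A A')]
    [Algebra.FormallyUnramified A A'] [Algebra.EssFiniteType A A']
    (hsurj : Function.Surjective (ResidueField.map (algebraMap A A')))
    (k₁ k₂ : A' →+* T) (h : k₁.comp (algebraMap A A') = k₂.comp (algebraMap A A'))
    (hloc : IsLocalHom (k₁.comp (algebraMap A A'))) : k₁ = k₂ := by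
  have hl1 : IsLocalHom k₁ := isLocalHom_of_comp k₁ hloc
  have hl2 : IsLocalHom k₂ := isLocalHom_of_comp k₂ (h ▸ hloc)
  letI : Algebra A T := (k₁.comp (algebraMap A A')).toAlgebra
  let ψ₁ : A' →ₐ[A] T := { k₁ with commutes' := fun _ => rfl }
  let ψ₂ : A' →ₐ[A] T := { k₂ with commutes' := fun a => (RingHom.congr_fun h a).symm }
  have key : ψ₁ = ψ₂ := by
    apply Groth.Agent.H32.EtSH.algHom_eq_of_residue_eq
    intro x
    obtain ⟨y, hy⟩ := hsurj (residue A' x)
    obtain ⟨a, rfl⟩ := residue_surjective y
    rw [ResidueField.map_residue] at hy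
    have hx : x - algebraMap A A' a ∈ maximalIdeal A' := by
      rw [← residue_eq_zero_iff, map_sub, hy, sub_self]
    have e1 : residue T (k₁ (x - algebraMap A A' a)) = 0 := by
      rw [residue_eq_zero_iff, mem_maximalIdeal, mem_nonunits_iff]
      intro hu
      exact hx (hl1.map_nonunit _ hu)
    have e2 : residue T (k₂ (x - algebraMap A A' a)) = 0 := by
      rw [residue_eq_zero_iff, mem_maximalIdeal, mem_nonunits_iff]
      intro hu
      exact hx (hl2.map_nonunit _ hu)
    rw [map_sub, map_sub, sub_eq_zero] at e1 e2
    change residue T (k₁ x) = residue T (k₂ x)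
    rw [e1, e2]
    exact congrArg _ (RingHom.congr_fun h a)
  ext x
  exact DFunLike.congr_fun key x

/-- If `φ : A → A'` is a local, unramified, ess. finite type map of local rings with surjective residue field map
along which local maps to henselian local rings extend, a henselization of `A'` is a henselization of `A`. -/
theorem isHenselization_of_comp {A A' R : Type u} [CommRing A] [IsLocalRing A] [CommRing A']
    [IsLocalRing A'] [CommRing R] [IsLocalRing R] (φ : A →+* A') [hφ : IsLocalHom φ] [Algebra A' R]
    [IsLocalHom (algebraMap A' R)] [hH : Hensel.IsHenselization A' R]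
    (hunr : φ.FormallyUnramified) (heft : φ.EssFiniteType)
    (hsurj : Function.Surjective (ResidueField.map φ))
    (hlift : ∀ (T : Type u) [CommRing T] [HenselianLocalRing T] (f : A →+* T), IsLocalHom f →
      ∃ f' : A' →+* T, f'.comp φ = f) :
    letI : Algebra A R := ((algebraMap A' R).comp φ).toAlgebra
    ∃ (_ : IsLocalHom (algebraMap A R)), Hensel.IsHenselization A R := by
  letI algAR : Algebra A R := ((algebraMap A' R).comp φ).toAlgebra
  letI algAA' : Algebra A A' := φ.toAlgebra
  haveI : IsLocalHom (algebraMap A A') := hφ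
  haveI : Algebra.FormallyUnramified A A' := hunr
  haveI : Algebra.EssFiniteType A A' := heft
  have hloc : IsLocalHom (algebraMap A R) := by
    change IsLocalHom ((algebraMap A' R).comp φ)
    exact RingHom.isLocalHom_comp _ _
  refine ⟨hloc, ⟨hH.henselian, ?_⟩⟩
  intro T _ _ f hf
  obtain ⟨f', hf'⟩ := hlift T f hf
  have hf'loc : IsLocalHom f' := isLocalHom_of_comp (A := A) f' (by
    change IsLocalHom (f'.comp φ)
    rw [hf']; exact hf)
  obtain ⟨g, hg, hguniq⟩ := hH.universal T f' hf'loc
  refine ⟨g, ?_, ?_⟩
  · change g.comp ((algebraMap A' R).comp φ) = f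
    rw [← RingHom.comp_assoc, hg, hf']
  · intro g' hg'
    change g'.comp ((algebraMap A' R).comp φ) = f at hg'
    apply hguniq
    apply eq_of_comp_eq (A := A) hsurj
    · change (g'.comp (algebraMap A' R)).comp φ = f'.comp φ
      rw [RingHom.comp_assoc, hg', hf']
    · change IsLocalHom ((g'.comp (algebraMap A' R)).comp φ)
      rw [RingHom.comp_assoc, hg']
      exact hf

end Groth.Agent.H32.ElemHens
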