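import Mathlib
import Groth.Agent.H32.ElemHens1
import Groth.Agent.H14.HenselLift

/-!
# helper32: lifting local maps to henselian rings along stalk maps of etale morphisms
-/

set_option autoImplicit false
set_option linter.style.haveILetI false
universe u
open AlgebraicGeometry CategoryTheory TopologicalSpace IsLocalRing

namespace Groth.Agent.H32.ElemHens

theorem germ_appLE_apply {X U : Scheme.{u}} (g : U ⟶ X) (u : U) (V : X.Opens) (W : U.Opens)
    (hWV : W ≤ g ⁻¹ᵁ V) (huW : u ∈ W) (a : Γ(X, V)) :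
    U.presheaf.germ W u huW ((g.appLE V W hWV).hom a) =
      g.stalkMap u (X.presheaf.germ V (g u) (hWV huW) a) := by
  simp only [Scheme.Hom.germ_stalkMap_apply, Scheme.Hom.appLE,
      homOfLE_leOfHom, CommRingCat.hom_comp, RingHom.coe_comp, Function.comp_apply,
      U.presheaf.germ_res_apply]

theorem exists_lift_stalkMap {U' U : Scheme.{u}} (g : U' ⟶ U) [Etale g] (u' : U')
    (hres : Function.Bijective (ResidueField.map (g.stalkMap u').hom))
    (T : Type u) [CommRing T] [HenselianLocalRing T] (f : U.presheaf.stalk (g u') →+* T)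
    (hf : IsLocalHom f) :
    ∃ f' : U'.presheaf.stalk u' →+* T, f'.comp (g.stalkMap u').hom = f := by
  obtain ⟨V, hV, hxV, -⟩ :=
    exists_isAffineOpen_mem_and_subset (x := g u') (U := (⊤ : U.Opens)) trivial
  obtain ⟨W, hW, huW, hWV⟩ :=
    exists_isAffineOpen_mem_and_subset (x := u') (U := g ⁻¹ᵁ V) hxV
  have hEt : (g.appLE V W hWV).hom.Etale :=
    HasRingHomProperty.appLE (P := @Etale) g inferInstance ⟨V, hV⟩ ⟨W, hW⟩ hWV
  algebraize [(g.appLE V W hWV).hom]
  let p := (hV.primeIdealOf ⟨g u', hWV huW⟩).asIdeal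
  let q := (hW.primeIdealOf ⟨u', huW⟩).asIdeal
  letI algSt : Algebra Γ(U, V) (U.presheaf.stalk (g u')) :=
    TopCat.Presheaf.algebra_section_stalk U.presheaf (⟨g u', hWV huW⟩ : V)
  haveI : IsLocalization.AtPrime (U.presheaf.stalk (g u')) p :=
    hV.isLocalization_stalk ⟨g u', hWV huW⟩
  letI algStU : Algebra Γ(U', W) (U'.presheaf.stalk u') :=
    TopCat.Presheaf.algebra_section_stalk U'.presheaf (⟨u', huW⟩ : W)
  haveI : IsLocalization.AtPrime (U'.presheaf.stalk u') q :=
    hW.isLocalization_stalk ⟨u', huW⟩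
  haveI := hf
  letI algT : Algebra Γ(U, V) T :=
    (f.comp (algebraMap Γ(U, V) (U.presheaf.stalk (g u')))).toAlgebra
  let e : ResidueField (U.presheaf.stalk (g u')) ≃+* ResidueField (U'.presheaf.stalk u') :=
    RingEquiv.ofBijective (ResidueField.map (g.stalkMap u').hom) hres
  let ρr : Γ(U', W) →+* ResidueField T :=
    (ResidueField.map f).comp
      (e.symm.toRingHom.comp ((residue (U'.presheaf.stalk u')).comp (U'.presheaf.germ W u' huW).hom))
  have hcomm : ∀ a : Γ(U, V), ρr (algebraMap Γ(U, V) Γ(U', W) a) =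
      algebraMap Γ(U, V) (ResidueField T) a := by
    intro a
    show (ResidueField.map f) (e.symm (residue _
      (U'.presheaf.germ W u' huW ((g.appLE V W hWV).hom a)))) = _
    rw [germ_appLE_apply]
    have h1 : residue (U'.presheaf.stalk u')
        (g.stalkMap u' (U.presheaf.germ V (g u') (hWV huW) a)) =
        e (residue _ (U.presheaf.germ V (g u') (hWV huW) a)) := rfl
    rw [h1, RingEquiv.symm_apply_apply]
    rfl
  let ρ : Γ(U', W) →ₐ[Γ(U, V)] ResidueField T := { ρr with commutes' := hcomm }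
  have hq : ∀ c, ρ c = 0 ↔ c ∈ q := by
    intro c
    show (ResidueField.map f) (e.symm (residue _
      (U'.presheaf.germ W u' huW c))) = 0 ↔ _
    rw [map_eq_zero_iff _ (RingHom.injective _), map_eq_zero_iff _ e.symm.injective,
      residue_eq_zero_iff]
    exact IsLocalization.AtPrime.to_map_mem_maximal_iff (U'.presheaf.stalk u') q c
  obtain ⟨φ₀, hφ₀⟩ := Groth.Agent.H14.exists_lift_of_etale ρ
  have hu : ∀ y : q.primeCompl, IsUnit (φ₀.toRingHom y) := by
    rintro ⟨y, hy⟩
    by_contra hnu
    have : residue T (φ₀ y) = 0 := (residue_eq_zero_iff _).mpr ((mem_maximalIdeal _).mpr hnu)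
    rw [hφ₀, hq] at this
    exact hy this
  refine ⟨IsLocalization.lift (M := q.primeCompl) (g := φ₀.toRingHom) hu, ?_⟩
  apply IsLocalization.ringHom_ext p.primeCompl
  ext b
  simp only [RingHom.comp_apply]
  have h1 : (g.stalkMap u').hom (algebraMap Γ(U, V) (U.presheaf.stalk (g u')) b) =
      algebraMap Γ(U', W) (U'.presheaf.stalk u') (algebraMap Γ(U, V) Γ(U', W) b) :=
    (germ_appLE_apply g u' V W hWV huW b).symm
  rw [h1, IsLocalization.lift_eq]
  exact φ₀.commutes b

end Groth.Agent.H32.ElemHens
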