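import Mathlib
import Groth.Agent.H32.ElemHens2
import Groth.Agent.H52.ElemNbhd2

/-!
# helper32: morphisms of elementary etale neighbourhoods induce isomorphisms of residue fields
-/

set_option autoImplicit false
set_option linter.style.haveILetI false
universe u
open AlgebraicGeometry CategoryTheory CategoryTheory.Limits TopologicalSpace IsLocalRing AlgSp

namespace Groth.Agent.H32.ElemHens

variable {S : Scheme.{u}}

theorem isIso_of_isIso_specMap {R T : CommRingCat.{u}} (r : R ⟶ T) (h : IsIso (Spec.map r)) : IsIso r := by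
  obtain ⟨s, hs⟩ := Spec.map_surjective (inv (Spec.map r))
  refine ⟨s, ?_, ?_⟩
  · apply Spec.map_injective
    rw [Spec.map_comp, hs, IsIso.inv_hom_id, Spec.map_id]
  · apply Spec.map_injective
    rw [Spec.map_comp, hs, IsIso.hom_inv_id, Spec.map_id]

theorem bijective_residueFieldMap {X : Sp S} (hX : IsAlgSpace X) (x : Points X) {U U' : Over S}
    (a : (yon S).obj U ⟶ X) (a' : (yon S).obj U' ⟶ X) (g : U' ⟶ U) (u' : ↥U'.left)
    (hg : (yon S).map g ≫ a = a') (ha : IsElemEtaleNbhd a (g.left.base u') x)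
    (ha' : IsElemEtaleNbhd a' u' x) :
    Function.Bijective (g.left.residueFieldMap u').hom := by
  subst hg
  have hm := ha.mono
  have hm' := ha'.mono
  obtain ⟨p, hp⟩ : ∃ p : FieldPt X, p = FieldPt.ofPt a (g.left.base u') := ⟨_, rfl⟩
  obtain ⟨q, hq⟩ : ∃ q : FieldPt X, q = FieldPt.ofPt ((yon S).map g ≫ a) u' := ⟨_, rfl⟩
  have hpts : Points.mk p = Points.mk q := by
    rw [hp, hq]; exact ha.ofPt_eq.trans ha'.ofPt_eq.symm
  haveI : Mono p.toHom := hp ▸ hm
  haveI : Mono q.toHom := hq ▸ hm'
  obtain ⟨c, hc, hcu⟩ := Groth.Agent.H52.existsUnique_factor_of_mono hX p q hpts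
  obtain ⟨d, hd, -⟩ := Groth.Agent.H52.existsUnique_factor_of_mono hX q p hpts.symm
  have hdc : d ≫ c = 𝟙 _ := by
    obtain ⟨_, -, huniq⟩ := Groth.Agent.H52.existsUnique_factor_of_mono hX p p rfl
    rw [huniq (d ≫ c) (by
        change (yon S).map (d ≫ c) ≫ p.toHom = p.toHom
        rw [Functor.map_comp, Category.assoc, hc, hd]),
      huniq (𝟙 _) (by
        change (yon S).map (𝟙 _) ≫ p.toHom = p.toHom
        rw [CategoryTheory.Functor.map_id, Category.id_comp])]
  have hcd : c ≫ d = 𝟙 _ := by
    obtain ⟨_, -, huniq⟩ := Groth.Agent.H52.existsUnique_factor_of_mono hX q q rfl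
    rw [huniq (c ≫ d) (by
        change (yon S).map (c ≫ d) ≫ q.toHom = q.toHom
        rw [Functor.map_comp, Category.assoc, hd, hc]),
      huniq (𝟙 _) (by
        change (yon S).map (𝟙 _) ≫ q.toHom = q.toHom
        rw [CategoryTheory.Functor.map_id, Category.id_comp])]
  subst hp hq
  let ρo : (FieldPt.ofPt ((yon S).map g ≫ a) u').pt ⟶ (FieldPt.ofPt a (g.left.base u')).pt :=
    Over.homMk (Spec.map (g.left.residueFieldMap u')) (by
      change Spec.map (g.left.residueFieldMap u') ≫ U.left.fromSpecResidueField _ ≫ U.hom =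
        U'.left.fromSpecResidueField u' ≫ U'.hom
      rw [← Category.assoc, Scheme.Hom.SpecMap_residueFieldMap_fromSpecResidueField,
        Category.assoc, Over.w g])
  have hρo : (yon S).map ρo ≫ (FieldPt.ofPt a (g.left.base u')).toHom =
      (FieldPt.ofPt ((yon S).map g ≫ a) u').toHom := by
    rw [FieldPt.toHom_ofPt, FieldPt.toHom_ofPt, ← Category.assoc, ← Category.assoc,
      ← Functor.map_comp, ← Functor.map_comp]
    congr 2
    apply Over.OverMorphism.ext
    exact Scheme.Hom.SpecMap_residueFieldMap_fromSpecResidueField _ _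
  have hρc : ρo = c := hcu ρo hρo
  have hiso : IsIso ρo := by
    rw [hρc]
    exact ⟨d, hcd, hdc⟩
  have h1 : IsIso (Spec.map (g.left.residueFieldMap u')) := by
    have : IsIso ((Over.forget S).map ρo) := inferInstance
    exact this
  have h2 : IsIso (g.left.residueFieldMap u') := isIso_of_isIso_specMap _ h1
  exact (ConcreteCategory.isIso_iff_bijective _).mp h2

end Groth.Agent.H32.ElemHens
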