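import Mathlib
import Groth.Agent.H32.ElemHens3
import Groth.Agent.H47.Hens4
import Groth.Prelude.Def_Hens2

/-!
# helper32: elementary etale neighbourhoods: common henselization; scheme-level nbhds of a chart
-/

set_option autoImplicit false
set_option linter.style.haveILetI false
universe u
open AlgebraicGeometry CategoryTheory CategoryTheory.Limits TopologicalSpace IsLocalRing AlgSp

namespace Groth.Agent.H32.ElemHens

variable {S : Scheme.{u}}

/-- Version of S10440 for sheaves that are algebraic spaces. -/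
theorem isHenselization_comp_stalkMap {X : Sp S} (hX : IsAlgSpace X) (x : Points X) {U U' : Over S}
    (a : (yon S).obj U ⟶ X) (a' : (yon S).obj U' ⟶ X) (g : U' ⟶ U) (u' : ↥U'.left)
    (hg : (yon S).map g ≫ a = a') (ha : IsElemEtaleNbhd a (g.left.base u') x)
    (ha' : IsElemEtaleNbhd a' u' x) (R : Type u) [CommRing R] [IsLocalRing R]
    [Algebra ↥(U'.left.presheaf.stalk u') R] [IsLocalHom (algebraMap ↥(U'.left.presheaf.stalk u') R)]
    [Hensel.IsHenselization ↥(U'.left.presheaf.stalk u') R] :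
    letI : Algebra ↥(U.left.presheaf.stalk (g.left.base u')) R :=
      ((algebraMap ↥(U'.left.presheaf.stalk u') R).comp (g.left.stalkMap u').hom).toAlgebra
    ∃ (_ : IsLocalHom (algebraMap ↥(U.left.presheaf.stalk (g.left.base u')) R)),
      Hensel.IsHenselization ↥(U.left.presheaf.stalk (g.left.base u')) R := by
  have hgE : Etale g.left := Groth.Agent.H50.etale_of_charts a' a ha'.etale ha.etale g hg
  have hbij : Function.Bijective (IsLocalRing.ResidueField.map (g.left.stalkMap u').hom) :=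
    bijective_residueFieldMap hX x a a' g u' hg ha ha'
  have hunr : (g.left.stalkMap u').hom.FormallyUnramified := FormallyUnramified.stalkMap g.left u'
  have heft : (g.left.stalkMap u').hom.EssFiniteType := LocallyOfFiniteType.stalkMap g.left u'
  exact isHenselization_of_comp (g.left.stalkMap u').hom hunr heft hbij.2
    (fun T _ _ f hf => exists_lift_stalkMap g.left u' hbij T f hf)

/-- Two elementary etale neighbourhoods of the same point have a common henselization of their local rings. -/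
theorem exists_common_henselization {X : Sp S} (hX : IsAlgSpace X) (x : Points X) {U₁ U₂ : Over S}
    (a₁ : (yon S).obj U₁ ⟶ X) (a₂ : (yon S).obj U₂ ⟶ X) (u₁ : ↥U₁.left) (u₂ : ↥U₂.left)
    (h₁ : IsElemEtaleNbhd a₁ u₁ x) (h₂ : IsElemEtaleNbhd a₂ u₂ x) :
    ∃ (R : Type u) (_ : CommRing R) (_ : IsLocalRing R)
      (alg₁ : Algebra ↥(U₁.left.presheaf.stalk u₁) R) (alg₂ : Algebra ↥(U₂.left.presheaf.stalk u₂) R)
      (l₁ : IsLocalHom (algebraMap ↥(U₁.left.presheaf.stalk u₁) R))
      (l₂ : IsLocalHom (algebraMap ↥(U₂.left.presheaf.stalk u₂) R)),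
      Hensel.IsHenselization ↥(U₁.left.presheaf.stalk u₁) R ∧
        Hensel.IsHenselization ↥(U₂.left.presheaf.stalk u₂) R := by
  obtain ⟨W, a, v, k₁, k₂, hW, hk₁, hk₂, hv₁, hv₂⟩ :=
    Groth.Agent.H52.elemNbhd_dominate hX x a₁ a₂ u₁ u₂ h₁ h₂
  subst hv₁ hv₂
  obtain ⟨l₁, H₁⟩ := isHenselization_comp_stalkMap hX x a₁ a k₁ v hk₁ h₁ hW
    (Groth.Agent.H47.Hens.Hloc ↥(W.left.presheaf.stalk v))
  obtain ⟨l₂, H₂⟩ := isHenselization_comp_stalkMap hX x a₂ a k₂ v hk₂ h₂ hW
    (Groth.Agent.H47.Hens.Hloc ↥(W.left.presheaf.stalk v))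
  exact ⟨Groth.Agent.H47.Hens.Hloc ↥(W.left.presheaf.stalk v), inferInstance, inferInstance, _, _,
    l₁, l₂, H₁, H₂⟩

/-- The identity is an elementary etale neighbourhood in the scheme sense. -/
theorem isEtaleNbhd_id (U : Scheme.{u}) (u : U) : Hens2.IsEtaleNbhd (𝟙 U) u u where
  etale := inferInstance
  base_eq := rfl
  residue_bijective := by
    have : IsIso ((𝟙 U : U ⟶ U).residueFieldMap u) := inferInstance
    exact (ConcreteCategory.isIso_iff_bijective _).mp this

/-- A scheme-level elementary etale neighbourhood of a chart point that is an elementary etale neighbourhood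
of a point of the space is again one. -/
theorem isElemEtaleNbhd_of_isEtaleNbhd {X : Sp S} {U : Over S} (a : (yon S).obj U ⟶ X) (u : ↥U.left)
    (x : Points X) (h : IsElemEtaleNbhd a u x) {U₁ : Scheme.{u}} (g : U₁ ⟶ U.left) (u₁ : ↥U₁)
    (hg : Hens2.IsEtaleNbhd g u₁ u) :
    IsElemEtaleNbhd (U := Over.mk (g ≫ U.hom))
      ((yon S).map (Over.homMk (U := Over.mk (g ≫ U.hom)) g rfl : Over.mk (g ≫ U.hom) ⟶ U) ≫ a) u₁ x := by
  obtain ⟨hgE, hbase, hres⟩ := hg
  subst hbase
  have hriso : IsIso (g.residueFieldMap u₁) := (ConcreteCategory.isIso_iff_bijective _).mpr hres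
  let σ₀ : Spec (U.left.residueField (g.base u₁)) ⟶ U₁ :=
    Spec.map (inv (g.residueFieldMap u₁)) ≫ U₁.fromSpecResidueField u₁
  have hσ₀ : σ₀ ≫ g = U.left.fromSpecResidueField (g.base u₁) := by
    change (Spec.map (inv (g.residueFieldMap u₁)) ≫ U₁.fromSpecResidueField u₁) ≫ g = _
    rw [Category.assoc, ← Scheme.Hom.SpecMap_residueFieldMap_fromSpecResidueField, ← Category.assoc,
      ← Spec.map_comp, IsIso.hom_inv_id, Spec.map_id, Category.id_comp]
  let g' : Over.mk (g ≫ U.hom) ⟶ U := Over.homMk g rfl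
  let σ : (FieldPt.ofPt a (g.base u₁)).pt ⟶ Over.mk (g ≫ U.hom) :=
    Over.homMk σ₀ (by
      change σ₀ ≫ g ≫ U.hom = U.left.fromSpecResidueField (g.base u₁) ≫ U.hom
      rw [← Category.assoc, hσ₀])
  have hσ : σ ≫ g' = Groth.Agent.H52.ptIncl a (g.base u₁) := by
    apply Over.OverMorphism.ext
    exact hσ₀
  obtain ⟨w, hw, -, hσw⟩ := Groth.Agent.H52.isElemEtaleNbhd_of_lift a (g.base u₁) x h g' hgE σ hσ
  have hwu : w = u₁ := by
    let s : ↥(FieldPt.ofPt a (g.base u₁)).pt.left :=
      (IsLocalRing.closedPoint (FieldPt.ofPt a (g.base u₁)).K : PrimeSpectrum (FieldPt.ofPt a (g.base u₁)).K)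
    rw [← hσw s]
    change (Spec.map (inv (g.residueFieldMap u₁)) ≫ U₁.fromSpecResidueField u₁) s = u₁
    exact U₁.fromSpecResidueField_apply u₁ _
  rw [← hwu]
  exact hw

end Groth.Agent.H32.ElemHens
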