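import Groth.Agent.H32.EtPullQC
/-! helper32: an `O_X`-module on the small etale site of `X` whose restriction to a surjective etale chart is quasi-coherent is quasi-coherent. -/
set_option autoImplicit false
set_option backward.isDefEq.respectTransparency false
universe u
open CategoryTheory CategoryTheory.Limits AlgebraicGeometry Opposite

namespace Groth.Agent.H32.EtChart

open AlgSp

variable {S : Scheme.{u}} {X : AlgSp.Sp S} {U : Over S} (p : (yon S).obj U ⟶ X)
  (hp : RepWith @Etale p)

/-- the chart as an object of the small etale site. -/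
noncomputable abbrev E₀ : EtOver X := EtOver.mk p hp

/-- objects etale over `X` with a map to the chart `U` are objects etale over `U`. -/
noncomputable def Ψ : Over (E₀ p hp) ⥤ EtOver ((yon S).obj U) where
  obj A := EtOver.mk ((yon S).map A.hom.hom.left)
    ((repWith_yon_map_iff _ _).2 (EtOver.etale_left A.hom))
  map {A B} g := EtOver.homMk g.left.hom.left (by
    have h1 : (g.left ≫ B.hom).hom.left = A.hom.hom.left :=
      congrArg (fun k => k.hom.left) (Over.w g)
    have h2 : g.left.hom.left ≫ B.hom.hom.left = A.hom.hom.left := h1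
    exact ((yon S).map_comp _ _).symm.trans (congrArg (yon S).map h2))
  map_id A := EtOver.hom_ext _ _ rfl
  map_comp g h := EtOver.hom_ext _ _ rfl

instance : (Ψ p hp).Faithful where
  map_injective {A B} g g' h := by
    apply Over.OverMorphism.ext
    apply EtOver.hom_ext
    exact congrArg (fun k => k.hom.left) h

instance : (Ψ p hp).Full where
  map_surjective {A B} k := by
    have hk : (yon S).map k.hom.left ≫ (yon S).map B.hom.hom.left = (yon S).map A.hom.hom.left :=
      EtOver.w k
    have hA : (yon S).map A.hom.hom.left ≫ p = A.left.obj.hom := EtOver.w A.hom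
    have hB : (yon S).map B.hom.hom.left ≫ p = B.left.obj.hom := EtOver.w B.hom
    let g : A.left ⟶ B.left := EtOver.homMk k.hom.left (by
      rw [← hB, ← Category.assoc, hk, hA])
    have hg : g ≫ B.hom = A.hom := by
      apply EtOver.hom_ext
      change k.hom.left ≫ B.hom.hom.left = A.hom.hom.left
      apply (yon S).map_injective
      rw [Functor.map_comp]
      exact hk
    exact ⟨Over.homMk g hg, EtOver.hom_ext _ _ rfl⟩

instance : (Ψ p hp).EssSurj where
  mem_essImage W := by
    obtain ⟨w, hw⟩ := (yon S).map_surjective W.obj.hom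
    have hwe : Etale w.left := by
      have := W.property
      rw [← hw] at this
      exact (repWith_yon_map_iff _ _).1 this
    let V : EtOver X := EtOver.mk ((yon S).map w ≫ p)
      ((repWith_isMultiplicative (S := S) @Etale).comp_mem _ _
        ((repWith_yon_map_iff _ _).2 hwe) hp)
    let v : V ⟶ E₀ p hp := EtOver.homMk w rfl
    let A : Over (E₀ p hp) := Over.mk v
    refine ⟨A, ⟨?_⟩⟩
    exact
      { hom := EtOver.homMk (𝟙 _) (by
          change (yon S).map (𝟙 _) ≫ W.obj.hom = (yon S).map w
          rw [CategoryTheory.Functor.map_id, Category.id_comp, hw])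
        inv := EtOver.homMk (𝟙 _) (by
          change (yon S).map (𝟙 _) ≫ (yon S).map w = W.obj.hom
          rw [CategoryTheory.Functor.map_id, Category.id_comp, hw])
        hom_inv_id := EtOver.hom_ext _ _ (Category.id_comp _)
        inv_hom_id := EtOver.hom_ext _ _ (Category.id_comp _) }

instance : (Ψ p hp).IsEquivalence where


theorem coverPreserving_Ψ :
    CoverPreserving ((etTop X).over (E₀ p hp)) (etTop ((yon S).obj U)) (Ψ p hp) where
  cover_preserve {A T} hT := by
    rw [GrothendieckTopology.mem_over_iff] at hT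
    obtain ⟨P, hP, hle⟩ :=
      (Precoverage.mem_toGrothendieck_iff_of_isStableUnderComposition (J := etPre X)).1 hT
    obtain ⟨ι, Z, g, rfl⟩ := P.exists_eq_ofArrows
    rw [ofArrows_mem_etPre_iff] at hP
    let B : ι → Over (E₀ p hp) := fun i => Over.mk (g i ≫ A.hom)
    let b : ∀ i, B i ⟶ A := fun i => Over.homMk (g i) rfl
    have hb : ∀ i, T.arrows (b i) := fun i =>
      (Sieve.overEquiv_iff _ _).1 (hle _ _ (Presieve.ofArrows.mk i))
    refine (etTop _).superset_covering ?_
      (ofArrows_mem_etTop (fun i => (Ψ p hp).obj (B i)) (fun i => (Ψ p hp).map (b i)) hP)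
    rw [Sieve.ofArrows, Sieve.generate_le_iff]
    rintro W _ ⟨i⟩
    exact Sieve.image_mem_functorPushforward _ _ (hb i)

instance Ψ_isCocontinuous :
    (Ψ p hp).IsCocontinuous ((etTop X).over (E₀ p hp)) (etTop ((yon S).obj U)) where
  cover_lift {A T} hT := by
    rw [GrothendieckTopology.mem_over_iff]
    obtain ⟨P, hP, hle⟩ :=
      (Precoverage.mem_toGrothendieck_iff_of_isStableUnderComposition
        (J := etPre ((yon S).obj U))).1 hT
    obtain ⟨ι, W, h, rfl⟩ := P.exists_eq_ofArrows
    rw [ofArrows_mem_etPre_iff] at hP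
    let Z : ι → EtOver X := fun i => EtOver.mk ((yon S).map (h i).hom.left ≫ A.left.obj.hom)
      ((repWith_isMultiplicative (S := S) @Etale).comp_mem _ _
        ((repWith_yon_map_iff _ _).2 (EtOver.etale_left (h i))) A.left.property)
    let k : ∀ i, Z i ⟶ A.left := fun i => EtOver.homMk (h i).hom.left rfl
    refine (etTop X).superset_covering ?_ (ofArrows_mem_etTop Z k hP)
    rw [Sieve.ofArrows, Sieve.generate_le_iff]
    rintro V _ ⟨i⟩
    rw [Sieve.overEquiv_iff]
    change T.arrows ((Ψ p hp).map (Over.homMk (k i) rfl : Over.mk (k i ≫ A.hom) ⟶ A))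
    let e : (Ψ p hp).obj (Over.mk (k i ≫ A.hom)) ⟶ W i := EtOver.homMk (𝟙 _) (by
      have h1 : (yon S).map (h i).hom.left ≫ (yon S).map A.hom.hom.left = (W i).obj.hom :=
        EtOver.w (h i)
      change (yon S).map (𝟙 _) ≫ (W i).obj.hom = (yon S).map ((h i).hom.left ≫ A.hom.hom.left)
      rw [CategoryTheory.Functor.map_id, Category.id_comp, Functor.map_comp, h1])
    have he : (Ψ p hp).map (Over.homMk (k i) rfl : Over.mk (k i ≫ A.hom) ⟶ A) = e ≫ h i :=
      EtOver.hom_ext _ _ (Category.id_comp _).symm
    rw [he]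
    exact T.downward_closed (hle _ _ (Presieve.ofArrows.mk i)) e


instance Ψ_preservesOneHypercovers :
    Functor.PreservesOneHypercovers.{u + 1} (Ψ p hp) ((etTop X).over (E₀ p hp))
      (etTop ((yon S).obj U)) :=
  Functor.PreservesOneHypercovers.of_coverPreserving (coverPreserving_Ψ p hp)

instance Ψ_isContinuous :
    (Ψ p hp).IsContinuous ((etTop X).over (E₀ p hp)) (etTop ((yon S).obj U)) :=
  inferInstance

instance overPost_Ψ_isContinuous (A : Over (E₀ p hp)) :
    (Over.post (X := A) (Ψ p hp)).IsContinuous (((etTop X).over (E₀ p hp)).over A)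
      ((etTop ((yon S).obj U)).over _) :=
  inferInstance

/-- the structure sheaves agree under `Ψ`. -/
noncomputable def ΨRingHom :
    (OEtRing X).over (E₀ p hp) ⟶ ((Ψ p hp).sheafPushforwardContinuous RingCat.{u + 1}
      ((etTop X).over (E₀ p hp)) (etTop ((yon S).obj U))).obj (OEtRing ((yon S).obj U)) :=
  ObjectProperty.homMk
    { app := fun A => 𝟙 _
      naturality := fun A B g => rfl }

instance isIso_ΨRingHom : IsIso (ΨRingHom p hp) := by
  refine ⟨ObjectProperty.homMk { app := fun A => 𝟙 _, naturality := fun A B g => rfl }, ?_, ?_⟩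
  · ext A : 3
    exact Category.id_comp _
  · ext A : 3
    exact Category.id_comp _

theorem isIso_unitToPushforwardObjUnit_Ψ :
    IsIso (SheafOfModules.unitToPushforwardObjUnit (ΨRingHom p hp)) := by
  have h1 : IsIso ((SheafOfModules.toSheaf _).map
      (SheafOfModules.unitToPushforwardObjUnit (ΨRingHom p hp))) := by
    have h2 : IsIso ((sheafToPresheaf _ _).map ((SheafOfModules.toSheaf _).map
        (SheafOfModules.unitToPushforwardObjUnit (ΨRingHom p hp)))) := by
      apply +allowSynthFailures NatIso.isIso_of_isIso_app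
      intro E
      rw [ConcreteCategory.isIso_iff_bijective]
      exact Function.bijective_id
    exact isIso_of_reflects_iso _ (sheafToPresheaf _ _)
  exact isIso_of_reflects_iso _ (SheafOfModules.toSheaf _)

theorem isQuasicoherent_pushforward_ΨRingHom (N : ModEt ((yon S).obj U))
    (hN : N.IsQuasicoherent) :
    ((SheafOfModules.pushforward.{u + 1} (ΨRingHom p hp)).obj N).IsQuasicoherent := by
  have := isIso_unitToPushforwardObjUnit_Ψ p hp
  exact SheafOfModules.isQuasicoherent_pushforward_of_isLeftAdjoint (Ψ p hp)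
    (ΨRingHom p hp) (asIso (SheafOfModules.unitToPushforwardObjUnit (ΨRingHom p hp))).symm


variable (hf : IsEtaleMor p)

/-- `post (Ψ A)` is `A.left` up to the identity of the underlying scheme. -/
noncomputable def τ (A : Over (E₀ p hp)) :
    (EtOver.postcomp p hf).obj ((Ψ p hp).obj A) ≅ A.left where
  hom := EtOver.homMk (𝟙 _) (by
    change (yon S).map (𝟙 _) ≫ A.left.obj.hom = (yon S).map A.hom.hom.left ≫ p
    rw [CategoryTheory.Functor.map_id, Category.id_comp]
    exact (EtOver.w A.hom).symm)
  inv := EtOver.homMk (𝟙 _) (by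
    change (yon S).map (𝟙 _) ≫ (yon S).map A.hom.hom.left ≫ p = A.left.obj.hom
    rw [CategoryTheory.Functor.map_id, Category.id_comp]
    exact EtOver.w A.hom)
  hom_inv_id := EtOver.hom_ext _ _ (Category.id_comp _)
  inv_hom_id := EtOver.hom_ext _ _ (Category.id_comp _)

noncomputable def τIso : Ψ p hp ⋙ EtOver.postcomp p hf ≅ Over.forget (E₀ p hp) :=
  NatIso.ofComponents (fun A => τ p hp hf A) (fun {A B} g => EtOver.hom_ext _ _ (by
    change g.left.hom.left ≫ 𝟙 _ = 𝟙 _ ≫ g.left.hom.left
    rw [Category.comp_id, Category.id_comp]))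


open Groth.Agent.H32.EtPull in
/-- restricting `F` to the chart object agrees with transporting `p^*F` along `Ψ`. -/
noncomputable def overIso (F : ModEt X) :
    F.over (E₀ p hp) ≅ (SheafOfModules.pushforward.{u + 1} (ΨRingHom p hp)).obj
      ((SheafOfModules.pushforward.{u + 1} (postRingHom (f := p) hf)).obj F) := by
  haveI : (Ψ p hp ⋙ EtOver.postcomp p hf).IsContinuous ((etTop X).over (E₀ p hp)) (etTop X) :=
    Functor.isContinuous_comp (Ψ p hp) (EtOver.postcomp p hf) _ (etTop ((yon S).obj U)) _
  refine (SheafOfModules.pushforwardCongr₂ (F := Ψ p hp ⋙ EtOver.postcomp p hf)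
    (G := Over.forget (E₀ p hp)) (φ := 𝟙 ((OEtRing X).over (E₀ p hp)))
    (ψ := ΨRingHom p hp ≫ ((Ψ p hp).sheafPushforwardContinuous RingCat.{u + 1}
      ((etTop X).over (E₀ p hp)) (etTop ((yon S).obj U))).map (postRingHom (f := p) hf))
    (τIso p hp hf) ?_).app F
  ext A : 3
  change 𝟙 _ ≫ (BigSite.ORing Scheme.etalePrecoverage S).obj.map
      ((τ p hp hf A.unop).hom.hom.left).op = 𝟙 _ ≫ 𝟙 _
  rw [Category.id_comp, Category.id_comp]
  exact (BigSite.ORing Scheme.etalePrecoverage S).obj.map_id _


include hf in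
theorem coversTop_chart (hs : RepWith @Surjective p) :
    (etTop X).CoversTop (fun _ : PUnit.{u + 2} => E₀ p hp) := by
  intro E
  have hr : Representable p := hs.1
  let B : EtOver X := (EtOver.postcomp p hf).obj ((EtOver.bc hr).obj E)
  let c : B ⟶ E := (Groth.Agent.H32.EtPull.postBcAdj hr hf).counit.app E
  have hc : c.hom.left = hr.snd E.obj.hom := Groth.Agent.H32.EtPull.counit_app_hom_left hr hf E
  have hsurj : Surjective c.hom.left.left := by
    rw [hc]
    exact hs.property_snd E.obj.hom
  have hcov := ofArrows_mem_etTop (fun _ : PUnit.{1} => B) (fun _ => c)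
    (fun x => ⟨PUnit.unit, hsurj.surj x⟩)
  refine (etTop X).superset_covering ?_ hcov
  rw [Sieve.ofArrows, Sieve.generate_le_iff]
  rintro W _ ⟨i⟩
  obtain ⟨q, hq⟩ := (yon S).map_surjective (hr.fst E.obj.hom)
  exact ⟨PUnit.unit, ⟨EtOver.homMk q (by
    change (yon S).map q ≫ p = hr.fst E.obj.hom ≫ p
    rw [hq])⟩⟩

open Groth.Agent.H32.EtPull in
include hp in
theorem isQuasicoherent_of_chart (hs : RepWith @Surjective p) (F : ModEt X)
    (hN : ((SheafOfModules.pushforward.{u + 1} (postRingHom (f := p) hf)).obj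
      F).IsQuasicoherent) : F.IsQuasicoherent := by
  have h1 := isQuasicoherent_pushforward_ΨRingHom p hp _ hN
  have h2 : ∀ _ : PUnit.{u + 2}, (F.over (E₀ p hp)).IsQuasicoherent := fun _ =>
    (SheafOfModules.isQuasicoherent ((OEtRing X).over (E₀ p hp))).prop_of_iso
      (overIso p hp hf F).symm h1
  exact @SheafOfModules.IsQuasicoherent.of_coversTop _ _ _ _ _ _ _ _ F _
    (fun _ : PUnit.{u + 2} => E₀ p hp) (coversTop_chart p hp hf hs) h2

end Groth.Agent.H32.EtChart
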