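import Groth.Agent.H32.EtStalk7
import Mathlib.RingTheory.Etale.StandardEtale
import Mathlib.RingTheory.Henselian

/-!
# The etale local ring of an algebraic space at a geometric point, part 1 (helper32)

Refining etale neighbourhoods along etale morphisms of schemes; evaluation at the geometric point.
-/

set_option autoImplicit false
set_option backward.isDefEq.respectTransparency false
universe u
open CategoryTheory CategoryTheory.Limits AlgebraicGeometry Opposite

namespace Groth.Agent.H32.EtLoc

open AlgSp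

variable {S : Scheme.{u}} {X : AlgSp.Sp S}

section Nbhd

variable (E : EtOver X) {W : Scheme.{u}} (j : W ⟶ E.obj.left.left) [Etale j]

/-- the object of the small etale site given by an etale morphism to a chart. -/
noncomputable def nbhdObj : EtOver X :=
  EtOver.mk (U := Over.mk (j ≫ E.obj.left.hom))
    ((yon S).map (Over.homMk j rfl : Over.mk (j ≫ E.obj.left.hom) ⟶ E.obj.left) ≫ E.obj.hom)
    ((repWith_isMultiplicative (S := S) @Etale).comp_mem _ _
      ((repWith_yon_map_iff _ _).2 (inferInstanceAs (Etale j))) E.property)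

/-- its structure morphism to the chart. -/
noncomputable def nbhdHom : nbhdObj E j ⟶ E :=
  EtOver.homMk (Over.homMk j rfl : Over.mk (j ≫ E.obj.left.hom) ⟶ E.obj.left) rfl

theorem nbhdHom_left : (nbhdHom E j).hom.left.left = j := rfl

variable {E} in
/-- lifting a lift of a field-valued point. -/
noncomputable def nbhdLift (p : FieldPt X) (l : (FieldPt.liftsTo p).obj E)
    (m : Spec (CommRingCat.of p.K) ⟶ W) (hm : m ≫ j = l.1.left) :
    (FieldPt.liftsTo p).obj (nbhdObj E j) :=
  ⟨(Over.homMk m (by
      change m ≫ j ≫ E.obj.left.hom = p.str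
      rw [← Category.assoc, hm]
      exact Over.w l.1) : p.pt ⟶ Over.mk (j ≫ E.obj.left.hom)), by
    change (yon S).map _ ≫ (yon S).map _ ≫ E.obj.hom = p.toHom
    rw [← Category.assoc, ← Functor.map_comp]
    have h1 : (Over.homMk m (by
      change m ≫ j ≫ E.obj.left.hom = p.str
      rw [← Category.assoc, hm]
      exact Over.w l.1) : p.pt ⟶ Over.mk (j ≫ E.obj.left.hom)) ≫
        (Over.homMk j rfl : Over.mk (j ≫ E.obj.left.hom) ⟶ E.obj.left) = l.1 :=
      Over.OverMorphism.ext hm
    rw [h1]
    exact l.2⟩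

theorem nbhdLift_left (p : FieldPt X) (l : (FieldPt.liftsTo p).obj E)
    (m : Spec (CommRingCat.of p.K) ⟶ W) (hm : m ≫ j = l.1.left) :
    (nbhdLift j p l m hm).1.left = m := rfl

theorem nbhdLift_map (p : FieldPt X) (l : (FieldPt.liftsTo p).obj E)
    (m : Spec (CommRingCat.of p.K) ⟶ W) (hm : m ≫ j = l.1.left) :
    (FieldPt.liftsTo p).map (nbhdHom E j) (nbhdLift j p l m hm) = l :=
  Subtype.ext (Over.OverMorphism.ext hm)

section Map

variable {W' : Scheme.{u}} (k : W' ⟶ W) [Etale k]

/-- the morphism between refinements induced by a further etale morphism. -/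
noncomputable def nbhdMap : nbhdObj E (k ≫ j) ⟶ nbhdObj E j :=
  EtOver.homMk (Over.homMk k (Category.assoc _ _ _).symm :
      Over.mk ((k ≫ j) ≫ E.obj.left.hom) ⟶ Over.mk (j ≫ E.obj.left.hom)) (by
    change (yon S).map _ ≫ (yon S).map _ ≫ E.obj.hom = (yon S).map _ ≫ E.obj.hom
    rw [← Category.assoc, ← Functor.map_comp]
    congr 2)

theorem nbhdMap_left : (nbhdMap E j k).hom.left.left = k := rfl

theorem nbhdLift_nbhdMap (p : FieldPt X) (l : (FieldPt.liftsTo p).obj E)
    (m' : Spec (CommRingCat.of p.K) ⟶ W') (hm' : m' ≫ k ≫ j = l.1.left) :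
    (FieldPt.liftsTo p).map (nbhdMap E j k) (nbhdLift (k ≫ j) p l m' hm') =
      nbhdLift j p l (m' ≫ k) ((Category.assoc _ _ _).trans hm') :=
  Subtype.ext (Over.OverMorphism.ext rfl)

end Map

end Nbhd

section Eval

/-- evaluation of global functions at a field-valued point. -/
noncomputable def evalAt {K : Type u} [Field K] {W : Scheme.{u}}
    (m : Spec (CommRingCat.of K) ⟶ W) : Γ(W, ⊤) →+* K :=
  (Scheme.ΓSpecIso (CommRingCat.of K)).hom.hom.comp m.appTop.hom

theorem evalAt_comp {K : Type u} [Field K] {W W' : Scheme.{u}}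
    (m : Spec (CommRingCat.of K) ⟶ W) (j : W ⟶ W') (s : Γ(W', ⊤)) :
    evalAt (m ≫ j) s = evalAt m (j.appTop.hom s) := by
  unfold evalAt
  rw [Scheme.Hom.comp_appTop]
  rfl

theorem evalAt_SpecMap {K : Type u} [Field K] {B : CommRingCat.{u}}
    (ψ : B ⟶ CommRingCat.of K) (t : Γ(Spec B, ⊤)) :
    evalAt (Spec.map ψ) t = ψ.hom ((Scheme.ΓSpecIso B).hom.hom t) := by
  have h := Scheme.ΓSpecIso_naturality ψ
  have h2 := congrArg (fun k => k.hom t) h
  exact h2

end Eval

end Groth.Agent.H32.EtLoc
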