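import Groth.Agent.H32.EtLoc1

/-!
# The etale local ring of an algebraic space at a geometric point, part 2 (helper32)

The evaluation map on the stalk, germs, and the unit criterion: the stalk is a local ring.
-/

set_option autoImplicit false
set_option backward.isDefEq.respectTransparency false
universe u
open CategoryTheory CategoryTheory.Limits AlgebraicGeometry Opposite

namespace Groth.Agent.H32.EtLoc

open AlgSp Groth.Agent.H32.EtStalk

variable {S : Scheme.{u}} {X : AlgSp.Sp S}

section Ev

variable (p : FieldPt X)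

/-- the field of the point, one universe up. -/
noncomputable abbrev KK : CommRingCat.{u + 1} := CommRingCat.of (ULift.{u + 1} p.K)

/-- evaluation of functions on an etale neighbourhood at the point. -/
noncomputable def evN (N : EtNbhd p) : (OEt X).obj.obj (op N.1) ⟶ KK p :=
  CommRingCat.ofHom ((ULift.ringEquiv.{u, u + 1}.symm.toRingHom).comp
    ((evalAt N.2.1.left).comp
      (ULift.ringEquiv.{u, u + 1}.toRingHom :
        ULift.{u + 1} Γ(N.1.obj.left.left, ⊤) →+* Γ(N.1.obj.left.left, ⊤))))

theorem evN_apply (N : EtNbhd p) (s : (OEt X).obj.obj (op N.1)) :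
    (evN p N).hom s = ULift.up (evalAt N.2.1.left s.down) := rfl

theorem evN_naturality {N N' : EtNbhd p} (h : N ⟶ N') :
    (OEt X).obj.map h.1.op ≫ evN p N = evN p N' := by
  apply CommRingCat.hom_ext
  apply RingHom.ext
  intro s
  change (evN p N).hom ((OEt X).obj.map h.1.op s) = (evN p N').hom s
  rw [evN_apply, evN_apply, OEt_map]
  congr 1
  have h1 : N'.2.1 = N.2.1 ≫ h.1.hom.left := (congrArg Subtype.val h.2).symm
  have h2 : N'.2.1.left = N.2.1.left ≫ h.1.hom.left.left := by rw [h1]; rfl
  rw [h2, evalAt_comp]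

/-- the evaluation map on the etale local ring. -/
noncomputable def ev : OEtStalk p ⟶ KK p :=
  colimit.desc (stalkEtDiagram p (OEt X))
    { pt := KK p
      ι := { app := fun N => evN p N.unop
             naturality := fun N N' h => by
              have := evN_naturality p h.unop
              simpa using this } }

theorem germ_ev (N : EtNbhd p) : stalkEtι p (OEt X) N ≫ ev p = evN p N :=
  colimit.ι_desc _ _

theorem germ_ev_apply (N : EtNbhd p) (s : (OEt X).obj.obj (op N.1)) :
    (ev p).hom ((stalkEtι p (OEt X) N).hom s) = ULift.up (evalAt N.2.1.left s.down) := by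
  have := congrArg (fun k => k.hom s) (germ_ev p N)
  exact this

theorem germ_res {N N' : EtNbhd p} (h : N ⟶ N') (s : (OEt X).obj.obj (op N'.1)) :
    (stalkEtι p (OEt X) N).hom ((OEt X).obj.map h.1.op s) = (stalkEtι p (OEt X) N').hom s := by
  have h1 := colimit.w (stalkEtDiagram p (OEt X)) h.op
  have := congrArg (fun k => k.hom s) h1
  exact this

end Ev

section Local

variable (hX : IsAlgSpace X) (p : FieldPt X) [IsSepClosed p.K]

include hX in
theorem germ_jointly_surjective (a : ↑(OEtStalk p)) :
    ∃ (N : EtNbhd p) (s : (OEt X).obj.obj (op N.1)), (stalkEtι p (OEt X) N).hom s = a := by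
  have := hasColimits_commRing.{u}
  have := preservesFilteredColimits_forget_commRing.{u}
  obtain ⟨E, l, s, hs⟩ := (point hX p).toPresheafFiber_jointly_surjective (P := (OEt X).obj) a
  exact ⟨⟨E, l⟩, s, hs⟩

/-- the geometric point lands in the non-vanishing locus of a function with nonzero value. -/
theorem range_subset_basicOpen {K : Type u} [Field K] {W : Scheme.{u}}
    (m : Spec (CommRingCat.of K) ⟶ W) (r : Γ(W, ⊤)) (hr : evalAt m r ≠ 0) :
    Set.range m ⊆ (W.basicOpen r : Set ↥W) := by
  rintro _ ⟨y, rfl⟩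
  have h1 : m ⁻¹ᵁ W.basicOpen r = (Spec (CommRingCat.of K)).basicOpen (m.appTop r) :=
    Scheme.preimage_basicOpen_top m r
  have h2 : IsUnit (m.appTop.hom r) := by
    have h3 : IsUnit (evalAt m r) := isUnit_iff_ne_zero.2 hr
    have h4 : m.appTop.hom r = (Scheme.ΓSpecIso (CommRingCat.of K)).inv.hom (evalAt m r) := by
      unfold evalAt
      change _ = ((Scheme.ΓSpecIso (CommRingCat.of K)).hom ≫
        (Scheme.ΓSpecIso (CommRingCat.of K)).inv).hom (m.appTop.hom r)
      rw [Iso.hom_inv_id]
      rfl
    rw [h4]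
    exact h3.map _
  have h5 : y ∈ m ⁻¹ᵁ W.basicOpen r := by
    rw [h1, Scheme.basicOpen_of_isUnit _ h2]
    trivial
  exact h5

theorem isUnit_of_basicOpen_eq_top {W : Scheme.{u}} (t : Γ(W, ⊤)) (h : W.basicOpen t = ⊤) :
    IsUnit t := by
  apply W.toRingedSpace.isUnit_of_isUnit_germ ⊤ t
  intro x hx
  have h1 : x ∈ W.basicOpen t := by rw [h]; trivial
  exact (W.mem_basicOpen t x hx).1 h1

include hX in
/-- an element of the etale local ring with nonzero value at the point is a unit. -/
theorem isUnit_of_ev_ne_zero (a : ↑(OEtStalk p)) (ha : (ev p).hom a ≠ 0) : IsUnit a := by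
  obtain ⟨N, s, rfl⟩ := germ_jointly_surjective hX p a
  rw [germ_ev_apply] at ha
  have hr : evalAt N.2.1.left s.down ≠ 0 := fun h => ha (by rw [h]; rfl)
  have hsub := range_subset_basicOpen N.2.1.left s.down hr
  have hj : Set.range N.2.1.left ⊆ Set.range (N.1.obj.left.left.basicOpen s.down).ι := by
    rw [Scheme.Opens.range_ι]; exact hsub
  let m := IsOpenImmersion.lift (N.1.obj.left.left.basicOpen s.down).ι N.2.1.left hj
  have hm : m ≫ (N.1.obj.left.left.basicOpen s.down).ι = N.2.1.left :=
    IsOpenImmersion.lift_fac _ _ _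
  let N' : EtNbhd p := ⟨nbhdObj N.1 (N.1.obj.left.left.basicOpen s.down).ι,
    nbhdLift (N.1.obj.left.left.basicOpen s.down).ι p N.2 m hm⟩
  let h : N' ⟶ N := ⟨nbhdHom N.1 (N.1.obj.left.left.basicOpen s.down).ι,
    nbhdLift_map N.1 (N.1.obj.left.left.basicOpen s.down).ι p N.2 m hm⟩
  rw [← germ_res p h s]
  apply IsUnit.map
  rw [OEt_map]
  have hu : IsUnit ((N.1.obj.left.left.basicOpen s.down).ι.appTop.hom s.down) := by
    apply isUnit_of_basicOpen_eq_top
    rw [← Scheme.preimage_basicOpen_top]
    exact Scheme.Opens.ι_preimage_self _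
  exact hu.map (ULift.ringEquiv.{u, u + 1}.symm.toRingHom :
    Γ(↑(N.1.obj.left.left.basicOpen s.down), ⊤) →+* ULift.{u + 1} _)

include hX in
theorem isLocalRing_stalk : IsLocalRing ↑(OEtStalk p) := by
  have hnt : Nontrivial ↑(OEtStalk p) := (ev p).hom.domain_nontrivial
  refine IsLocalRing.of_nonunits_add ?_
  intro a b ha hb
  have ha' : (ev p).hom a = 0 := by
    by_contra h
    exact ha (isUnit_of_ev_ne_zero hX p a h)
  have hb' : (ev p).hom b = 0 := by
    by_contra h
    exact hb (isUnit_of_ev_ne_zero hX p b h)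
  intro hab
  have h0 : (ev p).hom (a + b) = 0 := by rw [map_add, ha', hb', add_zero]
  exact (hab.map (ev p).hom).ne_zero h0

include hX in
theorem mem_maximalIdeal_iff [IsLocalRing ↑(OEtStalk p)] (a : ↑(OEtStalk p)) :
    a ∈ IsLocalRing.maximalIdeal ↑(OEtStalk p) ↔ (ev p).hom a = 0 := by
  rw [IsLocalRing.mem_maximalIdeal, mem_nonunits_iff]
  constructor
  · intro ha
    by_contra h
    exact ha (isUnit_of_ev_ne_zero hX p a h)
  · intro h0 hu
    exact (hu.map (ev p).hom).ne_zero h0

end Local

end Groth.Agent.H32.EtLoc
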