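import Groth.Agent.H32.EtLoc2

/-!
# The etale local ring of an algebraic space at a geometric point, part 3 (helper32)

Lifting polynomials over the stalk to an etale neighbourhood.
-/

set_option autoImplicit false
set_option backward.isDefEq.respectTransparency false
universe u
open CategoryTheory CategoryTheory.Limits AlgebraicGeometry Opposite Polynomial

namespace Groth.Agent.H32.EtLoc

open AlgSp Groth.Agent.H32.EtStalk

variable {S : Scheme.{u}} {X : AlgSp.Sp S}

variable (hX : IsAlgSpace X) (p : FieldPt X) [IsSepClosed p.K]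

omit [IsSepClosed p.K] in
theorem germ_res_hom {N N' : EtNbhd p} (h : N ⟶ N') :
    (stalkEtι p (OEt X) N).hom.comp ((OEt X).obj.map h.1.op).hom = (stalkEtι p (OEt X) N').hom :=
  RingHom.ext (germ_res p h)

include hX in
theorem exists_lift_poly (f : (↑(OEtStalk p))[X]) :
    ∃ (N : EtNbhd p) (g : (↑((OEt X).obj.obj (op N.1)))[X]),
      g.map (stalkEtι p (OEt X) N).hom = f := by
  have hcof := isCofiltered_etNbhd hX p
  induction f using Polynomial.induction_on' with
  | add f₁ f₂ ih₁ ih₂ =>
    obtain ⟨N₁, g₁, rfl⟩ := ih₁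
    obtain ⟨N₂, g₂, rfl⟩ := ih₂
    refine ⟨IsCofiltered.min N₁ N₂,
      g₁.map ((OEt X).obj.map (IsCofiltered.minToLeft N₁ N₂).1.op).hom +
        g₂.map ((OEt X).obj.map (IsCofiltered.minToRight N₁ N₂).1.op).hom, ?_⟩
    rw [Polynomial.map_add, Polynomial.map_map, Polynomial.map_map, germ_res_hom, germ_res_hom]
  | monomial n a =>
    obtain ⟨N, s, rfl⟩ := germ_jointly_surjective hX p a
    exact ⟨N, monomial n s, Polynomial.map_monomial _⟩

include hX in
theorem exists_lift_monic (f : (↑(OEtStalk p))[X]) (hf : f.Monic) :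
    ∃ (N : EtNbhd p) (g : (↑((OEt X).obj.obj (op N.1)))[X]), g.Monic ∧
      g.map (stalkEtι p (OEt X) N).hom = f := by
  have hnt : Nontrivial ↑(OEtStalk p) := (ev p).hom.domain_nontrivial
  obtain ⟨N, g₁, hg₁⟩ := exists_lift_poly hX p
    (f - (Polynomial.X : (↑(OEtStalk p))[X]) ^ f.natDegree)
  have hntN : Nontrivial ↑((OEt X).obj.obj (op N.1)) :=
    (stalkEtι p (OEt X) N).hom.domain_nontrivial
  have hdeg : (f - (Polynomial.X : (↑(OEtStalk p))[X]) ^ f.natDegree).degree <
      ((Polynomial.X : (↑(OEtStalk p))[X]) ^ f.natDegree).degree := by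
    have h1 : f.degree = ((Polynomial.X : (↑(OEtStalk p))[X]) ^ f.natDegree).degree := by
      rw [Polynomial.degree_X_pow, Polynomial.degree_eq_natDegree hf.ne_zero]
    have h2 := Polynomial.degree_sub_lt_left h1 hf.ne_zero
      (by rw [hf.leadingCoeff, (Polynomial.monic_X_pow _).leadingCoeff])
    rwa [h1] at h2
  refine ⟨N, (Polynomial.X : (↑((OEt X).obj.obj (op N.1)))[X]) ^ f.natDegree +
    g₁ %ₘ (Polynomial.X : (↑((OEt X).obj.obj (op N.1)))[X]) ^ f.natDegree, ?_, ?_⟩
  · apply Polynomial.monic_X_pow_add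
    have h3 := Polynomial.degree_modByMonic_lt g₁
      (Polynomial.monic_X_pow (R := ↑((OEt X).obj.obj (op N.1))) f.natDegree)
    rwa [Polynomial.degree_X_pow] at h3
  · rw [Polynomial.map_add, Polynomial.map_pow, Polynomial.map_X,
      Polynomial.map_modByMonic _ (Polynomial.monic_X_pow _), Polynomial.map_pow, Polynomial.map_X,
      hg₁, (Polynomial.modByMonic_eq_self_iff (Polynomial.monic_X_pow _)).2 hdeg]
    ring

end Groth.Agent.H32.EtLoc
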