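import Groth.Agent.H32.EtLoc3

/-!
# The etale local ring of an algebraic space at a geometric point, part 4 (helper32)

Simple roots over the residue field of the geometric point lift to the etale local ring.
-/

set_option autoImplicit false
set_option backward.isDefEq.respectTransparency false
universe u
open CategoryTheory CategoryTheory.Limits AlgebraicGeometry Opposite Polynomial

namespace Groth.Agent.H32.EtLoc

open AlgSp Groth.Agent.H32.EtStalk

variable {S : Scheme.{u}} {X : AlgSp.Sp S}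

variable (hX : IsAlgSpace X) (p : FieldPt X) [IsSepClosed p.K]

/-- evaluation at the point with values in the field itself. -/
noncomputable def evK : ↑(OEtStalk p) →+* p.K :=
  (ULift.ringEquiv.{u, u + 1}.toRingHom : ULift.{u + 1} p.K →+* p.K).comp (ev p).hom

omit [IsSepClosed p.K] in
theorem evK_germ (N : EtNbhd p) (s : (OEt X).obj.obj (op N.1)) :
    evK p ((stalkEtι p (OEt X) N).hom s) = evalAt N.2.1.left s.down := by
  unfold evK
  rw [RingHom.comp_apply, germ_ev_apply]
  rfl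

/-- sections over a neighbourhood whose scheme is `Spec B`, as elements of `B`. -/
noncomputable def thetaSpec (B : CommRingCat.{u}) :
    ULift.{u + 1} Γ(Spec B, ⊤) →+* ↑B :=
  (Scheme.ΓSpecIso B).hom.hom.comp (ULift.ringEquiv.{u, u + 1}.toRingHom)

theorem thetaSpec_injective (B : CommRingCat.{u}) : Function.Injective (thetaSpec B) := by
  intro a b hab
  unfold thetaSpec at hab
  have h1 : Function.Injective (Scheme.ΓSpecIso B).hom.hom :=
    ((ConcreteCategory.bijective_of_isIso (Scheme.ΓSpecIso B).hom).1)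
  exact ULift.ext _ _ (h1 hab)

theorem thetaSpec_up_inv (B : CommRingCat.{u}) (b : ↑B) :
    thetaSpec B (ULift.up ((Scheme.ΓSpecIso B).inv.hom b)) = b := by
  unfold thetaSpec
  change ((Scheme.ΓSpecIso B).inv ≫ (Scheme.ΓSpecIso B).hom).hom b = b
  rw [Iso.inv_hom_id]
  rfl

section StdEtale

variable (E : EtOver X) (l : (FieldPt.liftsTo p).obj E) (A : CommRingCat.{u})
  (j₀ : Spec A ⟶ E.obj.left.left) [Etale j₀] (m₀ : Spec (CommRingCat.of p.K) ⟶ Spec A)
  (hm₀ : m₀ ≫ j₀ = l.1.left)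

omit [IsSepClosed p.K] in
/-- the value at the point of a function on an affine neighbourhood. -/
theorem evK_germ_spec (s : (OEt X).obj.obj (op (nbhdObj E j₀))) :
    evK p ((stalkEtι p (OEt X) ⟨nbhdObj E j₀, nbhdLift j₀ p l m₀ hm₀⟩).hom s) =
      (Spec.preimage m₀).hom (thetaSpec A s) := by
  rw [evK_germ]
  change evalAt m₀ s.down = _
  have h1 : evalAt m₀ s.down = evalAt (Spec.map (Spec.preimage m₀)) s.down := by
    rw [Spec.map_preimage]
  rw [h1, evalAt_SpecMap]
  rfl

omit [IsSepClosed p.K] in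
/-- restriction of functions along `Spec` of a ring map, through `thetaSpec`. -/
theorem thetaSpec_res {A B : CommRingCat.{u}} (α : A ⟶ B) (s : ULift.{u + 1} Γ(Spec A, ⊤)) :
    thetaSpec B (ULift.up ((Spec.map α).appTop.hom s.down)) = α.hom (thetaSpec A s) := by
  unfold thetaSpec
  have h := Scheme.ΓSpecIso_naturality α
  exact congrArg (fun k => k.hom s.down) h

omit [IsSepClosed p.K] in
/-- a root in an etale algebra over an affine etale neighbourhood, together with a point of the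
algebra over the geometric point, gives a root in the etale local ring. -/
theorem exists_root_of_etale_algebra (g : (↑((OEt X).obj.obj (op (nbhdObj E j₀))))[X])
    {B : CommRingCat.{u}} (α : A ⟶ B) [Etale (Spec.map α)] (β : B ⟶ CommRingCat.of p.K)
    (hαβ : α ≫ β = Spec.preimage m₀) (b : ↑B)
    (hb : (g.map (thetaSpec A)).eval₂ α.hom b = 0) :
    ∃ a : ↑(OEtStalk p),
      (g.map (stalkEtι p (OEt X) ⟨nbhdObj E j₀, nbhdLift j₀ p l m₀ hm₀⟩).hom).IsRoot a ∧
        evK p a = β.hom b := by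
  let N₀ : EtNbhd p := ⟨nbhdObj E j₀, nbhdLift j₀ p l m₀ hm₀⟩
  have hβα : Spec.map β ≫ Spec.map α = m₀ := by
    rw [← Spec.map_comp, hαβ, Spec.map_preimage]
  have hm₁ : Spec.map β ≫ Spec.map α ≫ j₀ = l.1.left := by
    rw [← Category.assoc, hβα, hm₀]
  let N₁ : EtNbhd p := ⟨nbhdObj E (Spec.map α ≫ j₀),
    nbhdLift (Spec.map α ≫ j₀) p l (Spec.map β) hm₁⟩
  have hlift : (FieldPt.liftsTo p).map (nbhdMap E j₀ (Spec.map α)) N₁.2 = N₀.2 := by
    have h1 := nbhdLift_nbhdMap E j₀ (Spec.map α) p l (Spec.map β) hm₁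
    refine h1.trans ?_
    apply Subtype.ext
    apply Over.OverMorphism.ext
    exact hβα
  let h₁ : N₁ ⟶ N₀ := ⟨nbhdMap E j₀ (Spec.map α), hlift⟩
  let t : (OEt X).obj.obj (op N₁.1) := ULift.up ((Scheme.ΓSpecIso B).inv.hom b)
  refine ⟨(stalkEtι p (OEt X) N₁).hom t, ?_, ?_⟩
  · -- root
    have hres : ∀ s : (OEt X).obj.obj (op N₀.1),
        thetaSpec B (((OEt X).obj.map h₁.1.op).hom s) = α.hom (thetaSpec A s) :=
      fun s => thetaSpec_res α s
    have hF2 : (thetaSpec B).comp ((OEt X).obj.map h₁.1.op).hom =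
        α.hom.comp (thetaSpec A) := RingHom.ext hres
    have hzero : (g.map ((OEt X).obj.map h₁.1.op).hom).eval t = 0 := by
      apply thetaSpec_injective B
      rw [map_zero, ← Polynomial.eval₂_at_apply, ← Polynomial.eval_map, Polynomial.map_map, hF2,
        ← Polynomial.map_map, thetaSpec_up_inv, Polynomial.eval_map]
      exact hb
    change (g.map (stalkEtι p (OEt X) N₀).hom).eval _ = 0
    rw [← germ_res_hom p h₁, ← Polynomial.map_map, Polynomial.eval_map,
      Polynomial.eval₂_at_apply, hzero, map_zero]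
  · -- value
    rw [evK_germ]
    change evalAt (Spec.map β) t.down = β.hom b
    rw [evalAt_SpecMap]
    change β.hom ((Scheme.ΓSpecIso B).hom.hom ((Scheme.ΓSpecIso B).inv.hom b)) = β.hom b
    have h2 : (Scheme.ΓSpecIso B).hom.hom ((Scheme.ΓSpecIso B).inv.hom b) = b := by
      change ((Scheme.ΓSpecIso B).inv ≫ (Scheme.ΓSpecIso B).hom).hom b = b
      rw [Iso.inv_hom_id]
      rfl
    rw [h2]

omit [IsSepClosed p.K] in
/-- the standard etale step: a simple root over the field of the point of a monic polynomial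
with coefficients in functions on an affine etale neighbourhood lifts to the etale local ring. -/
theorem exists_root_of_spec (g : (↑((OEt X).obj.obj (op (nbhdObj E j₀))))[X]) (hg : g.Monic)
    (a₀ : p.K)
    (h0 : (g.map (stalkEtι p (OEt X) ⟨nbhdObj E j₀, nbhdLift j₀ p l m₀ hm₀⟩).hom).eval₂
      (evK p) a₀ = 0)
    (h1 : (g.map (stalkEtι p (OEt X) ⟨nbhdObj E j₀, nbhdLift j₀ p l m₀ hm₀⟩).hom).derivative.eval₂
      (evK p) a₀ ≠ 0) :
    ∃ a : ↑(OEtStalk p),
      (g.map (stalkEtι p (OEt X) ⟨nbhdObj E j₀, nbhdLift j₀ p l m₀ hm₀⟩).hom).IsRoot a ∧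
        evK p a = a₀ := by
  let N₀ : EtNbhd p := ⟨nbhdObj E j₀, nbhdLift j₀ p l m₀ hm₀⟩
  let φA : ↑A →+* p.K := (Spec.preimage m₀).hom
  have hF1 : (evK p).comp (stalkEtι p (OEt X) N₀).hom = φA.comp (thetaSpec A) :=
    RingHom.ext (fun s => evK_germ_spec p E l A j₀ m₀ hm₀ s)
  let gA : (↑A)[X] := g.map (thetaSpec A)
  have hgA : gA.Monic := hg.map _
  have h0' : gA.eval₂ φA a₀ = 0 := by
    rw [Polynomial.eval₂_map, ← hF1, ← Polynomial.eval₂_map]
    exact h0
  have h1' : gA.derivative.eval₂ φA a₀ ≠ 0 := by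
    rw [Polynomial.derivative_map, Polynomial.eval₂_map, ← hF1, ← Polynomial.eval₂_map,
      ← Polynomial.derivative_map]
    exact h1
  letI : Algebra ↑A p.K := φA.toAlgebra
  let P : StandardEtalePair ↑A := ⟨gA, hgA, gA.derivative, ⟨1, 0, 1, by simp⟩⟩
  have hmap : P.HasMap a₀ := ⟨h0', isUnit_iff_ne_zero.2 h1'⟩
  let ψ : P.Ring →ₐ[↑A] p.K := P.lift a₀ hmap
  let α : A ⟶ CommRingCat.of P.Ring := CommRingCat.ofHom (algebraMap ↑A P.Ring)
  let β : CommRingCat.of P.Ring ⟶ CommRingCat.of p.K := CommRingCat.ofHom ψ.toRingHom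
  have hαβ : α ≫ β = Spec.preimage m₀ := by
    apply CommRingCat.hom_ext
    apply RingHom.ext
    intro x
    exact ψ.commutes x
  have hα : Etale (Spec.map α) := by
    rw [HasRingHomProperty.Spec_iff (P := @Etale)]
    exact RingHom.etale_algebraMap.2 inferInstance
  have hb : (g.map (thetaSpec A)).eval₂ α.hom P.X = 0 := P.hasMap_X.1
  obtain ⟨a, ha1, ha2⟩ := exists_root_of_etale_algebra p E l A j₀ m₀ hm₀ g α β hαβ P.X hb
  refine ⟨a, ha1, ha2.trans ?_⟩
  exact P.lift_X a₀ hmap

end StdEtale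

include hX in
/-- simple roots over the field of the geometric point of monic polynomials over the etale local
ring lift to roots in the etale local ring. -/
theorem exists_root (f : (↑(OEtStalk p))[X]) (hf : f.Monic) (a₀ : p.K)
    (h0 : f.eval₂ (evK p) a₀ = 0) (h1 : f.derivative.eval₂ (evK p) a₀ ≠ 0) :
    ∃ a : ↑(OEtStalk p), f.IsRoot a ∧ evK p a = a₀ := by
  obtain ⟨N, g, hg, rfl⟩ := exists_lift_monic hX p f hf
  obtain ⟨U, hU, hxU, -⟩ := exists_isAffineOpen_mem_and_subset
    (x := N.2.1.left (default : ↥(Spec (CommRingCat.of p.K)))) (U := ⊤) trivial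
  have hrange : Set.range N.2.1.left ⊆ Set.range hU.fromSpec := by
    rw [hU.range_fromSpec]
    rintro _ ⟨y, rfl⟩
    have hy : y = (default : ↥(Spec (CommRingCat.of p.K))) :=
      Subsingleton.elim (α := ↥(Spec (CommRingCat.of p.K))) _ _
    rw [hy]
    exact hxU
  let m₀ := IsOpenImmersion.lift hU.fromSpec N.2.1.left hrange
  have hm₀ : m₀ ≫ hU.fromSpec = N.2.1.left := IsOpenImmersion.lift_fac _ _ _
  let N₀ : EtNbhd p := ⟨nbhdObj N.1 hU.fromSpec, nbhdLift hU.fromSpec p N.2 m₀ hm₀⟩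
  let h₀ : N₀ ⟶ N := ⟨nbhdHom N.1 hU.fromSpec, nbhdLift_map N.1 hU.fromSpec p N.2 m₀ hm₀⟩
  have hg₀ : (g.map ((OEt X).obj.map h₀.1.op).hom).Monic := hg.map _
  have hfg : (g.map ((OEt X).obj.map h₀.1.op).hom).map (stalkEtι p (OEt X) N₀).hom =
      g.map (stalkEtι p (OEt X) N).hom := by
    rw [Polynomial.map_map, germ_res_hom]
  rw [← hfg] at h0 h1 ⊢
  exact exists_root_of_spec p N.1 N.2 _ hU.fromSpec m₀ hm₀ _ hg₀ a₀ h0 h1

end Groth.Agent.H32.EtLoc
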