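import Groth.Agent.H32.EtLoc4
import Mathlib.FieldTheory.IsSepClosed

/-!
# The etale local ring of an algebraic space at a geometric point is strictly henselian (helper32)
-/

set_option autoImplicit false
set_option backward.isDefEq.respectTransparency false
universe u
open CategoryTheory CategoryTheory.Limits AlgebraicGeometry Opposite Polynomial

namespace Groth.Agent.H32.EtLoc

open AlgSp Groth.Agent.H32.EtStalk

variable {S : Scheme.{u}} {X : AlgSp.Sp S}

variable (hX : IsAlgSpace X) (p : FieldPt X) [IsSepClosed p.K]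

omit [IsSepClosed p.K] in
theorem evK_eq_zero_iff (a : ↑(OEtStalk p)) : evK p a = 0 ↔ (ev p).hom a = 0 := by
  unfold evK
  rw [RingHom.comp_apply]
  constructor
  · intro h
    exact ULift.ext _ _ h
  · intro h
    rw [h]
    rfl

include hX in
theorem isLocalHom_evK : IsLocalHom (evK p) where
  map_nonunit a ha := by
    apply isUnit_of_ev_ne_zero hX p a
    intro h0
    exact ha.ne_zero ((evK_eq_zero_iff p a).2 h0)

include hX in
theorem henselian_stalk : HenselianLocalRing ↑(OEtStalk p) :=
  { toIsLocalRing := isLocalRing_stalk hX p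
    is_henselian := by
      have := isLocalRing_stalk hX p
      intro f hf a₀ h0 h1
      have e0 : f.eval₂ (evK p) (evK p a₀) = 0 := by
        rw [Polynomial.eval₂_at_apply, evK_eq_zero_iff]
        exact (mem_maximalIdeal_iff hX p _).1 h0
      have e1 : f.derivative.eval₂ (evK p) (evK p a₀) ≠ 0 := by
        rw [Polynomial.eval₂_at_apply]
        exact (h1.map (evK p)).ne_zero
      obtain ⟨a, ha, hav⟩ := exists_root hX p f hf (evK p a₀) e0 e1
      refine ⟨a, ha, ?_⟩
      rw [mem_maximalIdeal_iff hX p, ← evK_eq_zero_iff, map_sub, hav, sub_self] }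

include hX in
theorem isSepClosed_residueField [IsLocalRing ↑(OEtStalk p)] :
    IsSepClosed (IsLocalRing.ResidueField ↑(OEtStalk p)) := by
  have hloc := isLocalHom_evK hX p
  let ι : IsLocalRing.ResidueField ↑(OEtStalk p) →+* p.K := IsLocalRing.ResidueField.lift (evK p)
  have hι : ι.comp (IsLocalRing.residue ↑(OEtStalk p)) = evK p :=
    IsLocalRing.ResidueField.lift_comp_residue (evK p)
  apply IsSepClosed.of_exists_root
  intro q hq hirr hsep
  obtain ⟨f, hfq, -, hf⟩ := Polynomial.lifts_and_natDegree_eq_and_monic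
    ((Polynomial.mem_lifts _).2 (Polynomial.map_surjective _ IsLocalRing.residue_surjective q)) hq
  have hdeg : (q.map ι).degree ≠ 0 := by
    rw [Polynomial.degree_map]
    exact fun h => hirr.not_isUnit (Polynomial.isUnit_iff_degree_eq_zero.2 h)
  obtain ⟨a₀, ha₀⟩ := IsSepClosed.exists_root (q.map ι) hdeg hsep.map
  have hq0 : q.eval₂ ι a₀ = 0 := by rw [← Polynomial.eval_map]; exact ha₀
  have hq1 : q.derivative.eval₂ ι a₀ ≠ 0 := hsep.eval₂_derivative_ne_zero ι hq0
  have e0 : f.eval₂ (evK p) a₀ = 0 := by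
    rw [← hι, ← Polynomial.eval₂_map, hfq]
    exact hq0
  have e1 : f.derivative.eval₂ (evK p) a₀ ≠ 0 := by
    rw [← hι, ← Polynomial.eval₂_map, ← Polynomial.derivative_map, hfq]
    exact hq1
  obtain ⟨a, ha, -⟩ := exists_root hX p f hf a₀ e0 e1
  refine ⟨IsLocalRing.residue _ a, ?_⟩
  rw [← hfq, Polynomial.eval_map, Polynomial.eval₂_at_apply]
  have : f.eval a = 0 := ha
  rw [this, map_zero]

end Groth.Agent.H32.EtLoc
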