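import Groth.Prelude.Def_AlgSpOX2
import Mathlib.CategoryTheory.Limits.Preserves.Finite
import Mathlib.Algebra.Category.ModuleCat.Sheaf.PushforwardContinuous
import Mathlib.Algebra.Category.ModuleCat.Sheaf.Limits
import Mathlib.Algebra.Category.ModuleCat.Presheaf.Sheafification
/-! helper32: for an etale representable `f : X ⟶ Y` of sheaves, postcomposition `EtOver X ⥤ EtOver Y` is a continuous left adjoint of base change; consequences for pullbacks of modules. -/
set_option autoImplicit false
set_option backward.isDefEq.respectTransparency false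
universe u
open CategoryTheory CategoryTheory.Limits AlgebraicGeometry Opposite

namespace Groth.Agent.H32.EtPull

open AlgSp

variable {S : Scheme.{u}} {X Y : AlgSp.Sp S} {f : X ⟶ Y} (hr : AlgSp.Representable f)
  (hf : AlgSp.IsEtaleMor f)

/-- the hom-set bijection `Hom_Y(E ≫ f, V) ≃ Hom_X(E, V ×_Y X)`. -/
noncomputable def postBcEquiv (E : EtOver X) (V : EtOver Y) :
    ((EtOver.postcomp f hf).obj E ⟶ V) ≃ (E ⟶ (EtOver.bc hr).obj V) where
  toFun := fun g => EtOver.homMk (hr.lift E.obj.hom g.hom.left (EtOver.w g).symm)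
    (hr.lift_fst _ _ _)
  invFun := fun h => EtOver.homMk (h.hom.left ≫ hr.snd V.obj.hom) (by
    change (yon S).map (h.hom.left ≫ hr.snd V.obj.hom) ≫ V.obj.hom = E.obj.hom ≫ f
    rw [Functor.map_comp, Category.assoc, ← hr.w, ← Category.assoc]
    exact congrArg (· ≫ f) (EtOver.w h))
  left_inv := fun g => EtOver.hom_ext _ _ (hr.lift_snd _ _ _)
  right_inv := fun h => EtOver.hom_ext _ _ (hr.hom_ext
    ((hr.lift_fst _ _ _).trans (EtOver.w h).symm) (hr.lift_snd _ _ _))

theorem postBcEquiv_apply_snd (E : EtOver X) (V : EtOver Y)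
    (g : (EtOver.postcomp f hf).obj E ⟶ V) :
    (postBcEquiv hr hf E V g).hom.left ≫ hr.snd V.obj.hom = g.hom.left :=
  hr.lift_snd _ _ _

theorem postBcEquiv_symm_hom_left (E : EtOver X) (V : EtOver Y) (h : E ⟶ (EtOver.bc hr).obj V) :
    ((postBcEquiv hr hf E V).symm h).hom.left = h.hom.left ≫ hr.snd V.obj.hom := rfl

/-- postcomposition with an etale representable `f` is left adjoint to base change along `f`. -/
noncomputable def postBcAdj : EtOver.postcomp f hf ⊣ EtOver.bc hr :=
  Adjunction.mkOfHomEquiv
    { homEquiv := postBcEquiv hr hf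
      homEquiv_naturality_left_symm := fun {E' E V} k h => EtOver.hom_ext _ _ (by
        change (k ≫ h).hom.left ≫ hr.snd V.obj.hom = k.hom.left ≫ h.hom.left ≫ hr.snd V.obj.hom
        exact Category.assoc _ _ _)
      homEquiv_naturality_right := fun {E V V'} g k => EtOver.hom_ext _ _ (hr.hom_ext
        (by
          change (yon S).map (hr.lift E.obj.hom (g ≫ k).hom.left _) ≫ hr.fst V'.obj.hom =
            (yon S).map (hr.lift E.obj.hom g.hom.left _ ≫ (EtOver.bcMap hr k).hom.left) ≫
              hr.fst V'.obj.hom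
          rw [hr.lift_fst, Functor.map_comp, Category.assoc, EtOver.map_bcMap_fst, hr.lift_fst])
        (by
          change hr.lift E.obj.hom (g ≫ k).hom.left _ ≫ hr.snd V'.obj.hom =
            (hr.lift E.obj.hom g.hom.left _ ≫ (EtOver.bcMap hr k).hom.left) ≫ hr.snd V'.obj.hom
          rw [hr.lift_snd, Category.assoc, EtOver.bcMap_snd, ← Category.assoc, hr.lift_snd]
          rfl)) }

theorem postBcAdj_homEquiv : (postBcAdj hr hf).homEquiv = postBcEquiv hr hf :=
  Adjunction.mkOfHomEquiv_homEquiv _

theorem counit_app_hom_left (V : EtOver Y) :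
    ((postBcAdj hr hf).counit.app V).hom.left = hr.snd V.obj.hom := by
  rw [← Adjunction.homEquiv_symm_id, postBcAdj_homEquiv, postBcEquiv_symm_hom_left]
  exact Category.id_comp _

theorem unit_app_hom_left_snd (E : EtOver X) :
    ((postBcAdj hr hf).unit.app E).hom.left ≫ hr.snd ((EtOver.postcomp f hf).obj E).obj.hom =
      𝟙 E.obj.left := by
  rw [← Adjunction.homEquiv_id, postBcAdj_homEquiv, postBcEquiv_apply_snd]
  rfl

end Groth.Agent.H32.EtPull

namespace Groth.Agent.H32.EtPull

open AlgSp

variable {S : Scheme.{u}} {X Y : AlgSp.Sp S} {f : X ⟶ Y} 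
  (hf : AlgSp.IsEtaleMor f)

theorem etPre_le_comap_postcomp : etPre X ≤ (etPre Y).comap (EtOver.postcomp f hf) := by
  intro E R hR
  obtain ⟨ι, Z, g, rfl⟩ := R.exists_eq_ofArrows
  rw [Precoverage.mem_comap_iff, Presieve.map_ofArrows]
  rw [ofArrows_mem_etPre_iff] at hR ⊢
  exact hR

section
variable {E₁ E₂ E₀ : EtOver X} (g₁ : E₁ ⟶ E₀) (g₂ : E₂ ⟶ E₀)

theorem isPullback_postcomp_map_pullback :
    IsPullback ((EtOver.postcomp f hf).map (EtOver.pullbackFst g₁ g₂))
      ((EtOver.postcomp f hf).map (EtOver.pullbackSnd g₁ g₂))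
      ((EtOver.postcomp f hf).map g₁) ((EtOver.postcomp f hf).map g₂) := by
  refine IsPullback.of_isLimit (c := PullbackCone.mk _ _
    ((((EtOver.postcomp f hf).map_comp _ _).symm.trans
      (congrArg (EtOver.postcomp f hf).map (EtOver.pullback_condition g₁ g₂))).trans
      ((EtOver.postcomp f hf).map_comp _ _))) ?_
  refine PullbackCone.IsLimit.mk _
    (fun s => EtOver.homMk (pullback.lift s.fst.hom.left s.snd.hom.left
      (congrArg (fun k => k.hom.left) s.condition)) ?_) ?_ ?_ ?_
  · change (yon S).map _ ≫ ((yon S).map _ ≫ E₁.obj.hom) ≫ f = s.pt.obj.hom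
    rw [← Category.assoc, ← Category.assoc, ← Functor.map_comp, pullback.lift_fst, Category.assoc]
    exact EtOver.w s.fst
  · intro s; exact EtOver.hom_ext _ _ (pullback.lift_fst _ _ _)
  · intro s; exact EtOver.hom_ext _ _ (pullback.lift_snd _ _ _)
  · intro s m h₁ h₂
    exact EtOver.hom_ext _ _ (pullback.hom_ext
      ((congrArg (fun k => k.hom.left) h₁).trans (pullback.lift_fst _ _ _).symm)
      ((congrArg (fun k => k.hom.left) h₂).trans (pullback.lift_snd _ _ _).symm))

instance preservesLimit_cospan_postcomp : PreservesLimit (cospan g₁ g₂) (EtOver.postcomp f hf) :=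
  preservesLimit_of_preserves_limit_cone (EtOver.pullbackIsLimit g₁ g₂)
    ((isLimitMapConePullbackConeEquiv _ _).symm (isPullback_postcomp_map_pullback hf g₁ g₂).isLimit)

end

instance preservesPullbacks_postcomp :
    PreservesLimitsOfShape WalkingCospan (EtOver.postcomp f hf) where
  preservesLimit {K} := preservesLimit_of_iso_diagram _ (diagramIsoCospan K).symm

instance postcomp_isContinuous : (EtOver.postcomp f hf).IsContinuous (etTop X) (etTop Y) := by
  change (EtOver.postcomp f hf).IsContinuous (etPre X).toGrothendieck (etPre Y).toGrothendieck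
  exact Functor.isContinuous_toGrothendieck_of_pullbacksPreservedBy _ _ _
    (etPre_le_comap_postcomp hf)

end Groth.Agent.H32.EtPull

namespace Groth.Agent.H32.EtPull

open AlgSp

variable {S : Scheme.{u}} {X Y : AlgSp.Sp S} {f : X ⟶ Y} (hr : AlgSp.Representable f)
  (hf : AlgSp.IsEtaleMor f)

/-- `O_X ⟶ post_* O_Y`, the identity on sections. -/
noncomputable def postRingHom :
    OEtRing X ⟶ ((EtOver.postcomp f hf).sheafPushforwardContinuous RingCat.{u + 1}
      (etTop X) (etTop Y)).obj (OEtRing Y) :=
  ObjectProperty.homMk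
    { app := fun E => 𝟙 _
      naturality := fun E E' g => by
        rfl }


theorem H₁ : Functor.whiskerRight (NatTrans.op (postBcAdj hr hf).counit) (OEtRing Y).obj =
    (bcRingHom hr).hom ≫ (EtOver.bc hr).op.whiskerLeft (postRingHom hf).hom := by
  ext V : 2
  change (BigSite.ORing Scheme.etalePrecoverage S).obj.map
      ((postBcAdj hr hf).counit.app V.unop).hom.left.op =
    (BigSite.ORing Scheme.etalePrecoverage S).obj.map (hr.snd V.unop.obj.hom).op ≫ 𝟙 _
  rw [counit_app_hom_left, Category.comp_id]

theorem H₂ : (postRingHom hf).hom ≫ (EtOver.postcomp f hf).op.whiskerLeft (bcRingHom hr).hom ≫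
    Functor.whiskerRight (NatTrans.op (postBcAdj hr hf).unit) (OEtRing X).obj = 𝟙 (OEtRing X).obj := by
  ext E : 2
  change 𝟙 _ ≫ (BigSite.ORing Scheme.etalePrecoverage S).obj.map
      (hr.snd ((EtOver.postcomp f hf).obj E.unop).obj.hom).op ≫
    (BigSite.ORing Scheme.etalePrecoverage S).obj.map
      ((postBcAdj hr hf).unit.app E.unop).hom.left.op = 𝟙 _
  rw [Category.id_comp, ← Functor.map_comp, ← op_comp, unit_app_hom_left_snd]
  exact (BigSite.ORing Scheme.etalePrecoverage S).obj.map_id _

/-- restriction along postcomposition is left adjoint to the direct image of modules. -/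
noncomputable def modAdj : SheafOfModules.pushforward.{u + 1} (postRingHom hf) ⊣
    SheafOfModules.pushforward.{u + 1} (bcRingHom hr) :=
  SheafOfModules.pushforwardPushforwardAdj (postBcAdj hr hf) (postRingHom hf) (bcRingHom hr)
    (H₁ hr hf) (H₂ hr hf)


theorem preservesFiniteLimits_pushforward_postRingHom :
    PreservesFiniteLimits (SheafOfModules.pushforward.{u + 1} (postRingHom hf)) := by
  have h0 : PreservesFiniteLimits ((EtOver.postcomp f hf).sheafPushforwardContinuous
      AddCommGrpCat.{u + 1} (etTop X) (etTop Y)) := by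
    have : ((EtOver.postcomp f hf).sheafPushforwardContinuous
      AddCommGrpCat.{u + 1} (etTop X) (etTop Y)).IsRightAdjoint := inferInstance
    infer_instance
  have h1 : PreservesFiniteLimits (SheafOfModules.pushforward.{u + 1} (postRingHom hf) ⋙
      SheafOfModules.toSheaf (OEtRing X)) := by
    have e : SheafOfModules.pushforward.{u + 1} (postRingHom hf) ⋙
        SheafOfModules.toSheaf (OEtRing X) =
      SheafOfModules.toSheaf (OEtRing Y) ⋙ (EtOver.postcomp f hf).sheafPushforwardContinuous
        AddCommGrpCat.{u + 1} (etTop X) (etTop Y) := rfl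
    rw [e]
    infer_instance
  have h2 : ReflectsFiniteLimits (SheafOfModules.toSheaf.{u + 1} (OEtRing X)) :=
    ⟨fun J _ _ => reflectsLimitsOfShape_of_reflectsIsomorphisms⟩
  exact preservesFiniteLimits_of_reflects_of_preserves _ (SheafOfModules.toSheaf (OEtRing X))

end Groth.Agent.H32.EtPull
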