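import Groth.Agent.H32.EtPull
import Mathlib.Algebra.Category.ModuleCat.Sheaf.Quasicoherent
import Mathlib.Algebra.Category.ModuleCat.Sheaf.PullbackFree
/-! helper32: restriction along postcomposition with an etale representable morphism preserves quasi-coherence. -/
set_option autoImplicit false
set_option backward.isDefEq.respectTransparency false
universe u
open CategoryTheory CategoryTheory.Limits AlgebraicGeometry Opposite

namespace Groth.Agent.H32.EtPull

open AlgSp

variable {S : Scheme.{u}} {X Y : AlgSp.Sp S} {f : X ⟶ Y} (hr : AlgSp.Representable f)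
  (hf : AlgSp.IsEtaleMor f)

theorem coverPreserving_postcomp :
    CoverPreserving (etTop X) (etTop Y) (EtOver.postcomp f hf) where
  cover_preserve {E R} hR := by
    obtain ⟨P, hP, hle⟩ :=
      (Precoverage.mem_toGrothendieck_iff_of_isStableUnderComposition (J := etPre X)).1 hR
    have h1 := etPre_le_comap_postcomp hf _ hP
    rw [Precoverage.mem_comap_iff] at h1
    refine (etTop Y).superset_covering ?_ (Precoverage.generate_mem_toGrothendieck h1)
    rw [Sieve.generate_le_iff]
    rintro W _ ⟨h⟩
    exact Sieve.image_mem_functorPushforward _ _ (hle _ _ h)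

instance postcomp_isCocontinuous :
    (EtOver.postcomp f hf).IsCocontinuous (etTop X) (etTop Y) where
  cover_lift {E R} hR := by
    obtain ⟨P, hP, hle⟩ :=
      (Precoverage.mem_toGrothendieck_iff_of_isStableUnderComposition (J := etPre Y)).1 hR
    obtain ⟨ι, Z, g, rfl⟩ := P.exists_eq_ofArrows
    rw [ofArrows_mem_etPre_iff] at hP
    let Z' : ι → EtOver X := fun i => EtOver.mk ((yon S).map (g i).hom.left ≫ E.obj.hom)
      ((repWith_isMultiplicative (S := S) @Etale).comp_mem _ _
        ((repWith_yon_map_iff _ _).2 (EtOver.etale_left (g i))) E.property)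
    let g' : ∀ i, Z' i ⟶ E := fun i => EtOver.homMk (g i).hom.left rfl
    refine (etTop X).superset_covering ?_ (ofArrows_mem_etTop Z' g' hP)
    rw [Sieve.ofArrows, Sieve.generate_le_iff]
    rintro W _ ⟨i⟩
    change R ((EtOver.postcomp f hf).map (g' i))
    let e : (EtOver.postcomp f hf).obj (Z' i) ⟶ Z i := EtOver.homMk (𝟙 _) (by
      change (yon S).map (𝟙 _) ≫ (Z i).obj.hom = ((yon S).map (g i).hom.left ≫ E.obj.hom) ≫ f
      rw [CategoryTheory.Functor.map_id, Category.id_comp, Category.assoc]
      exact (EtOver.w (g i)).symm)
    have he : (EtOver.postcomp f hf).map (g' i) = e ≫ g i :=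
      EtOver.hom_ext _ _ (Category.id_comp _).symm
    rw [he]
    exact R.downward_closed (hle _ _ (Presieve.ofArrows.mk i)) e


instance postcomp_preservesOneHypercovers :
    Functor.PreservesOneHypercovers.{u + 1} (EtOver.postcomp f hf) (etTop X) (etTop Y) :=
  Functor.PreservesOneHypercovers.of_coverPreserving (coverPreserving_postcomp hf)

instance overPost_postcomp_isContinuous (E : EtOver X) :
    (Over.post (X := E) (EtOver.postcomp f hf)).IsContinuous ((etTop X).over E)
      ((etTop Y).over _) :=
  inferInstance

instance isIso_postRingHom : IsIso (postRingHom hf) := by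
  refine ⟨ObjectProperty.homMk { app := fun E => 𝟙 _, naturality := fun E E' g => rfl }, ?_, ?_⟩
  · ext E : 3
    exact Category.id_comp _
  · ext E : 3
    exact Category.id_comp _


theorem isIso_unitToPushforwardObjUnit :
    IsIso (SheafOfModules.unitToPushforwardObjUnit (postRingHom hf)) := by
  have h1 : IsIso ((SheafOfModules.toSheaf _).map
      (SheafOfModules.unitToPushforwardObjUnit (postRingHom hf))) := by
    have h2 : IsIso ((sheafToPresheaf _ _).map ((SheafOfModules.toSheaf _).map
        (SheafOfModules.unitToPushforwardObjUnit (postRingHom hf)))) := by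
      apply +allowSynthFailures NatIso.isIso_of_isIso_app
      intro E
      rw [ConcreteCategory.isIso_iff_bijective]
      exact Function.bijective_id
    exact isIso_of_reflects_iso _ (sheafToPresheaf _ _)
  exact isIso_of_reflects_iso _ (SheafOfModules.toSheaf _)

include hr in
theorem isQuasicoherent_pushforward_postRingHom (M : ModEt Y) (hM : M.IsQuasicoherent) :
    ((SheafOfModules.pushforward.{u + 1} (postRingHom hf)).obj M).IsQuasicoherent := by
  have := isIso_unitToPushforwardObjUnit hf
  have : (EtOver.postcomp f hf).IsLeftAdjoint := (postBcAdj hr hf).isLeftAdjoint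
  exact SheafOfModules.isQuasicoherent_pushforward_of_isLeftAdjoint (EtOver.postcomp f hf)
    (postRingHom hf) (asIso (SheafOfModules.unitToPushforwardObjUnit (postRingHom hf))).symm

end Groth.Agent.H32.EtPull
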