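import Groth.Agent.H32.EtSH7

/-!
# Strict henselization: chart form (helper32)
-/

set_option autoImplicit false
set_option backward.isDefEq.respectTransparency false
universe u
open CategoryTheory CategoryTheory.Limits AlgebraicGeometry Opposite

namespace Groth.Agent.H32.EtSH

open AlgSp Groth.Agent.H32.EtStalk Groth.Agent.H32.EtLoc

variable {S : Scheme.{u}} {X : AlgSp.Sp S}

/-- the lifted Zariski local rings of a scheme are local. -/
theorem isLocalRing_ulift_stalk (U : Scheme.{u}) (x : ↥U) :
    IsLocalRing (ULift.{u + 1} ↑(U.presheaf.stalk x)) :=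
  (ULift.ringEquiv.symm : ↑(U.presheaf.stalk x) ≃+* ULift.{u + 1} _).isLocalRing

/-- chart form: the etale local ring at a separably closed point `p` is a strict henselization of
the local ring of any etale chart at any point over `p`. -/
theorem exists_sh_of_chart (hX : IsAlgSpace X) (p : FieldPt X) [IsSepClosed p.K] {U : Over S}
    (a : (yon S).obj U ⟶ X) (ha : RepWith @Etale a) (u : ↥U.left)
    (hu : Points.ofPt a u = Points.mk p)
    (hlocR : IsLocalRing (ULift.{u + 1} ↑(U.left.presheaf.stalk u)))
    (hlocS : IsLocalRing ↑(OEtStalk p)) :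
    ∃ (f : ULift.{u + 1} ↑(U.left.presheaf.stalk u) →+* ↑(OEtStalk p)) (hlh : IsLocalHom f),
      @Hensel.IsStrictHenselization _ ↑(OEtStalk p) _ hlocR _ hlocS f.toAlgebra hlh := by
  obtain ⟨l, hl⟩ := exists_liftsTo_of_ofPt_eq p (EtOver.mk a ha) u hu
  subst hl
  exact exists_isStrictHenselization hX p (EtOver.mk a ha) l hlocR hlocS

/-- every separably closed point of an algebraic space lifts to some etale chart. -/
theorem exists_chart (hX : IsAlgSpace X) (p : FieldPt X) [IsSepClosed p.K] :
    ∃ (U : Over S) (a : (yon S).obj U ⟶ X) (u : ↥U.left), RepWith @Etale a ∧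
      Points.ofPt a u = Points.mk p := by
  obtain ⟨N⟩ := (isCofiltered_etNbhd hX p).nonempty
  exact ⟨N.1.obj.left, N.1.obj.hom, N.2.1.left (default : ↥(Spec (CommRingCat.of p.K))),
    N.1.property, ofPt_liftsTo p N.2 _⟩

end Groth.Agent.H32.EtSH
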