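import Groth.Agent.H32.EtSH9
import Groth.Agent.H32.EtSH8

/-!
# The universe lift of helper47's strict henselization is a strict henselization; comparison with
the etale local ring (helper32)
-/

set_option autoImplicit false
universe u v
open CategoryTheory CategoryTheory.Limits

namespace Groth.Agent.H32.EtSH

open Groth.Agent.H47.HensK IsLocalRing Polynomial

theorem mem_maximalIdeal_equiv_iff {A : Type u} {B : Type v} [CommRing A] [CommRing B]
    [IsLocalRing A] [IsLocalRing B] (e : A ≃+* B) (a : A) :
    e a ∈ maximalIdeal B ↔ a ∈ maximalIdeal A := by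
  rw [mem_maximalIdeal, mem_maximalIdeal, mem_nonunits_iff, mem_nonunits_iff]
  apply not_congr
  constructor
  · intro h
    have h2 := h.map e.symm.toRingHom
    have h3 : e.symm.toRingHom (e a) = a := e.symm_apply_apply a
    rwa [h3] at h2
  · intro h
    exact h.map e.toRingHom

/-- henselian local rings are stable under ring isomorphisms (across universes). -/
theorem henselianLocalRing_of_ringEquiv {A : Type u} {B : Type v} [CommRing A] [CommRing B]
    [hA : HenselianLocalRing A] (e : A ≃+* B) : HenselianLocalRing B :=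
  { toIsLocalRing := e.isLocalRing
    is_henselian := by
      have hB : IsLocalRing B := e.isLocalRing
      intro f hf a₀ h0 h1
      have e0 : (f.map e.symm.toRingHom).eval (e.symm a₀) = e.symm (f.eval a₀) := by
        rw [Polynomial.eval_map]
        exact eval₂_at_apply e.symm.toRingHom a₀
      have e1 : (f.map e.symm.toRingHom).derivative.eval (e.symm a₀) =
          e.symm (f.derivative.eval a₀) := by
        rw [derivative_map, Polynomial.eval_map]
        exact eval₂_at_apply e.symm.toRingHom a₀
      obtain ⟨a, ha, ha'⟩ := HenselianLocalRing.is_henselian (f.map e.symm.toRingHom) (hf.map _)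
        (e.symm a₀) (by rw [e0]; exact (mem_maximalIdeal_equiv_iff e.symm _).2 h0)
        (by rw [e1]; exact h1.map e.symm.toRingHom)
      refine ⟨e a, ?_, ?_⟩
      · have h2 : (f.map e.symm.toRingHom).eval a = 0 := ha
        rw [Polynomial.eval_map] at h2
        have h3 : f.eval₂ e.symm.toRingHom (e.symm (e a)) = 0 := by
          rw [e.symm_apply_apply]; exact h2
        have h4 : f.eval₂ e.symm.toRingHom (e.symm (e a)) = e.symm (f.eval (e a)) :=
          eval₂_at_apply e.symm.toRingHom (e a)
        rw [h4] at h3
        have h5 : f.eval (e a) = 0 := by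
          have := congrArg e h3
          rwa [e.apply_symm_apply, map_zero] at this
        exact h5
      · have h2 : e (a - e.symm a₀) ∈ maximalIdeal B := (mem_maximalIdeal_equiv_iff e _).2 ha'
        rwa [map_sub, e.apply_symm_apply] at h2 }

section Lift

variable (R : Type u) [CommRing R] [IsLocalRing R]

/-- the structure map of the lifted strict henselization. -/
noncomputable def liftMap : ULift.{v} R →+* ULift.{v} (Hsh R) :=
  (ULift.ringEquiv.symm : Hsh R ≃+* ULift.{v} (Hsh R)).toRingHom.comp
    ((algebraMap R (Hsh R)).comp (ULift.ringEquiv : ULift.{v} R ≃+* R).toRingHom)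

theorem liftMap_apply (r : ULift.{v} R) :
    liftMap.{u, v} R r = ULift.up (algebraMap R (Hsh R) r.down) := rfl

theorem isLocalHom_liftMap : IsLocalHom (liftMap.{u, v} R) where
  map_nonunit r hr := by
    have h1 : IsUnit (algebraMap R (Hsh R) r.down) :=
      hr.map (ULift.ringEquiv : ULift.{v} (Hsh R) ≃+* Hsh R).toRingHom
    have h2 : IsUnit r.down := IsLocalHom.map_nonunit (f := algebraMap R (Hsh R)) _ h1
    exact h2.map (ULift.ringEquiv.symm : R ≃+* ULift.{v} R).toRingHom

/-- the universe lift of the strict henselization is a strict henselization of the lift. -/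
theorem isStrictHenselization_ulift_Hsh (hR' : IsLocalRing (ULift.{v} R))
    (hS' : IsLocalRing (ULift.{v} (Hsh R))) :
    ∃ hlh : IsLocalHom (liftMap.{u, v} R),
      @Hensel.IsStrictHenselization (ULift.{v} R) (ULift.{v} (Hsh R)) _ hR' _ hS'
        (liftMap.{u, v} R).toAlgebra hlh := by
  have hlh := isLocalHom_liftMap.{u, v} R
  refine ⟨hlh, ?_⟩
  let eR : ULift.{v} R ≃+* R := ULift.ringEquiv
  let eS : ULift.{v} (Hsh R) ≃+* Hsh R := ULift.ringEquiv
  let alg : Algebra (ULift.{v} R) (ULift.{v} (Hsh R)) := (liftMap.{u, v} R).toAlgebra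
  have hlh' : IsLocalHom (algebraMap (ULift.{v} R) (ULift.{v} (Hsh R))) := hlh
  have hsc : IsSepClosure (ResidueField R) (ResidueField (Hsh R)) := isSepClosure_H R (Ksep R)
  have hsepc : IsSepClosed (ResidueField (ULift.{v} (Hsh R))) :=
    have := hsc.sep_closed
    isSepClosed_of_ringEquiv (ResidueField.mapEquiv eS.symm)
  have hsep : Algebra.IsSeparable (ResidueField (ULift.{v} R)) (ResidueField (ULift.{v} (Hsh R))) := by
    have := hsc.separable
    refine Algebra.IsSeparable.of_equiv_equiv (ResidueField.mapEquiv eR.symm)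
      (ResidueField.mapEquiv eS.symm) ?_
    apply RingHom.ext
    intro x
    obtain ⟨r, rfl⟩ := residue_surjective x
    rfl
  refine @Hensel.IsStrictHenselization.mk (ULift.{v} R) (ULift.{v} (Hsh R)) _ hR' _ hS' alg hlh'
    (henselianLocalRing_of_ringEquiv eS.symm) ⟨hsepc, hsep⟩ ?_
  intro T _ _ f' _ τ hτ
  have hf₀ : IsLocalHom (f'.comp eR.symm.toRingHom) := by
    constructor
    intro a ha
    have h1 : IsUnit (eR.symm a) := IsLocalHom.map_nonunit (f := f') _ ha
    exact h1.map eR.toRingHom
  let τ₀ : ResidueField (Hsh R) →+* ResidueField T :=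
    τ.comp (ResidueField.mapEquiv eS.symm).toRingHom
  have hτ₀ : τ₀.comp (ResidueField.map (algebraMap R (Hsh R))) =
      ResidueField.map (f'.comp eR.symm.toRingHom) := by
    apply RingHom.ext
    intro x
    obtain ⟨r, rfl⟩ := residue_surjective x
    have h1 := RingHom.congr_fun hτ (residue _ (eR.symm r))
    rw [RingHom.comp_apply, ResidueField.map_residue, ResidueField.map_residue] at h1
    rw [RingHom.comp_apply, ResidueField.map_residue, ResidueField.map_residue]
    exact h1
  obtain ⟨g, ⟨hg1, hg2⟩, hg3⟩ :=
    existsUnique_descBig R (Ksep R) (f'.comp eR.symm.toRingHom) τ₀ hτ₀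
  refine ⟨g.comp eS.toRingHom, ⟨?_, ?_⟩, ?_⟩
  · apply RingHom.ext
    intro r
    exact RingHom.congr_fun hg1 r.down
  · intro x
    exact hg2 x.down
  · rintro g' ⟨hg'1, hg'2⟩
    have h1 : g'.comp eS.symm.toRingHom = g := by
      apply hg3
      refine ⟨?_, ?_⟩
      · apply RingHom.ext
        intro r
        exact RingHom.congr_fun hg'1 (eR.symm r)
      · intro x
        exact hg'2 (eS.symm x)
    rw [← h1]
    apply RingHom.ext
    intro x
    rfl

end Lift

end Groth.Agent.H32.EtSH
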