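import Groth.Agent.H32.EtSH10
import Groth.Agent.S2135
import Groth.Agent.S9238

/-!
# Minimal primes of the etale local ring and geometric branches of charts (helper32)
-/

set_option autoImplicit false
set_option backward.isDefEq.respectTransparency false
universe u v
open CategoryTheory CategoryTheory.Limits AlgebraicGeometry Opposite

namespace Groth.Agent.H32.EtSH

open AlgSp Groth.Agent.H32.EtStalk Groth.Agent.H32.EtLoc Groth.Agent.H47.HensK

theorem comap_equiv_mem_minimalPrimes' {A : Type u} {B : Type v} [CommRing A] [CommRing B]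
    (e : A ≃+* B) (q : Ideal B) (hq : q ∈ minimalPrimes B) :
    q.comap e.toRingHom ∈ minimalPrimes A := by
  haveI := hq.1.1
  refine ⟨⟨Ideal.comap_isPrime _ _, bot_le⟩, fun P hP hle => ?_⟩
  haveI := hP.1
  have h1 : P.comap e.symm.toRingHom ≤ q := by
    intro x hx
    have h2 : e.symm x ∈ q.comap e.toRingHom := hle hx
    have h2' : e (e.symm x) ∈ q := h2
    rwa [e.apply_symm_apply] at h2'
  have h3 : q ≤ P.comap e.symm.toRingHom := hq.2 ⟨Ideal.comap_isPrime _ _, bot_le⟩ h1
  intro x hx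
  have h4 : e x ∈ P.comap e.symm.toRingHom := h3 hx
  have h4' : e.symm (e x) ∈ P := h4
  rwa [e.symm_apply_apply] at h4'

theorem minimalPrimes_eq_image_comap {A : Type u} {B : Type v} [CommRing A] [CommRing B]
    (e : A ≃+* B) : minimalPrimes A = (Ideal.comap e.toRingHom) '' (minimalPrimes B) := by
  ext P
  constructor
  · intro hP
    refine ⟨P.comap e.symm.toRingHom, ?_, ?_⟩
    · exact comap_equiv_mem_minimalPrimes' e.symm P hP
    · ext x
      change e.symm (e x) ∈ P ↔ x ∈ P
      rw [e.symm_apply_apply]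
  · rintro ⟨Q, hQ, rfl⟩
    exact comap_equiv_mem_minimalPrimes' e Q hQ

theorem encard_minimalPrimes_of_ringEquiv {A : Type u} {B : Type v} [CommRing A] [CommRing B]
    (e : A ≃+* B) : (minimalPrimes A).encard = (minimalPrimes B).encard := by
  rw [minimalPrimes_eq_image_comap e]
  apply Function.Injective.encard_image
  intro P Q hPQ
  ext x
  have h1 : e.symm x ∈ P.comap e.toRingHom ↔ e.symm x ∈ Q.comap e.toRingHom := by rw [hPQ]
  change e (e.symm x) ∈ P ↔ e (e.symm x) ∈ Q at h1
  rwa [e.apply_symm_apply] at h1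

theorem hasUniqueMinimalPrime_iff_encard (A : Type u) [CommRing A] :
    CAlgX.HasUniqueMinimalPrime A ↔ (minimalPrimes A).encard = 1 := by
  rw [Set.encard_eq_one]
  constructor
  · rintro ⟨P, hP, huniq⟩
    refine ⟨P, ?_⟩
    ext Q
    constructor
    · intro hQ
      exact huniq Q hQ
    · rintro rfl
      exact hP
  · rintro ⟨P, hP⟩
    refine ⟨P, ?_, ?_⟩
    · change P ∈ minimalPrimes A
      rw [hP]; rfl
    · intro Q hQ
      have : Q ∈ minimalPrimes A := hQ
      rw [hP] at this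
      exact this

variable {S : Scheme.{u}} {X : AlgSp.Sp S}

/-- the etale local ring is isomorphic, as a ring, to helper47's strict henselization of the local
ring of any chart through the point. -/
theorem exists_ringEquiv_Hsh (hX : IsAlgSpace X) (p : FieldPt X) [IsSepClosed p.K] {U : Over S}
    (a : (yon S).obj U ⟶ X) (ha : RepWith @Etale a) (u : ↥U.left)
    (hu : Points.ofPt a u = Points.mk p) :
    Nonempty (↑(OEtStalk p) ≃+* Hsh ↑(U.left.presheaf.stalk u)) := by
  have hlocS := isLocalRing_stalk hX p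
  have hlocR := isLocalRing_ulift_stalk U.left u
  have hS' : IsLocalRing (ULift.{u + 1} (Hsh ↑(U.left.presheaf.stalk u))) :=
    (ULift.ringEquiv.symm : Hsh ↑(U.left.presheaf.stalk u) ≃+* ULift.{u + 1} _).isLocalRing
  obtain ⟨f₁, hlh₁, hSH₁⟩ := exists_sh_of_chart hX p a ha u hu hlocR hlocS
  obtain ⟨hlh₂, hSH₂⟩ := isStrictHenselization_ulift_Hsh.{u, u + 1} ↑(U.left.presheaf.stalk u)
    hlocR hS'
  letI alg₂ : Algebra (ULift.{u + 1} ↑(U.left.presheaf.stalk u))
      (ULift.{u + 1} (Hsh ↑(U.left.presheaf.stalk u))) :=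
    (liftMap.{u, u + 1} ↑(U.left.presheaf.stalk u)).toAlgebra
  letI alg₁ : Algebra (ULift.{u + 1} ↑(U.left.presheaf.stalk u)) ↑(OEtStalk p) := f₁.toAlgebra
  obtain ⟨e⟩ := @nonempty_algEquiv_of_isStrictHenselization
    (ULift.{u + 1} ↑(U.left.presheaf.stalk u)) _ hlocR
    (ULift.{u + 1} (Hsh ↑(U.left.presheaf.stalk u))) _ hS'
    alg₂ hlh₂ hSH₂
    ↑(OEtStalk p) _ hlocS alg₁ hlh₁ hSH₁
  exact ⟨e.toRingEquiv.symm.trans
    (ULift.ringEquiv : ULift.{u + 1} (Hsh ↑(U.left.presheaf.stalk u)) ≃+* _)⟩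

theorem hasUniqueMinimalPrime_stalk_iff (hX : IsAlgSpace X) (p : FieldPt X) [IsSepClosed p.K]
    {U : Over S} (a : (yon S).obj U ⟶ X) (ha : RepWith @Etale a) (u : ↥U.left)
    (hu : Points.ofPt a u = Points.mk p) :
    CAlgX.HasUniqueMinimalPrime ↑(OEtStalk p) ↔
      CAlg2.IsGeomUnibranch ↑(U.left.presheaf.stalk u) := by
  obtain ⟨e⟩ := exists_ringEquiv_Hsh hX p a ha u hu
  rw [Groth.Agent.S2135.result (A := ↑(U.left.presheaf.stalk u))
    (Ash := Hsh ↑(U.left.presheaf.stalk u)), hasUniqueMinimalPrime_iff_encard,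
    hasUniqueMinimalPrime_iff_encard, encard_minimalPrimes_of_ringEquiv e]

theorem encard_minimalPrimes_stalk (hX : IsAlgSpace X) (p : FieldPt X) [IsSepClosed p.K]
    {U : Over S} (a : (yon S).obj U ⟶ X) (ha : RepWith @Etale a) (u : ↥U.left)
    (hu : Points.ofPt a u = Points.mk p) :
    (minimalPrimes ↑(OEtStalk p)).encard = Brnch.numGeomBranchesAt U.left u := by
  obtain ⟨e⟩ := exists_ringEquiv_Hsh hX p a ha u hu
  rw [encard_minimalPrimes_of_ringEquiv e]
  exact Groth.Agent.S9238.result ↑(U.left.presheaf.stalk u) (Hsh ↑(U.left.presheaf.stalk u))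

end Groth.Agent.H32.EtSH
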