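import Groth.Agent.H32.EtSH11
import Groth.Agent.H70.BranchCount
import Groth.Agent.H52.Topology

/-!
# Irreducible components through a point and minimal primes of the local ring; charts over charts
(helper32)
-/

set_option autoImplicit false
set_option backward.isDefEq.respectTransparency false
universe u v
open CategoryTheory CategoryTheory.Limits AlgebraicGeometry Opposite

namespace Groth.Agent.H32.EtSH

open AlgSp Groth.Agent.H32.EtStalk Groth.Agent.H32.EtLoc

/-- the number of irreducible components of a scheme through a point is the number of minimal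
primes of the local ring. -/
theorem encard_irreducibleComponents_eq_minimalPrimes_stalk (U : Scheme.{u}) (x : ↥U) :
    {Z : Set ↥U | Z ∈ irreducibleComponents ↥U ∧ x ∈ Z}.encard =
      (minimalPrimes ↑(U.presheaf.stalk x)).encard := by
  obtain ⟨W, hW, hxW, -⟩ := exists_isAffineOpen_mem_and_subset (x := x) (U := ⊤) trivial
  rw [Groth.Agent.H70.BranchTop.encard_scheme x hW hxW]
  let y : ↥W := ⟨x, hxW⟩
  letI alg : Algebra Γ(U, W) ↑(U.presheaf.stalk x) :=
    TopCat.Presheaf.algebra_section_stalk U.presheaf y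
  have hloc : IsLocalization.AtPrime ↑(U.presheaf.stalk x) (hW.primeIdealOf y).asIdeal :=
    hW.isLocalization_stalk y
  have hmin : ∀ P' : Ideal ↑(U.presheaf.stalk x),
      P' ∈ minimalPrimes ↑(U.presheaf.stalk x) ↔ P'.under Γ(U, W) ∈ minimalPrimes Γ(U, W) := by
    intro P'
    have h1 := IsLocalization.minimalPrimes_map (hW.primeIdealOf y).asIdeal.primeCompl
      ↑(U.presheaf.stalk x) (⊥ : Ideal Γ(U, W))
    rw [Ideal.map_bot] at h1
    have h2 : P' ∈ (⊥ : Ideal ↑(U.presheaf.stalk x)).minimalPrimes ↔
        P' ∈ Ideal.under Γ(U, W) ⁻¹' (⊥ : Ideal Γ(U, W)).minimalPrimes := by rw [h1]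
    exact h2
  have hset : {P : Ideal Γ(U, W) | P ∈ minimalPrimes Γ(U, W) ∧
      P ≤ (hW.primeIdealOf y).asIdeal} =
      (Ideal.under Γ(U, W)) '' (minimalPrimes ↑(U.presheaf.stalk x)) := by
    ext P
    constructor
    · rintro ⟨hP, hle⟩
      have hPp : P.IsPrime := hP.1.1
      have hdisj : Disjoint ((hW.primeIdealOf y).asIdeal.primeCompl : Set Γ(U, W)) (P : Set _) := by
        rw [Set.disjoint_left]
        intro a ha haP
        exact ha (hle haP)
      have hunder : (P.map (algebraMap Γ(U, W) ↑(U.presheaf.stalk x))).under Γ(U, W) = P :=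
        IsLocalization.under_map_of_isPrime_disjoint _ _ hPp hdisj
      refine ⟨P.map (algebraMap Γ(U, W) ↑(U.presheaf.stalk x)), ?_, hunder⟩
      rw [hmin, hunder]
      exact hP
    · rintro ⟨P', hP', rfl⟩
      refine ⟨(hmin P').1 hP', ?_⟩
      have hloc' : IsLocalRing ↑(U.presheaf.stalk x) := inferInstance
      have h1 : P' ≤ IsLocalRing.maximalIdeal ↑(U.presheaf.stalk x) :=
        IsLocalRing.le_maximalIdeal hP'.1.1.ne_top
      have h2 := IsLocalization.AtPrime.under_maximalIdeal ↑(U.presheaf.stalk x)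
        (hW.primeIdealOf y).asIdeal
      rw [← h2]
      exact Ideal.comap_mono h1
  rw [hset]
  apply Set.InjOn.encard_image
  intro P₁ _ P₂ _ h12
  have e1 := IsLocalization.map_under (hW.primeIdealOf y).asIdeal.primeCompl
    ↑(U.presheaf.stalk x) P₁
  have e2 := IsLocalization.map_under (hW.primeIdealOf y).asIdeal.primeCompl
    ↑(U.presheaf.stalk x) P₂
  rw [← e1, ← e2]
  exact congrArg (Ideal.map (algebraMap Γ(U, W) ↑(U.presheaf.stalk x))) h12

variable {S : Scheme.{u}} {X : AlgSp.Sp S}

/-- an etale scheme over a chart is a chart. -/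
theorem chart_comp {U U' : Over S} (a : (yon S).obj U ⟶ X) (ha : RepWith @Etale a)
    (g : U' ⟶ U) (hg : Etale g.left) : RepWith @Etale ((yon S).map g ≫ a) :=
  (repWith_isMultiplicative (S := S) @Etale).comp_mem _ _ ((repWith_yon_map_iff _ _).2 hg) ha

/-- every point of a chart is the image of a lift of a geometric point. -/
theorem exists_geometric_over {U : Over S} (a : (yon S).obj U ⟶ X) (ha : RepWith @Etale a)
    (u : ↥U.left) : ∃ p : FieldPt X, p.IsGeometric ∧ Points.mk p = Points.ofPt a u := by
  obtain ⟨p, hp, l, hl⟩ := exists_geometric_lift (EtOver.mk a ha) u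
  refine ⟨p, hp, ?_⟩
  have h1 := ofPt_liftsTo p l (default : ↥(Spec (CommRingCat.of p.K)))
  rw [hl] at h1
  exact h1.symm

end Groth.Agent.H32.EtSH
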