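import Groth.Agent.H32.EtLoc5
import Groth.Agent.H32.EtSH1

/-!
# Good etale neighbourhoods: affine neighbourhoods over a fixed affine neighbourhood (helper32)
-/

set_option autoImplicit false
set_option backward.isDefEq.respectTransparency false
universe u
open CategoryTheory CategoryTheory.Limits AlgebraicGeometry Opposite

namespace Groth.Agent.H32.EtSH

open AlgSp Groth.Agent.H32.EtStalk Groth.Agent.H32.EtLoc

variable {S : Scheme.{u}} {X : AlgSp.Sp S}

section Basic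

variable (p : FieldPt X)

/-- the germ map of the structure sheaf at an etale neighbourhood. -/
noncomputable abbrev germ (N : EtNbhd p) : ↑((OEt X).obj.obj (op N.1)) →+* ↑(OEtStalk p) :=
  (stalkEtι p (OEt X) N).hom

variable {p} in
/-- restriction of functions along a morphism of etale neighbourhoods. -/
noncomputable abbrev res {N N' : EtNbhd p} (h : N ⟶ N') :
    ↑((OEt X).obj.obj (op N'.1)) →+* ↑((OEt X).obj.obj (op N.1)) :=
  ((OEt X).obj.map h.1.op).hom

theorem germ_res' {N N' : EtNbhd p} (h : N ⟶ N') (s : ↑((OEt X).obj.obj (op N'.1))) :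
    germ p N (res h s) = germ p N' s := germ_res p h s

theorem germ_comp_res {N N' : EtNbhd p} (h : N ⟶ N') :
    (germ p N).comp (res h) = germ p N' := RingHom.ext (germ_res' p h)

variable {p} in
theorem res_comp {N N' N'' : EtNbhd p} (h : N ⟶ N') (h' : N' ⟶ N'') :
    res (h ≫ h') = (res h).comp (res h') := by
  apply RingHom.ext
  intro s
  change ((OEt X).obj.map (h ≫ h').1.op).hom s = _
  have h1 : (h ≫ h').1.op = h'.1.op ≫ h.1.op := rfl
  rw [h1, Functor.map_comp]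
  rfl

variable {p} in
theorem res_comp_apply {N N' N'' : EtNbhd p} (h : N ⟶ N') (h' : N' ⟶ N'')
    (s : ↑((OEt X).obj.obj (op N''.1))) : res (h ≫ h') s = res h (res h' s) := by
  rw [res_comp]; rfl

variable {p} in
theorem res_id (N : EtNbhd p) : res (𝟙 N) = RingHom.id _ := by
  apply RingHom.ext
  intro s
  change ((OEt X).obj.map (𝟙 N : N ⟶ N).1.op).hom s = s
  have h1 : (𝟙 N : N ⟶ N).1.op = 𝟙 (op N.1) := rfl
  rw [h1, CategoryTheory.Functor.map_id]
  rfl

end Basic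

section Refine

variable (hX : IsAlgSpace X) (p : FieldPt X) [IsSepClosed p.K]

include hX in
/-- equal germs agree on a common refinement. -/
theorem exists_res_eq (N₁ N₂ : EtNbhd p) (s₁ : ↑((OEt X).obj.obj (op N₁.1)))
    (s₂ : ↑((OEt X).obj.obj (op N₂.1))) (h : germ p N₁ s₁ = germ p N₂ s₂) :
    ∃ (N : EtNbhd p) (a₁ : N ⟶ N₁) (a₂ : N ⟶ N₂), res a₁ s₁ = res a₂ s₂ := by
  have hcof := isCofiltered_etNbhd hX p
  have := hasColimits_commRing.{u}
  have := preservesFilteredColimits_forget_commRing.{u}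
  let N' := IsCofiltered.min N₁ N₂
  let b₁ : N' ⟶ N₁ := IsCofiltered.minToLeft N₁ N₂
  let b₂ : N' ⟶ N₂ := IsCofiltered.minToRight N₁ N₂
  have h1 : germ p N' (res b₁ s₁) = germ p N' (res b₂ s₂) := by
    rw [germ_res', germ_res', h]
  obtain ⟨V, f, l', hl', hf⟩ :=
    ((point hX p).toPresheafFiber_eq_iff' (P := (OEt X).obj) N'.1 N'.2 (res b₁ s₁) (res b₂ s₂)).1 h1
  let N : EtNbhd p := ⟨V, l'⟩
  let c : N ⟶ N' := ⟨f, hl'⟩
  refine ⟨N, c ≫ b₁, c ≫ b₂, ?_⟩
  rw [res_comp_apply, res_comp_apply]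
  exact hf

omit [IsSepClosed p.K] in
/-- affine refinements exist. -/
theorem exists_affine (N : EtNbhd p) :
    ∃ (N' : EtNbhd p) (_ : N' ⟶ N), IsAffine N'.1.obj.left.left := by
  obtain ⟨U, hU, hxU, -⟩ := exists_isAffineOpen_mem_and_subset
    (x := N.2.1.left (default : ↥(Spec (CommRingCat.of p.K)))) (U := ⊤) trivial
  have hrange : Set.range N.2.1.left ⊆ Set.range hU.fromSpec := by
    rw [hU.range_fromSpec]
    rintro _ ⟨y, rfl⟩
    have hy : y = (default : ↥(Spec (CommRingCat.of p.K))) :=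
      Subsingleton.elim (α := ↥(Spec (CommRingCat.of p.K))) _ _
    rw [hy]
    exact hxU
  let m₀ := IsOpenImmersion.lift hU.fromSpec N.2.1.left hrange
  have hm₀ : m₀ ≫ hU.fromSpec = N.2.1.left := IsOpenImmersion.lift_fac _ _ _
  refine ⟨⟨nbhdObj N.1 hU.fromSpec, nbhdLift hU.fromSpec p N.2 m₀ hm₀⟩,
    ⟨nbhdHom N.1 hU.fromSpec, nbhdLift_map N.1 hU.fromSpec p N.2 m₀ hm₀⟩, ?_⟩
  change IsAffine (Spec _)
  infer_instance

end Refine

section Good

variable (hX : IsAlgSpace X) (p : FieldPt X) [IsSepClosed p.K] (NU : EtNbhd p)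

/-- an affine etale neighbourhood with a morphism to the fixed neighbourhood `NU`. -/
structure Good where
  N : EtNbhd p
  h : N ⟶ NU
  aff : IsAffine N.1.obj.left.left

include hX in
theorem exists_good_rep (a : ↑(OEtStalk p)) :
    ∃ (G : Good p NU) (s : ↑((OEt X).obj.obj (op G.N.1))), germ p G.N s = a := by
  have hcof := isCofiltered_etNbhd hX p
  obtain ⟨N, s, rfl⟩ := germ_jointly_surjective hX p a
  obtain ⟨N'', c, haff⟩ := exists_affine p (IsCofiltered.min N NU)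
  refine ⟨⟨N'', c ≫ IsCofiltered.minToRight N NU, haff⟩,
    res (c ≫ IsCofiltered.minToLeft N NU) s, ?_⟩
  exact germ_res' p _ s

include hX in
theorem exists_good_common (G₁ G₂ : Good p NU) (s₁ : ↑((OEt X).obj.obj (op G₁.N.1)))
    (s₂ : ↑((OEt X).obj.obj (op G₂.N.1))) (h : germ p G₁.N s₁ = germ p G₂.N s₂) :
    ∃ (G₃ : Good p NU) (k₁ : G₃.N ⟶ G₁.N) (k₂ : G₃.N ⟶ G₂.N),
      k₁ ≫ G₁.h = G₃.h ∧ k₂ ≫ G₂.h = G₃.h ∧ res k₁ s₁ = res k₂ s₂ := by
  have hcof := isCofiltered_etNbhd hX p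
  obtain ⟨N, a₁, a₂, ha⟩ := exists_res_eq hX p G₁.N G₂.N s₁ s₂ h
  let e := IsCofiltered.eqHom (a₁ ≫ G₁.h) (a₂ ≫ G₂.h)
  have he : e ≫ a₁ ≫ G₁.h = e ≫ a₂ ≫ G₂.h := IsCofiltered.eq_condition _ _
  obtain ⟨N'', c, haff⟩ := exists_affine p (IsCofiltered.eq (a₁ ≫ G₁.h) (a₂ ≫ G₂.h))
  refine ⟨⟨N'', c ≫ e ≫ a₁ ≫ G₁.h, haff⟩, (c ≫ e) ≫ a₁, (c ≫ e) ≫ a₂, ?_, ?_, ?_⟩
  · simp only [Category.assoc]
  · simp only [Category.assoc]
    rw [he]
  · rw [res_comp_apply ((c ≫ e)) a₁, res_comp_apply (c ≫ e) a₂, ha]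

end Good

end Groth.Agent.H32.EtSH
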