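import Groth.Agent.H32.EtSH2

/-!
# The universal property of the etale local ring relative to an affine neighbourhood (helper32)
-/

set_option autoImplicit false
set_option backward.isDefEq.respectTransparency false
universe u
open CategoryTheory CategoryTheory.Limits AlgebraicGeometry Opposite

namespace Groth.Agent.H32.EtSH

open AlgSp Groth.Agent.H32.EtStalk Groth.Agent.H32.EtLoc

variable {S : Scheme.{u}} {X : AlgSp.Sp S}

section Etale

variable (p : FieldPt X) (NU : EtNbhd p) [haffU : IsAffine NU.1.obj.left.left]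

include haffU in
theorem etale_res (G : Good p NU) : RingHom.Etale G.h.1.hom.left.left.appTop.hom := by
  have hj : Etale G.h.1.hom.left.left := EtOver.etale_left G.h.1
  have haff := G.aff
  exact (HasRingHomProperty.iff_of_isAffine (P := @Etale)).1 hj

end Etale

section Univ

variable (hX : IsAlgSpace X) (p : FieldPt X) [IsSepClosed p.K] (NU : EtNbhd p)
  [haffU : IsAffine NU.1.obj.left.left] [hloc : IsLocalRing ↑(OEtStalk p)]
  {T : Type (u + 1)} [CommRing T] [HenselianLocalRing T]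
  (fA : ↑((OEt X).obj.obj (op NU.1)) →+* T)
  (τ : IsLocalRing.ResidueField ↑(OEtStalk p) →+* IsLocalRing.ResidueField T)
  (hτ : ∀ x, τ (IsLocalRing.residue _ (germ p NU x)) = IsLocalRing.residue T (fA x))

include haffU hτ in
omit [IsSepClosed p.K] in
theorem exists_phi (G : Good p NU) :
    ∃ φ : ↑((OEt X).obj.obj (op G.N.1)) →+* T, φ.comp (res G.h) = fA ∧
      ∀ c, IsLocalRing.residue T (φ c) = τ (IsLocalRing.residue _ (germ p G.N c)) := by
  let upA : Γ(NU.1.obj.left.left, ⊤) →+* ↑((OEt X).obj.obj (op NU.1)) :=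
    (ULift.ringEquiv.symm : Γ(NU.1.obj.left.left, ⊤) ≃+* ULift.{u + 1} Γ(NU.1.obj.left.left, ⊤)).toRingHom
  let upC : Γ(G.N.1.obj.left.left, ⊤) →+* ↑((OEt X).obj.obj (op G.N.1)) :=
    (ULift.ringEquiv.symm : Γ(G.N.1.obj.left.left, ⊤) ≃+* ULift.{u + 1} Γ(G.N.1.obj.left.left, ⊤)).toRingHom
  let downC : ↑((OEt X).obj.obj (op G.N.1)) →+* Γ(G.N.1.obj.left.left, ⊤) :=
    (ULift.ringEquiv : ULift.{u + 1} Γ(G.N.1.obj.left.left, ⊤) ≃+* Γ(G.N.1.obj.left.left, ⊤)).toRingHom
  let algC : Algebra Γ(NU.1.obj.left.left, ⊤) Γ(G.N.1.obj.left.left, ⊤) :=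
    G.h.1.hom.left.left.appTop.hom.toAlgebra
  let algT : Algebra Γ(NU.1.obj.left.left, ⊤) T := (fA.comp upA).toAlgebra
  have het : Algebra.Etale Γ(NU.1.obj.left.left, ⊤) Γ(G.N.1.obj.left.left, ⊤) :=
    etale_res p NU G
  let ρ : Γ(G.N.1.obj.left.left, ⊤) →ₐ[Γ(NU.1.obj.left.left, ⊤)] IsLocalRing.ResidueField T :=
    { toRingHom := τ.comp ((IsLocalRing.residue _).comp ((germ p G.N).comp upC))
      commutes' := fun a => by
        change τ (IsLocalRing.residue _ (germ p G.N (res G.h (upA a)))) =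
          IsLocalRing.residue T (fA (upA a))
        rw [germ_res', hτ] }
  obtain ⟨φ, hφ⟩ := exists_lift_of_etale ρ
  refine ⟨φ.toRingHom.comp downC, ?_, ?_⟩
  · apply RingHom.ext
    intro a
    exact φ.commutes a.down
  · intro c
    exact hφ c.down

include haffU in
omit [IsSepClosed p.K] hloc in
theorem phi_unique (G : Good p NU) (φ φ' : ↑((OEt X).obj.obj (op G.N.1)) →+* T)
    (h1 : φ.comp (res G.h) = fA) (h1' : φ'.comp (res G.h) = fA)
    (h2 : ∀ c, IsLocalRing.residue T (φ c) = IsLocalRing.residue T (φ' c)) : φ = φ' := by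
  let upA : Γ(NU.1.obj.left.left, ⊤) →+* ↑((OEt X).obj.obj (op NU.1)) :=
    (ULift.ringEquiv.symm : Γ(NU.1.obj.left.left, ⊤) ≃+* ULift.{u + 1} Γ(NU.1.obj.left.left, ⊤)).toRingHom
  let upC : Γ(G.N.1.obj.left.left, ⊤) →+* ↑((OEt X).obj.obj (op G.N.1)) :=
    (ULift.ringEquiv.symm : Γ(G.N.1.obj.left.left, ⊤) ≃+* ULift.{u + 1} Γ(G.N.1.obj.left.left, ⊤)).toRingHom
  let algC : Algebra Γ(NU.1.obj.left.left, ⊤) Γ(G.N.1.obj.left.left, ⊤) :=
    G.h.1.hom.left.left.appTop.hom.toAlgebra
  let algT : Algebra Γ(NU.1.obj.left.left, ⊤) T := (fA.comp upA).toAlgebra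
  have het : Algebra.Etale Γ(NU.1.obj.left.left, ⊤) Γ(G.N.1.obj.left.left, ⊤) :=
    etale_res p NU G
  let ψ : Γ(G.N.1.obj.left.left, ⊤) →ₐ[Γ(NU.1.obj.left.left, ⊤)] T :=
    { toRingHom := φ.comp upC
      commutes' := fun a => RingHom.congr_fun h1 (upA a) }
  let ψ' : Γ(G.N.1.obj.left.left, ⊤) →ₐ[Γ(NU.1.obj.left.left, ⊤)] T :=
    { toRingHom := φ'.comp upC
      commutes' := fun a => RingHom.congr_fun h1' (upA a) }
  have h3 : ψ = ψ' := algHom_eq_of_residue_eq ψ ψ' (fun x => h2 (upC x))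
  apply RingHom.ext
  intro c
  exact AlgHom.congr_fun h3 c.down

/-- the chosen lift on a good neighbourhood. -/
noncomputable def phi (G : Good p NU) : ↑((OEt X).obj.obj (op G.N.1)) →+* T :=
  Classical.choose (exists_phi p NU fA τ hτ G)

omit [IsSepClosed p.K] in
theorem phi_comp (G : Good p NU) : (phi p NU fA τ hτ G).comp (res G.h) = fA :=
  (Classical.choose_spec (exists_phi p NU fA τ hτ G)).1

omit [IsSepClosed p.K] in
theorem phi_residue (G : Good p NU) (c : ↑((OEt X).obj.obj (op G.N.1))) :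
    IsLocalRing.residue T (phi p NU fA τ hτ G c) = τ (IsLocalRing.residue _ (germ p G.N c)) :=
  (Classical.choose_spec (exists_phi p NU fA τ hτ G)).2 c

omit [IsSepClosed p.K] in
theorem phi_res (G G' : Good p NU) (k : G'.N ⟶ G.N) (hk : k ≫ G.h = G'.h) :
    (phi p NU fA τ hτ G').comp (res k) = phi p NU fA τ hτ G := by
  apply phi_unique p NU fA G
  · rw [RingHom.comp_assoc, ← res_comp, hk, phi_comp]
  · exact phi_comp p NU fA τ hτ G
  · intro c
    rw [phi_residue]
    change IsLocalRing.residue T (phi p NU fA τ hτ G' (res k c)) = _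
    rw [phi_residue, germ_res']

/-- the induced map on the etale local ring, as a function. -/
noncomputable def descFun (a : ↑(OEtStalk p)) : T :=
  phi p NU fA τ hτ (Classical.choose (exists_good_rep hX p NU a))
    (Classical.choose (Classical.choose_spec (exists_good_rep hX p NU a)))

theorem descFun_eq (G : Good p NU) (s : ↑((OEt X).obj.obj (op G.N.1))) :
    descFun hX p NU fA τ hτ (germ p G.N s) = phi p NU fA τ hτ G s := by
  unfold descFun
  have h1 := Classical.choose_spec (Classical.choose_spec (exists_good_rep hX p NU (germ p G.N s)))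
  obtain ⟨G₃, k₁, k₂, hk₁, hk₂, hres⟩ := exists_good_common hX p NU _ G _ s h1
  rw [← phi_res p NU fA τ hτ _ G₃ k₁ hk₁, ← phi_res p NU fA τ hτ G G₃ k₂ hk₂]
  change phi p NU fA τ hτ G₃ (res k₁ _) = phi p NU fA τ hτ G₃ (res k₂ s)
  rw [hres]

include hX in
omit haffU hloc in
theorem exists_common_rep (a b : ↑(OEtStalk p)) :
    ∃ (G : Good p NU) (s t : ↑((OEt X).obj.obj (op G.N.1))),
      germ p G.N s = a ∧ germ p G.N t = b := by
  obtain ⟨G₁, s₁, rfl⟩ := exists_good_rep hX p NU a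
  obtain ⟨G₂, s₂, rfl⟩ := exists_good_rep hX p NU b
  obtain ⟨G₃, k₁, k₂, -, -, -⟩ := exists_good_common hX p NU G₁ G₂ 0 0
    (by rw [map_zero, map_zero])
  exact ⟨G₃, res k₁ s₁, res k₂ s₂, germ_res' p k₁ s₁, germ_res' p k₂ s₂⟩

/-- the induced ring homomorphism on the etale local ring. -/
noncomputable def desc : ↑(OEtStalk p) →+* T where
  toFun := descFun hX p NU fA τ hτ
  map_one' := by
    obtain ⟨G, s, hs⟩ := exists_good_rep hX p NU (1 : ↑(OEtStalk p))
    have h1 : germ p G.N 1 = (1 : ↑(OEtStalk p)) := map_one _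
    rw [← h1, descFun_eq, map_one]
  map_zero' := by
    obtain ⟨G, s, hs⟩ := exists_good_rep hX p NU (0 : ↑(OEtStalk p))
    have h1 : germ p G.N 0 = (0 : ↑(OEtStalk p)) := map_zero _
    rw [← h1, descFun_eq, map_zero]
  map_mul' a b := by
    obtain ⟨G, s, t, rfl, rfl⟩ := exists_common_rep hX p NU a b
    rw [← map_mul, descFun_eq, descFun_eq, descFun_eq, map_mul]
  map_add' a b := by
    obtain ⟨G, s, t, rfl, rfl⟩ := exists_common_rep hX p NU a b
    rw [← map_add, descFun_eq, descFun_eq, descFun_eq, map_add]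

theorem desc_germ (G : Good p NU) (s : ↑((OEt X).obj.obj (op G.N.1))) :
    desc hX p NU fA τ hτ (germ p G.N s) = phi p NU fA τ hτ G s :=
  descFun_eq hX p NU fA τ hτ G s

/-- the fixed neighbourhood itself is good. -/
noncomputable def goodSelf : Good p NU := ⟨NU, 𝟙 NU, haffU⟩

theorem desc_comp_germ : (desc hX p NU fA τ hτ).comp (germ p NU) = fA := by
  apply RingHom.ext
  intro a
  have h1 := phi_comp p NU fA τ hτ (goodSelf p NU)
  have h2 : res (goodSelf p NU).h = RingHom.id _ := res_id NU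
  rw [h2, RingHom.comp_id] at h1
  change desc hX p NU fA τ hτ (germ p (goodSelf p NU).N a) = fA a
  rw [desc_germ, h1]
  rfl

theorem desc_residue (x : ↑(OEtStalk p)) :
    IsLocalRing.residue T (desc hX p NU fA τ hτ x) = τ (IsLocalRing.residue _ x) := by
  obtain ⟨G, s, rfl⟩ := exists_good_rep hX p NU x
  rw [desc_germ, phi_residue]

theorem desc_unique (g : ↑(OEtStalk p) →+* T) (h1 : g.comp (germ p NU) = fA)
    (h2 : ∀ x, IsLocalRing.residue T (g x) = τ (IsLocalRing.residue _ x)) :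
    g = desc hX p NU fA τ hτ := by
  apply RingHom.ext
  intro x
  obtain ⟨G, s, rfl⟩ := exists_good_rep hX p NU x
  rw [desc_germ]
  have h3 : g.comp (germ p G.N) = phi p NU fA τ hτ G := by
    apply phi_unique p NU fA G
    · rw [RingHom.comp_assoc, germ_comp_res, h1]
    · exact phi_comp p NU fA τ hτ G
    · intro c
      rw [phi_residue]
      exact h2 _
  exact RingHom.congr_fun h3 s

end Univ

end Groth.Agent.H32.EtSH
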