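import Groth.Agent.H32.EtSH3
import Groth.Prelude.Def_Hensel

/-!
# The etale local ring as an algebra over the local ring of an affine chart (helper32)
-/

set_option autoImplicit false
set_option backward.isDefEq.respectTransparency false
universe u
open CategoryTheory CategoryTheory.Limits AlgebraicGeometry Opposite

namespace Groth.Agent.H32.EtSH

open AlgSp Groth.Agent.H32.EtStalk Groth.Agent.H32.EtLoc

variable {S : Scheme.{u}} {X : AlgSp.Sp S}

variable (hX : IsAlgSpace X) (p : FieldPt X) [IsSepClosed p.K] (NU : EtNbhd p)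
  (R₀ : Type u) [CommRing R₀] [Algebra Γ(NU.1.obj.left.left, ⊤) R₀]
  (q : Ideal Γ(NU.1.obj.left.left, ⊤)) [hqp : q.IsPrime] [hloc₀ : IsLocalization.AtPrime R₀ q]
  (hq : ∀ a, a ∈ q ↔ evalAt NU.2.1.left a = 0)

/-- functions on the chart as germs. -/
noncomputable def gA : Γ(NU.1.obj.left.left, ⊤) →+* ↑(OEtStalk p) :=
  (germ p NU).comp
    (ULift.ringEquiv.symm :
      Γ(NU.1.obj.left.left, ⊤) ≃+* ULift.{u + 1} Γ(NU.1.obj.left.left, ⊤)).toRingHom

omit [IsSepClosed p.K] in
theorem evK_gA (a : Γ(NU.1.obj.left.left, ⊤)) : evK p (gA p NU a) = evalAt NU.2.1.left a :=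
  evK_germ p NU _

include hX in
theorem isUnit_gA_iff (a : Γ(NU.1.obj.left.left, ⊤)) :
    IsUnit (gA p NU a) ↔ evalAt NU.2.1.left a ≠ 0 := by
  rw [← evK_gA]
  constructor
  · intro h
    exact (h.map (evK p)).ne_zero
  · intro h
    apply isUnit_of_ev_ne_zero hX p
    intro h0
    exact h ((evK_eq_zero_iff p _).2 h0)

include hX hq in
theorem isUnit_gA_of_mem (y : q.primeCompl) : IsUnit (gA p NU y) := by
  rw [isUnit_gA_iff hX]
  intro h0
  exact y.2 ((hq _).2 h0)

/-- the map from the local ring of the chart to the etale local ring. -/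
noncomputable def toStalk₀ : R₀ →+* ↑(OEtStalk p) :=
  IsLocalization.lift (M := q.primeCompl) (g := gA p NU) (isUnit_gA_of_mem hX p NU q hq)

theorem toStalk₀_algebraMap (a : Γ(NU.1.obj.left.left, ⊤)) :
    toStalk₀ hX p NU R₀ q hq (algebraMap _ R₀ a) = gA p NU a :=
  IsLocalization.lift_eq _ a

/-- the same map from the universe lift of the local ring. -/
noncomputable def toStalk : ULift.{u + 1} R₀ →+* ↑(OEtStalk p) :=
  (toStalk₀ hX p NU R₀ q hq).comp (ULift.ringEquiv : ULift.{u + 1} R₀ ≃+* R₀).toRingHom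

/-- the structure map from functions on the chart (lifted) to the lifted local ring. -/
noncomputable def sA : ↑((OEt X).obj.obj (op NU.1)) →+* ULift.{u + 1} R₀ :=
  ((ULift.ringEquiv.symm : R₀ ≃+* ULift.{u + 1} R₀).toRingHom.comp
    (algebraMap Γ(NU.1.obj.left.left, ⊤) R₀)).comp
    (ULift.ringEquiv : ULift.{u + 1} Γ(NU.1.obj.left.left, ⊤) ≃+* Γ(NU.1.obj.left.left, ⊤)).toRingHom

theorem toStalk_sA (x : ↑((OEt X).obj.obj (op NU.1))) :
    toStalk hX p NU R₀ q hq (sA p NU R₀ x) = germ p NU x :=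
  toStalk₀_algebraMap hX p NU R₀ q hq x.down

theorem toStalk_comp_sA : (toStalk hX p NU R₀ q hq).comp (sA p NU R₀) = germ p NU :=
  RingHom.ext (toStalk_sA hX p NU R₀ q hq)

include hloc₀ in
omit [IsSepClosed p.K] in
theorem ringHom_ext_sA {T : Type (u + 1)} [CommRing T] (h₁ h₂ : ULift.{u + 1} R₀ →+* T)
    (h : h₁.comp (sA p NU R₀) = h₂.comp (sA p NU R₀)) : h₁ = h₂ := by
  let e : R₀ →+* ULift.{u + 1} R₀ := (ULift.ringEquiv.symm : R₀ ≃+* ULift.{u + 1} R₀).toRingHom
  have h3 : h₁.comp e = h₂.comp e := by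
    apply IsLocalization.ringHom_ext q.primeCompl
    apply RingHom.ext
    intro a
    exact RingHom.congr_fun h (ULift.up a)
  apply RingHom.ext
  intro r
  exact RingHom.congr_fun h3 r.down

include hloc₀ in
omit [IsSepClosed p.K] in
theorem isLocalRing_R₀ : IsLocalRing R₀ := IsLocalization.AtPrime.isLocalRing R₀ q

include hloc₀ in
omit [IsSepClosed p.K] in
theorem isLocalRing_R : IsLocalRing (ULift.{u + 1} R₀) :=
  have := isLocalRing_R₀ p NU R₀ q
  (ULift.ringEquiv.symm : R₀ ≃+* ULift.{u + 1} R₀).isLocalRing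

include hloc₀ in
theorem isLocalHom_toStalk : IsLocalHom (toStalk hX p NU R₀ q hq) where
  map_nonunit r hr := by
    obtain ⟨a, s, has⟩ := IsLocalization.exists_mk'_eq q.primeCompl r.down
    have h1 : toStalk₀ hX p NU R₀ q hq r.down * gA p NU s = gA p NU a := by
      rw [← toStalk₀_algebraMap hX p NU R₀ q hq, ← toStalk₀_algebraMap hX p NU R₀ q hq, ← map_mul,
        ← has, IsLocalization.mk'_spec]
    have h2 : IsUnit (gA p NU a) := by
      rw [← h1]
      exact hr.mul (isUnit_gA_of_mem hX p NU q hq s)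
    have h3 : a ∈ q.primeCompl := by
      intro ha
      exact (isUnit_gA_iff hX p NU a).1 h2 ((hq a).1 ha)
    have h4 : IsUnit r.down := by
      rw [← has]
      exact (IsLocalization.AtPrime.isUnit_mk'_iff R₀ q a s).2 h3
    exact h4.map (ULift.ringEquiv.symm : R₀ ≃+* ULift.{u + 1} R₀).toRingHom

section Univ

variable [hlocS : IsLocalRing ↑(OEtStalk p)] [hlocR : IsLocalRing (ULift.{u + 1} R₀)]
  [hlh : IsLocalHom (toStalk hX p NU R₀ q hq)]
  [haffU : IsAffine NU.1.obj.left.left]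

include hloc₀ haffU in
theorem existsUnique_of_toStalk (T : Type (u + 1)) [CommRing T] [HenselianLocalRing T]
    (f : ULift.{u + 1} R₀ →+* T) [IsLocalHom f]
    (τ : IsLocalRing.ResidueField ↑(OEtStalk p) →+* IsLocalRing.ResidueField T)
    (hτ : τ.comp (IsLocalRing.ResidueField.map (toStalk hX p NU R₀ q hq)) =
      IsLocalRing.ResidueField.map f) :
    ∃! g : ↑(OEtStalk p) →+* T, g.comp (toStalk hX p NU R₀ q hq) = f ∧
      ∀ x, IsLocalRing.residue T (g x) = τ (IsLocalRing.residue _ x) := by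
  have hτA : ∀ x, τ (IsLocalRing.residue _ (germ p NU x)) =
      IsLocalRing.residue T ((f.comp (sA p NU R₀)) x) := by
    intro x
    have h1 := RingHom.congr_fun hτ (IsLocalRing.residue _ (sA p NU R₀ x))
    rw [RingHom.comp_apply, IsLocalRing.ResidueField.map_residue,
      IsLocalRing.ResidueField.map_residue, toStalk_sA] at h1
    exact h1
  refine ⟨desc hX p NU (f.comp (sA p NU R₀)) τ hτA, ⟨?_, ?_⟩, ?_⟩
  · apply ringHom_ext_sA p NU R₀ q
    rw [RingHom.comp_assoc, toStalk_comp_sA, desc_comp_germ]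
  · exact desc_residue hX p NU _ τ hτA
  · rintro g ⟨hg1, hg2⟩
    apply desc_unique hX p NU _ τ hτA g _ hg2
    rw [← toStalk_comp_sA hX p NU R₀ q hq, ← RingHom.comp_assoc, hg1]

end Univ

end Groth.Agent.H32.EtSH
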