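import Groth.Agent.H32.EtSH4
import Mathlib.RingTheory.Unramified.LocalRing
import Mathlib.RingTheory.LocalRing.ResidueField.Ideal
import Mathlib.FieldTheory.Separable

/-!
# The etale local ring is a strict henselization of the local ring of an affine chart (helper32)
-/

set_option autoImplicit false
set_option backward.isDefEq.respectTransparency false
universe u v w
open CategoryTheory CategoryTheory.Limits AlgebraicGeometry Opposite

namespace Groth.Agent.H32.EtSH

open Polynomial in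
theorem isSeparable_of_etale_point {A C : Type u} {L : Type v} {k : Type w} [CommRing A]
    [CommRing C] [Algebra A C] [Algebra.Etale A C] [Field L] [Field k] [Algebra k L]
    (q : Ideal A) [q.IsPrime] (f₀ : A →+* k) (hf : ∀ a, a ∈ q ↔ f₀ a = 0)
    (ψ : C →+* L) (hψ : ∀ a, ψ (algebraMap A C a) = algebraMap k L (f₀ a)) (c : C) :
    IsSeparable k (ψ c) := by
  have hq' : (RingHom.ker ψ).IsPrime := RingHom.ker_isPrime ψ
  have hlo : (RingHom.ker ψ).LiesOver q := by
    constructor
    ext a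
    rw [Ideal.mem_comap, RingHom.mem_ker, hψ, hf]
    exact (map_eq_zero_iff _ (algebraMap k L).injective).symm
  let _ := Localization.AtPrime.algebraOfLiesOver q (RingHom.ker ψ)
  have hsep : Algebra.IsSeparable q.ResidueField (RingHom.ker ψ).ResidueField := inferInstance
  let j₁ : q.ResidueField →+* k := Ideal.ResidueField.lift q f₀
    (fun a ha => (hf a).1 ha)
    (fun a ha => by
      rw [Submonoid.mem_comap]
      exact isUnit_iff_ne_zero.2 (fun h => ha ((hf a).2 h)))
  let ι : (RingHom.ker ψ).ResidueField →+* L := Ideal.ResidueField.lift (RingHom.ker ψ) ψ le_rfl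
    (fun a ha => by
      rw [Submonoid.mem_comap]
      exact isUnit_iff_ne_zero.2 ha)
  have hsq : ι.comp (algebraMap q.ResidueField (RingHom.ker ψ).ResidueField) =
      (algebraMap k L).comp j₁ := by
    apply Ideal.ResidueField.ringHom_ext
    apply RingHom.ext
    intro a
    have e1 : j₁ (algebraMap A q.ResidueField a) = f₀ a :=
      Ideal.ResidueField.lift_algebraMap _ _ _ _ a
    have e2 : ι (algebraMap C _ (algebraMap A C a)) = ψ (algebraMap A C a) :=
      Ideal.ResidueField.lift_algebraMap _ _ _ _ _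
    have e3 : algebraMap q.ResidueField (RingHom.ker ψ).ResidueField
        (algebraMap A q.ResidueField a) = algebraMap C _ (algebraMap A C a) := by
      rw [← IsScalarTower.algebraMap_apply, ← IsScalarTower.algebraMap_apply]
    change ι (algebraMap _ _ (algebraMap A q.ResidueField a)) =
      algebraMap k L (j₁ (algebraMap A q.ResidueField a))
    rw [e3, e2, e1, hψ]
  let y : (RingHom.ker ψ).ResidueField := algebraMap C _ c
  have hy : ι y = ψ c := Ideal.ResidueField.lift_algebraMap _ _ _ _ c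
  have hP : (minpoly q.ResidueField y).Separable := Algebra.IsSeparable.isSeparable _ y
  have hroot : aeval (ψ c) ((minpoly q.ResidueField y).map j₁) = 0 := by
    rw [aeval_def, eval₂_map, ← hsq, ← hy, ← hom_eval₂]
    have := minpoly.aeval q.ResidueField y
    rw [aeval_def] at this
    rw [this, map_zero]
  exact hP.map.of_dvd (minpoly.dvd _ _ hroot)


open AlgSp Groth.Agent.H32.EtStalk Groth.Agent.H32.EtLoc

variable {S : Scheme.{u}} {X : AlgSp.Sp S}

variable (hX : IsAlgSpace X) (p : FieldPt X) [IsSepClosed p.K] (NU : EtNbhd p)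
  (R₀ : Type u) [CommRing R₀] [Algebra Γ(NU.1.obj.left.left, ⊤) R₀]
  (q : Ideal Γ(NU.1.obj.left.left, ⊤)) [hqp : q.IsPrime] [hloc₀ : IsLocalization.AtPrime R₀ q]
  (hq : ∀ a, a ∈ q ↔ evalAt NU.2.1.left a = 0)
  [haffU : IsAffine NU.1.obj.left.left]

include hloc₀ in
omit [IsSepClosed p.K] haffU in
theorem residue_sA_eq_zero_iff [hlocR : IsLocalRing (ULift.{u + 1} R₀)]
    (a : Γ(NU.1.obj.left.left, ⊤)) :
    IsLocalRing.residue (ULift.{u + 1} R₀) (sA p NU R₀ (ULift.up a)) = 0 ↔ a ∈ q := by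
  rw [IsLocalRing.residue_eq_zero_iff, IsLocalRing.mem_maximalIdeal, mem_nonunits_iff]
  have h1 : IsUnit (sA p NU R₀ (ULift.up a)) ↔ IsUnit (algebraMap Γ(NU.1.obj.left.left, ⊤) R₀ a) := by
    constructor
    · intro h
      exact h.map (ULift.ringEquiv : ULift.{u + 1} R₀ ≃+* R₀).toRingHom
    · intro h
      exact h.map (ULift.ringEquiv.symm : R₀ ≃+* ULift.{u + 1} R₀).toRingHom
  rw [h1, IsLocalization.AtPrime.isUnit_to_map_iff R₀ q a]
  exact not_not

include hloc₀ in
theorem isStrictHenselization_toStalk (hlocS : IsLocalRing ↑(OEtStalk p))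
    (hlocR : IsLocalRing (ULift.{u + 1} R₀)) :
    ∃ hlh : IsLocalHom (toStalk hX p NU R₀ q hq),
      @Hensel.IsStrictHenselization (ULift.{u + 1} R₀) ↑(OEtStalk p) _ hlocR _ hlocS
        (toStalk hX p NU R₀ q hq).toAlgebra hlh := by
  have hlh : IsLocalHom (toStalk hX p NU R₀ q hq) := isLocalHom_toStalk hX p NU R₀ q hq
  refine ⟨hlh, ?_⟩
  letI alg : Algebra (ULift.{u + 1} R₀) ↑(OEtStalk p) := (toStalk hX p NU R₀ q hq).toAlgebra
  haveI hlh' : IsLocalHom (algebraMap (ULift.{u + 1} R₀) ↑(OEtStalk p)) := hlh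
  refine @Hensel.IsStrictHenselization.mk (ULift.{u + 1} R₀) ↑(OEtStalk p) _ hlocR _ hlocS alg hlh'
    (henselian_stalk hX p) ⟨isSepClosed_residueField hX p, ⟨?_⟩⟩ ?_
  · intro x
    obtain ⟨r, rfl⟩ := IsLocalRing.residue_surjective x
    obtain ⟨G, s, rfl⟩ := exists_good_rep hX p NU r
    let upA : Γ(NU.1.obj.left.left, ⊤) →+* ↑((OEt X).obj.obj (op NU.1)) :=
      (ULift.ringEquiv.symm :
        Γ(NU.1.obj.left.left, ⊤) ≃+* ULift.{u + 1} Γ(NU.1.obj.left.left, ⊤)).toRingHom
    let upC : Γ(G.N.1.obj.left.left, ⊤) →+* ↑((OEt X).obj.obj (op G.N.1)) :=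
      (ULift.ringEquiv.symm :
        Γ(G.N.1.obj.left.left, ⊤) ≃+* ULift.{u + 1} Γ(G.N.1.obj.left.left, ⊤)).toRingHom
    let algC : Algebra Γ(NU.1.obj.left.left, ⊤) Γ(G.N.1.obj.left.left, ⊤) :=
      G.h.1.hom.left.left.appTop.hom.toAlgebra
    have het : Algebra.Etale Γ(NU.1.obj.left.left, ⊤) Γ(G.N.1.obj.left.left, ⊤) :=
      etale_res p NU G
    let f₀ : Γ(NU.1.obj.left.left, ⊤) →+* IsLocalRing.ResidueField (ULift.{u + 1} R₀) :=
      (IsLocalRing.residue _).comp ((sA p NU R₀).comp upA)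
    let ψ : Γ(G.N.1.obj.left.left, ⊤) →+* IsLocalRing.ResidueField ↑(OEtStalk p) :=
      (IsLocalRing.residue _).comp ((germ p G.N).comp upC)
    have hf : ∀ a, a ∈ q ↔ f₀ a = 0 := fun a => (residue_sA_eq_zero_iff p NU R₀ q a).symm
    have hψ : ∀ a, ψ (algebraMap _ _ a) = algebraMap (IsLocalRing.ResidueField (ULift.{u + 1} R₀))
        (IsLocalRing.ResidueField ↑(OEtStalk p)) (f₀ a) := by
      intro a
      change IsLocalRing.residue _ (germ p G.N (res G.h (upA a))) =
        IsLocalRing.residue _ (toStalk hX p NU R₀ q hq (sA p NU R₀ (upA a)))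
      rw [germ_res', toStalk_sA]
    exact isSeparable_of_etale_point q f₀ hf ψ hψ s.down
  · intro T _ _ f _ τ hτ
    exact existsUnique_of_toStalk hX p NU R₀ q hq T f τ hτ

end Groth.Agent.H32.EtSH
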