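import Groth.Agent.H32.EtSH5

/-!
# The etale local ring is a strict henselization of the Zariski local ring of an affine chart
(helper32)
-/

set_option autoImplicit false
set_option backward.isDefEq.respectTransparency false
universe u
open CategoryTheory CategoryTheory.Limits AlgebraicGeometry Opposite

namespace Groth.Agent.H32.EtSH

open AlgSp Groth.Agent.H32.EtStalk Groth.Agent.H32.EtLoc

theorem mem_basicOpen_iff_evalAt_ne_zero {K : Type u} [Field K] {W : Scheme.{u}}
    (m : Spec (CommRingCat.of K) ⟶ W) (r : Γ(W, ⊤)) (y : ↥(Spec (CommRingCat.of K))) :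
    m y ∈ W.basicOpen r ↔ evalAt m r ≠ 0 := by
  constructor
  · intro h h0
    have h1 : m.appTop.hom r = 0 := by
      have h2 : Function.Injective (Scheme.ΓSpecIso (CommRingCat.of K)).hom.hom :=
        (ConcreteCategory.bijective_of_isIso (Scheme.ΓSpecIso (CommRingCat.of K)).hom).1
      apply h2
      rw [map_zero]
      exact h0
    have h3 : y ∈ m ⁻¹ᵁ W.basicOpen r := h
    rw [Scheme.preimage_basicOpen_top m r] at h3
    have h4 : (Spec (CommRingCat.of K)).basicOpen (m.appTop.hom r) = ⊥ := by
      rw [h1]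
      exact Scheme.basicOpen_zero _ _
    rw [h4] at h3
    exact h3
  · intro h
    exact range_subset_basicOpen m r h ⟨y, rfl⟩

variable {S : Scheme.{u}} {X : AlgSp.Sp S}

variable (hX : IsAlgSpace X) (p : FieldPt X) [IsSepClosed p.K] (NU : EtNbhd p)
  [haffU : IsAffine NU.1.obj.left.left]

include haffU hX in
/-- the etale local ring at `p` is a strict henselization of the (universe lift of the) local ring
of an affine chart at the image of a lift of `p`. -/
theorem exists_isStrictHenselization_affine
    (hlocR : IsLocalRing (ULift.{u + 1} ↑(NU.1.obj.left.left.presheaf.stalk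
      (NU.2.1.left (default : ↥(Spec (CommRingCat.of p.K)))))))
    (hlocS : IsLocalRing ↑(OEtStalk p)) :
    ∃ (f : ULift.{u + 1} ↑(NU.1.obj.left.left.presheaf.stalk
        (NU.2.1.left (default : ↥(Spec (CommRingCat.of p.K))))) →+* ↑(OEtStalk p))
      (hlh : IsLocalHom f),
      @Hensel.IsStrictHenselization _ ↑(OEtStalk p) _ hlocR _ hlocS f.toAlgebra hlh := by
  let u : ↥NU.1.obj.left.left := NU.2.1.left (default : ↥(Spec (CommRingCat.of p.K)))
  let hU : IsAffineOpen (⊤ : NU.1.obj.left.left.Opens) := isAffineOpen_top _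
  let x : ↥(⊤ : NU.1.obj.left.left.Opens) := ⟨u, trivial⟩
  let alg : Algebra Γ(NU.1.obj.left.left, ⊤) ↑(NU.1.obj.left.left.presheaf.stalk u) :=
    TopCat.Presheaf.algebra_section_stalk NU.1.obj.left.left.presheaf x
  have hloc : IsLocalization.AtPrime ↑(NU.1.obj.left.left.presheaf.stalk u)
      (hU.primeIdealOf x).asIdeal := hU.isLocalization_stalk x
  have hq : ∀ a, a ∈ (hU.primeIdealOf x).asIdeal ↔ evalAt NU.2.1.left a = 0 := by
    intro a
    have h1 := IsLocalization.AtPrime.to_map_mem_maximal_iff
      ↑(NU.1.obj.left.left.presheaf.stalk u) (hU.primeIdealOf x).asIdeal a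
    rw [← h1, IsLocalRing.mem_maximalIdeal, mem_nonunits_iff]
    have h2 : IsUnit (algebraMap Γ(NU.1.obj.left.left, ⊤)
        ↑(NU.1.obj.left.left.presheaf.stalk u) a) ↔ u ∈ NU.1.obj.left.left.basicOpen a :=
      (NU.1.obj.left.left.mem_basicOpen a u trivial).symm
    rw [h2]
    have h3 := mem_basicOpen_iff_evalAt_ne_zero NU.2.1.left a
      (default : ↥(Spec (CommRingCat.of p.K)))
    exact (not_congr h3).trans not_not
  exact ⟨_, isStrictHenselization_toStalk hX p NU _ (hU.primeIdealOf x).asIdeal hq hlocS hlocR⟩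

end Groth.Agent.H32.EtSH
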