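import Groth.Agent.H32.EtSH6

/-!
# Transferring strict henselizations along isomorphisms of the base, and general charts (helper32)
-/

set_option autoImplicit false
set_option backward.isDefEq.respectTransparency false
universe u v
open CategoryTheory CategoryTheory.Limits AlgebraicGeometry Opposite

namespace Groth.Agent.H32.EtSH

/-- a strict henselization of `R` is one of any ring isomorphic to `R`. -/
theorem isStrictHenselization_comp_equiv {R R' S : Type v} [CommRing R] [CommRing R'] [CommRing S]
    (hR : IsLocalRing R) (hR' : IsLocalRing R') (hS : IsLocalRing S)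
    (f : R →+* S) (hf : IsLocalHom f)
    (h : @Hensel.IsStrictHenselization R S _ hR _ hS f.toAlgebra hf) (e : R' ≃+* R) :
    ∃ hlh : IsLocalHom (f.comp e.toRingHom),
      @Hensel.IsStrictHenselization R' S _ hR' _ hS (f.comp e.toRingHom).toAlgebra hlh := by
  have hlh : IsLocalHom (f.comp e.toRingHom) := by
    constructor
    intro a ha
    have h1 : IsUnit (e a) := hf.map_nonunit _ ha
    have h2 := h1.map e.symm.toRingHom
    have h3 : e.symm.toRingHom (e a) = a := e.symm_apply_apply a
    rwa [h3] at h2
  refine ⟨hlh, ?_⟩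
  let algR : Algebra R S := f.toAlgebra
  let algR' : Algebra R' S := (f.comp e.toRingHom).toAlgebra
  have hf' : IsLocalHom (algebraMap R S) := hf
  have hlh' : IsLocalHom (algebraMap R' S) := hlh
  have hsc : IsSepClosure (IsLocalRing.ResidueField R) (IsLocalRing.ResidueField S) :=
    h.isSepClosure
  have hsepc : IsSepClosed (IsLocalRing.ResidueField S) := hsc.sep_closed
  have hsep : Algebra.IsSeparable (IsLocalRing.ResidueField R) (IsLocalRing.ResidueField S) :=
    hsc.separable
  have hsep' : Algebra.IsSeparable (IsLocalRing.ResidueField R') (IsLocalRing.ResidueField S) := by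
    refine Algebra.IsSeparable.of_equiv_equiv (IsLocalRing.ResidueField.mapEquiv e.symm)
      (RingEquiv.refl _) ?_
    apply RingHom.ext
    intro x
    obtain ⟨r, rfl⟩ := IsLocalRing.residue_surjective x
    change IsLocalRing.residue S (f (e (e.symm r))) = IsLocalRing.residue S (f r)
    rw [e.apply_symm_apply]
  refine @Hensel.IsStrictHenselization.mk R' S _ hR' _ hS algR' hlh' h.henselian
    ⟨hsepc, hsep'⟩ ?_
  intro T _ _ f' _ τ hτ
  have : IsLocalHom (f'.comp e.symm.toRingHom) := by
    constructor
    intro a ha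
    have h1 : IsUnit (e.symm a) := IsLocalHom.map_nonunit (f := f') _ ha
    have h2 := h1.map e.toRingHom
    have h3 : e.toRingHom (e.symm a) = a := e.apply_symm_apply a
    rwa [h3] at h2
  have hτ' : τ.comp (IsLocalRing.ResidueField.map (algebraMap R S)) =
      IsLocalRing.ResidueField.map (f'.comp e.symm.toRingHom) := by
    apply RingHom.ext
    intro x
    obtain ⟨r, rfl⟩ := IsLocalRing.residue_surjective x
    have h1 := RingHom.congr_fun hτ (IsLocalRing.residue R' (e.symm r))
    rw [RingHom.comp_apply, IsLocalRing.ResidueField.map_residue,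
      IsLocalRing.ResidueField.map_residue] at h1
    rw [RingHom.comp_apply, IsLocalRing.ResidueField.map_residue,
      IsLocalRing.ResidueField.map_residue]
    have h2 : algebraMap R' S (e.symm r) = algebraMap R S r := by
      change f (e (e.symm r)) = f r
      rw [e.apply_symm_apply]
    rw [h2] at h1
    exact h1
  obtain ⟨g, ⟨hg1, hg2⟩, hg3⟩ := h.universal T (f'.comp e.symm.toRingHom) τ hτ'
  refine ⟨g, ⟨?_, hg2⟩, ?_⟩
  · apply RingHom.ext
    intro r'
    have h1 := RingHom.congr_fun hg1 (e r')
    change g (f (e r')) = f' (e.symm (e r')) at h1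
    rw [e.symm_apply_apply] at h1
    exact h1
  · rintro g' ⟨hg'1, hg'2⟩
    apply hg3
    refine ⟨?_, hg'2⟩
    apply RingHom.ext
    intro r
    have h1 := RingHom.congr_fun hg'1 (e.symm r)
    change g' (f (e (e.symm r))) = f' (e.symm r) at h1
    rw [e.apply_symm_apply] at h1
    exact h1


open AlgSp Groth.Agent.H32.EtStalk Groth.Agent.H32.EtLoc

variable {S : Scheme.{u}} {X : AlgSp.Sp S}

/-- the etale local ring of an algebraic space at a separably closed point `p` is a strict
henselization of the (universe lift of the) Zariski local ring of any etale chart at the image of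
any lift of `p`. -/
theorem exists_isStrictHenselization (hX : IsAlgSpace X) (p : FieldPt X) [IsSepClosed p.K]
    (E : EtOver X) (l : (FieldPt.liftsTo p).obj E)
    (hlocR : IsLocalRing (ULift.{u + 1} ↑(E.obj.left.left.presheaf.stalk
      (l.1.left (default : ↥(Spec (CommRingCat.of p.K)))))))
    (hlocS : IsLocalRing ↑(OEtStalk p)) :
    ∃ (f : ULift.{u + 1} ↑(E.obj.left.left.presheaf.stalk
        (l.1.left (default : ↥(Spec (CommRingCat.of p.K))))) →+* ↑(OEtStalk p))
      (hlh : IsLocalHom f),
      @Hensel.IsStrictHenselization _ ↑(OEtStalk p) _ hlocR _ hlocS f.toAlgebra hlh := by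
  obtain ⟨V, hV, hxV, -⟩ := exists_isAffineOpen_mem_and_subset
    (x := l.1.left (default : ↥(Spec (CommRingCat.of p.K)))) (U := ⊤) trivial
  have hrange : Set.range l.1.left ⊆ Set.range V.ι := by
    rw [Scheme.Opens.range_ι]
    rintro _ ⟨y, rfl⟩
    have hy : y = (default : ↥(Spec (CommRingCat.of p.K))) :=
      Subsingleton.elim (α := ↥(Spec (CommRingCat.of p.K))) _ _
    rw [hy]
    exact hxV
  let m₀ := IsOpenImmersion.lift V.ι l.1.left hrange
  have hm₀ : m₀ ≫ V.ι = l.1.left := IsOpenImmersion.lift_fac _ _ _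
  let NV : EtNbhd p := ⟨nbhdObj E V.ι, nbhdLift V.ι p l m₀ hm₀⟩
  have haffV : IsAffine NV.1.obj.left.left := hV
  let v' : ↥(V : Scheme.{u}) := m₀ (default : ↥(Spec (CommRingCat.of p.K)))
  have hv' : V.ι v' = l.1.left (default : ↥(Spec (CommRingCat.of p.K))) := by
    change (m₀ ≫ V.ι) _ = _
    rw [hm₀]
  let e₀ : ↑(E.obj.left.left.presheaf.stalk
      (l.1.left (default : ↥(Spec (CommRingCat.of p.K))))) ≃+*
      ↑((V : Scheme.{u}).presheaf.stalk v') :=
    ((E.obj.left.left.presheaf.stalkCongr (Inseparable.of_eq hv')).symm ≪≫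
      asIso (V.ι.stalkMap v')).commRingCatIsoToRingEquiv
  let e : ULift.{u + 1} ↑(E.obj.left.left.presheaf.stalk
      (l.1.left (default : ↥(Spec (CommRingCat.of p.K))))) ≃+*
      ULift.{u + 1} ↑((V : Scheme.{u}).presheaf.stalk v') :=
    (ULift.ringEquiv : ULift.{u + 1} ↑(E.obj.left.left.presheaf.stalk
      (l.1.left (default : ↥(Spec (CommRingCat.of p.K))))) ≃+* _).trans
      (e₀.trans (ULift.ringEquiv.symm : ↑((V : Scheme.{u}).presheaf.stalk v') ≃+* ULift.{u + 1} _))
  have hlocV : IsLocalRing (ULift.{u + 1} ↑((V : Scheme.{u}).presheaf.stalk v')) :=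
    (ULift.ringEquiv.symm : ↑((V : Scheme.{u}).presheaf.stalk v') ≃+* ULift.{u + 1} _).isLocalRing
  obtain ⟨f, hlh, hSH⟩ := exists_isStrictHenselization_affine hX p NV hlocV hlocS
  obtain ⟨hlh', hSH'⟩ := isStrictHenselization_comp_equiv hlocV hlocR hlocS f hlh hSH e
  exact ⟨_, hlh', hSH'⟩

end Groth.Agent.H32.EtSH
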