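import Groth.Agent.H32.EtSH1
import Groth.Agent.H47.HensK3

/-!
# The universal property of helper47's strict henselization against rings in any universe
(helper32)
-/

set_option autoImplicit false
universe u v
open CategoryTheory CategoryTheory.Limits

namespace Groth.Agent.H32.EtSH

open Groth.Agent.H47.HensK Groth.Agent.H47.HensK.EtPt IsLocalRing

section Big

variable (R : Type u) [CommRing R] (K : Type u) [Field K] [Algebra R K]
  {T : Type v} [CommRing T] (φ : ∀ X : EtPt R K, X.A →+* T)
  (hφ : ∀ (X Y : EtPt R K) (f : X ⟶ Y), (φ Y).comp f.f.toRingHom = φ X)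

/-- maps out of `H R K` to a ring in any universe, as a function. -/
noncomputable def descBigFun (x : H R K) : T :=
  φ (Classical.choose (exists_rep R K x))
    (Classical.choose (Classical.choose_spec (exists_rep R K x)))

include hφ in
theorem descBigFun_ι (X : EtPt R K) (a : X.A) : descBigFun R K φ (ι R K X a) = φ X a := by
  have h := Classical.choose_spec (Classical.choose_spec (exists_rep R K (ι R K X a)))
  obtain ⟨Z, f, g, hfg⟩ := (ι_eq_iff R K _ _).1 h
  unfold descBigFun
  rw [← hφ _ Z f, ← hφ X Z g]
  change φ Z (f.f _) = φ Z (g.f a)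
  rw [hfg]

theorem exists_common_rep₂ (x y : H R K) :
    ∃ (X : EtPt R K) (a b : X.A), ι R K X a = x ∧ ι R K X b = y := by
  classical
  obtain ⟨X, hX⟩ := exists_rep_finset R K {x, y}
  obtain ⟨a, ha⟩ := hX x (by simp)
  obtain ⟨b, hb⟩ := hX y (by simp)
  exact ⟨X, a, b, ha, hb⟩

/-- maps out of `H R K` to a ring in any universe. -/
noncomputable def descBig : H R K →+* T where
  toFun := descBigFun R K φ
  map_one' := by
    have h1 : ι R K (X₀ R K) 1 = (1 : H R K) := map_one _
    rw [← h1, descBigFun_ι R K φ hφ, map_one]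
  map_zero' := by
    have h1 : ι R K (X₀ R K) 0 = (0 : H R K) := map_zero _
    rw [← h1, descBigFun_ι R K φ hφ, map_zero]
  map_mul' x y := by
    obtain ⟨X, a, b, rfl, rfl⟩ := exists_common_rep₂ R K x y
    rw [← map_mul, descBigFun_ι R K φ hφ, descBigFun_ι R K φ hφ, descBigFun_ι R K φ hφ, map_mul]
  map_add' x y := by
    obtain ⟨X, a, b, rfl, rfl⟩ := exists_common_rep₂ R K x y
    rw [← map_add, descBigFun_ι R K φ hφ, descBigFun_ι R K φ hφ, descBigFun_ι R K φ hφ, map_add]

theorem descBig_ι (X : EtPt R K) (a : X.A) : descBig R K φ hφ (ι R K X a) = φ X a :=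
  descBigFun_ι R K φ hφ X a

omit [Algebra R K] in
theorem hom_ext_big [Algebra R K] {g g' : H R K →+* T}
    (h : ∀ (X : EtPt R K) (a : X.A), g (ι R K X a) = g' (ι R K X a)) : g = g' := by
  ext x
  obtain ⟨X, a, rfl⟩ := exists_rep R K x
  exact h X a

end Big

section Local

variable (R : Type u) [CommRing R] [IsLocalRing R] (K : Type u) [Field K] [Algebra R K]
  [Algebra (ResidueField R) K] [IsScalarTower R (ResidueField R) K]

/-- The universal property of `H R K` against henselian local rings in any universe. -/
theorem existsUnique_descBig {T : Type v} [CommRing T] [HenselianLocalRing T] (f : R →+* T)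
    [IsLocalHom f] (τ : ResidueField (H R K) →+* ResidueField T)
    (hτ : τ.comp (ResidueField.map (algebraMap R (H R K))) = ResidueField.map f) :
    ∃! g : H R K →+* T, g.comp (algebraMap R (H R K)) = f ∧
      ∀ x : H R K, residue T (g x) = τ (residue (H R K) x) := by
  classical
  letI : Algebra R T := f.toAlgebra
  let ρ : ∀ X : EtPt R K, X.A →ₐ[R] ResidueField T := fun X =>
    { toRingHom := (τ.comp (residue (H R K))).comp (ι R K X)
      commutes' := fun r => by
        show τ (residue (H R K) (ι R K X (algebraMap R X.A r))) =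
          algebraMap R (ResidueField T) r
        rw [ι_algebraMap]
        have h := RingHom.congr_fun hτ (residue R r)
        rw [RingHom.comp_apply, ResidueField.map_residue, ResidueField.map_residue] at h
        rw [h]
        rfl }
  have hφ : ∀ X : EtPt R K, ∃ φ : X.A →ₐ[R] T, ∀ c, residue T (φ c) = ρ X c :=
    fun X => exists_lift_of_etale (ρ X)
  choose φ hφ using hφ
  have huniq : ∀ (X : EtPt R K) (ψ : X.A →ₐ[R] T),
      (∀ c, residue T (ψ c) = ρ X c) → ψ = φ X := fun X ψ hψ =>
    algHom_eq_of_residue_eq ψ (φ X) (fun x => (hψ x).trans (hφ X x).symm)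
  have hnat : ∀ (X Y : EtPt R K) (u : X ⟶ Y),
      ((φ Y).toRingHom).comp u.f.toRingHom = (φ X).toRingHom := by
    intro X Y u
    have := huniq X ((φ Y).comp u.f) (fun c => by
      show residue T (φ Y (u.f c)) = τ (residue (H R K) (ι R K X c))
      rw [hφ Y]
      show τ (residue (H R K) (ι R K Y (u.f c))) = _
      rw [ι_map])
    exact congrArg AlgHom.toRingHom this
  refine ⟨descBig R K (fun X => (φ X).toRingHom) hnat, ⟨?_, ?_⟩, ?_⟩
  · refine RingHom.ext fun r => ?_
    show descBig R K _ hnat (algebraMap R (H R K) r) = f r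
    rw [← ι_algebraMap R K (X₀ R K) r, descBig_ι]
    exact (φ _).commutes r
  · intro x
    obtain ⟨X, a, rfl⟩ := exists_rep R K x
    rw [descBig_ι]
    exact hφ X a
  · rintro g' ⟨hg'1, hg'2⟩
    apply hom_ext_big
    intro X a
    rw [descBig_ι]
    let ψ : X.A →ₐ[R] T :=
      { toRingHom := g'.comp (ι R K X)
        commutes' := fun r => by
          show g' (ι R K X (algebraMap R X.A r)) = f r
          rw [ι_algebraMap]
          exact RingHom.congr_fun hg'1 r }
    exact AlgHom.congr_fun (huniq X ψ (fun c => hg'2 (ι R K X c))) a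

end Local

end Groth.Agent.H32.EtSH
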