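import Groth.Prelude.Def_AlgSpOX3
import Mathlib.AlgebraicGeometry.Sites.EtalePoint

/-!
# Etale neighbourhoods of a geometric point of an algebraic space form a cofiltered category
(helper32)
-/

set_option autoImplicit false
set_option backward.isDefEq.respectTransparency false
universe u
open CategoryTheory CategoryTheory.Limits AlgebraicGeometry Opposite

namespace Groth.Agent.H32.EtStalk

open AlgSp

variable {S : Scheme.{u}} {X : AlgSp.Sp S}

/-- lifting a separably closed point along a representable etale map, through a given point of the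
fibre product. -/
theorem exists_lift_of_isPullback {U : Over S} (a : (yon S).obj U ⟶ X) (ha : RepWith @Etale a)
    {K : Type u} [Field K] [IsSepClosed K] (str : Spec (CommRingCat.of K) ⟶ S)
    (t : (yon S).obj (Over.mk str) ⟶ X) {W : Over S} (fst : W ⟶ U) (snd : W ⟶ Over.mk str)
    (sq : IsPullback ((yon S).map fst) ((yon S).map snd) a t) (w : ↥W.left) :
    ∃ l : Over.mk str ⟶ U, (yon S).map l ≫ a = t ∧
      l.left (default : ↥(Spec (CommRingCat.of K))) = fst.left w := by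
  have het : Etale snd.left := ha.property t _ snd sq
  have hx : snd.left w = (𝟙 (Spec (CommRingCat.of K)) : _ ⟶ _) (default : ↥(Spec (CommRingCat.of K))) :=
    Subsingleton.elim (α := ↥(Spec (CommRingCat.of K))) _ _
  obtain ⟨l₀, hl₀, hl₀'⟩ := Scheme.exists_fac_of_etale_of_isSepClosed snd.left (𝟙 _) w hx
  have hs : l₀ ≫ W.hom = str := by
    have h1 : snd.left ≫ str = W.hom := Over.w snd
    rw [← h1, ← Category.assoc, hl₀, Category.id_comp]
  let s : Over.mk str ⟶ W := Over.homMk l₀ hs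
  have hs2 : s ≫ snd = 𝟙 _ := Over.OverMorphism.ext hl₀
  refine ⟨s ≫ fst, ?_, ?_⟩
  · rw [Functor.map_comp, Category.assoc, sq.w, ← Category.assoc, ← Functor.map_comp, hs2,
      CategoryTheory.Functor.map_id, Category.id_comp]
  · change (l₀ ≫ fst.left) (default : ↥(Spec (CommRingCat.of K))) = fst.left w
    rw [← hl₀']
    rfl

theorem nonempty_etNbhd (hX : IsAlgSpace X) (p : FieldPt X) [IsSepClosed p.K] :
    Nonempty (EtNbhd p) := by
  obtain ⟨U, a, ha, hs⟩ := hX.atlas
  obtain ⟨W, snd, fst, sq⟩ := ha.1 p.toHom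
  obtain ⟨fst', rfl⟩ := (yon S).map_surjective fst
  have hsurj : Surjective snd.left := hs.property p.toHom _ snd sq
  obtain ⟨w, -⟩ := hsurj.surj (default : ↥(Spec (CommRingCat.of p.K)))
  obtain ⟨l, hl, -⟩ := exists_lift_of_isPullback a ha p.str p.toHom fst' snd sq w
  exact ⟨⟨EtOver.mk a ha, ⟨l, hl⟩⟩⟩

/-- the fibre product of two etale neighbourhoods. -/
theorem cone_objs_etNbhd (p : FieldPt X) (N₁ N₂ : EtNbhd p) :
    ∃ (N : EtNbhd p) (_ : N ⟶ N₁) (_ : N ⟶ N₂), True := by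
  obtain ⟨E₁, l₁⟩ := N₁
  obtain ⟨E₂, l₂⟩ := N₂
  obtain ⟨W, snd, fst, sq⟩ := E₂.property.1 E₁.obj.hom
  obtain ⟨fst', rfl⟩ := (yon S).map_surjective fst
  have hsnd : Etale snd.left := E₂.property.2 E₁.obj.hom _ snd sq
  let EW : EtOver X := EtOver.mk ((yon S).map snd ≫ E₁.obj.hom)
    ((repWith_isMultiplicative (S := S) @Etale).comp_mem _ _
      ((repWith_yon_map_iff _ _).2 hsnd) E₁.property)
  let lW : p.pt ⟶ W := (yon S).preimage
    (sq.lift ((yon S).map l₂.1) ((yon S).map l₁.1) (l₂.2.trans l₁.2.symm))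
  have h1 : lW ≫ snd = l₁.1 := (yon S).map_injective (by
    rw [Functor.map_comp, Functor.map_preimage]; exact sq.lift_snd _ _ _)
  have h2 : lW ≫ fst' = l₂.1 := (yon S).map_injective (by
    rw [Functor.map_comp, Functor.map_preimage]; exact sq.lift_fst _ _ _)
  have hlW : (yon S).map lW ≫ EW.obj.hom = p.toHom := by
    change (yon S).map lW ≫ (yon S).map snd ≫ E₁.obj.hom = p.toHom
    rw [← Category.assoc, ← Functor.map_comp, h1]
    exact l₁.2
  let g₁ : EW ⟶ E₁ := EtOver.homMk snd rfl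
  let g₂ : EW ⟶ E₂ := EtOver.homMk fst' sq.w
  refine ⟨⟨EW, ⟨lW, hlW⟩⟩, ⟨g₁, Subtype.ext h1⟩, ⟨g₂, Subtype.ext h2⟩, trivial⟩

/-- equalizing two morphisms of etale neighbourhoods. -/
theorem cone_maps_etNbhd (p : FieldPt X) (N₁ N₂ : EtNbhd p) (f g : N₁ ⟶ N₂) :
    ∃ (N : EtNbhd p) (h : N ⟶ N₁), h ≫ f = h ≫ g := by
  obtain ⟨E₁, l₁⟩ := N₁
  obtain ⟨E₂, l₂⟩ := N₂
  obtain ⟨f, hf⟩ := f
  obtain ⟨g, hg⟩ := g
  change E₁ ⟶ E₂ at f g
  change (FieldPt.liftsTo p).map f l₁ = l₂ at hf
  change (FieldPt.liftsTo p).map g l₁ = l₂ at hg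
  have hf' : l₁.1 ≫ f.hom.left = l₂.1 := congrArg Subtype.val hf
  have hg' : l₁.1 ≫ g.hom.left = l₂.1 := congrArg Subtype.val hg
  obtain ⟨V, pr2, pr1, sqV⟩ := E₂.property.1 E₂.obj.hom
  obtain ⟨pr1', rfl⟩ := (yon S).map_surjective pr1
  have hpr2 : Etale pr2.left := E₂.property.2 E₂.obj.hom _ pr2 sqV
  -- the diagonal
  let δ : E₂.obj.left ⟶ V := (yon S).preimage (sqV.lift (𝟙 _) (𝟙 _) rfl)
  have hδ1 : δ ≫ pr1' = 𝟙 _ := (yon S).map_injective (by
    rw [Functor.map_comp, Functor.map_preimage, CategoryTheory.Functor.map_id]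
    exact sqV.lift_fst _ _ _)
  have hδ2 : δ ≫ pr2 = 𝟙 _ := (yon S).map_injective (by
    rw [Functor.map_comp, Functor.map_preimage, CategoryTheory.Functor.map_id]
    exact sqV.lift_snd _ _ _)
  have hδ : Etale δ.left := by
    refine MorphismProperty.HasOfPostcompProperty.of_postcomp (W := @Etale) δ.left pr2.left hpr2 ?_
    rw [← Over.comp_left, hδ2, Over.id_left]
    infer_instance
  -- the pair (f, g)
  let fg : E₁.obj.left ⟶ V := (yon S).preimage
    (sqV.lift ((yon S).map f.hom.left) ((yon S).map g.hom.left)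
      ((EtOver.w f).trans (EtOver.w g).symm))
  have hfg1 : fg ≫ pr1' = f.hom.left := (yon S).map_injective (by
    rw [Functor.map_comp, Functor.map_preimage]; exact sqV.lift_fst _ _ _)
  have hfg2 : fg ≫ pr2 = g.hom.left := (yon S).map_injective (by
    rw [Functor.map_comp, Functor.map_preimage]; exact sqV.lift_snd _ _ _)
  -- the equalizer
  let q₁ : pullback fg δ ⟶ E₁.obj.left := pullback.fst fg δ
  let q₂ : pullback fg δ ⟶ E₂.obj.left := pullback.snd fg δ
  have hq₁ : Etale q₁.left :=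
    MorphismProperty.pullback_fst
      (P := MorphismProperty.inverseImage (@Etale : MorphismProperty Scheme.{u}) (Over.forget S)) fg δ hδ
  have hq : q₁ ≫ f.hom.left = q₁ ≫ g.hom.left := by
    rw [← hfg1, ← hfg2, ← Category.assoc, ← Category.assoc, pullback.condition, Category.assoc,
      Category.assoc, hδ1, hδ2]
  let EZ : EtOver X := EtOver.mk ((yon S).map q₁ ≫ E₁.obj.hom)
    ((repWith_isMultiplicative (S := S) @Etale).comp_mem _ _
      ((repWith_yon_map_iff _ _).2 hq₁) E₁.property)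
  have hl : l₁.1 ≫ fg = l₂.1 ≫ δ := by
    apply (yon S).map_injective
    apply sqV.hom_ext
    · rw [← Functor.map_comp, ← Functor.map_comp, Category.assoc, Category.assoc, hfg1, hδ1,
        hf', Category.comp_id]
    · rw [← Functor.map_comp, ← Functor.map_comp, Category.assoc, Category.assoc, hfg2, hδ2,
        hg', Category.comp_id]
  let lZ : p.pt ⟶ pullback fg δ := pullback.lift l₁.1 l₂.1 hl
  have hlZ1 : lZ ≫ q₁ = l₁.1 := pullback.lift_fst _ _ _
  have hlZ : (yon S).map lZ ≫ EZ.obj.hom = p.toHom := by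
    change (yon S).map lZ ≫ (yon S).map q₁ ≫ E₁.obj.hom = p.toHom
    rw [← Category.assoc, ← Functor.map_comp, hlZ1]
    exact l₁.2
  let h : EZ ⟶ E₁ := EtOver.homMk q₁ rfl
  refine ⟨⟨EZ, ⟨lZ, hlZ⟩⟩, ⟨h, Subtype.ext hlZ1⟩, ?_⟩
  apply Subtype.ext
  apply EtOver.hom_ext
  exact hq

instance isCofilteredOrEmpty_etNbhd (p : FieldPt X) : IsCofilteredOrEmpty (EtNbhd p) where
  cone_objs := cone_objs_etNbhd p
  cone_maps := cone_maps_etNbhd p

theorem isCofiltered_etNbhd (hX : IsAlgSpace X) (p : FieldPt X) [IsSepClosed p.K] :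
    IsCofiltered (EtNbhd p) :=
  { isCofilteredOrEmpty_etNbhd p with nonempty := nonempty_etNbhd hX p }

end Groth.Agent.H32.EtStalk
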