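import Groth.Agent.H32.EtStalk1

/-!
# Etale neighbourhoods of a geometric point: initially small; the point of the small etale site
(helper32)
-/

set_option autoImplicit false
set_option backward.isDefEq.respectTransparency false
universe u
open CategoryTheory CategoryTheory.Limits AlgebraicGeometry Opposite

namespace Groth.Agent.H32.EtStalk

open AlgSp

variable {S : Scheme.{u}} {X : AlgSp.Sp S}

theorem exists_atlas_lift (hX : IsAlgSpace X) (p : FieldPt X) [IsSepClosed p.K] :
    ∃ (U : Over S) (a : (yon S).obj U ⟶ X) (_ : RepWith @Etale a) (l : p.pt ⟶ U),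
      (yon S).map l ≫ a = p.toHom := by
  obtain ⟨U, a, ha, hs⟩ := hX.atlas
  obtain ⟨W, snd, fst, sq⟩ := ha.1 p.toHom
  obtain ⟨fst', rfl⟩ := (yon S).map_surjective fst
  have hsurj : Surjective snd.left := hs.property p.toHom _ snd sq
  obtain ⟨w, -⟩ := hsurj.surj (default : ↥(Spec (CommRingCat.of p.K)))
  obtain ⟨l, hl, -⟩ := exists_lift_of_isPullback a ha p.str p.toHom fst' snd sq w
  exact ⟨U, a, ha, l, hl⟩

theorem initiallySmall_etNbhd (hX : IsAlgSpace X) (p : FieldPt X) [IsSepClosed p.K] :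
    InitiallySmall.{u} (EtNbhd p) := by
  obtain ⟨U₀, a₀, h₀, u₀, hu₀⟩ := exists_atlas_lift hX p
  let G : U₀.left.AffineEtale ⥤ EtOver X := Scheme.AffineEtale.Spec U₀.left ⋙ EtOver.ofChart a₀ h₀
  refine initiallySmall_of_essentiallySmall_weakly_initial_objectProperty
    (Functor.Elements.precomp G (FieldPt.liftsTo p)).essImage ?_
  rintro ⟨E, v⟩
  obtain ⟨W, snd, fst, sq⟩ := E.property.1 a₀
  obtain ⟨fst', rfl⟩ := (yon S).map_surjective fst
  have hsnd : Etale snd.left := E.property.2 a₀ _ snd sq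
  let lW : p.pt ⟶ W := (yon S).preimage
    (sq.lift ((yon S).map v.1) ((yon S).map u₀) (v.2.trans hu₀.symm))
  have h1 : lW ≫ snd = u₀ := (yon S).map_injective (by
    rw [Functor.map_comp, Functor.map_preimage]; exact sq.lift_snd _ _ _)
  have h2 : lW ≫ fst' = v.1 := (yon S).map_injective (by
    rw [Functor.map_comp, Functor.map_preimage]; exact sq.lift_fst _ _ _)
  obtain ⟨R, j, hj, hmem, -⟩ := Scheme.exists_affine_mem_range_and_range_subset
    (x := lW.left (default : ↥(Spec (CommRingCat.of p.K)))) (U := ⊤) (by simp)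
  have hrange : Set.range lW.left ⊆ Set.range j := by
    rintro _ ⟨a, rfl⟩
    rwa [Subsingleton.elim (α := ↥(Spec (CommRingCat.of p.K))) a
      (default : ↥(Spec (CommRingCat.of p.K)))]
  let y' : Spec (CommRingCat.of p.K) ⟶ Spec R := IsOpenImmersion.lift j lW.left hrange
  have hy' : y' ≫ j = lW.left := IsOpenImmersion.lift_fac j lW.left hrange
  have hEt : Etale (j ≫ snd.left) := inferInstance
  let B : U₀.left.AffineEtale := Scheme.AffineEtale.mk (j ≫ snd.left)
  have hW : snd.left ≫ U₀.hom = W.hom := Over.w snd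
  have hlW : lW.left ≫ W.hom = p.str := Over.w lW
  let lB : p.pt ⟶ (G.obj B).obj.left := Over.homMk y' (by
    change y' ≫ (j ≫ snd.left) ≫ U₀.hom = p.str
    rw [Category.assoc, hW, ← Category.assoc, hy', hlW])
  have hlB1 : lB ≫ EtOver.homOfEtale ((Scheme.AffineEtale.Spec U₀.left).obj B) = u₀ := by
    apply Over.OverMorphism.ext
    change y' ≫ j ≫ snd.left = u₀.left
    rw [← Category.assoc, hy', ← h1]
    rfl
  have hlB : (yon S).map lB ≫ (G.obj B).obj.hom = p.toHom := by
    change (yon S).map lB ≫ (yon S).map _ ≫ a₀ = p.toHom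
    rw [← Category.assoc, ← Functor.map_comp, hlB1]
    exact hu₀
  let jW : (G.obj B).obj.left ⟶ W := Over.homMk j (by
    change j ≫ W.hom = (j ≫ snd.left) ≫ U₀.hom
    rw [Category.assoc, hW])
  have hjW : jW ≫ snd = EtOver.homOfEtale ((Scheme.AffineEtale.Spec U₀.left).obj B) := by
    apply Over.OverMorphism.ext
    rfl
  let g : G.obj B ⟶ E := EtOver.homMk (jW ≫ fst') (by
    change (yon S).map (jW ≫ fst') ≫ E.obj.hom = (yon S).map _ ≫ a₀
    rw [Functor.map_comp, Category.assoc, sq.w, ← Category.assoc, ← Functor.map_comp, hjW])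
  refine ⟨(Functor.Elements.precomp G (FieldPt.liftsTo p)).obj ⟨B, ⟨lB, hlB⟩⟩,
    Functor.obj_mem_essImage _ _, ⟨⟨g, ?_⟩⟩⟩
  apply Subtype.ext
  change lB ≫ jW ≫ fst' = v.1
  rw [← h2]
  apply Over.OverMorphism.ext
  change y' ≫ j ≫ fst'.left = lW.left ≫ fst'.left
  rw [← Category.assoc, hy']

/-- joint surjectivity on generating covers extends to the generated topology, for functors with
cofiltered category of elements. -/
theorem jointly_surjective_of_saturate {C : Type*} [Category C] (J : Precoverage C)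
    (F : C ⥤ Type u) [IsCofilteredOrEmpty F.Elements]
    (hF : ∀ {X : C} (R : Presieve X), R ∈ J X → ∀ x : F.obj X,
      ∃ (Y : C) (f : Y ⟶ X) (_ : R f) (y : F.obj Y), F.map f y = x)
    {X : C} (R : Sieve X) (hR : R ∈ J.toGrothendieck X) (x : F.obj X) :
    ∃ (Y : C) (f : Y ⟶ X) (_ : R f) (y : F.obj Y), F.map f y = x := by
  change J.Saturate X R at hR
  induction hR with
  | of X S hS =>
    obtain ⟨Y, f, hf, y, hy⟩ := hF S hS x
    exact ⟨Y, f, Sieve.le_generate S _ _ hf, y, hy⟩
  | top X => exact ⟨X, 𝟙 X, trivial, x, by simp⟩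
  | pullback X S _ Y f ih =>
    obtain ⟨Z, g, hg, z, hz⟩ := ih (F.map f x)
    let a : F.Elements := ⟨Z, z⟩
    let b : F.Elements := ⟨Y, x⟩
    let c : F.Elements := ⟨X, F.map f x⟩
    let g' : a ⟶ c := ⟨g, hz⟩
    let f' : b ⟶ c := ⟨f, rfl⟩
    obtain ⟨⟨W, w⟩, α, β, hαβ⟩ := IsCofiltered.cospan g' f'
    have h1 : α.1 ≫ g = β.1 ≫ f := congrArg Subtype.val hαβ
    refine ⟨W, β.1, ?_, w, β.2⟩
    change S (β.1 ≫ f)
    rw [← h1]
    exact S.downward_closed hg _
  | transitive X S R _ _ ihS ihR =>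
    obtain ⟨Y, f, hf, y, rfl⟩ := ihS x
    obtain ⟨Z, g, hg, z, hz⟩ := ihR hf y
    refine ⟨Z, g ≫ f, hg, z, ?_⟩
    rw [Functor.map_comp]
    change F.map f (F.map g z) = F.map f y
    rw [hz]

theorem exists_lift_of_mem_etPre (p : FieldPt X) [IsSepClosed p.K] {E : EtOver X}
    (R : Presieve E) (hR : R ∈ etPre X E) (x : (FieldPt.liftsTo p).obj E) :
    ∃ (Y : EtOver X) (f : Y ⟶ E) (_ : R f) (y : (FieldPt.liftsTo p).obj Y),
      (FieldPt.liftsTo p).map f y = x := by
  obtain ⟨ι, Y, g, rfl⟩ := R.exists_eq_ofArrows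
  rw [ofArrows_mem_etPre_iff] at hR
  let s : Spec (CommRingCat.of p.K) ⟶ E.obj.left.left := x.1.left
  obtain ⟨i, y, hy⟩ := hR (s default)
  have : Etale (g i).hom.left.left := EtOver.etale_left (g i)
  obtain ⟨l, hl, -⟩ := Scheme.exists_fac_of_etale_of_isSepClosed (g i).hom.left.left s y hy
  have hlS : l ≫ (Y i).obj.left.hom = p.pt.hom := by
    rw [← Over.w (g i).hom.left, ← Category.assoc, hl]
    exact Over.w x.1
  let u' : p.pt ⟶ (Y i).obj.left := Over.homMk l hlS
  have hu : u' ≫ (g i).hom.left = x.1 := Over.OverMorphism.ext hl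
  have hcompat : (yon S).map u' ≫ (Y i).obj.hom = p.toHom := by
    rw [← EtOver.w (g i), ← Category.assoc, ← Functor.map_comp, hu]
    exact x.2
  exact ⟨Y i, g i, ⟨i⟩, ⟨u', hcompat⟩, Subtype.ext hu⟩

/-- the point of the small etale site of `X` defined by a geometric point. -/
noncomputable def point (hX : IsAlgSpace X) (p : FieldPt X) [IsSepClosed p.K] :
    GrothendieckTopology.Point.{u} (etTop X) where
  fiber := FieldPt.liftsTo p
  isCofiltered := isCofiltered_etNbhd hX p
  initiallySmall := initiallySmall_etNbhd hX p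
  jointly_surjective R hR x :=
    jointly_surjective_of_saturate (etPre X) (FieldPt.liftsTo p)
      (fun R hR x => exists_lift_of_mem_etPre p R hR x) R hR x

theorem point_fiber (hX : IsAlgSpace X) (p : FieldPt X) [IsSepClosed p.K] :
    (point hX p).fiber = FieldPt.liftsTo p := rfl

end Groth.Agent.H32.EtStalk
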