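import Groth.Agent.H32.EtStalk3

/-!
# Abelian sheaves on the small etale site of an algebraic space and stalks (helper32)
-/

set_option autoImplicit false
set_option backward.isDefEq.respectTransparency false
universe u
open CategoryTheory CategoryTheory.Limits AlgebraicGeometry Opposite

namespace Groth.Agent.H32.EtStalk

open AlgSp

variable {S : Scheme.{u}} {X : AlgSp.Sp S}

theorem preservesFilteredColimits_forget_ab :
    PreservesFilteredColimitsOfSize.{u, u} (forget AddCommGrpCat.{u + 1}) :=
  preservesFilteredColimitsOfSize_shrink.{u, u + 1, u, u + 1} _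

/-- germs vanish locally. -/
theorem exists_restrict_eq_of_germ_eq (hX : IsAlgSpace X) (H : EtSh X AddCommGrpCat.{u + 1})
    (p : FieldPt X) [IsSepClosed p.K] (E : EtOver X) (l : (FieldPt.liftsTo p).obj E)
    (s t : H.obj.obj (op E))
    (h : (point hX p).toPresheafFiber E l H.obj s = (point hX p).toPresheafFiber E l H.obj t) :
    ∃ (V : EtOver X) (f : V ⟶ E) (l' : (FieldPt.liftsTo p).obj V),
      (FieldPt.liftsTo p).map f l' = l ∧ H.obj.map f.op s = H.obj.map f.op t := by
  have := preservesFilteredColimits_forget_ab.{u}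
  exact ((point hX p).toPresheafFiber_eq_iff' (P := H.obj) E l s t).1 h

theorem ab_separated (H : EtSh X AddCommGrpCat.{u + 1}) {E : EtOver X} (R : Sieve E)
    (hR : R ∈ etTop X E) (s t : H.obj.obj (op E))
    (h : ∀ ⦃V : EtOver X⦄ (f : V ⟶ E), R f → H.obj.map f.op s = H.obj.map f.op t) : s = t := by
  have h1 : Presieve.IsSheaf (etTop X) (H.obj ⋙ forget AddCommGrpCat.{u + 1}) :=
    (isSheaf_iff_isSheaf_of_type _ _).1
      ((Presheaf.isSheaf_iff_isSheaf_forget (etTop X) H.obj (forget AddCommGrpCat.{u + 1})).1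
        H.property)
  exact ((h1.isSeparated _ hR).ext (fun V f hf => h f hf) : (s : (H.obj ⋙ forget _).obj (op E)) = t)

theorem ab_eq_zero_of_stalk (hX : IsAlgSpace X) (H : EtSh X AddCommGrpCat.{u + 1})
    (hH : ∀ p : FieldPt X, p.IsGeometric →
      IsZero ((stalkEtFunctor AddCommGrpCat.{u + 1} p).obj H))
    (E : EtOver X) (s : H.obj.obj (op E)) : s = 0 := by
  have hR : Presheaf.equalizerSieve (F := H.obj) (X := op E) s 0 ∈ etTop X E := by
    apply sieve_mem_etTop_of_geometric
    intro p hp l
    have : IsAlgClosed p.K := hp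
    have hsub : Subsingleton ((stalkEtFunctor AddCommGrpCat.{u + 1} p).obj H) :=
      AddCommGrpCat.subsingleton_of_isZero (hH p hp)
    have h1 : (point hX p).toPresheafFiber E l H.obj s =
        (point hX p).toPresheafFiber E l H.obj 0 := hsub.elim _ _
    obtain ⟨V, f, l', hl', hf⟩ := exists_restrict_eq_of_germ_eq hX H p E l s 0 h1
    exact ⟨V, f, hf, l', hl'⟩
  exact ab_separated H _ hR s 0 (fun V f hf => hf)

theorem isZero_of_stalk (hX : IsAlgSpace X) (H : EtSh X AddCommGrpCat.{u + 1})
    (hH : ∀ p : FieldPt X, p.IsGeometric →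
      IsZero ((stalkEtFunctor AddCommGrpCat.{u + 1} p).obj H)) : IsZero H := by
  rw [IsZero.iff_id_eq_zero]
  apply ObjectProperty.hom_ext
  ext E s
  obtain ⟨E⟩ := E
  exact (ab_eq_zero_of_stalk hX H hH E s).trans (ab_eq_zero_of_stalk hX H hH E _).symm

end Groth.Agent.H32.EtStalk
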