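import Groth.Agent.H32.EtStalk5
import Groth.Agent.H52.Topology

/-!
# Supports of abelian sheaves on the small etale site (helper32)
-/

set_option autoImplicit false
set_option backward.isDefEq.respectTransparency false
universe u
open CategoryTheory CategoryTheory.Limits AlgebraicGeometry Opposite

namespace Groth.Agent.H32.EtStalk

open AlgSp

variable {S : Scheme.{u}} {X : AlgSp.Sp S}

/-- the stalk is nonzero iff some germ is nonzero. -/
theorem not_isZero_stalk_iff (hX : IsAlgSpace X) (H : EtSh X AddCommGrpCat.{u + 1})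
    (p : FieldPt X) [IsSepClosed p.K] :
    ¬ IsZero (stalkEt p H) ↔ ∃ (E : EtOver X) (l : (FieldPt.liftsTo p).obj E)
      (s : H.obj.obj (op E)), (point hX p).toPresheafFiber E l H.obj s ≠ 0 := by
  have := preservesFilteredColimits_forget_ab.{u}
  constructor
  · intro h
    by_contra hcon
    push Not at hcon
    apply h
    have hsub : Subsingleton ↑((point hX p).presheafFiber.obj H.obj) := by
      refine ⟨fun y z => ?_⟩
      obtain ⟨E, l, s, rfl⟩ := (point hX p).toPresheafFiber_jointly_surjective (P := H.obj) y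
      obtain ⟨E', l', s', rfl⟩ := (point hX p).toPresheafFiber_jointly_surjective (P := H.obj) z
      rw [hcon E l s, hcon E' l' s']
    exact @AddCommGrpCat.isZero_of_subsingleton _ hsub
  · rintro ⟨E, l, s, hs⟩ hz
    have hsub : Subsingleton ↑((point hX p).presheafFiber.obj H.obj) :=
      AddCommGrpCat.subsingleton_of_isZero hz
    exact hs (hsub.elim _ _)

/-- the point of `|X|` under a lift of a field-valued point. -/
theorem ofPt_liftsTo (p : FieldPt X) {E : EtOver X} (l : (FieldPt.liftsTo p).obj E)
    (c : ↥p.pt.left) :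
    Points.ofPt E.obj.hom (l.1.left c) = Points.mk p := by
  have h1 : Points.ofPt ((yon S).map l.1 ≫ E.obj.hom) c = Points.ofPt E.obj.hom (l.1.left c) :=
    Groth.Agent.H52.ofPt_yon_map_comp l.1 E.obj.hom c
  have h2 : Points.ofPt ((yon S).map l.1 ≫ E.obj.hom) c = Points.ofPt p.toHom c :=
    congrArg (fun m => Points.ofPt m c) l.2
  have h3 : Points.ofPt p.toHom c = Points.mk p := Points.ofPt_toHom p c
  exact h1.symm.trans (h2.trans h3)

/-- every point of an object of the small etale site is hit by a lift of a geometric point. -/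
theorem exists_geometric_lift (E : EtOver X) (x : ↥E.obj.left.left) :
    ∃ (p : FieldPt X) (_ : IsAlgClosed p.K) (l : (FieldPt.liftsTo p).obj E),
      l.1.left (default : ↥(Spec (CommRingCat.of p.K))) = x := by
  let K := AlgebraicClosure (E.obj.left.left.residueField x)
  let s : Spec (CommRingCat.of K) ⟶ E.obj.left.left :=
    Spec.map (CommRingCat.ofHom (algebraMap (E.obj.left.left.residueField x) K)) ≫
      E.obj.left.left.fromSpecResidueField x
  have hK : IsAlgClosed (ptOf E.obj.hom s).K := inferInstanceAs (IsAlgClosed K)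
  refine ⟨ptOf E.obj.hom s, hK, ptOfLift E s, ?_⟩
  change (E.obj.left.left.fromSpecResidueField x) _ = x
  exact Scheme.fromSpecResidueField_apply _ _

/-- a point `x` of `|X|` lies in the support of `H` iff it is the image of a point outside the zero
locus of some section. -/
theorem support_iff (hX : IsAlgSpace X) (H : EtSh X AddCommGrpCat.{u + 1}) (x : Points X) :
    (∃ p : FieldPt X, p.IsGeometric ∧ Points.mk p = x ∧ ¬ IsZero (stalkEt p H)) ↔
      ∃ (E : EtOver X) (s : H.obj.obj (op E)) (u : ↥E.obj.left.left),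
        Points.ofPt E.obj.hom u = x ∧ u ∉ zeroLocus H E s := by
  constructor
  · rintro ⟨p, hp, rfl, hnz⟩
    have : IsAlgClosed p.K := hp
    obtain ⟨E, l, s, hs⟩ := (not_isZero_stalk_iff hX H p).1 hnz
    refine ⟨E, s, l.1.left (default : ↥(Spec (CommRingCat.of p.K))), ofPt_liftsTo p l _, ?_⟩
    intro hmem
    exact hs ((germ_eq_zero_iff hX H p E l s).2 hmem)
  · rintro ⟨E, s, u, rfl, hu⟩
    obtain ⟨p, hp, l, rfl⟩ := exists_geometric_lift E u
    refine ⟨p, hp, (ofPt_liftsTo p l _).symm, ?_⟩
    rw [not_isZero_stalk_iff hX H p]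
    exact ⟨E, l, s, fun hz => hu ((germ_eq_zero_iff hX H p E l s).1 hz)⟩

end Groth.Agent.H32.EtStalk
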