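import Groth.Agent.H32.EtStalk6
import Mathlib.Algebra.Category.Ring.FilteredColimits

/-!
# Sheaves of rings on the small etale site: triviality of stalks, closed support (helper32)
-/

set_option autoImplicit false
set_option backward.isDefEq.respectTransparency false
universe u
open CategoryTheory CategoryTheory.Limits AlgebraicGeometry Opposite

namespace Groth.Agent.H32.EtStalk

open AlgSp

variable {S : Scheme.{u}} {X : AlgSp.Sp S}

theorem hasColimits_commRing : HasColimitsOfSize.{u, u} CommRingCat.{u + 1} :=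
  hasColimitsOfSizeShrink.{u, u, u + 1, u + 1} _

theorem preservesFilteredColimits_forget_commRing :
    PreservesFilteredColimitsOfSize.{u, u} (forget CommRingCat.{u + 1}) :=
  preservesFilteredColimitsOfSize_shrink.{u, u + 1, u, u + 1} _

/-- lifting a separably closed point to a chart, through a given point of the chart over it. -/
theorem exists_liftsTo_of_ofPt_eq (p : FieldPt X) [IsSepClosed p.K] (V : EtOver X)
    (v : ↥V.obj.left.left) (h : Points.ofPt V.obj.hom v = Points.mk p) :
    ∃ l : (FieldPt.liftsTo p).obj V,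
      l.1.left (default : ↥(Spec (CommRingCat.of p.K))) = v := by
  obtain ⟨W, snd, fst, sq⟩ := V.property.1 p.toHom
  obtain ⟨fst', rfl⟩ := (yon S).map_surjective fst
  have c : ↥p.pt.left := (default : ↥(Spec (CommRingCat.of p.K)))
  have h1 : Points.ofPt V.obj.hom v = Points.ofPt p.toHom c :=
    h.trans (Points.ofPt_toHom p c).symm
  obtain ⟨w, hw1, hw2⟩ := Groth.Agent.H52.exists_of_ofPt_eq_ofPt sq v c h1
  obtain ⟨l, hl, hl'⟩ := exists_lift_of_isPullback V.obj.hom V.property p.str p.toHom fst' snd sq w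
  exact ⟨⟨l, hl⟩, hl'.trans hw1⟩

/-- if the stalk of a sheaf of rings at a geometric point is trivial then `1 = 0` on a neighbourhood. -/
theorem exists_one_eq_zero_of_not_nontrivial (hX : IsAlgSpace X) (O' : EtSh X CommRingCat.{u + 1})
    (p : FieldPt X) [IsSepClosed p.K] (E : EtOver X) (l : (FieldPt.liftsTo p).obj E)
    (h : ¬ Nontrivial ↑(stalkEt p O')) :
    ∃ (V : EtOver X) (f : V ⟶ E) (l' : (FieldPt.liftsTo p).obj V),
      (FieldPt.liftsTo p).map f l' = l ∧ (1 : ↑(O'.obj.obj (op V))) = 0 := by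
  have := hasColimits_commRing.{u}
  have := preservesFilteredColimits_forget_commRing.{u}
  have hsub : Subsingleton ↑((point hX p).presheafFiber.obj O'.obj) :=
    not_nontrivial_iff_subsingleton.1 h
  have h1 : (point hX p).toPresheafFiber E l O'.obj (1 : ↑(O'.obj.obj (op E))) =
      (point hX p).toPresheafFiber E l O'.obj (0 : ↑(O'.obj.obj (op E))) := hsub.elim _ _
  obtain ⟨V, f, l', hl', hf⟩ :=
    ((point hX p).toPresheafFiber_eq_iff' (P := O'.obj) E l _ _).1 h1
  refine ⟨V, f, l', hl', ?_⟩
  have h2 : (O'.obj.map f.op).hom (1 : ↑(O'.obj.obj (op E))) =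
    (O'.obj.map f.op).hom (0 : ↑(O'.obj.obj (op E))) := hf
  rwa [map_one, map_zero] at h2

/-- if `1 = 0` on an etale neighbourhood then the stalk is trivial. -/
theorem not_nontrivial_stalk_of_one_eq_zero (O' : EtSh X CommRingCat.{u + 1})
    (p : FieldPt X) {V : EtOver X} (l' : (FieldPt.liftsTo p).obj V)
    (h : (1 : ↑(O'.obj.obj (op V))) = 0) : ¬ Nontrivial ↑(stalkEt p O') := by
  intro hn
  have h1 : (stalkEtι p O' ⟨V, l'⟩).hom (1 : ↑(O'.obj.obj (op V))) =
      (stalkEtι p O' ⟨V, l'⟩).hom 0 := by rw [h]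
  rw [map_one, map_zero] at h1
  exact one_ne_zero h1

/-- the open locus of a chart where a sheaf of rings is zero. -/
def ringZeroLocus (O' : EtSh X CommRingCat.{u + 1}) (E : EtOver X) :
    TopologicalSpace.Opens ↥E.obj.left.left :=
  ⟨⋃ (V : EtOver X) (f : V ⟶ E) (_ : (1 : ↑(O'.obj.obj (op V))) = 0), Set.range f.hom.left.left,
    isOpen_iUnion fun V => isOpen_iUnion fun f => isOpen_iUnion fun _ => by
      have : Etale f.hom.left.left := EtOver.etale_left f
      exact f.hom.left.left.isOpenMap.isOpen_range⟩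

theorem mem_ringZeroLocus_iff (O' : EtSh X CommRingCat.{u + 1}) (E : EtOver X)
    (x : ↥E.obj.left.left) :
    x ∈ ringZeroLocus O' E ↔ ∃ (V : EtOver X) (f : V ⟶ E) (_ : (1 : ↑(O'.obj.obj (op V))) = 0)
      (v : ↥V.obj.left.left), f.hom.left.left v = x := by
  change x ∈ (⋃ (V : EtOver X) (f : V ⟶ E) (_ : (1 : ↑(O'.obj.obj (op V))) = 0),
    Set.range f.hom.left.left) ↔ _
  simp only [Set.mem_iUnion, Set.mem_range]

/-- the preimage of the support of a sheaf of rings in a chart is the complement of the zero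
locus. -/
theorem preimage_support_ring (hX : IsAlgSpace X) (O' : EtSh X CommRingCat.{u + 1})
    (E : EtOver X) :
    Points.ofPt E.obj.hom ⁻¹' {x : Points X | ∃ p : FieldPt X, p.IsGeometric ∧ Points.mk p = x ∧
        Nontrivial ↑(stalkEt p O')} = (ringZeroLocus O' E : Set ↥E.obj.left.left)ᶜ := by
  ext u
  constructor
  · rintro ⟨p, hp, hpu, hnt⟩ hu
    have : IsAlgClosed p.K := hp
    obtain ⟨V, f, h10, v, hv⟩ := (mem_ringZeroLocus_iff O' E u).1 hu
    have h1 : Points.ofPt V.obj.hom v = Points.mk p := by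
      have h2 : Points.ofPt ((yon S).map f.hom.left ≫ E.obj.hom) v = Points.ofPt V.obj.hom v :=
        congrArg (fun m => Points.ofPt m v) (EtOver.w f)
      have h3 : Points.ofPt ((yon S).map f.hom.left ≫ E.obj.hom) v =
          Points.ofPt E.obj.hom (f.hom.left.left v) :=
        Groth.Agent.H52.ofPt_yon_map_comp f.hom.left E.obj.hom v
      rw [← h2, h3, hv]
      exact hpu.symm
    obtain ⟨l', -⟩ := exists_liftsTo_of_ofPt_eq p V v h1
    exact not_nontrivial_stalk_of_one_eq_zero O' p l' h10 hnt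
  · intro hu
    obtain ⟨p, hp, l, rfl⟩ := exists_geometric_lift E u
    refine ⟨p, hp, (ofPt_liftsTo p l _).symm, ?_⟩
    by_contra hnt
    obtain ⟨V, f, l', hl', h10⟩ := exists_one_eq_zero_of_not_nontrivial hX O' p E l hnt
    apply hu
    refine (mem_ringZeroLocus_iff O' E _).2
      ⟨V, f, h10, l'.1.left (default : ↥(Spec (CommRingCat.of p.K))), ?_⟩
    rw [← hl']
    rfl

/-- the support of a sheaf of rings on the small etale site is closed. -/
theorem isClosed_support_ring (hX : IsAlgSpace X) (O' : EtSh X CommRingCat.{u + 1}) :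
    IsClosed {x : Points X | ∃ p : FieldPt X, p.IsGeometric ∧ Points.mk p = x ∧
        Nontrivial ↑(stalkEt p O')} := by
  obtain ⟨U, a, ha, hs⟩ := hX.atlas
  have hq := Groth.Agent.H52.isQuotientMap_ofPt a ha hs
  rw [← hq.isClosed_preimage]
  have h := preimage_support_ring hX O' (EtOver.mk a ha)
  change Points.ofPt a ⁻¹' _ = _ at h
  rw [h, isClosed_compl_iff]
  exact (ringZeroLocus O' (EtOver.mk a ha)).isOpen

end Groth.Agent.H32.EtStalk
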