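import Groth.Agent.H32.FibProd

/-!
# Fullness of functors over `C` between categories fibred in groupoids, checked over identities
-/

set_option autoImplicit false
open CategoryTheory CategoryTheory.Limits
universe v₅ u₅ v₄ u₄ v₃ u₃ v₂ u₂ v u

namespace Groth.Agent.H32.FibProd

open FibCat

section
variable {C : Type u} [Category.{v} C] {𝒳 : Type u₂} [Category.{v₂} 𝒳] {p : 𝒳 ⥤ C}

/-- An isomorphism of `𝒳` lying over `𝟙 U` as an isomorphism of the fibre over `U`. -/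
noncomputable def fiberIso {U : C} (a b : p.Fiber U) (t : a.1 ⟶ b.1) [IsIso t] [p.IsHomLift (𝟙 U) t] : a ≅ b where
  hom := ⟨t, inferInstance⟩
  inv := ⟨inv t, inferInstance⟩
  hom_inv_id := Functor.Fiber.hom_ext (IsIso.hom_inv_id t)
  inv_hom_id := Functor.Fiber.hom_ext (IsIso.inv_hom_id t)

end

variable {C : Type u} [Category.{v} C] {𝒳 : BasedCategory.{v₂, u₂} C}
  {𝒴 : BasedCategory.{v₃, u₃} C}

/-- A functor over `C` between categories fibred in groupoids is full as soon as it is full on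
morphisms lying over identities. -/
theorem full_of_fiberwise (G : 𝒳 ⥤ᵇ 𝒴) (h𝒳 : IsFibGrpd 𝒳.p) (h𝒴 : IsFibGrpd 𝒴.p)
    (H : ∀ (x x' : 𝒳.obj) (_ : 𝒳.p.obj x' = 𝒳.p.obj x) (χ : G.obj x ⟶ G.obj x')
      [𝒴.p.IsHomLift (𝟙 (𝒳.p.obj x)) χ], ∃ χ₀ : x ⟶ x', G.map χ₀ = χ) :
    G.toFunctor.Full := by
  refine ⟨fun {x y} h => ?_⟩
  change G.obj x ⟶ G.obj y at h
  let f' : 𝒳.p.obj x ⟶ 𝒳.p.obj y :=
    eqToHom (G.w_obj x).symm ≫ 𝒴.p.map h ≫ eqToHom (G.w_obj y)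
  have hf' : 𝒴.p.IsHomLift f' h := inferInstance
  obtain ⟨x', ψ, hψ⟩ := h𝒳.exists_lift (x := y) f'
  have hGψ : 𝒴.p.IsHomLift f' (G.map ψ) := inferInstance
  have hsc : 𝒴.p.IsStronglyCartesian f' (G.map ψ) := sc_of_isFibGrpd 𝒴.p h𝒴 f' (G.map ψ)
  have hid : f' = 𝟙 (𝒳.p.obj x) ≫ f' := (Category.id_comp f').symm
  let χ : G.obj x ⟶ G.obj x' := Functor.IsStronglyCartesian.map 𝒴.p f' (G.map ψ) hid h
  have hχ : 𝒴.p.IsHomLift (𝟙 (𝒳.p.obj x)) χ := inferInstance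
  have hfac : χ ≫ G.map ψ = h := Functor.IsStronglyCartesian.fac 𝒴.p f' (G.map ψ) hid h
  obtain ⟨χ₀, hχ₀⟩ := H x x' (IsHomLift.domain_eq 𝒳.p f' ψ) χ
  refine ⟨χ₀ ≫ ψ, ?_⟩
  rw [G.toFunctor.map_comp]
  rw [hχ₀, hfac]

end Groth.Agent.H32.FibProd
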