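import Groth.Prelude.Def_AlgSt
import Groth.Agent.H32.FibProd
import Groth.Agent.H32.StkLoc
import Groth.Agent.S5139

/-!
# 2-fibre products over a base: pasting, symmetry, composition of equivalences (helper32)
-/

set_option autoImplicit false
open CategoryTheory
universe v₄ u₄ v₃ u₃ v₂ u₂ v u

namespace Groth.Agent.H32.Fp2

open FibCat Groth.Agent.H32.FibProd Groth.Agent.H32.StkLoc

variable {C : Type u} [Category.{v} C]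

theorem id_cancel {D : Type*} [Category D] {a b : D} (p q : a ⟶ b) (h : p ≫ 𝟙 b = 𝟙 a ≫ q) :
    p = q := by
  rwa [Category.comp_id, Category.id_comp] at h

theorem swap_aux {D : Type*} [Category D] {a b a' b' : D} (i : a ≅ b) (i' : a' ≅ b') (p : b ⟶ b')
    (q : a ⟶ a') (h : p ≫ i'.inv = i.inv ≫ q) : q ≫ i'.hom = i.hom ≫ p := by
  rw [← Iso.inv_comp_eq, ← Category.assoc, ← h, Category.assoc, Iso.inv_hom_id, Category.comp_id]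

section iso
variable {𝒳 : BasedCategory.{v₂, u₂} C} {𝒴 : BasedCategory.{v₃, u₃} C}
  {𝒮 : BasedCategory.{v₄, u₄} C} {F : 𝒳 ⥤ᵇ 𝒮} {G : 𝒴 ⥤ᵇ 𝒮}

/-- a morphism of the 2-fibre product with invertible components is invertible. -/
theorem fp_isIso {z z' : (fp F G).obj} (m : z ⟶ z') (h1 : IsIso m.hom.fst) (h2 : IsIso m.hom.snd) :
    IsIso m := by
  have w := m.hom.w
  have c : F.map (inv m.hom.fst) ≫ z.obj.iso.hom = z'.obj.iso.hom ≫ G.map (inv m.hom.snd) := by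
    have e1 : F.map (inv m.hom.fst) = inv (F.map m.hom.fst) := F.toFunctor.map_inv _
    have e2 : G.map (inv m.hom.snd) = inv (G.map m.hom.snd) := G.toFunctor.map_inv _
    rw [e1, e2, IsIso.inv_comp_eq, ← Category.assoc, IsIso.eq_comp_inv]
    exact w.symm
  refine ⟨mkHom F G (inv m.hom.fst) (inv m.hom.snd) c, ?_, ?_⟩
  · exact fp_hom_ext _ _ (IsIso.hom_inv_id m.hom.fst) (IsIso.hom_inv_id m.hom.snd)
  · exact fp_hom_ext _ _ (IsIso.inv_hom_id m.hom.fst) (IsIso.inv_hom_id m.hom.snd)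

end iso

section comp
variable {𝒳 𝒴 𝒵 : BasedCategory.{v₂, u₂} C}

/-- equivalences over the base compose. -/
theorem isEquivOver_comp (F : 𝒳 ⥤ᵇ 𝒴) (G : 𝒴 ⥤ᵇ 𝒵) (hF : IsEquivOver F) (hG : IsEquivOver G) :
    IsEquivOver (BasedFunctor.comp F G) := by
  rw [Groth.Agent.S5139.result] at hF hG ⊢
  obtain ⟨⟨hF1, hF2⟩, hF3⟩ := hF
  obtain ⟨⟨hG1, hG2⟩, hG3⟩ := hG
  refine ⟨⟨?_, ?_⟩, fun η => ?_⟩
  · change (F.toFunctor ⋙ G.toFunctor).Full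
    infer_instance
  · change (F.toFunctor ⋙ G.toFunctor).Faithful
    infer_instance
  · obtain ⟨ξ₂, e₂, he₂⟩ := hG3 η
    obtain ⟨ξ₁, e₁, he₁⟩ := hF3 ξ₂
    have heq : 𝒴.p.obj ξ₂ = 𝒵.p.obj η :=
      (G.w_obj ξ₂).symm.trans (IsHomLift.domain_eq 𝒵.p (𝟙 (𝒵.p.obj η)) e₂.hom)
    have h1 : 𝒵.p.IsHomLift (𝟙 (𝒴.p.obj ξ₂)) (G.map e₁.hom) := inferInstance
    have h2 : 𝒵.p.IsHomLift (𝟙 (𝒵.p.obj η)) (G.map e₁.hom) := isHomLift_id_of_eq 𝒵.p heq _ h1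
    exact ⟨ξ₁, G.toFunctor.mapIso e₁ ≪≫ e₂,
      isHomLift_comp_id_left 𝒵.p (𝟙 (𝒵.p.obj η)) (G.map e₁.hom) e₂.hom h2 he₂⟩

/-- the inverse of an equivalence over the base. -/
theorem exists_inv_isEquivOver {F : 𝒳 ⥤ᵇ 𝒴} (hF : IsEquivOver F) :
    ∃ F' : 𝒴 ⥤ᵇ 𝒳, IsEquivOver F' ∧ Nonempty (BasedFunctor.comp F F' ≅ BasedFunctor.id 𝒳) ∧
      Nonempty (BasedFunctor.comp F' F ≅ BasedFunctor.id 𝒴) := by
  obtain ⟨F', ⟨η⟩, ⟨ε⟩⟩ := hF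
  exact ⟨F', ⟨F, ⟨ε⟩, ⟨η⟩⟩, ⟨η⟩, ⟨ε⟩⟩

end comp

section paste
variable {𝒰 𝒵 𝒴 𝒳 : BasedCategory.{v, max u v} C} (y : 𝒰 ⥤ᵇ 𝒵) (g : 𝒵 ⥤ᵇ 𝒴) (f : 𝒳 ⥤ᵇ 𝒴)

/-- `𝒰 ×_𝒴 𝒳 ⟶ 𝒵 ×_𝒴 𝒳`. -/
def pasteMid : fp (BasedFunctor.comp y g) f ⥤ᵇ fp g f :=
  fpLift (F := g) (G := f) (BasedFunctor.comp (fpFst (BasedFunctor.comp y g) f) y)
    (fpSnd (BasedFunctor.comp y g) f) (fpIso (BasedFunctor.comp y g) f)

/-- the pasting equivalence `𝒰 ×_𝒴 𝒳 ⟶ 𝒰 ×_𝒵 (𝒵 ×_𝒴 𝒳)`, strictly compatible with the first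
projections. -/
def paste : fp (BasedFunctor.comp y g) f ⥤ᵇ fp y (fpFst g f) :=
  fpLift (F := y) (G := fpFst g f) (fpFst (BasedFunctor.comp y g) f) (pasteMid y g f) (Iso.refl _)

theorem paste_fst :
    BasedFunctor.comp (paste y g f) (fpFst y (fpFst g f)) = fpFst (BasedFunctor.comp y g) f := rfl

theorem paste_isEquivOver : IsEquivOver (paste y g f) := by
  rw [Groth.Agent.S5139.result]
  refine ⟨⟨⟨fun {w w'} m => ?_⟩, ⟨fun {w w'} a a' haa' => ?_⟩⟩, fun η => ?_⟩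
  · -- full
    have hw0 : y.map m.hom.fst ≫ 𝟙 _ = 𝟙 _ ≫ m.hom.snd.hom.fst := m.hom.w
    have hw : y.map m.hom.fst = m.hom.snd.hom.fst := id_cancel _ _ hw0
    have hw2 : g.map m.hom.snd.hom.fst ≫ w'.obj.iso.hom =
        w.obj.iso.hom ≫ f.map m.hom.snd.hom.snd := m.hom.snd.hom.w
    have c : (BasedFunctor.comp y g).map m.hom.fst ≫ w'.obj.iso.hom =
        w.obj.iso.hom ≫ f.map m.hom.snd.hom.snd := by
      change g.map (y.map m.hom.fst) ≫ w'.obj.iso.hom = w.obj.iso.hom ≫ f.map m.hom.snd.hom.snd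
      rw [hw]
      exact hw2
    refine ⟨mkHom _ _ m.hom.fst m.hom.snd.hom.snd c, ?_⟩
    refine fp_hom_ext _ _ rfl ?_
    exact fp_hom_ext _ _ hw rfl
  · exact fp_hom_ext _ _ (congrArg (fun t => t.hom.fst) haa')
      (congrArg (fun t => t.hom.snd.hom.snd) haa')
  · -- essentially surjective over the identity
    have hθ : 𝒵.p.IsHomLift (𝟙 (𝒰.p.obj η.obj.fst)) η.obj.iso.hom := η.property
    have hz' : 𝒴.p.IsHomLift (𝟙 (𝒵.p.obj η.obj.snd.obj.fst)) η.obj.snd.obj.iso.hom :=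
      η.obj.snd.property
    have heq : 𝒵.p.obj ((fpFst g f).obj η.obj.snd) = 𝒰.p.obj η.obj.fst :=
      IsHomLift.codomain_eq 𝒵.p (𝟙 (𝒰.p.obj η.obj.fst)) η.obj.iso.hom
    have h1 : 𝒴.p.IsHomLift (𝟙 (𝒰.p.obj η.obj.fst)) (g.map η.obj.iso.hom) :=
      (BasedFunctor.isHomLift_iff g _ _).mpr hθ
    have h2 : 𝒴.p.IsHomLift (𝟙 (𝒰.p.obj η.obj.fst)) η.obj.snd.obj.iso.hom :=
      isHomLift_id_of_eq 𝒴.p heq _ hz'
    have h3 : 𝒴.p.IsHomLift (𝟙 (𝒰.p.obj η.obj.fst))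
        (g.map η.obj.iso.hom ≫ η.obj.snd.obj.iso.hom) :=
      isHomLift_comp_id_left 𝒴.p (𝟙 _) _ _ h1 h2
    let ξ : (fp (BasedFunctor.comp y g) f).obj :=
      mkObj (BasedFunctor.comp y g) f η.obj.fst η.obj.snd.obj.snd
        (g.toFunctor.mapIso η.obj.iso ≪≫ η.obj.snd.obj.iso) h3
    have c1 : g.map η.obj.iso.hom ≫ η.obj.snd.obj.iso.hom =
        ((pasteMid y g f).obj ξ).obj.iso.hom ≫ f.map (𝟙 η.obj.snd.obj.snd) := by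
      change _ = (g.map η.obj.iso.hom ≫ η.obj.snd.obj.iso.hom) ≫ f.map (𝟙 η.obj.snd.obj.snd)
      rw [f.toFunctor.map_id, Category.comp_id]
    let m1 : (pasteMid y g f).obj ξ ⟶ η.obj.snd :=
      mkHom g f η.obj.iso.hom (𝟙 η.obj.snd.obj.snd) c1
    have hm1 : IsIso m1 :=
      fp_isIso m1 (inferInstanceAs (IsIso η.obj.iso.hom)) (inferInstanceAs (IsIso (𝟙 _)))
    have c2 : y.map (𝟙 η.obj.fst) ≫ η.obj.iso.hom =
        ((paste y g f).obj ξ).obj.iso.hom ≫ (fpFst g f).map m1 := by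
      change y.map (𝟙 η.obj.fst) ≫ η.obj.iso.hom = 𝟙 _ ≫ η.obj.iso.hom
      rw [y.toFunctor.map_id]
    let e : (paste y g f).obj ξ ⟶ η := mkHom y (fpFst g f) (𝟙 η.obj.fst) m1 c2
    have he : IsIso e := fp_isIso e (inferInstanceAs (IsIso (𝟙 _))) hm1
    have hl : (fp y (fpFst g f)).p.IsHomLift (𝟙 ((fp y (fpFst g f)).p.obj η)) e :=
      (fp_isHomLift_iff _ _ _ _).mpr (IsHomLift.id rfl)
    exact ⟨ξ, asIso e, hl⟩

end paste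

section swap
variable {𝒳 𝒴 𝒮 : BasedCategory.{v, max u v} C} (F : 𝒳 ⥤ᵇ 𝒮) (G : 𝒴 ⥤ᵇ 𝒮)

/-- the symmetry `𝒳 ×_𝒮 𝒴 ⟶ 𝒴 ×_𝒮 𝒳`. -/
def swap : fp F G ⥤ᵇ fp G F :=
  fpLift (F := G) (G := F) (fpSnd F G) (fpFst F G) (fpIso F G).symm

theorem swap_isEquivOver : IsEquivOver (swap F G) := by
  rw [Groth.Agent.S5139.result]
  refine ⟨⟨⟨fun {w w'} m => ?_⟩, ⟨fun {w w'} a a' haa' => ?_⟩⟩, fun η => ?_⟩
  · have hw : G.map m.hom.fst ≫ w'.obj.iso.inv = w.obj.iso.inv ≫ F.map m.hom.snd := m.hom.w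
    have c : F.map m.hom.snd ≫ w'.obj.iso.hom = w.obj.iso.hom ≫ G.map m.hom.fst :=
      swap_aux _ _ _ _ hw
    exact ⟨mkHom F G m.hom.snd m.hom.fst c, fp_hom_ext _ _ rfl rfl⟩
  · exact fp_hom_ext _ _ (congrArg (fun t => t.hom.snd) haa') (congrArg (fun t => t.hom.fst) haa')
  · have hη : 𝒮.p.IsHomLift (𝟙 (𝒴.p.obj η.obj.fst)) η.obj.iso.hom := η.property
    have heq : 𝒴.p.obj η.obj.fst = 𝒳.p.obj η.obj.snd := (fp_snd_obj_eq G F η).symm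
    have h1 : 𝒮.p.IsHomLift (𝟙 (𝒴.p.obj η.obj.fst)) η.obj.iso.inv := inferInstance
    have h2 : 𝒮.p.IsHomLift (𝟙 (𝒳.p.obj η.obj.snd)) η.obj.iso.symm.hom :=
      isHomLift_id_of_eq 𝒮.p heq _ h1
    let ξ : (fp F G).obj := mkObj F G η.obj.snd η.obj.fst η.obj.iso.symm h2
    have c : G.map (𝟙 η.obj.fst) ≫ η.obj.iso.hom =
        ((swap F G).obj ξ).obj.iso.hom ≫ F.map (𝟙 η.obj.snd) := by
      change G.map (𝟙 η.obj.fst) ≫ η.obj.iso.hom = η.obj.iso.hom ≫ F.map (𝟙 η.obj.snd)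
      rw [G.toFunctor.map_id, F.toFunctor.map_id, Category.id_comp, Category.comp_id]
    let e : (swap F G).obj ξ ⟶ η := mkHom G F (𝟙 η.obj.fst) (𝟙 η.obj.snd) c
    have he : IsIso e :=
      fp_isIso e (inferInstanceAs (IsIso (𝟙 _))) (inferInstanceAs (IsIso (𝟙 _)))
    have hl : (fp G F).p.IsHomLift (𝟙 ((fp G F).p.obj η)) e :=
      (fp_isHomLift_iff _ _ _ _).mpr (IsHomLift.id rfl)
    exact ⟨ξ, asIso e, hl⟩

end swap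

end Groth.Agent.H32.Fp2
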