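import Groth.Agent.H32.Fp2

/-!
# Invariance of 2-fibre products under equivalences and 2-isomorphisms of the legs (helper32)
-/

set_option autoImplicit false
open CategoryTheory
universe v u

namespace Groth.Agent.H32.Fp3

open FibCat Groth.Agent.H32.FibProd Groth.Agent.H32.StkLoc Groth.Agent.H32.Fp2

variable {C : Type u} [Category.{v} C]

theorem congr_aux {D : Type*} [Category D] {a a' b b' c c' : D} (i : a ≅ b) (i' : a' ≅ b')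
    (p : a ⟶ a') (q : b ⟶ b') (hn : p ≫ i'.hom = i.hom ≫ q) (φ : a ⟶ c) (φ' : a' ⟶ c')
    (r : c ⟶ c') (h : q ≫ (i'.inv ≫ φ') = (i.inv ≫ φ) ≫ r) : p ≫ φ' = φ ≫ r := by
  have h1 : p ≫ φ' = i.hom ≫ (q ≫ (i'.inv ≫ φ')) := by
    rw [← Category.assoc i.hom, ← hn, Category.assoc, Iso.hom_inv_id_assoc]
  rw [h1, h, Category.assoc, Iso.hom_inv_id_assoc]

theorem congr_aux' {D : Type*} [Category D] {a a' b b' c c' : D} (i : a ≅ b) (i' : a' ≅ b')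
    (p : a ⟶ a') (q : b ⟶ b') (hn : p ≫ i'.hom = i.hom ≫ q) (φ : a ⟶ c) (φ' : a' ⟶ c')
    (r : c ⟶ c') (h : p ≫ φ' = φ ≫ r) : q ≫ (i'.inv ≫ φ') = (i.inv ≫ φ) ≫ r := by
  have h1 : q ≫ i'.inv = i.inv ≫ p := by
    rw [Iso.eq_inv_comp, ← Category.assoc, ← hn, Category.assoc, Iso.hom_inv_id, Category.comp_id]
  rw [← Category.assoc, h1, Category.assoc, h, Category.assoc]

theorem faith_aux {D D' : Type*} [Category D] [Category D'] (E : D ⥤ D') (hE : E.Faithful)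
    {a b c d : D} (p : a ⟶ b) (q : b ⟶ d) (r : a ⟶ c) (s : c ⟶ d)
    (h : E.map p ≫ E.map q = E.map r ≫ E.map s) : p ≫ q = r ≫ s :=
  hE.map_injective (by rw [E.map_comp, E.map_comp]; exact h)

theorem id_aux {D : Type*} [Category D] {a b : D} (i1 : a ⟶ a) (i2 : b ⟶ b) (h1 : i1 = 𝟙 a)
    (h2 : i2 = 𝟙 b) (p q : a ⟶ b) (h : q = p) : i1 ≫ p = q ≫ i2 := by
  rw [h1, h2, h, Category.id_comp, Category.comp_id]

section left
variable {𝒰 𝒵 𝒴 𝒳 : BasedCategory.{v, max u v} C}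

/-- precomposing the first leg with an equivalence does not change the 2-fibre product. -/
theorem pasteMid_isEquivOver (y : 𝒰 ⥤ᵇ 𝒵) (g : 𝒵 ⥤ᵇ 𝒴) (f : 𝒳 ⥤ᵇ 𝒴) (hy : IsEquivOver y) :
    IsEquivOver (pasteMid y g f) := by
  rw [Groth.Agent.S5139.result] at hy ⊢
  obtain ⟨⟨hfull, hfaith⟩, hess⟩ := hy
  refine ⟨⟨⟨fun {w w'} n => ?_⟩, ⟨fun {w w'} m m' hmm' => ?_⟩⟩, fun η => ?_⟩
  · obtain ⟨k, hk⟩ := hfull.map_surjective n.hom.fst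
    have hk' : y.map k = n.hom.fst := hk
    have hw : g.map n.hom.fst ≫ w'.obj.iso.hom = w.obj.iso.hom ≫ f.map n.hom.snd := n.hom.w
    have c : (BasedFunctor.comp y g).map k ≫ w'.obj.iso.hom =
        w.obj.iso.hom ≫ f.map n.hom.snd := by
      change g.map (y.map k) ≫ w'.obj.iso.hom = w.obj.iso.hom ≫ f.map n.hom.snd
      rw [hk']
      exact hw
    exact ⟨mkHom _ _ k n.hom.snd c, fp_hom_ext _ _ hk' rfl⟩
  · have e1 : y.map m.hom.fst = y.map m'.hom.fst := congrArg (fun t => t.hom.fst) hmm'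
    exact fp_hom_ext _ _ (hfaith.map_injective e1) (congrArg (fun t => t.hom.snd) hmm')
  · obtain ⟨u, e, he⟩ := hess η.obj.fst
    have hη : 𝒴.p.IsHomLift (𝟙 (𝒵.p.obj η.obj.fst)) η.obj.iso.hom := η.property
    have heq : 𝒵.p.obj η.obj.fst = 𝒰.p.obj u :=
      ((y.w_obj u).symm.trans
        (IsHomLift.domain_eq 𝒵.p (𝟙 (𝒵.p.obj η.obj.fst)) e.hom)).symm
    have h1 : 𝒴.p.IsHomLift (𝟙 (𝒵.p.obj η.obj.fst)) (g.map e.hom) :=
      (BasedFunctor.isHomLift_iff g _ _).mpr he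
    have h3 : 𝒴.p.IsHomLift (𝟙 (𝒵.p.obj η.obj.fst)) (g.map e.hom ≫ η.obj.iso.hom) :=
      isHomLift_comp_id_left 𝒴.p (𝟙 _) _ _ h1 hη
    have h4 : 𝒴.p.IsHomLift (𝟙 (𝒰.p.obj u)) (g.map e.hom ≫ η.obj.iso.hom) :=
      isHomLift_id_of_eq 𝒴.p heq _ h3
    let ξ : (fp (BasedFunctor.comp y g) f).obj :=
      mkObj (BasedFunctor.comp y g) f u η.obj.snd (g.toFunctor.mapIso e ≪≫ η.obj.iso) h4
    have c1 : g.map e.hom ≫ η.obj.iso.hom =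
        ((pasteMid y g f).obj ξ).obj.iso.hom ≫ f.map (𝟙 η.obj.snd) := by
      change _ = (g.map e.hom ≫ η.obj.iso.hom) ≫ f.map (𝟙 η.obj.snd)
      rw [f.toFunctor.map_id, Category.comp_id]
    let m1 : (pasteMid y g f).obj ξ ⟶ η := mkHom g f e.hom (𝟙 η.obj.snd) c1
    have hm1 : IsIso m1 :=
      fp_isIso m1 (inferInstanceAs (IsIso e.hom)) (inferInstanceAs (IsIso (𝟙 _)))
    have hl : (fp g f).p.IsHomLift (𝟙 ((fp g f).p.obj η)) m1 :=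
      (fp_isHomLift_iff _ _ _ _).mpr he
    exact ⟨ξ, asIso m1, hl⟩

/-- component of a 2-isomorphism. -/
def appIso {y y' : 𝒰 ⥤ᵇ 𝒵} (α : y ≅ y') (u : 𝒰.obj) : y.obj u ≅ y'.obj u :=
  ((BasedNatTrans.forgetful _ _).mapIso α).app u

theorem appIso_isHomLift {y y' : 𝒰 ⥤ᵇ 𝒵} (α : y ≅ y') (u : 𝒰.obj) :
    𝒵.p.IsHomLift (𝟙 (𝒰.p.obj u)) (appIso α u).hom := α.hom.isHomLift' u

theorem appIso_naturality {y y' : 𝒰 ⥤ᵇ 𝒵} (α : y ≅ y') {u u' : 𝒰.obj} (k : u ⟶ u') :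
    y.map k ≫ (appIso α u').hom = (appIso α u).hom ≫ y'.map k :=
  α.hom.toNatTrans.naturality k

/-- the 2-isomorphism used to change the first leg. -/
def congrLeftIso {y y' : 𝒰 ⥤ᵇ 𝒵} (α : y ≅ y') (f : 𝒳 ⥤ᵇ 𝒵) :
    BasedFunctor.comp (fpFst y f) y' ≅ BasedFunctor.comp (fpSnd y f) f :=
  BasedNatIso.mkNatIso
    (NatIso.ofComponents (fun w => (appIso α w.obj.fst).symm ≪≫ w.obj.iso)
      (fun {w w'} m => congr_aux' (appIso α w.obj.fst) (appIso α w'.obj.fst) (y.map m.hom.fst)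
        (y'.map m.hom.fst) (appIso_naturality α m.hom.fst) w.obj.iso.hom w'.obj.iso.hom
        (f.map m.hom.snd) m.hom.w))
    (fun w => by
      have h1 : 𝒵.p.IsHomLift (𝟙 (𝒰.p.obj w.obj.fst)) (appIso α w.obj.fst).hom :=
        appIso_isHomLift α w.obj.fst
      have h2 : 𝒵.p.IsHomLift (𝟙 (𝒰.p.obj w.obj.fst)) (appIso α w.obj.fst).inv := inferInstance
      have h3 : 𝒵.p.IsHomLift (𝟙 (𝒰.p.obj w.obj.fst)) w.obj.iso.hom := w.property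
      exact isHomLift_comp_id_left 𝒵.p (𝟙 _) _ _ h2 h3)

/-- change of the first leg along a 2-isomorphism. -/
def congrLeft {y y' : 𝒰 ⥤ᵇ 𝒵} (α : y ≅ y') (f : 𝒳 ⥤ᵇ 𝒵) : fp y f ⥤ᵇ fp y' f :=
  fpLift (F := y') (G := f) (fpFst y f) (fpSnd y f) (congrLeftIso α f)

theorem congrLeft_fst {y y' : 𝒰 ⥤ᵇ 𝒵} (α : y ≅ y') (f : 𝒳 ⥤ᵇ 𝒵) :
    BasedFunctor.comp (congrLeft α f) (fpFst y' f) = fpFst y f := rfl

theorem congrLeft_snd {y y' : 𝒰 ⥤ᵇ 𝒵} (α : y ≅ y') (f : 𝒳 ⥤ᵇ 𝒵) :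
    BasedFunctor.comp (congrLeft α f) (fpSnd y' f) = fpSnd y f := rfl

theorem congrLeft_isEquivOver {y y' : 𝒰 ⥤ᵇ 𝒵} (α : y ≅ y') (f : 𝒳 ⥤ᵇ 𝒵) :
    IsEquivOver (congrLeft α f) := by
  rw [Groth.Agent.S5139.result]
  refine ⟨⟨⟨fun {w w'} n => ?_⟩, ⟨fun {w w'} m m' hmm' => ?_⟩⟩, fun η => ?_⟩
  · have hw : y'.map n.hom.fst ≫ ((appIso α w'.obj.fst).inv ≫ w'.obj.iso.hom) =
        ((appIso α w.obj.fst).inv ≫ w.obj.iso.hom) ≫ f.map n.hom.snd := n.hom.w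
    have c : y.map n.hom.fst ≫ w'.obj.iso.hom = w.obj.iso.hom ≫ f.map n.hom.snd :=
      congr_aux (appIso α w.obj.fst) (appIso α w'.obj.fst) (y.map n.hom.fst)
        (y'.map n.hom.fst) (appIso_naturality α n.hom.fst) _ _ _ hw
    exact ⟨mkHom y f n.hom.fst n.hom.snd c, fp_hom_ext _ _ rfl rfl⟩
  · exact fp_hom_ext _ _ (congrArg (fun t => t.hom.fst) hmm') (congrArg (fun t => t.hom.snd) hmm')
  · have hη : 𝒵.p.IsHomLift (𝟙 (𝒰.p.obj η.obj.fst)) η.obj.iso.hom := η.property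
    have h1 : 𝒵.p.IsHomLift (𝟙 (𝒰.p.obj η.obj.fst)) (appIso α η.obj.fst).hom :=
      appIso_isHomLift α η.obj.fst
    have h2 : 𝒵.p.IsHomLift (𝟙 (𝒰.p.obj η.obj.fst))
        ((appIso α η.obj.fst).hom ≫ η.obj.iso.hom) :=
      isHomLift_comp_id_left 𝒵.p (𝟙 _) _ _ h1 hη
    let ξ : (fp y f).obj := mkObj y f η.obj.fst η.obj.snd (appIso α η.obj.fst ≪≫ η.obj.iso) h2
    have c : y'.map (𝟙 η.obj.fst) ≫ η.obj.iso.hom =
        ((congrLeft α f).obj ξ).obj.iso.hom ≫ f.map (𝟙 η.obj.snd) := by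
      change y'.map (𝟙 η.obj.fst) ≫ η.obj.iso.hom =
        ((appIso α η.obj.fst).inv ≫ ((appIso α η.obj.fst).hom ≫ η.obj.iso.hom)) ≫
          f.map (𝟙 η.obj.snd)
      rw [y'.toFunctor.map_id, f.toFunctor.map_id, Category.id_comp, Category.comp_id,
        Iso.inv_hom_id_assoc]
    let e : (congrLeft α f).obj ξ ⟶ η := mkHom y' f (𝟙 η.obj.fst) (𝟙 η.obj.snd) c
    have he : IsIso e :=
      fp_isIso e (inferInstanceAs (IsIso (𝟙 _))) (inferInstanceAs (IsIso (𝟙 _)))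
    have hl : (fp y' f).p.IsHomLift (𝟙 ((fp y' f).p.obj η)) e :=
      (fp_isHomLift_iff _ _ _ _).mpr (IsHomLift.id rfl)
    exact ⟨ξ, asIso e, hl⟩

end left

section right
variable {𝒰 𝒵 𝒴 𝒳 : BasedCategory.{v, max u v} C}

/-- precomposing the second leg with an equivalence: `fp y (E ≫ h) ⟶ fp y h`. -/
def pasteMidR (y : 𝒰 ⥤ᵇ 𝒴) (E : 𝒳 ⥤ᵇ 𝒵) (h : 𝒵 ⥤ᵇ 𝒴) :
    fp y (BasedFunctor.comp E h) ⥤ᵇ fp y h :=
  BasedFunctor.comp (swap y (BasedFunctor.comp E h))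
    (BasedFunctor.comp (pasteMid E h y) (swap h y))

theorem pasteMidR_fst (y : 𝒰 ⥤ᵇ 𝒴) (E : 𝒳 ⥤ᵇ 𝒵) (h : 𝒵 ⥤ᵇ 𝒴) :
    BasedFunctor.comp (pasteMidR y E h) (fpFst y h) = fpFst y (BasedFunctor.comp E h) := rfl

theorem pasteMidR_isEquivOver (y : 𝒰 ⥤ᵇ 𝒴) (E : 𝒳 ⥤ᵇ 𝒵) (h : 𝒵 ⥤ᵇ 𝒴) (hE : IsEquivOver E) :
    IsEquivOver (pasteMidR y E h) :=
  isEquivOver_comp _ _ (swap_isEquivOver _ _)
    (isEquivOver_comp _ _ (pasteMid_isEquivOver E h y hE) (swap_isEquivOver _ _))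

/-- change of the second leg along a 2-isomorphism. -/
def congrRight (y : 𝒰 ⥤ᵇ 𝒴) {f f' : 𝒳 ⥤ᵇ 𝒴} (α : f ≅ f') : fp y f ⥤ᵇ fp y f' :=
  BasedFunctor.comp (swap y f) (BasedFunctor.comp (congrLeft α y) (swap f' y))

theorem congrRight_fst (y : 𝒰 ⥤ᵇ 𝒴) {f f' : 𝒳 ⥤ᵇ 𝒴} (α : f ≅ f') :
    BasedFunctor.comp (congrRight y α) (fpFst y f') = fpFst y f := rfl

theorem congrRight_isEquivOver (y : 𝒰 ⥤ᵇ 𝒴) {f f' : 𝒳 ⥤ᵇ 𝒴} (α : f ≅ f') :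
    IsEquivOver (congrRight y α) :=
  isEquivOver_comp _ _ (swap_isEquivOver _ _)
    (isEquivOver_comp _ _ (congrLeft_isEquivOver α y) (swap_isEquivOver _ _))

end right

section post
variable {𝒰 𝒴 𝒴' 𝒳 : BasedCategory.{v, max u v} C}

/-- the 2-isomorphism for postcomposition of both legs. -/
def fpPostIso (y : 𝒰 ⥤ᵇ 𝒴) (f : 𝒳 ⥤ᵇ 𝒴) (E : 𝒴 ⥤ᵇ 𝒴') :
    BasedFunctor.comp (fpFst y f) (BasedFunctor.comp y E) ≅
      BasedFunctor.comp (fpSnd y f) (BasedFunctor.comp f E) :=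
  BasedNatIso.mkNatIso
    (NatIso.ofComponents (fun w => E.toFunctor.mapIso w.obj.iso)
      (fun {w w'} m => by
        change E.map (y.map m.hom.fst) ≫ E.map w'.obj.iso.hom =
          E.map w.obj.iso.hom ≫ E.map (f.map m.hom.snd)
        rw [← E.toFunctor.map_comp, ← E.toFunctor.map_comp]
        exact congrArg (fun t => E.map t) m.hom.w))
    (fun w => (BasedFunctor.isHomLift_iff E _ _).mpr w.property)

/-- postcomposition of both legs with a functor over the base. -/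
def fpPost (y : 𝒰 ⥤ᵇ 𝒴) (f : 𝒳 ⥤ᵇ 𝒴) (E : 𝒴 ⥤ᵇ 𝒴') :
    fp y f ⥤ᵇ fp (BasedFunctor.comp y E) (BasedFunctor.comp f E) :=
  fpLift (F := BasedFunctor.comp y E) (G := BasedFunctor.comp f E) (fpFst y f) (fpSnd y f)
    (fpPostIso y f E)

theorem fpPost_fst (y : 𝒰 ⥤ᵇ 𝒴) (f : 𝒳 ⥤ᵇ 𝒴) (E : 𝒴 ⥤ᵇ 𝒴') :
    BasedFunctor.comp (fpPost y f E) (fpFst _ _) = fpFst y f := rfl

theorem fpPost_isEquivOver (y : 𝒰 ⥤ᵇ 𝒴) (f : 𝒳 ⥤ᵇ 𝒴) (E : 𝒴 ⥤ᵇ 𝒴')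
    (hfull : E.toFunctor.Full) (hfaith : E.toFunctor.Faithful) :
    IsEquivOver (fpPost y f E) := by
  rw [Groth.Agent.S5139.result]
  refine ⟨⟨⟨fun {w w'} n => ?_⟩, ⟨fun {w w'} m m' hmm' => ?_⟩⟩, fun η => ?_⟩
  · have hw : E.map (y.map n.hom.fst) ≫ E.map w'.obj.iso.hom =
        E.map w.obj.iso.hom ≫ E.map (f.map n.hom.snd) := n.hom.w
    have c : y.map n.hom.fst ≫ w'.obj.iso.hom = w.obj.iso.hom ≫ f.map n.hom.snd :=
      faith_aux E.toFunctor hfaith _ _ _ _ hw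
    exact ⟨mkHom y f n.hom.fst n.hom.snd c, fp_hom_ext _ _ rfl rfl⟩
  · exact fp_hom_ext _ _ (congrArg (fun t => t.hom.fst) hmm') (congrArg (fun t => t.hom.snd) hmm')
  · have := hfull
    have := hfaith
    have hη : 𝒴'.p.IsHomLift (𝟙 (𝒰.p.obj η.obj.fst)) η.obj.iso.hom := η.property
    let ψ : y.obj η.obj.fst ≅ f.obj η.obj.snd := E.toFunctor.preimageIso η.obj.iso
    have hψ' : E.map ψ.hom = η.obj.iso.hom := E.toFunctor.map_preimage η.obj.iso.hom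
    have hψ : 𝒴.p.IsHomLift (𝟙 (𝒰.p.obj η.obj.fst)) ψ.hom := by
      apply (BasedFunctor.isHomLift_iff E _ _).mp
      rw [hψ']
      exact hη
    let ξ : (fp y f).obj := mkObj y f η.obj.fst η.obj.snd ψ hψ
    have c : (BasedFunctor.comp y E).map (𝟙 η.obj.fst) ≫ η.obj.iso.hom =
        ((fpPost y f E).obj ξ).obj.iso.hom ≫ (BasedFunctor.comp f E).map (𝟙 η.obj.snd) := by
      exact id_aux _ _ ((BasedFunctor.comp y E).toFunctor.map_id _)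
        ((BasedFunctor.comp f E).toFunctor.map_id _) _ _ hψ'
    let e : (fpPost y f E).obj ξ ⟶ η :=
      mkHom (BasedFunctor.comp y E) (BasedFunctor.comp f E) (𝟙 η.obj.fst) (𝟙 η.obj.snd) c
    have he : IsIso e :=
      fp_isIso e (inferInstanceAs (IsIso (𝟙 _))) (inferInstanceAs (IsIso (𝟙 _)))
    have hl : (fp (BasedFunctor.comp y E) (BasedFunctor.comp f E)).p.IsHomLift
        (𝟙 ((fp (BasedFunctor.comp y E) (BasedFunctor.comp f E)).p.obj η)) e :=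
      (fp_isHomLift_iff _ _ _ _).mpr (IsHomLift.id rfl)
    exact ⟨ξ, asIso e, hl⟩

end post

end Groth.Agent.H32.Fp3
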