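import Groth.Agent.S10505
import Groth.Agent.S10546
import Groth.Agent.S10531

/-!
# fpqc local on the base implies fppf local on the base (helper32)
-/

set_option autoImplicit false
open CategoryTheory CategoryTheory.Limits AlgebraicGeometry Opposite
universe u

namespace Groth.Agent.H32.FppfLocal

variable {S : Scheme.{u}}

theorem isLocalOnBase_fppf_of_fpqc (P : MorphismProperty (AlgSp.Sp S))
    (h : AlgSp.IsLocalOnBase (AlgSp.IsFpqcCover (S := S)) P) :
    AlgSp.IsLocalOnBase (AlgSp.IsFppfCover (S := S)) P := by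
  intro ι Y Yi g hY hYi hcov X f hX Xi p q hXi hsq
  refine h Yi g hY hYi ?_ f hX Xi p q hXi hsq
  exact Groth.Agent.S10505.result (⟨Y, hY⟩ : AlgSp.Space S) (fun i => ⟨Yi i, hYi i⟩)
    (fun i => ObjectProperty.homMk (g i)) hcov

theorem isLocalOnBase_fppf_mono :
    AlgSp.IsLocalOnBase (AlgSp.IsFppfCover (S := S)) (MorphismProperty.monomorphisms (AlgSp.Sp S)) :=
  isLocalOnBase_fppf_of_fpqc _ (Groth.Agent.S10546.result S)

theorem isLocalOnBase_fppf_openImm :
    AlgSp.IsLocalOnBase (AlgSp.IsFppfCover (S := S)) (AlgSp.RepWith @IsOpenImmersion) :=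
  isLocalOnBase_fppf_of_fpqc _ (Groth.Agent.S10531.result S)

end Groth.Agent.H32.FppfLocal
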