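import Mathlib

/-!
# Embedding small field extensions into large algebraically closed fields (helper32)
-/

set_option autoImplicit false
universe u
open Cardinal

namespace Groth.Agent.H32.GeomLift

/-- cardinality of a finite extension stays below an infinite bound. -/
theorem card_lt_of_finite {E L k : Type u} [Field E] [Field L] [Field k] [Algebra E L]
    [Module.Finite E L] [Infinite k] (h : #E < #k) : #L < #k := by
  rcases finite_or_infinite E with hE | hE
  · have : Finite L := Module.finite_of_finite E
    exact (Cardinal.lt_aleph0_of_finite L).trans_le (Cardinal.aleph0_le_mk k)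
  · have h1 : #L ≤ max #E ℵ₀ := Algebra.IsAlgebraic.cardinalMk_le_max E L
    have h2 : max #E ℵ₀ = #E := max_eq_left (Cardinal.aleph0_le_mk E)
    exact (h1.trans_eq h2).trans_lt h

theorem exists_embedding_aux {F L k : Type u} [Field F] [Field L] [Field k] [IsAlgClosed k]
    [Algebra F L] [Algebra F k] (s : Set L) (hs : IsTranscendenceBasis F ((↑) : s → L))
    (s' : Set k) (hs' : IsTranscendenceBasis F ((↑) : s' → k)) (j : s ↪ s') :
    ∃ τ : L →+* k, τ.comp (algebraMap F L) = algebraMap F k := by
  let A := Algebra.adjoin F (Set.range ((↑) : s → L))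
  let e : MvPolynomial s F ≃ₐ[F] A := hs.1.aevalEquiv
  let g : MvPolynomial s F →ₐ[F] k := MvPolynomial.aeval (fun i => ((j i : s') : k))
  have hg : Function.Injective g := hs'.1.comp j j.injective
  let h0 : A →ₐ[F] k := g.comp e.symm.toAlgHom
  have hh0 : Function.Injective h0 := hg.comp e.symm.injective
  let _ : Algebra A k := h0.toRingHom.toAlgebra
  have : Module.IsTorsionFree A k := Module.isTorsionFree_iff_algebraMap_injective.2 hh0
  have : Algebra.IsAlgebraic A L := hs.isAlgebraic
  let τ : L →ₐ[A] k := IsAlgClosed.lift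
  refine ⟨τ.toRingHom, ?_⟩
  ext a
  have h1 : algebraMap F L a = algebraMap A L (algebraMap F A a) := rfl
  change τ (algebraMap F L a) = _
  rw [h1, τ.commutes]
  change h0 (algebraMap F A a) = _
  exact h0.commutes a

/-- an extension of smaller cardinality embeds into an algebraically closed extension. -/
theorem exists_embedding {F L k : Type u} [Field F] [Field L] [Field k] [IsAlgClosed k]
    (ψ : F →+* L) (φ : F →+* k) (h : #L < #k) : ∃ τ : L →+* k, τ.comp ψ = φ := by
  let _ := ψ.toAlgebra
  let _ := φ.toAlgebra
  by_cases hk : ℵ₀ < #k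
  · obtain ⟨s, hs⟩ := exists_isTranscendenceBasis F (A := L)
    obtain ⟨s', hs'⟩ := exists_isTranscendenceBasis F (A := k)
    have hF : #F ≤ #L := Cardinal.mk_le_of_injective ψ.injective
    have hs1 : #s ≤ #L := Cardinal.mk_set_le s
    have hk2 : #k ≤ max (max #F #s') ℵ₀ :=
      IsAlgClosed.cardinal_le_max_transcendence_basis' _ hs'
    have hs2 : #k ≤ #s' := by
      by_contra hcon
      have hcon' : #s' < #k := not_le.1 hcon
      have : max (max #F #s') ℵ₀ < #k := max_lt (max_lt (hF.trans_lt h) hcon') hk
      exact absurd hk2 (not_le.2 this)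
    have hle : #s ≤ #s' := hs1.trans (h.le.trans hs2)
    obtain ⟨j⟩ := (Cardinal.le_def _ _).1 hle
    exact exists_embedding_aux s hs s' hs' j
  · have hfin : #L < ℵ₀ := h.trans_le (not_lt.1 hk)
    have : Finite L := Cardinal.lt_aleph0_iff_finite.1 hfin
    have : Module.Finite F L := Module.Finite.of_finite
    let τ : L →ₐ[F] k := IsAlgClosed.lift
    refine ⟨τ.toRingHom, ?_⟩
    ext a
    exact τ.commutes a

end Groth.Agent.H32.GeomLift
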