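import Groth.Agent.H32.GeomLift1

/-!
# Lifting geometric points through small residue fields (helper32)
-/

set_option autoImplicit false
universe u
open CategoryTheory CategoryTheory.Limits AlgebraicGeometry Cardinal

namespace Groth.Agent.H32.GeomLift

/-- residue field extensions of unramified morphisms locally of finite type are finite. -/
theorem finite_residueField {X Y : Scheme.{u}} (f : X ⟶ Y) [FormallyUnramified f]
    [LocallyOfFiniteType f] (x : X) : (f.residueFieldMap x).hom.Finite := by
  algebraize [(f.stalkMap x).hom]
  have : IsLocalHom (algebraMap (Y.presheaf.stalk (f x)) (X.presheaf.stalk x)) :=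
    inferInstanceAs <| IsLocalHom (f.stalkMap x).hom
  suffices h : Module.Finite
      (IsLocalRing.ResidueField <| Y.presheaf.stalk (f x))
      (IsLocalRing.ResidueField <| X.presheaf.stalk x) by
    have h2 : (algebraMap (IsLocalRing.ResidueField (Y.presheaf.stalk (f x)))
      (IsLocalRing.ResidueField (X.presheaf.stalk x))).Finite := RingHom.finite_algebraMap.2 h
    exact h2
  have : Algebra.EssFiniteType (Y.presheaf.stalk (f x)) (X.presheaf.stalk x) := by
    rw [← RingHom.essFiniteType_algebraMap, RingHom.algebraMap_toAlgebra]
    exact LocallyOfFiniteType.stalkMap f x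
  have : Algebra.FormallyUnramified (Y.presheaf.stalk (f x)) (X.presheaf.stalk x) := by
    rw [← RingHom.formallyUnramified_algebraMap, RingHom.algebraMap_toAlgebra]
    exact FormallyUnramified.stalkMap f x
  infer_instance

/-- the residue field at a point of an etale cover is no larger than the bound for the base. -/
theorem card_residueField_lt {X Y : Scheme.{u}} (f : X ⟶ Y) [Etale f] (x : X) {k : Type u}
    [Field k] [Infinite k] (h : #(Y.residueField (f x)) < #k) : #(X.residueField x) < #k := by
  letI : Algebra (Y.residueField (f x)) (X.residueField x) :=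
    (f.residueFieldMap x).hom.toAlgebra
  have : Module.Finite (Y.residueField (f x)) (X.residueField x) := finite_residueField f x
  exact card_lt_of_finite h

/-- a geometric point of the target lifts through a point with small residue field. -/
theorem exists_lift_point {W V : Scheme.{u}} (g : W ⟶ V) (w : W) {k : Type u} [Field k]
    [IsAlgClosed k] (l : Spec (CommRingCat.of k) ⟶ V) (c : ↥(Spec (CommRingCat.of k)))
    (hl : l c = g w) (hc : #(W.residueField w) < #k) :
    ∃ m : Spec (CommRingCat.of k) ⟶ W, m ≫ g = l ∧ m c = w := by
  have key : ∀ (v : V) (_ : l c = v),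
      ∃ φ : V.residueField v ⟶ CommRingCat.of k, Spec.map φ ≫ V.fromSpecResidueField v = l := by
    rintro v rfl
    have h0 : l (IsLocalRing.closedPoint k) = l c :=
      congrArg l (Subsingleton.elim (α := ↥(Spec (CommRingCat.of k))) _ _)
    have key' : ∀ (v : V) (_ : l (IsLocalRing.closedPoint k) = v),
        ∃ φ : V.residueField v ⟶ CommRingCat.of k,
          Spec.map φ ≫ V.fromSpecResidueField v = l := by
      rintro v rfl
      exact ⟨_, Scheme.descResidueField_stalkClosedPointTo_fromSpecResidueField k V l⟩
    exact key' _ h0
  obtain ⟨φ, hφ⟩ := key (g w) hl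
  obtain ⟨τ, hτ⟩ := exists_embedding (g.residueFieldMap w).hom φ.hom hc
  let τ' : W.residueField w ⟶ CommRingCat.of k := CommRingCat.ofHom τ
  have h3 : g.residueFieldMap w ≫ τ' = φ := CommRingCat.hom_ext hτ
  refine ⟨Spec.map τ' ≫ W.fromSpecResidueField w, ?_, ?_⟩
  · rw [Category.assoc, ← Scheme.Hom.SpecMap_residueFieldMap_fromSpecResidueField,
      ← Spec.map_comp_assoc, h3, hφ]
  · rw [Scheme.Hom.comp_apply]
    exact Scheme.fromSpecResidueField_apply _ _

end Groth.Agent.H32.GeomLift
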