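import Groth.Prelude.Def_AlgSt
import Groth.Prelude.Def_StGerb2
import Groth.Agent.H32.FibProd
import Groth.Agent.H32.StkLoc
import Groth.Agent.S5139

/-!
# A category fibred in setoids is equivalent to the category of its presheaf of isomorphism
classes (helper32)
-/

set_option autoImplicit false
open CategoryTheory Opposite
universe v u

namespace Groth.Agent.H32.IsoClEquiv

open FibCat Stk Groth.Agent.H32.FibProd Groth.Agent.H32.StkLoc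

variable {C : Type u} [Category.{v} C]

theorem eq_of_thin {𝒳 : Type _} [Category 𝒳] {p : 𝒳 ⥤ C} {U : C}
    (h : Quiver.IsThin (p.Fiber U)) {a b : 𝒳} (φ ψ : a ⟶ b)
    (h1 : p.IsHomLift (𝟙 U) φ) (h2 : p.IsHomLift (𝟙 U) ψ) : φ = ψ := by
  have := (h (Functor.Fiber.mk (IsHomLift.domain_eq p (𝟙 U) φ))
    (Functor.Fiber.mk (IsHomLift.codomain_eq p (𝟙 U) φ))).elim
      (Functor.Fiber.homMk p U φ) (Functor.Fiber.homMk p U ψ)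
  exact congrArg Subtype.val this

variable (𝒳 : BasedCategory.{v, max u v} C) [FibCat.IsFibGrpd 𝒳.p]

theorem isoRel_equiv (U : C) : Equivalence (Gerb.IsoRel 𝒳 U) where
  refl a := ⟨𝟙 a⟩
  symm := by
    rintro a b ⟨ψ⟩
    have h1 : 𝒳.p.IsHomLift (𝟙 U) ψ.1 := ψ.2
    have : IsIso ψ.1 := isIso_of_isFibGrpd 𝒳.p inferInstance (𝟙 U) ψ.1
    exact ⟨⟨inv ψ.1, inferInstance⟩⟩
  trans := by
    rintro a b c ⟨ψ⟩ ⟨χ⟩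
    exact ⟨ψ ≫ χ⟩

theorem isoCl_mk_eq_iff {U : C} (a b : 𝒳.p.Fiber U) :
    Quot.mk (Gerb.IsoRel 𝒳 U) a = Quot.mk (Gerb.IsoRel 𝒳 U) b ↔ Nonempty (a ⟶ b) :=
  ⟨fun h => (isoRel_equiv 𝒳 U).eqvGen_iff.mp (Quot.eqvGen_exact h), fun h => Quot.sound h⟩

theorem map_cl {x y : 𝒳.obj} (φ : x ⟶ y) :
    (Gerb.isoClPsh 𝒳).map (𝒳.p.map φ).op (Quot.mk _ ⟨y, rfl⟩) =
      (Quot.mk _ ⟨x, rfl⟩ : Gerb.IsoCl 𝒳 (𝒳.p.obj x)) := by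
  change Quot.mk (Gerb.IsoRel 𝒳 (𝒳.p.obj x)) (Gerb.pullFib 𝒳 (𝒳.p.map φ) ⟨y, rfl⟩) =
    Quot.mk _ ⟨x, rfl⟩
  have hφ : 𝒳.p.IsHomLift (𝒳.p.map φ ≫ eqToHom rfl) φ := by
    rw [eqToHom_refl, Category.comp_id]
    infer_instance
  obtain ⟨χ, hχ, -⟩ := Gerb.exists_hom_pull 𝒳 y (𝒳.p.map φ ≫ eqToHom rfl) φ hφ
  exact (Quot.sound ⟨⟨χ, hχ⟩⟩).symm

/-- the functor to the category of the presheaf of isomorphism classes. -/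
noncomputable def toIsoCl : 𝒳 ⥤ᵇ Stk.ofPsh (Gerb.isoClPsh 𝒳) where
  toFunctor :=
    { obj := fun x => ⟨𝒳.p.obj x, Quot.mk _ ⟨x, rfl⟩⟩
      map := fun {x y} φ => ⟨𝒳.p.map φ, map_cl 𝒳 φ⟩
      map_id := fun x => EltObj.hom_ext (𝒳.p.map_id x)
      map_comp := fun φ ψ => EltObj.hom_ext (𝒳.p.map_comp φ ψ) }
  w := rfl

theorem toIsoCl_isEquivOver (hthin : ∀ U : C, Quiver.IsThin (𝒳.p.Fiber U)) :
    IsEquivOver (toIsoCl 𝒳) := by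
  have h𝒳 : IsFibGrpd 𝒳.p := inferInstance
  rw [Groth.Agent.S5139.result]
  refine ⟨⟨⟨fun {x y} m => ?_⟩, ⟨fun {x y} φ φ' hφφ' => ?_⟩⟩, fun η => ?_⟩
  · have hsec : Quot.mk (Gerb.IsoRel 𝒳 (𝒳.p.obj x)) (Gerb.pullFib 𝒳 m.hom ⟨y, rfl⟩) =
        Quot.mk _ ⟨x, rfl⟩ := m.map_sec
    obtain ⟨ψ⟩ := (isoCl_mk_eq_iff 𝒳 _ _).mp hsec.symm
    have hψ : 𝒳.p.IsHomLift (𝟙 (𝒳.p.obj x)) ψ.1 := ψ.2
    have hp : 𝒳.p.IsHomLift (m.hom ≫ eqToHom rfl) (Gerb.pullHom 𝒳 y (m.hom ≫ eqToHom rfl)) :=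
      Gerb.pullHom_isHomLift 𝒳 y (m.hom ≫ eqToHom rfl)
    have hp' : 𝒳.p.IsHomLift m.hom (Gerb.pullHom 𝒳 y (m.hom ≫ eqToHom rfl)) := by
      have e : m.hom ≫ eqToHom rfl = m.hom := by rw [eqToHom_refl, Category.comp_id]
      rw [e] at hp
      exact hp
    have hφ : 𝒳.p.IsHomLift m.hom (ψ.1 ≫ Gerb.pullHom 𝒳 y (m.hom ≫ eqToHom rfl)) :=
      isHomLift_comp_id_left 𝒳.p m.hom _ _ hψ hp'
    refine ⟨ψ.1 ≫ Gerb.pullHom 𝒳 y (m.hom ≫ eqToHom rfl), EltObj.hom_ext ?_⟩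
    exact (@IsHomLift.eq_of_isHomLift _ _ _ _ 𝒳.p _ _ m.hom _ hφ).symm
  · have e : 𝒳.p.map φ = 𝒳.p.map φ' := congrArg (fun t => t.hom) hφφ'
    have hb : 𝒳.p.IsHomLift (𝒳.p.map φ) φ := inferInstance
    have hb' : 𝒳.p.IsHomLift (𝒳.p.map φ) φ' := by rw [e]; infer_instance
    obtain ⟨α, hα, hαb⟩ := exists_aut 𝒳.p h𝒳 (𝒳.p.map φ) φ φ' hb hb'
    have hα1 : α = 𝟙 x := eq_of_thin (hthin _) α (𝟙 x) hα (IsHomLift.id rfl)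
    rw [← hαb, hα1, Category.id_comp]
  · obtain ⟨U, c⟩ := η
    obtain ⟨a, ha⟩ := Quot.exists_rep c
    subst ha
    obtain ⟨x, hx⟩ := a
    change 𝒳.p.obj x = U at hx
    subst hx
    exact ⟨x, Iso.refl _, IsHomLift.id rfl⟩

end Groth.Agent.H32.IsoClEquiv
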