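import Groth.Prelude.Def_AlgSt
import Groth.Prelude.Def_StGerb
import Groth.Prelude.Def_StGerb2
import Groth.Agent.H32.IsoClEquiv

/-!
# The map from the presheaf of isomorphism classes of a gerbe over a presheaf to that presheaf
(helper32)
-/

set_option autoImplicit false
open CategoryTheory Opposite
universe v₂ u₂ v u

namespace Groth.Agent.H32.GerbCl

open FibCat Stk Groth.Agent.H32.FibProd Groth.Agent.H32.StkLoc

variable {C : Type u} [Category.{v} C]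
variable {𝒳 : BasedCategory.{v₂, u₂} C} [FibCat.IsFibGrpd 𝒳.p]
variable {P : Cᵒᵖ ⥤ Type u₂} (π : 𝒳 ⥤ᵇ Stk.ofPsh P)

/-- the section of `P` over `U` attached to an object over `U`. -/
def secAt' {U : C} (x : 𝒳.obj) (hx : 𝒳.p.obj x = U) : P.obj (op U) :=
  P.map (eqToHom (hx.symm.trans (π.w_obj x).symm) : U ⟶ (π.obj x).base).op (π.obj x).sec

theorem map_map_eq {A B D : C} (m : A ⟶ B) (n : B ⟶ D) (s : P.obj (op D)) :
    P.map m.op (P.map n.op s) = P.map (m ≫ n).op s := by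
  rw [op_comp, FunctorToTypes.map_comp_apply]

theorem aux1 {A B D E : C} (f : B ⟶ D) (h₁ : A = B) (h₂ : D = E) (h₃ : B = A) (h₂' : D = E) :
    eqToHom h₃ ≫ (eqToHom h₁ ≫ f ≫ eqToHom h₂) = f ≫ eqToHom h₂' := by
  subst h₁ h₂; simp

theorem aux2 {A V U : C} (f : V ⟶ U) (h₁ : V = A) (h₂ : A = V) (h₃ : U = U) :
    (eqToHom h₁ ≫ eqToHom h₂ ≫ f ≫ eqToHom h₃) = f := by
  subst h₁; simp

theorem aux3 {A B : C} (h : A = B) (h' : B = A) (s : P.obj (op B)) :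
    P.map (eqToHom h').op (P.map (eqToHom h).op s) = s := by
  subst h; simp

theorem aux4 {A B D : C} (h₁ : A = B) (h₂ : B = D) (h₃ : A = D) (s : P.obj (op D)) :
    P.map (eqToHom h₁).op (P.map (eqToHom h₂).op s) = P.map (eqToHom h₃).op s := by
  subst h₁ h₂; simp

theorem hom_eq {U V : C} (f : V ⟶ U) {x y : 𝒳.obj} (ψ : y ⟶ x) (hψ : 𝒳.p.IsHomLift f ψ)
    (hx : 𝒳.p.obj x = U) (hy : 𝒳.p.obj y = V) :
    (eqToHom (hy.symm.trans (π.w_obj y).symm) : V ⟶ (π.obj y).base) ≫ (π.map ψ).hom =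
      f ≫ (eqToHom (hx.symm.trans (π.w_obj x).symm) : U ⟶ (π.obj x).base) := by
  have h1 : (Stk.ofPsh P).p.IsHomLift f (π.map ψ) := (BasedFunctor.isHomLift_iff π f ψ).2 hψ
  have h2 := @IsHomLift.fac' _ _ _ _ (Stk.ofPsh P).p _ _ _ _ f (π.map ψ) h1
  change (π.map ψ).hom = _ at h2
  rw [h2]
  exact aux1 f _ _ _ _

theorem sec_natural {U V : C} (f : V ⟶ U) {x y : 𝒳.obj} (ψ : y ⟶ x) (hψ : 𝒳.p.IsHomLift f ψ)
    (hx : 𝒳.p.obj x = U) (hy : 𝒳.p.obj y = V) :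
    P.map f.op (secAt' π x hx) = secAt' π y hy := by
  have h := hom_eq π f ψ hψ hx hy
  have hs : P.map (π.map ψ).hom.op (π.obj x).sec = (π.obj y).sec := (π.map ψ).map_sec
  unfold secAt'
  rw [← hs, map_map_eq, map_map_eq, h]

/-- the map of presheaves. -/
noncomputable def clMap : Gerb.isoClPsh 𝒳 ⟶ P where
  app U := ↾Quot.lift (fun a : 𝒳.p.Fiber U.unop => secAt' π a.1 a.2) (by
    rintro ⟨xa, ha⟩ ⟨xb, hb⟩ ⟨φ⟩
    have hφ : 𝒳.p.IsHomLift (𝟙 U.unop) φ.1 := φ.2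
    have := sec_natural π (𝟙 U.unop) φ.1 hφ hb ha
    change secAt' π xa ha = secAt' π xb hb
    rw [← this, op_id, P.map_id]
    rfl)
  naturality := by
    intro U V f
    ext a
    obtain ⟨⟨xa, ha⟩⟩ := a
    change secAt' π (Gerb.pullFib 𝒳 f.unop ⟨xa, ha⟩).1 (Gerb.pullFib 𝒳 f.unop ⟨xa, ha⟩).2 =
      P.map f (secAt' π xa ha)
    have hp' : 𝒳.p.IsHomLift f.unop (Gerb.pullHom 𝒳 xa (f.unop ≫ eqToHom ha.symm)) :=
      IsHomLift.of_fac' 𝒳.p _ _ (Gerb.pull_over 𝒳 xa _) ha (by rw [Gerb.pullHom_map])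
    exact (sec_natural π f.unop _ hp' ha (Gerb.pull_over 𝒳 xa _)).symm

theorem clMap_mk {U : C} (x : 𝒳.obj) (hx : 𝒳.p.obj x = U) :
    (clMap π).app (op U) (Quot.mk _ ⟨x, hx⟩) = secAt' π x hx := rfl

/-- restriction of a class along a morphism that lifts. -/
theorem map_cl' {U V : C} (f : V ⟶ U) {x y : 𝒳.obj} (ψ : y ⟶ x) (hψ : 𝒳.p.IsHomLift f ψ)
    (hx : 𝒳.p.obj x = U) (hy : 𝒳.p.obj y = V) :
    (Gerb.isoClPsh 𝒳).map f.op (Quot.mk _ ⟨x, hx⟩) =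
      (Quot.mk _ ⟨y, hy⟩ : Gerb.IsoCl 𝒳 V) := by
  change Quot.mk (Gerb.IsoRel 𝒳 V) (Gerb.pullFib 𝒳 f ⟨x, hx⟩) = Quot.mk _ ⟨y, hy⟩
  have hφ : 𝒳.p.IsHomLift (f ≫ eqToHom hx.symm) ψ := by
    refine IsHomLift.of_fac' 𝒳.p _ _ hy rfl ?_
    have h2 := @IsHomLift.fac' _ _ _ _ 𝒳.p _ _ _ _ f ψ hψ
    rw [h2]
    simp
  obtain ⟨χ, hχ, -⟩ := Gerb.exists_hom_pull 𝒳 x (f ≫ eqToHom hx.symm) ψ hφ
  exact (Quot.sound ⟨⟨χ, hχ⟩⟩).symm

theorem isLocallySurjective (J : GrothendieckTopology C) (h : Gerb.LocSurjObj J π) :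
    Presheaf.IsLocallySurjective J (clMap π) where
  imageSieve_mem {U} s := by
    obtain ⟨R, hR, hR'⟩ := h (⟨U, s⟩ : EltObj P)
    refine J.superset_covering ?_ hR
    intro V f hf
    obtain ⟨x, g, hg⟩ := hR' f hf
    have hx : 𝒳.p.obj x = V := (π.w_obj x).symm.trans
      (@IsHomLift.domain_eq _ _ _ _ (Stk.ofPsh P).p _ _ _ _ f g hg)
    refine ⟨Quot.mk _ ⟨x, hx⟩, ?_⟩
    change secAt' π x hx = P.map f.op s
    have h2 := @IsHomLift.fac' _ _ _ _ (Stk.ofPsh P).p _ _ _ _ f g hg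
    change g.hom = _ at h2
    have hs : P.map g.hom.op s = (π.obj x).sec := g.map_sec
    unfold secAt'
    rw [← hs, map_map_eq, h2]
    exact congrArg (fun m : V ⟶ U => P.map m.op s) (aux2 f _ _ _)

theorem isLocallyInjective (J : GrothendieckTopology C) (h : Gerb.LocSurjHom J π) :
    Presheaf.IsLocallyInjective J (clMap π) where
  equalizerSieve_mem {U} s t hst := by
    obtain ⟨U⟩ := U
    obtain ⟨⟨xa, ha⟩⟩ := s
    obtain ⟨⟨xb, hb⟩⟩ := t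
    change 𝒳.p.obj xa = U at ha
    subst ha
    change secAt' π xa rfl = secAt' π xb hb at hst
    have hbase : (π.obj xa).base = (π.obj xb).base :=
      (π.w_obj xa).trans (hb.symm.trans (π.w_obj xb).symm)
    have hsec : P.map (eqToHom hbase).op (π.obj xb).sec = (π.obj xa).sec := by
      have h1 : (π.obj xa).sec = P.map (eqToHom (π.w_obj xa) : (π.obj xa).base ⟶ 𝒳.p.obj xa).op
          (secAt' π xa rfl) := by
        exact (aux3 _ _ _).symm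
      rw [h1, hst]
      exact (aux4 _ _ _ _).symm
    let b₀ : π.obj xa ⟶ π.obj xb := ⟨eqToHom hbase, hsec⟩
    have hb₀ : (Stk.ofPsh P).p.IsHomLift (𝟙 (𝒳.p.obj xa)) b₀ :=
      IsHomLift.of_fac' (Stk.ofPsh P).p _ _ (π.w_obj xa) ((π.w_obj xb).trans hb) (by
        change eqToHom hbase = _
        rw [Category.id_comp]
        exact (eqToHom_trans _ _).symm)
    obtain ⟨R, hR, hR'⟩ := h xa xb b₀ hb₀
    refine J.superset_covering ?_ hR
    intro V f hf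
    obtain ⟨x₀, φ, ψ, hφ, hψ, -⟩ := hR' f hf
    have hx₀ : 𝒳.p.obj x₀ = V := @IsHomLift.domain_eq _ _ _ _ 𝒳.p _ _ _ _ f φ hφ
    change (Gerb.isoClPsh 𝒳).map f.op (Quot.mk _ ⟨xa, rfl⟩) =
      (Gerb.isoClPsh 𝒳).map f.op (Quot.mk _ ⟨xb, hb⟩)
    rw [map_cl' f φ hφ rfl hx₀, map_cl' f ψ hψ hb hx₀]

end Groth.Agent.H32.GerbCl
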