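import Groth.Prelude.Def_AlgSt
import Groth.Agent.H32.StkLoc

/-!
# Gluing morphisms in a prestack (helper32)

* `eq_of_locally`: two morphisms over the same base morphism which agree locally on the source agree.
* `glue_hom`: a compatible family of morphisms on a covering sieve glues (relational form).
-/

set_option autoImplicit false
open CategoryTheory
universe v₄ u₄ v₃ u₃ v₂ u₂ v u

namespace Groth.Agent.H32.StkGlue

open FibCat Groth.Agent.H32.FibProd Groth.Agent.H32.Yoneda2 Groth.Agent.H32.StkLoc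

theorem aux_fin {D : Type*} [Category D] {s Ya YT t Y'a Y'T t' : D} (k : s ⟶ Ya) (Yι : Ya ⟶ YT)
    (τ : YT ⟶ t) (τi : t ⟶ YT) (νT : YT ⟶ Y'T) (τ' : Y'T ⟶ t') (νa νa' : Ya ⟶ Y'a)
    (Y'ι : Y'a ⟶ Y'T) (ma : Ya ⟶ t') (h0 : τ ≫ τi = 𝟙 YT) (hν : νa' = νa)
    (nat : Yι ≫ νT = νa' ≫ Y'ι) (fac : νa ≫ Y'ι ≫ τ' = ma) :
    (k ≫ Yι ≫ τ) ≫ τi ≫ νT ≫ τ' = k ≫ ma := by
  subst hν
  calc (k ≫ Yι ≫ τ) ≫ τi ≫ νT ≫ τ' = k ≫ Yι ≫ (τ ≫ τi) ≫ νT ≫ τ' := by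
        simp only [Category.assoc]
    _ = k ≫ (Yι ≫ νT) ≫ τ' := by rw [h0, Category.id_comp, Category.assoc]
    _ = k ≫ ma := by rw [nat, Category.assoc, fac]

theorem aux_nat2 {D : Type*} [Category D] {Ya Yb Y'a Y'b t' : D} (Yk : Ya ⟶ Yb) (nb : Yb ⟶ Y'b)
    (na : Ya ⟶ Y'a) (Y'k : Y'a ⟶ Y'b) (sb : Y'b ⟶ t') (sa : Y'a ⟶ t') (mb : Yb ⟶ t')
    (ma : Ya ⟶ t') (fb : nb ≫ sb = mb) (fa : na ≫ sa = ma) (h3 : Y'k ≫ sb = sa)
    (h4 : Yk ≫ mb = ma) : (Yk ≫ nb) ≫ sb = (na ≫ Y'k) ≫ sb := by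
  rw [Category.assoc, fb, h4, Category.assoc, h3, fa]

theorem aux_map3 {D E : Type*} [Category D] [Category E] (G : D ⥤ E) {A B Z : D} {t : E}
    (f : A ⟶ B) (g : B ⟶ Z) (h : A ⟶ Z) (τ : G.obj Z ⟶ t) (w : f ≫ g = h) :
    G.map f ≫ G.map g ≫ τ = G.map h ≫ τ := by
  rw [← Category.assoc, ← G.map_comp, w]

section
variable {C : Type u} [Category.{v} C] {𝒯 : BasedCategory.{v, max u v} C}

/-- two morphisms over the same base morphism which agree locally on the source are equal. -/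
theorem eq_of_locally (h𝒯 : IsFibGrpd 𝒯.p) {W W' : C} (u : W ⟶ W') (R : Sieve W)
    (hfa : (Stk.resSieve R 𝒯).Faithful) {t t' : 𝒯.obj} (b b' : t ⟶ t')
    (hb : 𝒯.p.IsHomLift u b) (hb' : 𝒯.p.IsHomLift u b')
    (hloc : ∀ ⦃V : C⦄ (f : V ⟶ W), R f → ∀ (s : 𝒯.obj) (ψ : s ⟶ t), 𝒯.p.IsHomLift f ψ →
      ψ ≫ b = ψ ≫ b') : b = b' := by
  obtain ⟨α, hα, hαb⟩ := exists_aut 𝒯.p h𝒯 u b b' hb hb'
  have ht : 𝒯.p.obj t = W := IsHomLift.domain_eq 𝒯.p u b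
  have hα1 : α = 𝟙 t := by
    refine aut_eq_id h𝒯 R hfa t ht α hα ?_
    intro a s ψ hψ
    have sc := sc_of_isFibGrpd 𝒯.p h𝒯 u b
    have l1 : 𝒯.p.IsHomLift a.obj.hom (ψ ≫ α) :=
      isHomLift_comp_id_right 𝒯.p a.obj.hom ψ α hψ hα
    refine Functor.IsStronglyCartesian.ext 𝒯.p u b a.obj.hom ?_
    rw [Category.assoc, hαb]
    exact (hloc a.obj.hom a.property s ψ hψ).symm
  rw [← hαb, hα1, Category.id_comp]

/-- gluing of morphisms in a prestack, in relational form. -/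
theorem glue_hom (h𝒯 : IsFibGrpd 𝒯.p) {W : C} (R : Sieve W)
    (hfull : (Stk.resSieve R 𝒯).Full) {t t' : 𝒯.obj} (ht : 𝒯.p.obj t = W)
    (ht' : 𝒯.p.obj t' = W)
    (Rel : ∀ {s : 𝒯.obj}, (s ⟶ t) → (s ⟶ t') → Prop)
    (hex : ∀ ⦃V : C⦄ (f : V ⟶ W), R f → ∀ (s : 𝒯.obj) (ψ : s ⟶ t), 𝒯.p.IsHomLift f ψ →
      ∃ ψ' : s ⟶ t', 𝒯.p.IsHomLift f ψ' ∧ Rel ψ ψ')
    (huniq : ∀ (s : 𝒯.obj) (ψ : s ⟶ t) (ψ₁ ψ₂ : s ⟶ t'), Rel ψ ψ₁ → Rel ψ ψ₂ → ψ₁ = ψ₂)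
    (hnat : ∀ (s s' : 𝒯.obj) (χ : s ⟶ s') (ψ : s' ⟶ t) (ψ' : s' ⟶ t'), Rel ψ ψ' →
      Rel (χ ≫ ψ) (χ ≫ ψ')) :
    ∃ μ : t ⟶ t', 𝒯.p.IsHomLift (𝟙 W) μ ∧
      ∀ ⦃V : C⦄ (f : V ⟶ W), R f → ∀ (s : 𝒯.obj) (ψ : s ⟶ t), 𝒯.p.IsHomLift f ψ →
        Rel ψ (ψ ≫ μ) := by
  haveI : 𝒯.p.IsFibered := Groth.Agent.H32.Split.isFibered_of_isFibGrpd 𝒯 h𝒯
  obtain ⟨Y, -, τ, hτiso, hτ⟩ := exists_based_functor (Groth.Agent.H32.Split.hT W) t ht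
  obtain ⟨Y', -, τ', hτ'iso, hτ'⟩ := exists_based_functor (Groth.Agent.H32.Split.hT W) t' ht'
  have hτl : 𝒯.p.IsHomLift (𝟙 W) τ := hτ
  have hτ'l : 𝒯.p.IsHomLift (𝟙 W) τ' := hτ'
  have hτinv : 𝒯.p.IsHomLift (𝟙 W) (inv τ) := inferInstance
  let ι : ∀ a : (Stk.sieveCat R).obj, a.obj ⟶ Groth.Agent.H32.Split.T W := fun a =>
    Over.homMk a.obj.hom (by simp)
  have hιk : ∀ {a b : (Stk.sieveCat R).obj} (k : a ⟶ b), k.hom ≫ ι b = ι a := by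
    intro a b k
    apply Over.OverMorphism.ext
    exact Over.w k.hom
  have hιl : ∀ a : (Stk.sieveCat R).obj, (FibCat.overCat W).p.IsHomLift a.obj.hom (ι a) :=
    fun a => IsHomLift.map (FibCat.overCat W).p (ι a)
  let ψa : ∀ a : (Stk.sieveCat R).obj, Y.obj a.obj ⟶ t := fun a => Y.map (ι a) ≫ τ
  have hψa : ∀ a : (Stk.sieveCat R).obj, 𝒯.p.IsHomLift a.obj.hom (ψa a) := fun a =>
    isHomLift_comp_id_right 𝒯.p a.obj.hom (Y.map (ι a)) τ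
      ((BasedFunctor.isHomLift_iff Y a.obj.hom (ι a)).mpr (hιl a)) hτl
  let sa : ∀ a : (Stk.sieveCat R).obj, Y'.obj a.obj ⟶ t' := fun a => Y'.map (ι a) ≫ τ'
  have hsa : ∀ a : (Stk.sieveCat R).obj, 𝒯.p.IsHomLift a.obj.hom (sa a) := fun a =>
    isHomLift_comp_id_right 𝒯.p a.obj.hom (Y'.map (ι a)) τ'
      ((BasedFunctor.isHomLift_iff Y' a.obj.hom (ι a)).mpr (hιl a)) hτ'l
  have ssc : ∀ a : (Stk.sieveCat R).obj, 𝒯.p.IsStronglyCartesian a.obj.hom (sa a) := fun a =>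
    haveI := hsa a
    sc_of_isFibGrpd 𝒯.p h𝒯 a.obj.hom (sa a)
  have hex' : ∀ a : (Stk.sieveCat R).obj, ∃ ψ' : Y.obj a.obj ⟶ t',
      𝒯.p.IsHomLift a.obj.hom ψ' ∧ Rel (ψa a) ψ' := fun a =>
    hex a.obj.hom a.property _ (ψa a) (hψa a)
  choose m hm hrel using hex'
  have hid : ∀ a : (Stk.sieveCat R).obj, a.obj.hom = 𝟙 a.obj.left ≫ a.obj.hom := fun a =>
    (Category.id_comp _).symm
  let n : ∀ a : (Stk.sieveCat R).obj, Y.obj a.obj ⟶ Y'.obj a.obj := fun a =>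
    haveI := ssc a
    haveI := hm a
    Functor.IsStronglyCartesian.map 𝒯.p a.obj.hom (sa a) (hid a) (m a)
  have n_fac : ∀ a, n a ≫ sa a = m a := fun a =>
    haveI := ssc a
    haveI := hm a
    Functor.IsStronglyCartesian.fac 𝒯.p a.obj.hom (sa a) (hid a) (m a)
  have n_lift : ∀ a : (Stk.sieveCat R).obj, 𝒯.p.IsHomLift (𝟙 a.obj.left) (n a) := fun a =>
    haveI := ssc a
    haveI := hm a
    Functor.IsStronglyCartesian.map_isHomLift 𝒯.p a.obj.hom (sa a) (hid a) (m a)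
  have nat : ∀ {a b : (Stk.sieveCat R).obj} (k : a ⟶ b),
      Y.toFunctor.map k.hom ≫ n b = n a ≫ Y'.toFunctor.map k.hom := by
    intro a b k
    have hkl : (FibCat.overCat W).p.IsHomLift k.hom.left k.hom :=
      IsHomLift.map (FibCat.overCat W).p k.hom
    have l1 : 𝒯.p.IsHomLift k.hom.left (Y.toFunctor.map k.hom ≫ n b) :=
      isHomLift_comp_id_right 𝒯.p k.hom.left _ _
        ((BasedFunctor.isHomLift_iff Y _ _).mpr hkl) (n_lift b)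
    have l2 : 𝒯.p.IsHomLift k.hom.left (n a ≫ Y'.toFunctor.map k.hom) :=
      isHomLift_comp_id_left 𝒯.p k.hom.left _ _ (n_lift a)
        ((BasedFunctor.isHomLift_iff Y' _ _).mpr hkl)
    haveI := ssc b
    refine Functor.IsStronglyCartesian.ext 𝒯.p b.obj.hom (sa b) k.hom.left ?_
    have h3 : Y'.toFunctor.map k.hom ≫ sa b = sa a :=
      aux_map3 Y'.toFunctor k.hom (ι b) (ι a) τ' (hιk k)
    have h3' : Y.toFunctor.map k.hom ≫ ψa b = ψa a :=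
      aux_map3 Y.toFunctor k.hom (ι b) (ι a) τ (hιk k)
    have h4 : Y.toFunctor.map k.hom ≫ m b = m a := by
      have r1 := hnat _ _ (Y.toFunctor.map k.hom) (ψa b) (m b) (hrel b)
      rw [h3'] at r1
      exact huniq _ _ _ _ r1 (hrel a)
    exact aux_nat2 _ _ _ _ _ _ _ _ (n_fac b) (n_fac a) h3 h4
  let ν' : (Stk.resSieve R 𝒯).obj Y ⟶ (Stk.resSieve R 𝒯).obj Y' :=
    { app := fun a => n a
      naturality := fun a b k => nat k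
      isHomLift' := fun a => n_lift a }
  obtain ⟨ν, hν⟩ := hfull.map_surjective ν'
  have hνa : ∀ a : (Stk.sieveCat R).obj, ν.toNatTrans.app a.obj = n a := by
    intro a
    have := congrArg (fun z => z.toNatTrans.app a) hν
    exact this
  refine ⟨inv τ ≫ ν.toNatTrans.app (Groth.Agent.H32.Split.T W) ≫ τ', ?_, ?_⟩
  · have h1 : 𝒯.p.IsHomLift (𝟙 W) (ν.toNatTrans.app (Groth.Agent.H32.Split.T W) ≫ τ') :=
      isHomLift_comp_id_left 𝒯.p (𝟙 W) _ _ (ν.isHomLift' (Groth.Agent.H32.Split.T W)) hτ'l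
    exact isHomLift_comp_id_left 𝒯.p (𝟙 W) _ _ hτinv h1
  · intro V f hf s ψ hψ
    let a : (Stk.sieveCat R).obj := ⟨Over.mk f, hf⟩
    haveI : 𝒯.p.IsStronglyCartesian f (ψa a) := by
      haveI : 𝒯.p.IsHomLift f (ψa a) := hψa a
      exact sc_of_isFibGrpd 𝒯.p h𝒯 f (ψa a)
    have hidf : f = 𝟙 V ≫ f := (Category.id_comp f).symm
    let k : s ⟶ Y.obj a.obj := Functor.IsStronglyCartesian.map 𝒯.p f (ψa a) hidf ψ
    have kfac : k ≫ ψa a = ψ := Functor.IsStronglyCartesian.fac 𝒯.p f (ψa a) hidf ψ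
    have r1 := hnat _ _ k (ψa a) (m a) (hrel a)
    rw [kfac] at r1
    have e : ψ ≫ inv τ ≫ ν.toNatTrans.app (Groth.Agent.H32.Split.T W) ≫ τ' = k ≫ m a := by
      rw [← kfac]
      exact aux_fin k (Y.map (ι a)) τ (inv τ) (ν.toNatTrans.app (Groth.Agent.H32.Split.T W)) τ'
        (n a) (ν.toNatTrans.app a.obj) (Y'.map (ι a)) (m a) (IsIso.hom_inv_id τ) (hνa a)
        (ν.toNatTrans.naturality (ι a)) (n_fac a)
    rw [e]
    exact r1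

end

end Groth.Agent.H32.StkGlue
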