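import Groth.Prelude.Def_StGerb2
import Groth.Agent.H32.StkGlue

/-!
# Gerbes with a global object: extension of fibrewise natural isomorphisms (helper32)
-/

set_option autoImplicit false
open CategoryTheory CategoryTheory.Limits
universe v₄ u₄ v₃ u₃ v₂ u₂ v u

namespace Groth.Agent.H32.GerbCore

open FibCat Groth.Agent.H32.FibProd Groth.Agent.H32.StkLoc Groth.Agent.H32.StkGlue

theorem aux_inv {D : Type*} [Category D] {a b a' b' : D} (μ : a ⟶ a') [IsIso μ] (μ' : b ⟶ b')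
    [IsIso μ'] (f : a ⟶ b) (Φf : a' ⟶ b') (h : μ ≫ Φf = f ≫ μ') :
    Φf ≫ inv μ' = inv μ ≫ f := by
  rw [IsIso.eq_inv_comp, ← Category.assoc, h, Category.assoc, IsIso.hom_inv_id, Category.comp_id]

theorem aux_nat13 {D E : Type*} [Category D] [Category E] (Fφ : D ⥤ E) (Fψ : E ⥤ D) {z' z : E}
    {w' w : D} (k : z' ⟶ z) (e' : z' ⟶ Fφ.obj w') (e : z ⟶ Fφ.obj w) [IsIso e'] [IsIso e]
    (t : w' ⟶ w) (ht : Fφ.map t = inv e' ≫ k ≫ e) (gw : Fψ.obj (Fφ.obj w) ⟶ w)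
    (gw' : Fψ.obj (Fφ.obj w') ⟶ w') (hn : Fψ.map (Fφ.map t) ≫ gw = gw' ≫ t) :
    Fφ.map (Fψ.map k) ≫ (Fφ.map (Fψ.map e) ≫ Fφ.map gw ≫ inv e) =
      (Fφ.map (Fψ.map e') ≫ Fφ.map gw' ≫ inv e') ≫ k := by
  have h1 : k ≫ e = e' ≫ Fφ.map t := by rw [ht, IsIso.hom_inv_id_assoc]
  have h2 : inv e' ≫ k = Fφ.map t ≫ inv e := by
    rw [ht]; simp
  calc Fφ.map (Fψ.map k) ≫ (Fφ.map (Fψ.map e) ≫ Fφ.map gw ≫ inv e)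
      = Fφ.map (Fψ.map (k ≫ e)) ≫ Fφ.map gw ≫ inv e := by simp
    _ = Fφ.map (Fψ.map e') ≫ Fφ.map (Fψ.map (Fφ.map t) ≫ gw) ≫ inv e := by rw [h1]; simp
    _ = Fφ.map (Fψ.map e') ≫ Fφ.map gw' ≫ Fφ.map t ≫ inv e := by rw [hn]; simp
    _ = (Fφ.map (Fψ.map e') ≫ Fφ.map gw' ≫ inv e') ≫ k := by rw [← h2]; simp

theorem self_lift {C : Type u} [Category.{v} C] {U V : C} (h : U = V) :
    (FibCat.selfOver C).p.IsHomLift (𝟙 U) (eqToHom h : U ⟶ V) := by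
  subst h
  rw [eqToHom_refl]
  exact IsHomLift.id rfl

section basic
variable {C : Type u} [Category.{v} C] {𝒳 : BasedCategory.{v₂, u₂} C}

/-- a morphism over an identity in a category fibred in groupoids, as an element of `Gerb.AutO`. -/
theorem exists_autO (h : IsFibGrpd 𝒳.p) (x' : 𝒳.obj) (α : x' ⟶ x')
    (hα : 𝒳.p.IsHomLift (𝟙 (𝒳.p.obj x')) α) : ∃ a : Gerb.AutO x', a.hom.1 = α := by
  haveI : IsIso α := isIso_of_isFibGrpd 𝒳.p h (𝟙 (𝒳.p.obj x')) α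
  have hinv : 𝒳.p.IsHomLift (𝟙 (𝒳.p.obj x')) (inv α) := inferInstance
  refine ⟨⟨⟨α, hα⟩, ⟨inv α, hinv⟩, ?_, ?_⟩, rfl⟩
  · apply Functor.Fiber.hom_ext
    change α ≫ inv α = 𝟙 x'
    simp
  · apply Functor.Fiber.hom_ext
    change inv α ≫ α = 𝟙 x'
    simp

/-- in a gerbe with an object `x` over a terminal object, every object is locally connected
to `x`. -/
theorem cov_of_gerbe (J : GrothendieckTopology C) (h : Gerb.IsGerbe J 𝒳) (x : 𝒳.obj)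
    (hx : IsTerminal (𝒳.p.obj x)) (y : 𝒳.obj) :
    ∃ R ∈ J (𝒳.p.obj y), ∀ ⦃V : C⦄ (f : V ⟶ 𝒳.p.obj y), R f →
      ∃ (w : 𝒳.obj) (ψ : w ⟶ y), 𝒳.p.IsHomLift f ψ ∧ Nonempty (w ⟶ x) := by
  obtain ⟨xU, cU, hcU⟩ := h.1.1.exists_lift (hx.from (𝒳.p.obj y))
  have hU : 𝒳.p.obj xU = 𝒳.p.obj y := IsHomLift.domain_eq 𝒳.p (hx.from (𝒳.p.obj y)) cU
  obtain ⟨R, hR, hloc⟩ := h.2.2 y xU (eqToHom hU.symm) (self_lift hU.symm)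
  refine ⟨R, hR, fun V f hf => ?_⟩
  obtain ⟨x₀, a, b, ha, hb, -⟩ := hloc f hf
  exact ⟨x₀, a, ha, ⟨b ≫ cU⟩⟩

/-- sieve of arrows into `W` over which `y` receives a morphism from a `P`-object. -/
def Psieve (h𝒳 : IsFibGrpd 𝒳.p) (P : 𝒳.obj → Prop)
    (hP : ∀ (w w' : 𝒳.obj) (_ : w' ⟶ w), P w → P w') (y : 𝒳.obj) (W : C) : Sieve W where
  arrows V f := ∃ (w : 𝒳.obj) (ψ : w ⟶ y), 𝒳.p.IsHomLift f ψ ∧ P w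
  downward_closed := by
    rintro V V' f ⟨w, ψ, hψ, hw⟩ g
    obtain ⟨w', χ, hχ⟩ := exists_lift_of_eq 𝒳.p h𝒳 (IsHomLift.domain_eq 𝒳.p f ψ) g
    exact ⟨w', χ ≫ ψ, inferInstance, hP w w' χ hw⟩

theorem mem_Psieve (h𝒳 : IsFibGrpd 𝒳.p) (P : 𝒳.obj → Prop)
    (hP : ∀ (w w' : 𝒳.obj) (_ : w' ⟶ w), P w → P w') (y : 𝒳.obj) {V W : C} (f : V ⟶ W) :
    (Psieve h𝒳 P hP y W) f ↔ ∃ (w : 𝒳.obj) (ψ : w ⟶ y), 𝒳.p.IsHomLift f ψ ∧ P w := Iff.rfl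

theorem Psieve_mem (J : GrothendieckTopology C) (h𝒳 : IsFibGrpd 𝒳.p) (P : 𝒳.obj → Prop)
    (hP : ∀ (w w' : 𝒳.obj) (_ : w' ⟶ w), P w → P w')
    (hcov : ∀ y : 𝒳.obj, ∃ R ∈ J (𝒳.p.obj y), ∀ ⦃V : C⦄ (f : V ⟶ 𝒳.p.obj y), R f →
      ∃ (w : 𝒳.obj) (ψ : w ⟶ y), 𝒳.p.IsHomLift f ψ ∧ P w)
    (y : 𝒳.obj) {W : C} (hy : 𝒳.p.obj y = W) : Psieve h𝒳 P hP y W ∈ J W := by
  subst hy
  obtain ⟨R, hR, hloc⟩ := hcov y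
  exact J.superset_covering (fun V f hf => (mem_Psieve h𝒳 P hP y f).mpr (hloc f hf)) hR

/-- the source of any morphism into `y` over a member of `Psieve` is a `P`-object. -/
theorem P_of_Psieve (h𝒳 : IsFibGrpd 𝒳.p) (P : 𝒳.obj → Prop)
    (hP : ∀ (w w' : 𝒳.obj) (_ : w' ⟶ w), P w → P w') (y : 𝒳.obj) {V W : C} (f : V ⟶ W)
    (hf : (Psieve h𝒳 P hP y W) f) (s : 𝒳.obj) (ψ : s ⟶ y) (hψ : 𝒳.p.IsHomLift f ψ) : P s := by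
  obtain ⟨w, ψ₀, hψ₀, hw⟩ := (mem_Psieve h𝒳 P hP y f).mp hf
  haveI := sc_of_isFibGrpd 𝒳.p h𝒳 f ψ₀
  exact hP w s (Functor.IsStronglyCartesian.map 𝒳.p f ψ₀ (Category.id_comp f).symm ψ) hw

end basic

section extend
variable {C : Type u} [Category.{v} C] (J : GrothendieckTopology C)
  {𝒴 : BasedCategory.{v, max u v} C}

/-- a natural family of morphisms `Φ w ⟶ w` over identities defined on a locally covering,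
downward closed class of objects of a stack extends to all objects, fibrewise naturally. -/
theorem extend (h𝒴 : Stk.IsStack J 𝒴) (Φ : 𝒴 ⥤ᵇ 𝒴) (P : 𝒴.obj → Prop)
    (hP : ∀ (w w' : 𝒴.obj) (_ : w' ⟶ w), P w → P w')
    (hcov : ∀ y : 𝒴.obj, ∃ R ∈ J (𝒴.p.obj y), ∀ ⦃V : C⦄ (f : V ⟶ 𝒴.p.obj y), R f →
      ∃ (w : 𝒴.obj) (ψ : w ⟶ y), 𝒴.p.IsHomLift f ψ ∧ P w)
    (gp : ∀ w : 𝒴.obj, P w → (Φ.obj w ⟶ w))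
    (hgp : ∀ w hw, 𝒴.p.IsHomLift (𝟙 (𝒴.p.obj w)) (gp w hw))
    (hnat : ∀ (w w' : 𝒴.obj) (hw : P w) (hw' : P w') (k : w' ⟶ w),
      Φ.map k ≫ gp w hw = gp w' hw' ≫ k) :
    ∃ ρ : ∀ y : 𝒴.obj, Φ.obj y ⟶ y,
      (∀ y, IsIso (ρ y) ∧ 𝒴.p.IsHomLift (𝟙 (𝒴.p.obj y)) (ρ y)) ∧
      (∀ (y y' : 𝒴.obj) (f : y ⟶ y'), 𝒴.p.IsHomLift (𝟙 (𝒴.p.obj y)) f →
        Φ.map f ≫ ρ y' = ρ y ≫ f) := by
  have hfg := h𝒴.1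
  have hgpiso : ∀ w hw, IsIso (gp w hw) := fun w hw =>
    haveI := hgp w hw
    isIso_of_isFibGrpd 𝒴.p hfg (𝟙 (𝒴.p.obj w)) (gp w hw)
  have hRcov : ∀ y, Psieve hfg P hP y (𝒴.p.obj y) ∈ J (𝒴.p.obj y) := fun y =>
    Psieve_mem J hfg P hP hcov y rfl
  have key : ∀ y : 𝒴.obj, ∃ μ : y ⟶ Φ.obj y, 𝒴.p.IsHomLift (𝟙 (𝒴.p.obj y)) μ ∧
      ∀ (w : 𝒴.obj) (hw : P w) (ψ : w ⟶ y), gp w hw ≫ ψ ≫ μ = Φ.map ψ := by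
    intro y
    have hst := h𝒴.2 (Psieve hfg P hP y (𝒴.p.obj y)) (hRcov y)
    have hfull : (Stk.resSieve (Psieve hfg P hP y (𝒴.p.obj y)) 𝒴).Full := hst.full
    have hex : ∀ ⦃V : C⦄ (f : V ⟶ 𝒴.p.obj y), (Psieve hfg P hP y (𝒴.p.obj y)) f →
        ∀ (s : 𝒴.obj) (ψ : s ⟶ y), 𝒴.p.IsHomLift f ψ →
        ∃ ψ' : s ⟶ Φ.obj y, 𝒴.p.IsHomLift f ψ' ∧ ∃ hs : P s, gp s hs ≫ ψ' = Φ.map ψ := by
      intro V f hf s ψ hψ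
      have hs : P s := P_of_Psieve hfg P hP y f hf s ψ hψ
      haveI := hgpiso s hs
      have hV : 𝒴.p.obj s = V := IsHomLift.domain_eq 𝒴.p f ψ
      have h1 : 𝒴.p.IsHomLift (𝟙 V) (inv (gp s hs)) := by
        haveI := hgp s hs
        exact isHomLift_id_of_eq 𝒴.p hV _ inferInstance
      have h2 : 𝒴.p.IsHomLift f (Φ.map ψ) := inferInstance
      refine ⟨inv (gp s hs) ≫ Φ.map ψ, isHomLift_comp_id_left 𝒴.p f _ _ h1 h2, hs, ?_⟩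
      rw [IsIso.hom_inv_id_assoc]
    have huniq : ∀ (s : 𝒴.obj) (ψ : s ⟶ y) (ψ₁ ψ₂ : s ⟶ Φ.obj y),
        (∃ hs : P s, gp s hs ≫ ψ₁ = Φ.map ψ) → (∃ hs : P s, gp s hs ≫ ψ₂ = Φ.map ψ) →
        ψ₁ = ψ₂ := by
      rintro s ψ ψ₁ ψ₂ ⟨hs, e1⟩ ⟨hs', e2⟩
      haveI := hgpiso s hs
      exact (cancel_epi (gp s hs)).mp (e1.trans e2.symm)
    have hnat' : ∀ (s s' : 𝒴.obj) (χ : s ⟶ s') (ψ : s' ⟶ y) (ψ' : s' ⟶ Φ.obj y),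
        (∃ hs : P s', gp s' hs ≫ ψ' = Φ.map ψ) →
        (∃ hs : P s, gp s hs ≫ (χ ≫ ψ') = Φ.map (χ ≫ ψ)) := by
      rintro s s' χ ψ ψ' ⟨hs', e⟩
      refine ⟨hP s' s χ hs', ?_⟩
      rw [← Category.assoc, ← hnat s' s hs' (hP s' s χ hs') χ, Category.assoc, e]
      exact (Φ.toFunctor.map_comp χ ψ).symm
    obtain ⟨μ, hμ, hμrel⟩ := glue_hom hfg (Psieve hfg P hP y (𝒴.p.obj y)) hfull
      (t := y) (t' := Φ.obj y) rfl (Φ.w_obj y)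
      (fun {s} ψ ψ' => ∃ hs : P s, gp s hs ≫ ψ' = Φ.map ψ) hex huniq hnat'
    refine ⟨μ, hμ, fun w hw ψ => ?_⟩
    have hmem : (Psieve hfg P hP y (𝒴.p.obj y)) (𝒴.p.map ψ) :=
      (mem_Psieve hfg P hP y _).mpr ⟨w, ψ, inferInstance, hw⟩
    obtain ⟨_, e⟩ := hμrel (𝒴.p.map ψ) hmem w ψ inferInstance
    exact e
  choose μ hμ hμP using key
  have hμiso : ∀ y, IsIso (μ y) := fun y =>
    haveI := hμ y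
    isIso_of_isFibGrpd 𝒴.p hfg (𝟙 (𝒴.p.obj y)) (μ y)
  refine ⟨fun y => inv (μ y), fun y => ⟨inferInstance, ?_⟩, ?_⟩
  · haveI := hμ y
    infer_instance
  · intro y y' f hf
    have hyy' : 𝒴.p.obj y' = 𝒴.p.obj y := IsHomLift.codomain_eq 𝒴.p (𝟙 (𝒴.p.obj y)) f
    apply aux_inv
    have hst := h𝒴.2 (Psieve hfg P hP y (𝒴.p.obj y)) (hRcov y)
    have hfa : (Stk.resSieve (Psieve hfg P hP y (𝒴.p.obj y)) 𝒴).Faithful := hst.faithful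
    have l0 : 𝒴.p.IsHomLift (𝟙 (𝒴.p.obj y)) (Φ.map f) := inferInstance
    have l1 : 𝒴.p.IsHomLift (𝟙 (𝒴.p.obj y)) (μ y ≫ Φ.map f) :=
      isHomLift_comp_id_left 𝒴.p (𝟙 (𝒴.p.obj y)) _ _ (hμ y) l0
    have l2 : 𝒴.p.IsHomLift (𝟙 (𝒴.p.obj y)) (f ≫ μ y') :=
      isHomLift_comp_id_right 𝒴.p (𝟙 (𝒴.p.obj y)) _ _ hf
        (isHomLift_id_of_eq 𝒴.p hyy' _ (hμ y'))
    refine eq_of_locally hfg (𝟙 (𝒴.p.obj y)) _ hfa _ _ l1 l2 ?_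
    intro V g hg s ψ hψ
    have hs : P s := P_of_Psieve hfg P hP y g hg s ψ hψ
    haveI := hgpiso s hs
    apply (cancel_epi (gp s hs)).mp
    have e1 := hμP y s hs ψ
    have e2 := hμP y' s hs (ψ ≫ f)
    calc gp s hs ≫ ψ ≫ μ y ≫ Φ.map f = (gp s hs ≫ ψ ≫ μ y) ≫ Φ.map f := by
          simp only [Category.assoc]
      _ = Φ.map ψ ≫ Φ.map f := by rw [e1]
      _ = Φ.map (ψ ≫ f) := (Φ.toFunctor.map_comp ψ f).symm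
      _ = gp s hs ≫ (ψ ≫ f) ≫ μ y' := e2.symm
      _ = gp s hs ≫ ψ ≫ f ≫ μ y' := by simp only [Category.assoc]

end extend

section gp
variable {C : Type u} [Category.{v} C] {𝒳 : BasedCategory.{v₂, u₂} C} (h𝒳 : IsFibGrpd 𝒳.p)
  (Φ : 𝒳 ⥤ᵇ 𝒳) (x : 𝒳.obj) (hx : IsTerminal (𝒳.p.obj x)) (g : Φ.obj x ⟶ x)
  (hg : 𝒳.p.IsHomLift (𝟙 (𝒳.p.obj x)) g)
  (hconj : ∀ (x' : 𝒳.obj) (c : x' ⟶ x) (g' : Φ.obj x' ⟶ x'),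
    𝒳.p.IsHomLift (𝟙 (𝒳.p.obj x')) g' → Φ.map c ≫ g = g' ≫ c →
    ∀ α : x' ⟶ x', 𝒳.p.IsHomLift (𝟙 (𝒳.p.obj x')) α → Φ.map α ≫ g' = g' ≫ α)

include h𝒳 hg in
theorem exists_gp (w : 𝒳.obj) (c : w ⟶ x) :
    ∃ g' : Φ.obj w ⟶ w, 𝒳.p.IsHomLift (𝟙 (𝒳.p.obj w)) g' ∧ g' ≫ c = Φ.map c ≫ g := by
  haveI : 𝒳.p.IsStronglyCartesian (𝒳.p.map c) c := h𝒳.isStronglyCartesian c
  have h1 : 𝒳.p.IsHomLift (𝒳.p.map c) (Φ.map c) := inferInstance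
  have h2 : 𝒳.p.IsHomLift (𝒳.p.map c) (Φ.map c ≫ g) :=
    isHomLift_comp_id_right 𝒳.p (𝒳.p.map c) _ _ h1 hg
  have hid : 𝒳.p.map c = 𝟙 (𝒳.p.obj w) ≫ 𝒳.p.map c := (Category.id_comp _).symm
  exact ⟨Functor.IsStronglyCartesian.map 𝒳.p (𝒳.p.map c) c hid (Φ.map c ≫ g), inferInstance,
    Functor.IsStronglyCartesian.fac 𝒳.p (𝒳.p.map c) c hid (Φ.map c ≫ g)⟩

include h𝒳 hx hconj in
theorem gp_indep (w : 𝒳.obj) (c c' : w ⟶ x) (g' : Φ.obj w ⟶ w)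
    (hg' : 𝒳.p.IsHomLift (𝟙 (𝒳.p.obj w)) g') (h : g' ≫ c = Φ.map c ≫ g) :
    g' ≫ c' = Φ.map c' ≫ g := by
  have hcc : 𝒳.p.map c = 𝒳.p.map c' := hx.hom_ext _ _
  have l1 : 𝒳.p.IsHomLift (𝒳.p.map c) c := inferInstance
  have l2 : 𝒳.p.IsHomLift (𝒳.p.map c) c' := by rw [hcc]; infer_instance
  obtain ⟨α, hα, hαc⟩ := exists_aut 𝒳.p h𝒳 (𝒳.p.map c) c c' l1 l2
  have e := hconj w c g' hg' h.symm α hα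
  rw [← hαc, ← Category.assoc, ← e, Category.assoc, h, ← Category.assoc]
  congr 1
  exact (Φ.toFunctor.map_comp α c).symm

/-- the canonical morphism `Φ w ⟶ w` for an object `w` admitting a morphism to `x`. -/
noncomputable def gp (w : 𝒳.obj) (hw : Nonempty (w ⟶ x)) : Φ.obj w ⟶ w :=
  (exists_gp h𝒳 Φ x g hg w hw.some).choose

theorem gp_lift (w : 𝒳.obj) (hw : Nonempty (w ⟶ x)) :
    𝒳.p.IsHomLift (𝟙 (𝒳.p.obj w)) (gp h𝒳 Φ x g hg w hw) :=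
  (exists_gp h𝒳 Φ x g hg w hw.some).choose_spec.1

include hx hconj in
theorem gp_fac (w : 𝒳.obj) (hw : Nonempty (w ⟶ x)) (c : w ⟶ x) :
    gp h𝒳 Φ x g hg w hw ≫ c = Φ.map c ≫ g :=
  gp_indep h𝒳 Φ x hx g hconj w hw.some c _ (gp_lift h𝒳 Φ x g hg w hw)
    (exists_gp h𝒳 Φ x g hg w hw.some).choose_spec.2

include hx hconj in
theorem gp_nat (w w' : 𝒳.obj) (hw : Nonempty (w ⟶ x)) (hw' : Nonempty (w' ⟶ x)) (k : w' ⟶ w) :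
    Φ.map k ≫ gp h𝒳 Φ x g hg w hw = gp h𝒳 Φ x g hg w' hw' ≫ k := by
  have c : w ⟶ x := hw.some
  haveI : 𝒳.p.IsStronglyCartesian (𝒳.p.map c) c := h𝒳.isStronglyCartesian c
  have l0 : 𝒳.p.IsHomLift (𝒳.p.map k) (Φ.map k) := inferInstance
  have l1 : 𝒳.p.IsHomLift (𝒳.p.map k) (Φ.map k ≫ gp h𝒳 Φ x g hg w hw) :=
    isHomLift_comp_id_right 𝒳.p (𝒳.p.map k) _ _ l0 (gp_lift h𝒳 Φ x g hg w hw)
  have l2 : 𝒳.p.IsHomLift (𝒳.p.map k) (gp h𝒳 Φ x g hg w' hw' ≫ k) :=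
    isHomLift_comp_id_left 𝒳.p (𝒳.p.map k) _ _ (gp_lift h𝒳 Φ x g hg w' hw') inferInstance
  refine Functor.IsStronglyCartesian.ext 𝒳.p (𝒳.p.map c) c (𝒳.p.map k) ?_
  rw [Category.assoc, gp_fac h𝒳 Φ x hx g hg hconj w hw c, Category.assoc,
    gp_fac h𝒳 Φ x hx g hg hconj w' hw' (k ≫ c), ← Category.assoc]
  congr 1
  exact (Φ.toFunctor.map_comp k c).symm

end gp

section rho
variable {C : Type u} [Category.{v} C] (J : GrothendieckTopology C)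
  {𝒳 : BasedCategory.{v, max u v} C}

/-- abstract form of the fibrewise trivialisation of an endofunctor of a gerbe. -/
theorem rho_exists (h𝒳g : Gerb.IsGerbe J 𝒳) (Φ : 𝒳 ⥤ᵇ 𝒳) (x : 𝒳.obj)
    (hx : IsTerminal (𝒳.p.obj x)) (g : Φ.obj x ⟶ x) (hg : 𝒳.p.IsHomLift (𝟙 (𝒳.p.obj x)) g)
    (hconj : ∀ (x' : 𝒳.obj) (c : x' ⟶ x) (g' : Φ.obj x' ⟶ x'),
      𝒳.p.IsHomLift (𝟙 (𝒳.p.obj x')) g' → Φ.map c ≫ g = g' ≫ c →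
      ∀ α : x' ⟶ x', 𝒳.p.IsHomLift (𝟙 (𝒳.p.obj x')) α → Φ.map α ≫ g' = g' ≫ α) :
    ∃ ρ : ∀ y : 𝒳.obj, Φ.obj y ⟶ y,
      (∀ y, IsIso (ρ y) ∧ 𝒳.p.IsHomLift (𝟙 (𝒳.p.obj y)) (ρ y)) ∧
      (∀ (y y' : 𝒳.obj) (f : y ⟶ y'), 𝒳.p.IsHomLift (𝟙 (𝒳.p.obj y)) f →
        Φ.map f ≫ ρ y' = ρ y ≫ f) :=
  extend J h𝒳g.1 Φ (fun w => Nonempty (w ⟶ x)) (fun _ _ k ⟨c⟩ => ⟨k ≫ c⟩)
    (cov_of_gerbe J h𝒳g x hx) (gp h𝒳g.1.1 Φ x g hg) (gp_lift h𝒳g.1.1 Φ x g hg)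
    (gp_nat h𝒳g.1.1 Φ x hx g hg hconj)

end rho

section full
variable {C : Type u} [Category.{v} C] {𝒳 : BasedCategory.{v₂, u₂} C}
  {𝒴 : BasedCategory.{v₃, u₃} C} (h𝒳 : IsFibGrpd 𝒳.p) (h𝒴 : IsFibGrpd 𝒴.p) (φ : 𝒳 ⥤ᵇ 𝒴)
  (x : 𝒳.obj)

include h𝒳 h𝒴 in
/-- `φ` is full between pullbacks of `x` as soon as it is surjective on their automorphisms. -/
theorem full_on_P (hx : IsTerminal (𝒳.p.obj x)) (w₁ w₂ : 𝒳.obj) (c₁ : w₁ ⟶ x) (c₂ : w₂ ⟶ x)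
    (hsurj : Function.Surjective (Gerb.autMap φ w₁)) (θ : φ.obj w₁ ⟶ φ.obj w₂) :
    ∃ t : w₁ ⟶ w₂, φ.map t = θ := by
  let f : 𝒳.p.obj w₁ ⟶ 𝒳.p.obj w₂ :=
    eqToHom (φ.w_obj w₁).symm ≫ 𝒴.p.map θ ≫ eqToHom (φ.w_obj w₂)
  have hθ : 𝒴.p.IsHomLift f θ :=
    IsHomLift.of_fac' 𝒴.p f θ (φ.w_obj w₁) (φ.w_obj w₂) (by simp [f])
  haveI : 𝒳.p.IsStronglyCartesian (𝒳.p.map c₂) c₂ := h𝒳.isStronglyCartesian c₂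
  have hf' : 𝒳.p.map c₁ = f ≫ 𝒳.p.map c₂ := hx.hom_ext _ _
  let ι : w₁ ⟶ w₂ := Functor.IsStronglyCartesian.map 𝒳.p (𝒳.p.map c₂) c₂ hf' c₁
  have hι : 𝒳.p.IsHomLift f ι := inferInstance
  have hφι : 𝒴.p.IsHomLift f (φ.map ι) := inferInstance
  obtain ⟨β, hβ, hβι⟩ := exists_aut 𝒴.p h𝒴 f (φ.map ι) θ hφι hθ
  have hβ' : 𝒴.p.IsHomLift (𝟙 (𝒴.p.obj (φ.obj w₁))) β :=
    isHomLift_id_of_eq 𝒴.p (φ.w_obj w₁).symm β hβ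
  obtain ⟨b, hb⟩ := exists_autO h𝒴 (φ.obj w₁) β hβ'
  obtain ⟨a, ha⟩ := hsurj b
  refine ⟨a.hom.1 ≫ ι, ?_⟩
  have e1 : φ.map a.hom.1 = β := by
    have := congrArg (fun z : Gerb.AutO (φ.obj w₁) => z.hom.1) ha
    exact this.trans hb
  rw [← hβι, ← e1]
  exact φ.toFunctor.map_comp _ _

/-- objects of `𝒴` isomorphic over an identity to the image of a pullback of `x`. -/
def PY (z : 𝒴.obj) : Prop :=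
  ∃ (w : 𝒳.obj), Nonempty (w ⟶ x) ∧ ∃ e : z ⟶ φ.obj w, 𝒴.p.IsHomLift (𝟙 (𝒴.p.obj z)) e

include h𝒳 h𝒴 in
theorem PY_of_hom (z : 𝒴.obj) (w₀ : 𝒳.obj) (c₀ : w₀ ⟶ x) (e₀ : z ⟶ φ.obj w₀) : PY φ x z := by
  let f : 𝒴.p.obj z ⟶ 𝒳.p.obj w₀ := 𝒴.p.map e₀ ≫ eqToHom (φ.w_obj w₀)
  have he₀ : 𝒴.p.IsHomLift f e₀ :=
    IsHomLift.of_fac' 𝒴.p f e₀ rfl (φ.w_obj w₀) (by simp [f])
  obtain ⟨w, l, hl⟩ := h𝒳.exists_lift f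
  have hφl : 𝒴.p.IsHomLift f (φ.map l) := inferInstance
  haveI := sc_of_isFibGrpd 𝒴.p h𝒴 f (φ.map l)
  have hid : f = 𝟙 (𝒴.p.obj z) ≫ f := (Category.id_comp f).symm
  exact ⟨w, ⟨l ≫ c₀⟩, Functor.IsStronglyCartesian.map 𝒴.p f (φ.map l) hid e₀, inferInstance⟩

include h𝒳 in
theorem cov_PY (J : GrothendieckTopology C) (h𝒴g : Gerb.IsGerbe J 𝒴)
    (hx : IsTerminal (𝒳.p.obj x)) (z : 𝒴.obj) :
    ∃ R ∈ J (𝒴.p.obj z), ∀ ⦃V : C⦄ (f : V ⟶ 𝒴.p.obj z), R f →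
      ∃ (w : 𝒴.obj) (ψ : w ⟶ z), 𝒴.p.IsHomLift f ψ ∧ PY φ x w := by
  obtain ⟨xV, cV, hcV⟩ := exists_lift_of_eq 𝒳.p h𝒳 rfl (hx.from (𝒴.p.obj z))
  have hV : 𝒴.p.obj (φ.obj xV) = 𝒴.p.obj z :=
    (φ.w_obj xV).trans (IsHomLift.domain_eq 𝒳.p (hx.from (𝒴.p.obj z)) cV)
  obtain ⟨R, hR, hloc⟩ := h𝒴g.2.2 z (φ.obj xV) (eqToHom hV.symm) (self_lift hV.symm)
  refine ⟨R, hR, fun V f hf => ?_⟩
  obtain ⟨z₀, a, b, ha, hb, -⟩ := hloc f hf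
  exact ⟨z₀, a, ha, PY_of_hom h𝒳 h𝒴g.1.1 φ x z₀ xV cV b⟩

end full

section sigma
variable {C : Type u} [Category.{v} C] (J : GrothendieckTopology C)
  {𝒳 : BasedCategory.{v₂, u₂} C} {𝒴 : BasedCategory.{v, max u v} C}

/-- abstract form: a natural trivialisation of `φ ⋙ ψ` on pullbacks of `x` induces a fibrewise
trivialisation of `ψ ⋙ φ` on the gerbe `𝒴` when `φ` is surjective on automorphisms. -/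
theorem sigma_exists (h𝒳 : IsFibGrpd 𝒳.p) (h𝒴g : Gerb.IsGerbe J 𝒴) (φ : 𝒳 ⥤ᵇ 𝒴) (ψ : 𝒴 ⥤ᵇ 𝒳)
    (x : 𝒳.obj) (hx : IsTerminal (𝒳.p.obj x))
    (hsurj : ∀ (x' : 𝒳.obj) (_ : x' ⟶ x), Function.Surjective (Gerb.autMap φ x'))
    (gX : ∀ w : 𝒳.obj, Nonempty (w ⟶ x) → (ψ.obj (φ.obj w) ⟶ w))
    (hgX : ∀ w hw, 𝒳.p.IsHomLift (𝟙 (𝒳.p.obj w)) (gX w hw))
    (hgXnat : ∀ (w w' : 𝒳.obj) (hw : Nonempty (w ⟶ x)) (hw' : Nonempty (w' ⟶ x)) (k : w' ⟶ w),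
      ψ.map (φ.map k) ≫ gX w hw = gX w' hw' ≫ k) :
    ∃ σ : ∀ z : 𝒴.obj, φ.obj (ψ.obj z) ⟶ z,
      (∀ z, IsIso (σ z) ∧ 𝒴.p.IsHomLift (𝟙 (𝒴.p.obj z)) (σ z)) ∧
      (∀ (z z' : 𝒴.obj) (f : z ⟶ z'), 𝒴.p.IsHomLift (𝟙 (𝒴.p.obj z)) f →
        φ.map (ψ.map f) ≫ σ z' = σ z ≫ f) := by
  have h𝒴 := h𝒴g.1.1
  have hdata : ∀ z, PY φ x z → ∃ (w : 𝒳.obj) (_ : Nonempty (w ⟶ x)) (e : z ⟶ φ.obj w),
      𝒴.p.IsHomLift (𝟙 (𝒴.p.obj z)) e := by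
    rintro z ⟨w, hw, e, he⟩
    exact ⟨w, hw, e, he⟩
  choose wz hwz ez hez using hdata
  have heiso : ∀ z hz, IsIso (ez z hz) := fun z hz =>
    haveI := hez z hz
    isIso_of_isFibGrpd 𝒴.p h𝒴 (𝟙 (𝒴.p.obj z)) (ez z hz)
  have hwz_obj : ∀ z hz, 𝒳.p.obj (wz z hz) = 𝒴.p.obj z := fun z hz =>
    (φ.w_obj _).symm.trans (IsHomLift.codomain_eq 𝒴.p (𝟙 (𝒴.p.obj z)) (ez z hz))
  refine extend J h𝒴g.1 (BasedFunctor.comp ψ φ) (PY φ x) (fun w w' k hw => ?_)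
    (cov_PY h𝒳 φ x J h𝒴g hx)
    (fun z hz => φ.map (ψ.map (ez z hz)) ≫ φ.map (gX (wz z hz) (hwz z hz)) ≫ inv (ez z hz))
    ?_ ?_
  · obtain ⟨w₀, ⟨c⟩, e, -⟩ := hw
    exact PY_of_hom h𝒳 h𝒴 φ x w' w₀ c (k ≫ e)
  · intro z hz
    have l1 : 𝒴.p.IsHomLift (𝟙 (𝒴.p.obj z)) (φ.map (ψ.map (ez z hz))) := by
      haveI := hez z hz
      infer_instance
    have l2 : 𝒴.p.IsHomLift (𝟙 (𝒴.p.obj z)) (φ.map (gX (wz z hz) (hwz z hz))) := by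
      haveI := hgX (wz z hz) (hwz z hz)
      exact isHomLift_id_of_eq 𝒴.p (hwz_obj z hz) _ inferInstance
    have l3 : 𝒴.p.IsHomLift (𝟙 (𝒴.p.obj z)) (inv (ez z hz)) := by
      haveI := hez z hz
      infer_instance
    exact isHomLift_comp_id_left 𝒴.p _ _ _ l1 (isHomLift_comp_id_left 𝒴.p _ _ _ l2 l3)
  · intro z z' hz hz' k
    obtain ⟨t, ht⟩ := full_on_P h𝒳 h𝒴 φ x hx (wz z' hz') (wz z hz) (hwz z' hz').some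
      (hwz z hz).some (hsurj _ (hwz z' hz').some) (inv (ez z' hz') ≫ k ≫ ez z hz)
    exact aux_nat13 φ.toFunctor ψ.toFunctor k (ez z' hz') (ez z hz) t ht (gX _ _) (gX _ _)
      (hgXnat _ _ _ _ t)

end sigma

end Groth.Agent.H32.GerbCore
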