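import Groth.Agent.H32.OpenSub3
import Groth.Agent.S12868
import Groth.Agent.S12774

/-!
# The essential image of a monomorphism as a substack (helper32)
-/

set_option autoImplicit false
universe u
open CategoryTheory CategoryTheory.Limits AlgebraicGeometry Opposite Topology

namespace Groth.Agent.H32.ImmImage

open FibCat Stk Groth.Agent.H32.Fp2 Groth.Agent.H32.Fp3 Groth.Agent.H32.Fp4
open Groth.Agent.H32.FibProd Groth.Agent.H32.SubStk Groth.Agent.H32.StackOps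

variable {S : Scheme.{u}} {𝒵 𝒳 : AlgSt.Cat S}

/-- the essential image. -/
def EssIm (i : 𝒵 ⥤ᵇ 𝒳) : 𝒳.obj → Prop := fun x => ∃ z : 𝒵.obj, Nonempty (i.obj z ≅ x)

theorem essIm_isoClosed (i : 𝒵 ⥤ᵇ 𝒳) : ObjectProperty.IsClosedUnderIsomorphisms (EssIm i) :=
  ⟨fun e ⟨z, ⟨e'⟩⟩ => ⟨z, ⟨e' ≪≫ e⟩⟩⟩

/-- the corestriction to the essential image. -/
def toEssIm (i : 𝒵 ⥤ᵇ 𝒳) : 𝒵 ⥤ᵇ AlgSt.fullSub 𝒳 (EssIm i) :=
  subLift i (fun z => ⟨z, ⟨Iso.refl _⟩⟩)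

theorem toEssIm_comp (i : 𝒵 ⥤ᵇ 𝒳) :
    BasedFunctor.comp (toEssIm i) (AlgSt.subIncl 𝒳 (EssIm i)) = i := rfl

theorem toEssIm_isEquivOver (h𝒵 : IsFibGrpd 𝒵.p) (h𝒳 : IsFibGrpd 𝒳.p) (i : 𝒵 ⥤ᵇ 𝒳)
    (hfull : i.toFunctor.Full) (hfaith : i.toFunctor.Faithful) : IsEquivOver (toEssIm i) := by
  rw [Groth.Agent.S5139.result]
  refine ⟨⟨⟨fun {a b} m => ?_⟩, ⟨fun {a b} k k' hkk' => ?_⟩⟩, fun η => ?_⟩
  · obtain ⟨k, hk⟩ := hfull.map_surjective m.hom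
    exact ⟨k, ObjectProperty.hom_ext _ hk⟩
  · exact hfaith.map_injective (congrArg (fun t => t.hom) hkk')
  · obtain ⟨z, ⟨e⟩⟩ := η.property
    -- e : i z ≅ η.obj ; pull back z along the inverse of the base iso
    have hiz : 𝒳.p.obj (i.obj z) = 𝒵.p.obj z := i.w_obj z
    let φ : 𝒳.p.obj η.obj ⟶ 𝒵.p.obj z := 𝒳.p.map e.inv ≫ eqToHom hiz
    obtain ⟨z', ψ, hψ⟩ := h𝒵.exists_lift (x := z) φ
    have hiψ : 𝒳.p.IsHomLift φ (i.map ψ) := (BasedFunctor.isHomLift_iff i φ ψ).2 hψ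
    have he : 𝒳.p.IsHomLift (eqToHom hiz.symm ≫ 𝒳.p.map e.hom) e.hom :=
      IsHomLift.of_fac 𝒳.p _ e.hom hiz rfl (by simp)
    have hcomp : 𝒳.p.IsHomLift (φ ≫ (eqToHom hiz.symm ≫ 𝒳.p.map e.hom)) (i.map ψ ≫ e.hom) :=
      inferInstance
    have hφ : φ ≫ (eqToHom hiz.symm ≫ 𝒳.p.map e.hom) = 𝟙 _ := by
      change (𝒳.p.map e.inv ≫ eqToHom hiz) ≫ (eqToHom hiz.symm ≫ 𝒳.p.map e.hom) = 𝟙 _
      rw [Category.assoc, ← Category.assoc (eqToHom hiz), eqToHom_trans, eqToHom_refl,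
        Category.id_comp, ← 𝒳.p.map_comp, Iso.inv_hom_id, 𝒳.p.map_id]
    rw [hφ] at hcomp
    have hiso : IsIso (i.map ψ ≫ e.hom) := isIso_of_isFibGrpd 𝒳.p h𝒳 (𝟙 (𝒳.p.obj η.obj)) _
    refine ⟨z', ObjectProperty.isoMk _ (@asIso _ _ _ _ (i.map ψ ≫ e.hom) hiso), ?_⟩
    exact (fullSub_isHomLift_iff _ _).2 hcomp

theorem essIm_pbClosed (h𝒵 : IsFibGrpd 𝒵.p) (h𝒳 : IsFibGrpd 𝒳.p) (i : 𝒵 ⥤ᵇ 𝒳) :
    PbClosed (EssIm i) := by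
  rintro x' x φ ⟨z, ⟨e⟩⟩
  have hiz : 𝒳.p.obj (i.obj z) = 𝒵.p.obj z := i.w_obj z
  let g : x' ⟶ i.obj z := φ ≫ e.inv
  let s : 𝒳.p.obj x' ⟶ 𝒵.p.obj z := 𝒳.p.map g ≫ eqToHom hiz
  have hg : 𝒳.p.IsHomLift s g := IsHomLift.of_fac 𝒳.p _ g rfl hiz (by simp [s])
  obtain ⟨z', ψ, hψ⟩ := h𝒵.exists_lift (x := z) s
  have hiψ : 𝒳.p.IsHomLift s (i.map ψ) := (BasedFunctor.isHomLift_iff i s ψ).2 hψ
  have hsc : 𝒳.p.IsStronglyCartesian s (i.map ψ) := sc_of_isFibGrpd 𝒳.p h𝒳 s (i.map ψ)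
  have hid : s = 𝟙 _ ≫ s := (Category.id_comp s).symm
  let χ : x' ⟶ i.obj z' := Functor.IsStronglyCartesian.map 𝒳.p s (i.map ψ) hid g
  have hχ : 𝒳.p.IsHomLift (𝟙 (𝒳.p.obj x')) χ := inferInstance
  have : IsIso χ := isIso_of_isFibGrpd 𝒳.p h𝒳 (𝟙 (𝒳.p.obj x')) χ
  exact ⟨z', ⟨(asIso χ).symm⟩⟩

/-- the inclusion of the essential image of `i` has every property of `i`. -/
theorem subIncl_with (P : MorphismProperty (AlgSp.Sp S)) (h𝒵 : IsFibGrpd 𝒵.p)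
    (h𝒳 : IsFibGrpd 𝒳.p) (i : 𝒵 ⥤ᵇ 𝒳) (hfull : i.toFunctor.Full) (hfaith : i.toFunctor.Faithful)
    (hi : AlgSt.RepByAlgSpWith P i) : AlgSt.RepByAlgSpWith P (AlgSt.subIncl 𝒳 (EssIm i)) :=
  (Groth.Agent.S12782.result (fullSub_isFibGrpd h𝒳 (essIm_pbClosed h𝒵 h𝒳 i)) h𝒳 h𝒵 h𝒳 P
    (AlgSt.subIncl 𝒳 (EssIm i)) i (toEssIm i) (BasedFunctor.id _)
    (toEssIm_isEquivOver h𝒵 h𝒳 i hfull hfaith) (Groth.Agent.H32.SpBridge.isEquivOver_id _) (Iso.refl _)).2 hi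

end Groth.Agent.H32.ImmImage
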