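import Groth.Agent.H32.FibProd

/-!
# The relative inertia `FibCat.inertia F` is fibred
-/

set_option autoImplicit false
open CategoryTheory CategoryTheory.Limits
universe v₅ u₅ v₄ u₄ v₃ u₃ v₂ u₂ v u

namespace Groth.Agent.H32.Inertia

open FibCat Groth.Agent.H32.FibProd

variable {C : Type u} [Category.{v} C] {𝒳 : BasedCategory.{v₂, u₂} C}
  {𝒴 : BasedCategory.{v₃, u₃} C} (F : 𝒳 ⥤ᵇ 𝒴)

theorem aut_isHomLift (X : InertiaObj F) : 𝒳.p.IsHomLift (𝟙 (𝒳.p.obj X.pt)) X.aut.hom := by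
  have : 𝒴.p.IsHomLift (𝟙 (𝒳.p.obj X.pt)) (F.map X.aut.hom) := by
    rw [X.map_aut]; infer_instance
  exact F.isHomLift_map _ _

theorem inertia_isHomLift_iff {R S : C} (f : R ⟶ S) {X Y : (inertia F).obj} (m : X ⟶ Y) :
    (inertia F).p.IsHomLift f m ↔ 𝒳.p.IsHomLift f m.hom :=
  isHomLift_comp_iff 𝒳.p InertiaObj.forget f m

/-- a morphism of the inertia whose underlying morphism is strongly cartesian is strongly
cartesian. -/
theorem inertia_sc {R S : C} (f : R ⟶ S) {X Y : (inertia F).obj} (m : X ⟶ Y)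
    [hm : 𝒳.p.IsStronglyCartesian f m.hom] : (inertia F).p.IsStronglyCartesian f m := by
  have hml : (inertia F).p.IsHomLift f m := (inertia_isHomLift_iff F f m).mpr inferInstance
  refine ⟨?_⟩
  intro Z g m' hm'
  change 𝒳.p.obj Z.pt ⟶ R at g
  have h1 : 𝒳.p.IsHomLift (g ≫ f) m'.hom := (inertia_isHomLift_iff F _ m').mp hm'
  let χ : Z.pt ⟶ X.pt := Functor.IsStronglyCartesian.map 𝒳.p f m.hom (f' := g ≫ f) rfl m'.hom
  have hχ : 𝒳.p.IsHomLift g χ := inferInstance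
  have hfac : χ ≫ m.hom = m'.hom := Functor.IsStronglyCartesian.fac 𝒳.p f m.hom rfl m'.hom
  have hZ := aut_isHomLift F Z
  have hX : 𝒳.p.IsHomLift (𝟙 R) X.aut.hom :=
    isHomLift_id_of_eq 𝒳.p (IsHomLift.domain_eq 𝒳.p f m.hom) _ (aut_isHomLift F X)
  have l1 : 𝒳.p.IsHomLift g (Z.aut.hom ≫ χ) := inferInstance
  have l2 : 𝒳.p.IsHomLift g (χ ≫ X.aut.hom) := inferInstance
  have comm : Z.aut.hom ≫ χ = χ ≫ X.aut.hom := by
    refine Functor.IsStronglyCartesian.ext 𝒳.p f m.hom g ?_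
    rw [Category.assoc, hfac, m'.comm, ← hfac, Category.assoc, Category.assoc, m.comm]
  refine ⟨⟨χ, comm⟩, ⟨(inertia_isHomLift_iff F g _).mpr hχ, ?_⟩, ?_⟩
  · exact InertiaObj.hom_ext hfac
  · rintro n ⟨hn1, hn2⟩
    apply InertiaObj.hom_ext
    have hn1' : 𝒳.p.IsHomLift g n.hom := (inertia_isHomLift_iff F g n).mp hn1
    have hn2' : n.hom ≫ m.hom = m'.hom := congrArg InertiaObj.Hom.hom hn2
    exact Functor.IsStronglyCartesian.map_uniq 𝒳.p f m.hom rfl m'.hom n.hom hn2'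

/-- lifting an object of the inertia along a strongly cartesian morphism. -/
theorem inertia_exists_lift (Y : InertiaObj F) {R : C} (f : R ⟶ 𝒳.p.obj Y.pt) {x : 𝒳.obj}
    (φ : x ⟶ Y.pt) [hφ : 𝒳.p.IsStronglyCartesian f φ]
    (hβ : ∀ β : x ⟶ x, 𝒳.p.IsHomLift (𝟙 R) β → β ≫ φ = φ ≫ Y.aut.hom →
      F.map β = 𝟙 (F.obj x)) :
    ∃ (X : (inertia F).obj) (m : X ⟶ Y), 𝒳.p.IsStronglyCartesian f m.hom := by
  have hY := aut_isHomLift F Y
  have hYi : 𝒳.p.IsHomLift (𝟙 (𝒳.p.obj Y.pt)) Y.aut.inv := inferInstance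
  have l1 : 𝒳.p.IsHomLift f (φ ≫ Y.aut.hom) := inferInstance
  have l2 : 𝒳.p.IsHomLift f (φ ≫ Y.aut.inv) := inferInstance
  have hid : f = 𝟙 R ≫ f := (Category.id_comp f).symm
  let β : x ⟶ x := Functor.IsStronglyCartesian.map 𝒳.p f φ hid (φ ≫ Y.aut.hom)
  let β' : x ⟶ x := Functor.IsStronglyCartesian.map 𝒳.p f φ hid (φ ≫ Y.aut.inv)
  have hβl : 𝒳.p.IsHomLift (𝟙 R) β := inferInstance
  have hβ'l : 𝒳.p.IsHomLift (𝟙 R) β' := inferInstance
  have fac : β ≫ φ = φ ≫ Y.aut.hom := Functor.IsStronglyCartesian.fac 𝒳.p f φ hid _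
  have fac' : β' ≫ φ = φ ≫ Y.aut.inv := Functor.IsStronglyCartesian.fac 𝒳.p f φ hid _
  have hidl : 𝒳.p.IsHomLift (𝟙 R) (𝟙 x) := IsHomLift.id (IsHomLift.domain_eq 𝒳.p f φ)
  have c1 : 𝒳.p.IsHomLift (𝟙 R) (β ≫ β') := inferInstance
  have c2 : 𝒳.p.IsHomLift (𝟙 R) (β' ≫ β) := inferInstance
  have e1 : β ≫ β' = 𝟙 x := by
    refine Functor.IsStronglyCartesian.ext 𝒳.p f φ (𝟙 R) ?_
    rw [Category.assoc, fac', ← Category.assoc, fac, Category.assoc, Iso.hom_inv_id,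
      Category.comp_id, Category.id_comp]
  have e2 : β' ≫ β = 𝟙 x := by
    refine Functor.IsStronglyCartesian.ext 𝒳.p f φ (𝟙 R) ?_
    rw [Category.assoc, fac, ← Category.assoc, fac', Category.assoc, Iso.inv_hom_id,
      Category.comp_id, Category.id_comp]
  let X : InertiaObj F := ⟨x, ⟨β, β', e1, e2⟩, hβ β hβl fac⟩
  let m : X ⟶ Y := ⟨φ, fac⟩
  exact ⟨X, m, hφ⟩

end Groth.Agent.H32.Inertia
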