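import Groth.Agent.H32.DiagDict
import Groth.Agent.H32.AlgStackFp
import Groth.Agent.S6402

/-!
# The relative inertia of a morphism of algebraic stacks (helper32)
-/

set_option autoImplicit false
open CategoryTheory Opposite
universe v u

namespace Groth.Agent.H32.InertiaSt

open FibCat Groth.Agent.H32.FibProd Groth.Agent.H32.StkLoc Groth.Agent.H32.Fp2 Groth.Agent.H32.Fp3
  Groth.Agent.H32.Fp4 Groth.Agent.H32.Magic Groth.Agent.H32.Sect Groth.Agent.S6402

section cat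
variable {C : Type u} [Category.{v} C] {𝒳 𝒴 : BasedCategory.{v, max u v} C} (F : 𝒳 ⥤ᵇ 𝒴)

theorem E_isEquivOver : IsEquivOver (E F) := by
  rw [Groth.Agent.S5139.result]
  exact ⟨⟨E_full F, E_faithful F⟩, E_essSurj F⟩

theorem E_fst : BasedFunctor.comp (E F) (fpFst _ _) = inertiaToBase F := rfl

theorem neutral_toBase :
    BasedFunctor.comp (inertiaNeutral F) (inertiaToBase F) = BasedFunctor.id 𝒳 := rfl

/-- the neutral section of the inertia is the second diagonal. -/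
def neutralIso : BasedFunctor.comp (inertiaNeutral F) (E F) ≅ diag (diag F) :=
  fpIsoMk _ _ (fun x => Iso.refl x) (fun x => Iso.refl x) (fun _ => IsHomLift.id rfl)
    (fun _ => sq_id_aux _ _ rfl _ _ rfl rfl)
    (fun _ => id_nat_aux _ _ rfl) (fun _ => id_nat_aux _ _ rfl)

end cat

end Groth.Agent.H32.InertiaSt

namespace Groth.Agent.H32.InertiaSt
open CategoryTheory.Limits AlgebraicGeometry
universe u'

open FibCat Stk Groth.Agent.H32.FibProd Groth.Agent.H32.Fp2 Groth.Agent.H32.Fp3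
  Groth.Agent.H32.Fp4 Groth.Agent.H32.SpBridge Groth.Agent.H32.PFacts
  Groth.Agent.H32.AlgStackEquiv Groth.Agent.H32.AtlasRep Groth.Agent.H32.SpComp
  Groth.Agent.H32.StackOps Groth.Agent.H32.Magic Groth.Agent.H32.Sect Groth.Agent.H32.Repr
  Groth.Agent.H32.SectSt Groth.Agent.H32.PshFp Groth.Agent.H32.SpTrack Groth.Agent.H32.DiagApps
  Groth.Agent.H32.AlgStackFp Groth.Agent.S6402

variable {S : Scheme.{u'}} {𝒳 𝒴 : AlgSt.Cat S}
  (h𝒳 : AlgSt.IsAlgStack Scheme.fppfPrecoverage 𝒳) (h𝒴 : AlgSt.IsAlgStack Scheme.fppfPrecoverage 𝒴)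
  (f : 𝒳 ⥤ᵇ 𝒴)

include h𝒳 h𝒴

theorem isAlgStack_fp_self : AlgSt.IsAlgStack Scheme.fppfPrecoverage (FibCat.fp f f) :=
  isAlgStack_fp h𝒴.isStack.1 h𝒴.diag h𝒳 h𝒳 f f

theorem repByAlgSp1_diag' : AlgSt.RepByAlgSp1 (FibCat.diag f) :=
  repByAlgSp1_diag h𝒳.isStack.1 h𝒴.isStack.1 h𝒳.diag h𝒴.diag f

theorem isAlgStack_fp_diag :
    AlgSt.IsAlgStack Scheme.fppfPrecoverage (FibCat.fp (FibCat.diag f) (FibCat.diag f)) :=
  let hff := isAlgStack_fp_self h𝒳 h𝒴 f
  isAlgStack_fp hff.isStack.1 hff.diag h𝒳 h𝒳 (FibCat.diag f) (FibCat.diag f)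

theorem isAlgStack_inertia : AlgSt.IsAlgStack Scheme.fppfPrecoverage (FibCat.inertia f) := by
  obtain ⟨E', hE', -, -⟩ := exists_inv_isEquivOver (E_isEquivOver f)
  exact isAlgStack_of_equiv E' hE' (isAlgStack_fp_diag h𝒳 h𝒴 f)

theorem inertiaToBase_with_iff (P : MorphismProperty (AlgSp.Sp S)) :
    AlgSt.RepByAlgSpWith P (FibCat.inertiaToBase f) ↔
      AlgSt.RepByAlgSpWith P (FibCat.fpFst (FibCat.diag f) (FibCat.diag f)) :=
  (Groth.Agent.S12782.result (isAlgStack_fp_diag h𝒳 h𝒴 f).isStack.1 h𝒳.isStack.1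
    (isAlgStack_inertia h𝒳 h𝒴 f).isStack.1 h𝒳.isStack.1 P
    (FibCat.fpFst (FibCat.diag f) (FibCat.diag f)) (FibCat.inertiaToBase f) (E f)
    (BasedFunctor.id 𝒳) (E_isEquivOver f) (isEquivOver_id 𝒳) (Iso.refl _)).symm

theorem neutral_with_iff (P : MorphismProperty (AlgSp.Sp S)) :
    AlgSt.RepByAlgSpWith P (FibCat.inertiaNeutral f) ↔
      AlgSt.RepByAlgSpWith P (FibCat.diag (FibCat.diag f)) := by
  have hI := (isAlgStack_inertia h𝒳 h𝒴 f).isStack.1
  have hD := (isAlgStack_fp_diag h𝒳 h𝒴 f).isStack.1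
  rw [← with_postcomp_equiv P h𝒳.isStack.1 hI hD (FibCat.inertiaNeutral f) (E f) (E_isEquivOver f)]
  exact ⟨fun h => with_of_iso P h𝒳.isStack.1 hD (neutralIso f).symm h,
    fun h => with_of_iso P h𝒳.isStack.1 hD (neutralIso f) h⟩

/-- if the inertia has `P`, its neutral section has every property `Q` that the diagonal of a
morphism with `P` has. -/
theorem neutral_of_diag (Q : MorphismProperty (AlgSp.Sp S))
    (hΔ : AlgSt.RepByAlgSpWith Q (FibCat.diag (FibCat.inertiaToBase f))) :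
    AlgSt.RepByAlgSpWith Q (FibCat.inertiaNeutral f) :=
  with_section Q (isAlgStack_inertia h𝒳 h𝒴 f).isStack.1 h𝒳.isStack.1 (FibCat.inertiaToBase f)
    (FibCat.inertiaNeutral f) (Iso.refl _) hΔ

/-- the inertia is a base change of the diagonal. -/
theorem inertiaToBase_of_diag (P : MorphismProperty (AlgSp.Sp S))
    (h : AlgSt.RepByAlgSpWith P (FibCat.diag f)) :
    AlgSt.RepByAlgSpWith P (FibCat.inertiaToBase f) :=
  (inertiaToBase_with_iff h𝒳 h𝒴 f P).2
    (Groth.Agent.S12779.result h𝒳.isStack.1 (isAlgStack_fp_self h𝒳 h𝒴 f).isStack.1 h𝒳.isStack.1 P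
      (FibCat.diag f) (FibCat.diag f) h)

end Groth.Agent.H32.InertiaSt
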