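import Groth.Agent.H32.OpenSub2

/-!
# Open substacks from chartwise open subschemes (helper32)
-/

set_option autoImplicit false
universe u
open CategoryTheory CategoryTheory.Limits AlgebraicGeometry Opposite Topology

namespace Groth.Agent.H32.OpenSub3

open FibCat Stk Groth.Agent.H32.Fp2 Groth.Agent.H32.Fp3 Groth.Agent.H32.Fp4
open Groth.Agent.H32.FibProd Groth.Agent.H32.SubStk Groth.Agent.H32.OpenSub
open Groth.Agent.H32.StPoints Groth.Agent.H32.StTop Groth.Agent.H32.SpTrack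
open Groth.Agent.H32.AlgStackEquiv

variable {S : Scheme.{u}} {𝒳 : AlgSt.Cat S}

/-- a pullback-closed property of objects which, on every chart, is cut out by a subscheme with
property `P`, defines a substack whose inclusion is representable with `RepWith P`. -/
theorem subIncl_with_of_charts (P : MorphismProperty Scheme.{u}) [P.IsStableUnderBaseChange]
    {Q : 𝒳.obj → Prop} (hQ : PbClosed Q)
    (h : ∀ (U : Over S) (y : FibCat.overCat U ⥤ᵇ 𝒳), ∃ (V : Over S) (j : V ⟶ U),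
      P j.left ∧ Mono j ∧ ∀ a : Over U, Q (y.obj a) ↔ ∃ b : a.left ⟶ V, b ≫ j = a.hom) :
    AlgSt.RepByAlgSpWith (AlgSp.RepWith P) (AlgSt.subIncl 𝒳 Q) := by
  intro U y
  obtain ⟨V, j, hjP, hmono, hfac⟩ := h U y
  have hj : AlgSt.RepByAlgSpWith (AlgSp.RepWith P) (AlgSt.overMap j) :=
    overMap_with P (AlgSp.RepWith P) (fun _ _ _ h => h) j hjP
  exact exists_rep_of_chart_equiv _ j hj y (AlgSt.subIncl 𝒳 Q) (chartLift j y hfac)
    (chartLift_isEquivOver j y hfac hQ) (chartLift_fst j y hfac)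

theorem isAlgStack_fullSub (h𝒳 : AlgSt.IsAlgStack Scheme.fppfPrecoverage 𝒳) {Q : 𝒳.obj → Prop}
    (hQ : PbClosed Q) (h1 : AlgSt.RepByAlgSp1 (AlgSt.subIncl 𝒳 Q)) :
    AlgSt.IsAlgStack Scheme.fppfPrecoverage (AlgSt.fullSub 𝒳 Q) :=
  Groth.Agent.H32.StackOps.isAlgStack_of_repByAlgSp1
    (fullSub_isFibGrpd h𝒳.isStack.1 hQ) h𝒳 _ h1

theorem isOpenSubstack_of_charts (h𝒳 : AlgSt.IsAlgStack Scheme.fppfPrecoverage 𝒳)
    {Q : 𝒳.obj → Prop} (hQ : PbClosed Q)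
    (h : ∀ (U : Over S) (y : FibCat.overCat U ⥤ᵇ 𝒳), ∃ (V : Over S) (j : V ⟶ U),
      IsOpenImmersion j.left ∧ Mono j ∧ ∀ a : Over U, Q (y.obj a) ↔ ∃ b : a.left ⟶ V, b ≫ j = a.hom) :
    AlgSt.IsOpenSubstack 𝒳 Q Scheme.fppfPrecoverage := by
  have h1 := subIncl_with_of_charts @IsOpenImmersion hQ h
  exact ⟨hQ.isoClosed, isAlgStack_fullSub h𝒳 hQ (repByAlgSp1_of_with h1), h1⟩

theorem isClosedSubstack_of_charts (h𝒳 : AlgSt.IsAlgStack Scheme.fppfPrecoverage 𝒳)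
    {Q : 𝒳.obj → Prop} (hQ : PbClosed Q)
    (h : ∀ (U : Over S) (y : FibCat.overCat U ⥤ᵇ 𝒳), ∃ (V : Over S) (j : V ⟶ U),
      IsClosedImmersion j.left ∧ Mono j ∧
        ∀ a : Over U, Q (y.obj a) ↔ ∃ b : a.left ⟶ V, b ≫ j = a.hom) :
    AlgSt.IsClosedSubstack 𝒳 Q Scheme.fppfPrecoverage := by
  have h1 := subIncl_with_of_charts @IsClosedImmersion hQ h
  exact ⟨hQ.isoClosed, isAlgStack_fullSub h𝒳 hQ (repByAlgSp1_of_with h1), h1⟩

theorem isLocClosedSubstack_of_charts (h𝒳 : AlgSt.IsAlgStack Scheme.fppfPrecoverage 𝒳)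
    {Q : 𝒳.obj → Prop} (hQ : PbClosed Q)
    (h : ∀ (U : Over S) (y : FibCat.overCat U ⥤ᵇ 𝒳), ∃ (V : Over S) (j : V ⟶ U),
      IsImmersion j.left ∧ Mono j ∧
        ∀ a : Over U, Q (y.obj a) ↔ ∃ b : a.left ⟶ V, b ≫ j = a.hom) :
    AlgSt.IsLocClosedSubstack 𝒳 Q Scheme.fppfPrecoverage := by
  have h1 := subIncl_with_of_charts @IsImmersion hQ h
  exact ⟨hQ.isoClosed, isAlgStack_fullSub h𝒳 hQ (repByAlgSp1_of_with h1), h1⟩

/-- the chart condition for an open subscheme given by `Opens`. -/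
theorem exists_over_of_opens {U : Over S} (O : U.left.Opens) :
    ∃ (V : Over S) (j : V ⟶ U), IsOpenImmersion j.left ∧ Mono j ∧
      ∀ a : Over U, (∃ g' : a.left.left ⟶ ↑O, g' ≫ O.ι = a.hom.left) ↔
        ∃ b : a.left ⟶ V, b ≫ j = a.hom := by
  let V : Over S := Over.mk (O.ι ≫ U.hom)
  let j : V ⟶ U := Over.homMk O.ι rfl
  have hjoi : IsOpenImmersion j.left := inferInstanceAs (IsOpenImmersion O.ι)
  have hjm : Mono j.left := inferInstanceAs (Mono O.ι)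
  have hmono : Mono j := Over.mono_of_mono_left j
  refine ⟨V, j, hjoi, hmono, fun a => ?_⟩
  constructor
  · rintro ⟨g', hg'⟩
    have hw : g' ≫ V.hom = a.left.hom := by
      change g' ≫ O.ι ≫ U.hom = a.left.hom
      rw [← Category.assoc, hg']
      exact Over.w a.hom
    refine ⟨Over.homMk g' hw, ?_⟩
    apply Over.OverMorphism.ext
    exact hg'
  · rintro ⟨b, hb⟩
    refine ⟨b.left, ?_⟩
    rw [← hb]
    rfl

end Groth.Agent.H32.OpenSub3
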