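import Groth.Agent.S15487
import Groth.Agent.H32.OpenSub3
import Groth.Prelude.Def_W4c2isonaturalstkIso

/-!
# Isomorphisms of presheaves of isomorphism classes and spaces of points (helper32)
-/

set_option autoImplicit false
universe u
open CategoryTheory CategoryTheory.Limits AlgebraicGeometry Opposite Topology

namespace Groth.Agent.H32.IsoPts

open FibCat Stk Groth.Agent.H32.FibProd Groth.Agent.S15487
open Groth.Agent.H32.StPoints Groth.Agent.H32.StTop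

variable {S : Scheme.{u}} {𝒳 𝒳' : AlgSt.Cat S}

theorem hom_of_cls_eq' {𝒵 : AlgSt.Cat S} {T : Over S}
    (z₁ z₂ : 𝒵.p.Fiber T) (h : IsoNat.cls z₁ = IsoNat.cls z₂) :
    ∃ m : z₁.1 ⟶ z₂.1, 𝒵.p.IsHomLift (𝟙 T) m := by
  have h' : IsIsomorphic z₁ z₂ := Quotient.exact h
  obtain ⟨e⟩ := h'
  exact ⟨e.hom.1, e.hom.2⟩

/-- naturality of an isomorphism of presheaves of isomorphism classes, for chosen
representatives. -/
theorem exists_hom_of_hom (φ : IsoNat.FIso 𝒳 𝒳') {T' T : Over S} (g : T' ⟶ T)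
    (x' : 𝒳.p.Fiber T') (x : 𝒳.p.Fiber T) (a : x'.1 ⟶ x.1) (ha : 𝒳.p.IsHomLift g a)
    (y' : 𝒳'.p.Fiber T') (y : 𝒳'.p.Fiber T) (hy' : φ.toEquiv T' (IsoNat.cls x') = IsoNat.cls y')
    (hy : φ.toEquiv T (IsoNat.cls x) = IsoNat.cls y) :
    ∃ b : y'.1 ⟶ y.1, 𝒳'.p.IsHomLift g b := by
  obtain ⟨z', z, b, hb, h1, h2⟩ := φ.natural g x' x a ha
  obtain ⟨m₁, hm₁⟩ := hom_of_cls_eq' y' z' (hy'.symm.trans h1)
  obtain ⟨m₂, hm₂⟩ := hom_of_cls_eq' z y (h2.symm.trans hy)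
  refine ⟨m₁ ≫ b ≫ m₂, ?_⟩
  have h3 : 𝒳'.p.IsHomLift (𝟙 T' ≫ g ≫ 𝟙 T) (m₁ ≫ b ≫ m₂) := inferInstance
  rwa [Category.id_comp, Category.comp_id] at h3

/-- two lifts of the same morphism to isomorphic targets have isomorphic sources. -/
theorem cls_eq_of_lifts {𝒵 : AlgSt.Cat S} (h𝒵 : IsFibGrpd 𝒵.p) {T' T : Over S} (g : T' ⟶ T)
    (z' y' : 𝒵.p.Fiber T') (y : 𝒵.p.Fiber T) (c : z'.1 ⟶ y.1) (hc : 𝒵.p.IsHomLift g c)
    (b : y'.1 ⟶ y.1) (hb : 𝒵.p.IsHomLift g b) : IsoNat.cls z' = IsoNat.cls y' := by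
  have hsc : 𝒵.p.IsStronglyCartesian g b := sc_of_isFibGrpd 𝒵.p h𝒵 g b
  have hid : g = 𝟙 _ ≫ g := (Category.id_comp g).symm
  exact cls_eq_of_hom h𝒵 z' y' (Functor.IsStronglyCartesian.map 𝒵.p g b hid c) inferInstance

/-- the inverse of an isomorphism of presheaves of isomorphism classes. -/
def symm (h𝒳 : IsFibGrpd 𝒳.p) (h𝒳' : IsFibGrpd 𝒳'.p) (φ : IsoNat.FIso 𝒳 𝒳') :
    IsoNat.FIso 𝒳' 𝒳 where
  toEquiv T := (φ.toEquiv T).symm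
  natural := by
    intro T' T g y' y b hb
    obtain ⟨x, hx⟩ := Quotient.exists_rep ((φ.toEquiv T).symm (IsoNat.cls y))
    have hx' : IsoNat.cls x = (φ.toEquiv T).symm (IsoNat.cls y) := hx
    obtain ⟨x'0, a, ha⟩ := exists_lift_of_eq 𝒳.p h𝒳 x.2 g
    let x' : 𝒳.p.Fiber T' := ⟨x'0, IsHomLift.domain_eq 𝒳.p g a⟩
    obtain ⟨z', z, c, hc, h1, h2⟩ := φ.natural g x' x a ha
    have hzy : IsoNat.cls z = IsoNat.cls y := by
      rw [← h2, hx', Equiv.apply_symm_apply]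
    obtain ⟨m, hm⟩ := hom_of_cls_eq' z y hzy
    have hcm : 𝒳'.p.IsHomLift g (c ≫ m) := by
      have h3 : 𝒳'.p.IsHomLift (g ≫ 𝟙 T) (c ≫ m) := inferInstance
      rwa [Category.comp_id] at h3
    have hz'y' : IsoNat.cls z' = IsoNat.cls y' := cls_eq_of_lifts h𝒳' g z' y' y (c ≫ m) hcm b hb
    refine ⟨x', x, a, ha, ?_, hx'.symm⟩
    rw [← hz'y', ← h1, Equiv.symm_apply_apply]

/-- a chosen representative of the image class. -/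
noncomputable def trObj (φ : IsoNat.FIso 𝒳 𝒳') {T : Over S} (x : 𝒳.p.Fiber T) : 𝒳'.p.Fiber T :=
  (Quotient.exists_rep (φ.toEquiv T (IsoNat.cls x))).choose

theorem cls_trObj (φ : IsoNat.FIso 𝒳 𝒳') {T : Over S} (x : 𝒳.p.Fiber T) :
    IsoNat.cls (trObj φ x) = φ.toEquiv T (IsoNat.cls x) :=
  (Quotient.exists_rep (φ.toEquiv T (IsoNat.cls x))).choose_spec

/-- the image of a field-valued point. -/
noncomputable def trFPt (φ : IsoNat.FIso 𝒳 𝒳') (p : AlgSt.FPt 𝒳) : AlgSt.FPt 𝒳' :=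
  { K := p.K, str := p.str, obj := (trObj φ ⟨p.obj, p.lies⟩).1,
    lies := (trObj φ ⟨p.obj, p.lies⟩).2 }

theorem trFPt_rel (φ : IsoNat.FIso 𝒳 𝒳') {p q : AlgSt.FPt 𝒳} (h : AlgSt.FPt.Rel p q) :
    AlgSt.FPt.Rel (trFPt φ p) (trFPt φ q) := by
  obtain ⟨r, a, b, -⟩ := h
  obtain ⟨g₁, ha⟩ := exists_base₂ 𝒳.p a r.lies p.lies
  obtain ⟨g₂, hb⟩ := exists_base₂ 𝒳.p b r.lies q.lies
  obtain ⟨a', -⟩ := exists_hom_of_hom φ g₁ ⟨r.obj, r.lies⟩ ⟨p.obj, p.lies⟩ a ha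
    (trObj φ _) (trObj φ _) (cls_trObj φ _).symm (cls_trObj φ _).symm
  obtain ⟨b', -⟩ := exists_hom_of_hom φ g₂ ⟨r.obj, r.lies⟩ ⟨q.obj, q.lies⟩ b hb
    (trObj φ _) (trObj φ _) (cls_trObj φ _).symm (cls_trObj φ _).symm
  exact ⟨trFPt φ r, a', b', trivial⟩

/-- the induced map on points. -/
noncomputable def ptsMap (φ : IsoNat.FIso 𝒳 𝒳') : AlgSt.Points 𝒳 → AlgSt.Points 𝒳' :=
  Quot.lift (fun p => AlgSt.Points.mk (trFPt φ p))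
    (fun _ _ h => AlgSt.Points.sound (trFPt_rel φ h))

theorem ptsMap_mk (φ : IsoNat.FIso 𝒳 𝒳') (p : AlgSt.FPt 𝒳) :
    ptsMap φ (AlgSt.Points.mk p) = AlgSt.Points.mk (trFPt φ p) := rfl

/-- the image point is represented by any object in the image class. -/
theorem ptsMap_mk_eq (φ : IsoNat.FIso 𝒳 𝒳') (p : AlgSt.FPt 𝒳)
    (y : 𝒳'.p.Fiber (Over.mk p.str))
    (h : φ.toEquiv (Over.mk p.str) (IsoNat.cls ⟨p.obj, p.lies⟩) = IsoNat.cls y) :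
    ptsMap φ (AlgSt.Points.mk p) =
      AlgSt.Points.mk { K := p.K, str := p.str, obj := y.1, lies := y.2 } := by
  obtain ⟨m, hm⟩ := hom_of_cls_eq' _ _ ((cls_trObj φ _).trans h)
  rw [ptsMap_mk]
  exact AlgSt.Points.sound ⟨_, 𝟙 _, m, trivial⟩

theorem ptsMap_symm_ptsMap (h𝒳 : IsFibGrpd 𝒳.p) (h𝒳' : IsFibGrpd 𝒳'.p) (φ : IsoNat.FIso 𝒳 𝒳')
    (z : AlgSt.Points 𝒳) : ptsMap (symm h𝒳 h𝒳' φ) (ptsMap φ z) = z := by
  obtain ⟨p, rfl⟩ := AlgSt.Points.mk_surjective z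
  rw [ptsMap_mk]
  have h1 := cls_trObj φ (⟨p.obj, p.lies⟩ : 𝒳.p.Fiber (Over.mk p.str))
  have h := ptsMap_mk_eq (symm h𝒳 h𝒳' φ) (trFPt φ p) ⟨p.obj, p.lies⟩
    ((congrArg (φ.toEquiv (Over.mk p.str)).symm h1).trans (Equiv.symm_apply_apply _ _))
  exact h

theorem ptsMap_ptsMap_symm (h𝒳 : IsFibGrpd 𝒳.p) (h𝒳' : IsFibGrpd 𝒳'.p) (φ : IsoNat.FIso 𝒳 𝒳')
    (z : AlgSt.Points 𝒳') : ptsMap φ (ptsMap (symm h𝒳 h𝒳' φ) z) = z := by
  obtain ⟨p, rfl⟩ := AlgSt.Points.mk_surjective z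
  rw [ptsMap_mk]
  have h1 := cls_trObj (symm h𝒳 h𝒳' φ) (⟨p.obj, p.lies⟩ : 𝒳'.p.Fiber (Over.mk p.str))
  have h := ptsMap_mk_eq φ (trFPt (symm h𝒳 h𝒳' φ) p) ⟨p.obj, p.lies⟩
    ((congrArg (φ.toEquiv (Over.mk p.str)) h1).trans (Equiv.apply_symm_apply _ _))
  exact h

/-- the bijection of spaces of points. -/
noncomputable def ptsEquiv (h𝒳 : IsFibGrpd 𝒳.p) (h𝒳' : IsFibGrpd 𝒳'.p) (φ : IsoNat.FIso 𝒳 𝒳') :
    AlgSt.Points 𝒳 ≃ AlgSt.Points 𝒳' where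
  toFun := ptsMap φ
  invFun := ptsMap (symm h𝒳 h𝒳' φ)
  left_inv := ptsMap_symm_ptsMap h𝒳 h𝒳' φ
  right_inv := ptsMap_ptsMap_symm h𝒳 h𝒳' φ

/-- corresponding charts have corresponding maps on points. -/
theorem ptsMap_ofChart (h𝒳' : IsFibGrpd 𝒳'.p) (φ : IsoNat.FIso 𝒳 𝒳') {U : Over S}
    (x : FibCat.overCat U ⥤ᵇ 𝒳) (x' : FibCat.overCat U ⥤ᵇ 𝒳')
    (hxx' : φ.toEquiv U (IsoNat.objCls x) = IsoNat.objCls x') (u : ↥U.left) :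
    ptsMap φ (AlgSt.Points.ofChart x u) = AlgSt.Points.ofChart x' u := by
  let m : Over.mk (U.left.fromSpecResidueField u ≫ U.hom) ⟶ U :=
    Over.homMk (U.left.fromSpecResidueField u) rfl
  let A : Over U := Over.mk m
  let k : A ⟶ Groth.Agent.H32.Split.T U := Over.homMk m (Category.comp_id _)
  have hk : (FibCat.overCat U).p.IsHomLift m k :=
    IsHomLift.of_fac' (FibCat.overCat U).p _ _ rfl rfl (by
      change m = eqToHom rfl ≫ m ≫ eqToHom rfl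
      simp)
  have hxk : 𝒳.p.IsHomLift m (x.map k) := (BasedFunctor.isHomLift_iff x m k).2 hk
  have hx'k : 𝒳'.p.IsHomLift m (x'.map k) := (BasedFunctor.isHomLift_iff x' m k).2 hk
  -- the class of x(A) goes to the class of x'(A)
  have key : φ.toEquiv (Over.mk (U.left.fromSpecResidueField u ≫ U.hom))
      (IsoNat.cls ⟨x.obj A, x.w_obj A⟩) = IsoNat.cls ⟨x'.obj A, x'.w_obj A⟩ := by
    obtain ⟨b, hb⟩ := exists_hom_of_hom φ m ⟨x.obj A, x.w_obj A⟩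
      ⟨x.obj (Groth.Agent.H32.Split.T U), x.w_obj _⟩ (x.map k) hxk (trObj φ _)
      ⟨x'.obj (Groth.Agent.H32.Split.T U), x'.w_obj _⟩ (cls_trObj φ _).symm hxx'
    exact (cls_trObj φ _).symm.trans
      (cls_eq_of_lifts h𝒳' m _ _ ⟨x'.obj (Groth.Agent.H32.Split.T U), x'.w_obj _⟩ b hb
        (x'.map k) hx'k)
  let p₀ : AlgSt.FPt 𝒳 :=
    { K := ↥(U.left.residueField u)
      str := U.left.fromSpecResidueField u ≫ U.hom
      obj := x.obj A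
      lies := x.w_obj A }
  exact ptsMap_mk_eq φ p₀ ⟨x'.obj A, x'.w_obj A⟩ key

/-- every chart has a corresponding chart. -/
theorem exists_chart (h𝒳' : IsFibGrpd 𝒳'.p) (φ : IsoNat.FIso 𝒳 𝒳') {U : Over S}
    (x : FibCat.overCat U ⥤ᵇ 𝒳) :
    ∃ x' : FibCat.overCat U ⥤ᵇ 𝒳', φ.toEquiv U (IsoNat.objCls x) = IsoNat.objCls x' := by
  have : 𝒳'.p.IsFibered := Groth.Agent.H32.Split.isFibered_of_isFibGrpd 𝒳' h𝒳'
  obtain ⟨b, hb⟩ := Quotient.exists_rep (φ.toEquiv U (IsoNat.objCls x))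
  have hb' : IsoNat.cls b = φ.toEquiv U (IsoNat.objCls x) := hb
  obtain ⟨x', -, τ, -, hτ⟩ := Groth.Agent.H32.Yoneda2.exists_based_functor
    (Groth.Agent.H32.Split.hT U) b.1 b.2
  refine ⟨x', ?_⟩
  rw [← hb']
  exact (cls_eq_of_hom h𝒳' ⟨x'.obj (Groth.Agent.H32.Split.T U), x'.w_obj _⟩ b τ hτ).symm

theorem continuous_ptsMap (h𝒳' : AlgSt.IsAlgStack Scheme.fppfPrecoverage 𝒳')
    (φ : IsoNat.FIso 𝒳 𝒳') : Continuous (ptsMap φ) := by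
  refine continuous_def.2 fun W hW U x _ => ?_
  obtain ⟨x', hxx'⟩ := exists_chart h𝒳'.isStack.1 φ x
  have h : AlgSt.Points.ofChart x ⁻¹' (ptsMap φ ⁻¹' W) = AlgSt.Points.ofChart x' ⁻¹' W := by
    ext u
    simp only [Set.mem_preimage]
    rw [ptsMap_ofChart h𝒳'.isStack.1 φ x x' hxx' u]
  rw [h]
  exact (ofChart_continuous h𝒳' U x').isOpen_preimage W hW

/-- the homeomorphism of spaces of points. -/
noncomputable def ptsHomeo (h𝒳 : AlgSt.IsAlgStack Scheme.fppfPrecoverage 𝒳)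
    (h𝒳' : AlgSt.IsAlgStack Scheme.fppfPrecoverage 𝒳') (φ : IsoNat.FIso 𝒳 𝒳') :
    AlgSt.Points 𝒳 ≃ₜ AlgSt.Points 𝒳' where
  toEquiv := ptsEquiv h𝒳.isStack.1 h𝒳'.isStack.1 φ
  continuous_toFun := continuous_ptsMap h𝒳' φ
  continuous_invFun := continuous_ptsMap h𝒳 (symm h𝒳.isStack.1 h𝒳'.isStack.1 φ)

theorem ptsHomeo_apply (h𝒳 : AlgSt.IsAlgStack Scheme.fppfPrecoverage 𝒳)
    (h𝒳' : AlgSt.IsAlgStack Scheme.fppfPrecoverage 𝒳') (φ : IsoNat.FIso 𝒳 𝒳')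
    (z : AlgSt.Points 𝒳) : ptsHomeo h𝒳 h𝒳' φ z = ptsMap φ z := rfl

/-- compatibility with morphisms. -/
theorem ptsMap_sq {𝒴 𝒴' : AlgSt.Cat S} {f : 𝒳 ⥤ᵇ 𝒴} {f' : 𝒳' ⥤ᵇ 𝒴'} (φ : IsoNat.FIsoSq f f')
    (z : AlgSt.Points 𝒳) :
    ptsMap φ.tgt (AlgSt.Points.map f z) = AlgSt.Points.map f' (ptsMap φ.src z) := by
  obtain ⟨p, rfl⟩ := AlgSt.Points.mk_surjective z
  rw [ptsMap_mk, AlgSt.Points.map_mk, AlgSt.Points.map_mk]
  have h1 := φ.comm (Over.mk p.str) (IsoNat.cls ⟨p.obj, p.lies⟩)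
  have h2 := cls_trObj φ.src (⟨p.obj, p.lies⟩ : 𝒳.p.Fiber (Over.mk p.str))
  have h := ptsMap_mk_eq φ.tgt (p.map f)
    ((IsoNat.fibFun f' (Over.mk p.str)).obj (trObj φ.src ⟨p.obj, p.lies⟩))
    (h1.trans (congrArg (IsoNat.mapCls f' (Over.mk p.str)) h2.symm))
  exact h

end Groth.Agent.H32.IsoPts
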