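import Groth.Agent.H32.StUniv
import Groth.Agent.H32.DiagApps
import Groth.Agent.H51.EtaleMono

/-!
# Injectivity on points for morphisms of algebraic stacks (helper32)
-/

set_option autoImplicit false
universe u
open CategoryTheory CategoryTheory.Limits AlgebraicGeometry Opposite Topology

namespace Groth.Agent.H32.StInj

open FibCat Stk Groth.Agent.H32.Fp2 Groth.Agent.H32.Fp3 Groth.Agent.H32.Fp4
open Groth.Agent.H32.PshStack Groth.Agent.H32.StPoints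
open Groth.Agent.H32.SpBridge Groth.Agent.H32.AtlasRep Groth.Agent.H32.DiagDict
open Groth.Agent.H32.AlgStackEquiv Groth.Agent.H32.StTop Groth.Agent.H32.StUniv
open Groth.Agent.H32.SectSt

variable {S : Scheme.{u}} {𝒳 𝒴 𝒵 : AlgSt.Cat S}

/-- a morphism with surjective diagonal is injective on points. -/
theorem injective_of_diag_surjective (h𝒳 : AlgSt.IsAlgStack Scheme.fppfPrecoverage 𝒳)
    (h𝒴 : AlgSt.IsAlgStack Scheme.fppfPrecoverage 𝒴) (f : 𝒳 ⥤ᵇ 𝒴)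
    (hΔ : AlgSt.IsSurjective (FibCat.diag f)) : Function.Injective (AlgSt.Points.map f) := by
  intro x₁ x₂ h
  obtain ⟨v, hv1, hv2⟩ := Groth.Agent.S12818.result h𝒳 h𝒴 h𝒳 f f x₁ x₂ h
  obtain ⟨x, rfl⟩ := hΔ v
  rw [← hv1, ← hv2, ← map_comp, ← map_comp]
  rfl

/-- surjectivity of the diagonal passes to base changes. -/
theorem diag_fpFst_surjective (h𝒳 : AlgSt.IsAlgStack Scheme.fppfPrecoverage 𝒳)
    (h𝒴 : AlgSt.IsAlgStack Scheme.fppfPrecoverage 𝒴) (h𝒵 : AlgSt.IsAlgStack Scheme.fppfPrecoverage 𝒵)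
    (f : 𝒳 ⥤ᵇ 𝒴) (g : 𝒵 ⥤ᵇ 𝒴) (hΔ : AlgSt.IsSurjective (FibCat.diag f)) :
    AlgSt.IsSurjective (FibCat.diag (fpFst g f)) := by
  have hrep : AlgSt.RepByAlgSp1 (FibCat.diag f) :=
    Groth.Agent.H32.DiagApps.repByAlgSp1_diag h𝒳.isStack.1 h𝒴.isStack.1 h𝒳.diag h𝒴.diag f
  have hΔ' : AlgSt.RepByAlgSpWith AlgSp.IsSurjectiveMor (FibCat.diag f) :=
    (surj_iff h𝒳 (isAlgStack_fp' h𝒳 h𝒴 h𝒳 f f) _ hrep).1 hΔ
  have hfp := isAlgStack_fp' h𝒳 h𝒴 h𝒵 g f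
  have h1 := with_diag_fpFst AlgSp.IsSurjectiveMor h𝒳.isStack.1 h𝒴.isStack.1 h𝒵.isStack.1 g f hΔ'
  exact (surj_iff hfp (isAlgStack_fp' hfp h𝒵 hfp (fpFst g f) (fpFst g f)) _
    (repByAlgSp1_of_with h1)).2 h1

theorem univInjective_iff_diag_surjective (h𝒳 : AlgSt.IsAlgStack Scheme.fppfPrecoverage 𝒳)
    (h𝒴 : AlgSt.IsAlgStack Scheme.fppfPrecoverage 𝒴) (f : 𝒳 ⥤ᵇ 𝒴) :
    AlgSt.IsUnivInjective Scheme.fppfPrecoverage f ↔ AlgSt.IsSurjective (FibCat.diag f) := by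
  constructor
  · intro H w
    refine ⟨AlgSt.Points.map (fpFst f f) w, H 𝒳 h𝒳 f ?_⟩
    rw [← map_comp]
    exact map_id _
  · intro hΔ 𝒵 h𝒵 g
    exact injective_of_diag_surjective (isAlgStack_fp' h𝒳 h𝒴 h𝒵 g f) h𝒵 _
      (diag_fpFst_surjective h𝒳 h𝒴 h𝒵 f g hΔ)

/-- a monomorphism of algebraic stacks is injective on points. -/
theorem injective_of_isMono (h𝒳 : AlgSt.IsAlgStack Scheme.fppfPrecoverage 𝒳)
    (h𝒴 : AlgSt.IsAlgStack Scheme.fppfPrecoverage 𝒴) (f : 𝒳 ⥤ᵇ 𝒴) (hf : AlgSt.IsMono f) :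
    Function.Injective (AlgSt.Points.map f) := by
  intro x₁ x₂ h
  obtain ⟨W, Y, t, ht⟩ := exists_chart_of_point h𝒴.isStack.1 (AlgSt.Points.map f x₁)
  obtain ⟨F, e, he, hm⟩ := hf W Y
  have hm' : Mono (AlgSt.spMapOfOver (BasedFunctor.comp e (fpFst Y f))) := hm
  obtain ⟨r₁, hr₁, hx₁⟩ := exists_point_fp h𝒳 h𝒴 f Y F.obj e he t x₁ ht
  obtain ⟨r₂, hr₂, hx₂⟩ := exists_point_fp h𝒳 h𝒴 f Y F.obj e he t x₂ (ht.trans h)
  have := Groth.Agent.H51.injective_map_of_mono _ (hr₁.trans hr₂.symm)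
  rw [← hx₁, ← hx₂, this]

end Groth.Agent.H32.StInj
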