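import Groth.Agent.H32.StQC
import Groth.Agent.H32.StInj

/-!
# Open immersions of algebraic stacks on points (helper32)
-/

set_option autoImplicit false
universe u
open CategoryTheory CategoryTheory.Limits AlgebraicGeometry Opposite Topology

namespace Groth.Agent.H32.StOpen

open FibCat Stk Groth.Agent.H32.Fp2 Groth.Agent.H32.Fp3 Groth.Agent.H32.Fp4
open Groth.Agent.H32.PshStack Groth.Agent.H32.StPoints
open Groth.Agent.H32.SpBridge Groth.Agent.H32.AtlasRep Groth.Agent.H32.DiagDict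
open Groth.Agent.H32.AlgStackEquiv Groth.Agent.H32.StTop Groth.Agent.H32.StUniv
open Groth.Agent.H32.SectSt Groth.Agent.H32.AtlasCover

variable {S : Scheme.{u}} {𝒰 𝒳 𝒴 𝒵 : AlgSt.Cat S}

theorem flat_lfp_of_repWith_openImm ⦃X Y : AlgSp.Sp S⦄ (a : X ⟶ Y)
    (h : AlgSp.RepWith @IsOpenImmersion a) :
    (AlgSp.LocP @Flat ⊓ AlgSp.LocP @LocallyOfFinitePresentation) a := by
  constructor
  · have hle : ∀ ⦃A B : Scheme.{u}⦄ (g : A ⟶ B), Etale g → Flat g := fun A B g hg => inferInstance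
    have hle' : ∀ ⦃A B : Scheme.{u}⦄ (g : A ⟶ B), IsOpenImmersion g → Flat g :=
      fun A B g hg => inferInstance
    exact Groth.Agent.H50.locP_of_repWith (P := @Flat) hle (repWith_mono hle' h)
  · have hle : ∀ ⦃A B : Scheme.{u}⦄ (g : A ⟶ B), Etale g → LocallyOfFinitePresentation g :=
      fun A B g hg => inferInstance
    have hle' : ∀ ⦃A B : Scheme.{u}⦄ (g : A ⟶ B), IsOpenImmersion g →
        LocallyOfFinitePresentation g := fun A B g hg => inferInstance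
    exact Groth.Agent.H50.locP_of_repWith (P := @LocallyOfFinitePresentation) hle
      (repWith_mono hle' h)

theorem flat_lfp_of_isOpenImm {f : 𝒰 ⥤ᵇ 𝒳} (hf : AlgSt.IsOpenImm f) :
    AlgSt.RepByAlgSpWith (AlgSp.LocP @Flat ⊓ AlgSp.LocP @LocallyOfFinitePresentation) f :=
  Groth.Agent.H32.DiagApps.with_imp flat_lfp_of_repWith_openImm hf

/-- an open immersion of algebraic stacks is open on points. -/
theorem isOpenMap_of_isOpenImm (h𝒰 : AlgSt.IsAlgStack Scheme.fppfPrecoverage 𝒰)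
    (h𝒳 : AlgSt.IsAlgStack Scheme.fppfPrecoverage 𝒳) (f : 𝒰 ⥤ᵇ 𝒳) (hf : AlgSt.IsOpenImm f) :
    IsOpenMap (AlgSt.Points.map f) :=
  isOpenMap_of_flat_lfp h𝒰 h𝒳 f (flat_lfp_of_isOpenImm hf)

theorem isOpen_range_of_isOpenImm (h𝒰 : AlgSt.IsAlgStack Scheme.fppfPrecoverage 𝒰)
    (h𝒳 : AlgSt.IsAlgStack Scheme.fppfPrecoverage 𝒳) (f : 𝒰 ⥤ᵇ 𝒳) (hf : AlgSt.IsOpenImm f) :
    IsOpen (Set.range (AlgSt.Points.map f)) :=
  (isOpenMap_of_isOpenImm h𝒰 h𝒳 f hf).isOpen_range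

end Groth.Agent.H32.StOpen
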