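import Groth.Agent.H32.StQC
import Groth.Agent.H32.StUniv
import Groth.Agent.H65.QC
import Groth.Agent.H32.SpComp
import Groth.Agent.H32.GoodMore

/-!
# Quasi-compact morphisms of algebraic stacks through points (helper32)
-/

set_option autoImplicit false
universe u
open CategoryTheory CategoryTheory.Limits AlgebraicGeometry Opposite Topology

namespace Groth.Agent.H32.StQCMor

open FibCat Stk Groth.Agent.H32.Fp2 Groth.Agent.H32.Fp3 Groth.Agent.H32.Fp4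
open Groth.Agent.H32.StPoints Groth.Agent.H32.StTop Groth.Agent.H32.StQC
open Groth.Agent.H32.StUniv Groth.Agent.H32.SpBridge Groth.Agent.H32.AlgStackEquiv

variable {S : Scheme.{u}} {𝒳 𝒴 𝒵 𝒲 : AlgSt.Cat S}

/-- a surjective image of a quasi-compact algebraic stack is quasi-compact. -/
theorem isQuasiCompact_of_isSurjective {𝒰 : AlgSt.Cat S}
    (h𝒰 : AlgSt.IsAlgStack Scheme.fppfPrecoverage 𝒰) (h𝒳 : AlgSt.IsAlgStack Scheme.fppfPrecoverage 𝒳)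
    (f : 𝒰 ⥤ᵇ 𝒳) (hf : AlgSt.IsSurjective f) (h𝒰' : AlgSt.IsQuasiCompact 𝒰) :
    AlgSt.IsQuasiCompact 𝒳 := by
  have hc := compactSpace_of_isQuasiCompact h𝒰 h𝒰'
  refine isQuasiCompact_of_compactSpace h𝒳 ⟨?_⟩
  rw [← Set.image_univ_of_surjective hf]
  exact isCompact_univ.image (continuous_map h𝒳 f)

/-- the base change of `f` along the second projection of `𝒲 ×_𝒵 𝒴`, as a stack equivalent to
`𝒲 ×_𝒵 𝒳` for the composite. -/
def bcEquiv (f : 𝒳 ⥤ᵇ 𝒴) (q : 𝒴 ⥤ᵇ 𝒵) (g : 𝒲 ⥤ᵇ 𝒵) :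
    fp g (BasedFunctor.comp f q) ⥤ᵇ fp (fpSnd g q) f :=
  BasedFunctor.comp (swap g (BasedFunctor.comp f q))
    (BasedFunctor.comp (paste f q g)
      (BasedFunctor.comp (pasteMidR f (swap q g) (fpSnd g q)) (swap f (fpSnd g q))))

theorem bcEquiv_isEquivOver (f : 𝒳 ⥤ᵇ 𝒴) (q : 𝒴 ⥤ᵇ 𝒵) (g : 𝒲 ⥤ᵇ 𝒵) :
    IsEquivOver (bcEquiv f q g) :=
  isEquivOver_comp _ _ (swap_isEquivOver _ _)
    (isEquivOver_comp _ _ (paste_isEquivOver f q g)
      (isEquivOver_comp _ _ (pasteMidR_isEquivOver f (swap q g) (fpSnd g q) (swap_isEquivOver q g))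
        (swap_isEquivOver _ _)))

theorem isQuasiCompactMor_of_triangle (h𝒳 : AlgSt.IsAlgStack Scheme.fppfPrecoverage 𝒳)
    (h𝒴 : AlgSt.IsAlgStack Scheme.fppfPrecoverage 𝒴) (h𝒵 : AlgSt.IsAlgStack Scheme.fppfPrecoverage 𝒵)
    (f : 𝒳 ⥤ᵇ 𝒴) (p : 𝒳 ⥤ᵇ 𝒵) (q : 𝒴 ⥤ᵇ 𝒵) (e : BasedFunctor.comp f q ≅ p)
    (hf : AlgSt.IsSurjective f) (hp : AlgSt.IsQuasiCompactMor Scheme.fppfPrecoverage p) :
    AlgSt.IsQuasiCompactMor Scheme.fppfPrecoverage q := by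
  intro 𝒲 h𝒲 h𝒲qc g
  have h1 : AlgSt.IsQuasiCompact (fp g p) := hp 𝒲 h𝒲 h𝒲qc g
  have hgq := isAlgStack_fp' h𝒴 h𝒵 h𝒲 g q
  have hgp := isAlgStack_fp' h𝒳 h𝒵 h𝒲 g p
  have hgfq := isAlgStack_fp' h𝒳 h𝒵 h𝒲 g (BasedFunctor.comp f q)
  have h𝒜 := isAlgStack_fp' h𝒳 h𝒴 hgq (fpSnd g q) f
  have h2 : AlgSt.IsQuasiCompact (fp g (BasedFunctor.comp f q)) :=
    Groth.Agent.H65.QC.isQuasiCompact_of_equiv hgp.isStack.1 hgfq.isStack.1
      (congrRight g e.symm) (congrRight_isEquivOver g e.symm) h1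
  have h3 : AlgSt.IsQuasiCompact (fp (fpSnd g q) f) :=
    Groth.Agent.H65.QC.isQuasiCompact_of_equiv hgfq.isStack.1 h𝒜.isStack.1
      (bcEquiv f q g) (bcEquiv_isEquivOver f q g) h2
  have hsurj : AlgSt.IsSurjective (fpFst (fpSnd g q) f) := by
    intro z
    obtain ⟨x, hx⟩ := hf (AlgSt.Points.map (fpSnd g q) z)
    obtain ⟨w, hw, -⟩ := Groth.Agent.S12818.result h𝒳 h𝒴 hgq f (fpSnd g q) z x hx.symm
    exact ⟨w, hw⟩
  exact isQuasiCompact_of_isSurjective h𝒜 hgq _ hsurj h3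

theorem isQuasiCompact_overCat' (U : Over S) [CompactSpace ↥U.left] :
    AlgSt.IsQuasiCompact (FibCat.overCat U) :=
  Groth.Agent.H65.QC.isQuasiCompact_of_equiv (ofSp_isFibGrpd' _)
    (Groth.Agent.S6411.over_isFibGrpd U) (AlgSt.toOverCat U) (toOverCat_isEquivOver U)
    (Groth.Agent.H65.QCMor.isQuasiCompact_ofSp ((AlgSp.ofScheme S).obj U)
      (Groth.Agent.H52.isQuasiCompactSp_yon U))

/-- an open surjective chart of a stack with compact space of points restricts to a surjective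
chart on a compact open subscheme. -/
theorem exists_compact_open_chart [CompactSpace (AlgSt.Points 𝒵)] {T : Over S}
    (φ : FibCat.overCat T ⥤ᵇ 𝒵) (ho : IsOpenMap (AlgSt.Points.ofChart φ))
    (hsurj : Function.Surjective (AlgSt.Points.ofChart φ)) :
    ∃ (T' : Over S) (j : T' ⟶ T), CompactSpace ↥T'.left ∧ IsOpenImmersion j.left ∧
      Function.Surjective (AlgSt.Points.ofChart (BasedFunctor.comp (AlgSt.overMap j) φ)) := by
  obtain ⟨s, hs'⟩ := isCompact_univ.elim_finite_subcover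
    (fun A : T.left.affineOpens => AlgSt.Points.ofChart φ '' (A.1 : Set T.left))
    (fun A => ho _ A.1.isOpen) (by
      intro z _
      obtain ⟨t, rfl⟩ := hsurj z
      obtain ⟨A, ⟨A', hA', rfl⟩, htA, -⟩ := (T.left.isBasis_affineOpens).exists_subset_of_mem_open
        (Set.mem_univ t) isOpen_univ
      exact Set.mem_iUnion.2 ⟨⟨A', hA'⟩, t, htA, rfl⟩)
  let W : T.left.Opens := ⨆ A ∈ s, A.1
  have hWc : IsCompact (W : Set T.left) := by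
    have : (W : Set T.left) = ⋃ A ∈ s, (A.1 : Set T.left) := by
      simp [W]
    rw [this]
    exact s.isCompact_biUnion fun A _ => A.2.isCompact
  let T' : Over S := Over.mk (W.ι ≫ T.hom)
  let j : T' ⟶ T := Over.homMk W.ι rfl
  refine ⟨T', j, isCompact_iff_compactSpace.mp hWc, inferInstanceAs (IsOpenImmersion W.ι), ?_⟩
  intro z
  obtain ⟨A, hA⟩ := Set.mem_iUnion.1 (hs' (Set.mem_univ z))
  obtain ⟨hAs, t, htA, rfl⟩ := Set.mem_iUnion.1 hA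
  have htW : t ∈ W := by
    simp only [W, TopologicalSpace.Opens.mem_iSup]
    exact ⟨A, hAs, htA⟩
  let t' : ↥T'.left := (⟨t, htW⟩ : ↥W)
  exact ⟨t', (ofChart_overMap j φ t').trans rfl⟩

open Groth.Agent.H32.StackOps Groth.Agent.H32.SpComp Groth.Agent.H32.PFacts
  Groth.Agent.H32.GoodMore in
/-- base change along the first projection. -/
theorem with_fpFst (P : MorphismProperty (AlgSp.Sp S)) (h𝒵 : IsFibGrpd 𝒵.p) (h𝒴 : IsFibGrpd 𝒴.p)
    (h𝒲 : IsFibGrpd 𝒲.p) (g : 𝒵 ⥤ᵇ 𝒴) (w : 𝒲 ⥤ᵇ 𝒴) (hw : AlgSt.RepByAlgSpWith P w) :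
    AlgSt.RepByAlgSpWith P (fpFst g w) :=
  with_precomp_equiv P (Groth.Agent.H32.Repr.fp_isFibGrpd g w h𝒵 h𝒲 h𝒴)
    (Groth.Agent.H32.Repr.fp_isFibGrpd w g h𝒲 h𝒵 h𝒴) h𝒵 (swap g w) (swap_isEquivOver g w)
    (fpSnd w g) (repByAlgSpWith_fpSnd P w g hw)

open Groth.Agent.H32.StackOps Groth.Agent.H32.SpComp Groth.Agent.H32.PFacts
  Groth.Agent.H32.GoodMore Groth.Agent.H32.DiagDict Groth.Agent.H32.AtlasRep in
theorem isQuasiCompactMor_of_fppf_cover (h𝒳 : AlgSt.IsAlgStack Scheme.fppfPrecoverage 𝒳)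
    (h𝒴 : AlgSt.IsAlgStack Scheme.fppfPrecoverage 𝒴) (f : 𝒳 ⥤ᵇ 𝒴)
    (W : AlgSp.Space S) (w : AlgSt.ofSp W.obj ⥤ᵇ 𝒴)
    (hw₁ : AlgSt.RepByAlgSpWith (AlgSp.LocP @Flat) w)
    (hw₂ : AlgSt.RepByAlgSpWith (AlgSp.LocP @LocallyOfFinitePresentation) w)
    (hw₃ : AlgSt.RepByAlgSpWith AlgSp.IsSurjectiveMor w)
    (H : AlgSt.IsQuasiCompactMor Scheme.fppfPrecoverage (fpFst w f)) :
    AlgSt.IsQuasiCompactMor Scheme.fppfPrecoverage f := by
  intro 𝒵 h𝒵 h𝒵qc g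
  have hW := isAlgStack_ofSp W
  have hgw := isAlgStack_fp' hW h𝒴 h𝒵 g w
  have hgf := isAlgStack_fp' h𝒳 h𝒴 h𝒵 g f
  have hwf := isAlgStack_fp' h𝒳 h𝒴 hW w f
  -- the projection `𝒵 ×_𝒴 W ⟶ 𝒵` is flat, locally finitely presented and surjective
  have hp1 : AlgSt.RepByAlgSpWith (AlgSp.LocP @Flat ⊓ AlgSp.LocP @LocallyOfFinitePresentation)
      (fpFst g w) :=
    with_fpFst _ h𝒵.isStack.1 h𝒴.isStack.1 hW.isStack.1 g w (with_flat_lfp hw₁ hw₂)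
  have hp2 : AlgSt.RepByAlgSpWith AlgSp.IsSurjectiveMor (fpFst g w) :=
    with_fpFst _ h𝒵.isStack.1 h𝒴.isStack.1 hW.isStack.1 g w hw₃
  obtain ⟨T, t, ht1, ht2⟩ := hgw.atlas
  have hT := Groth.Agent.S6411.over_isFibGrpd T
  let φ : FibCat.overCat T ⥤ᵇ 𝒵 := BasedFunctor.comp t (fpFst g w)
  have hφ1 : AlgSt.RepByAlgSpWith (AlgSp.LocP @Flat ⊓ AlgSp.LocP @LocallyOfFinitePresentation) φ :=
    with_comp good_flat_lfp hT hgw.isStack.1 h𝒵.isStack.1 t (fpFst g w)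
      (flat_lfp_of_smooth_chart ht1) hp1
  have hφo : IsOpenMap (AlgSt.Points.ofChart φ) := ofChart_isOpenMap h𝒵 T φ hφ1
  have hφs : Function.Surjective (AlgSt.Points.ofChart φ) := by
    intro z
    obtain ⟨z', rfl⟩ := (surj_iff hgw h𝒵 _ (repByAlgSp1_of_with hp2)).2 hp2 z
    obtain ⟨τ, rfl⟩ := ofChart_surjective hgw t ht2 z'
    exact ⟨τ, rfl⟩
  have hc : CompactSpace (AlgSt.Points 𝒵) := compactSpace_of_isQuasiCompact h𝒵 h𝒵qc
  obtain ⟨T', j, hT'c, -, hsurj⟩ := exists_compact_open_chart φ hφo hφs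
  have hT' := isAlgStack_overCat T'
  let c : FibCat.overCat T' ⥤ᵇ fp g w := BasedFunctor.comp (AlgSt.overMap j) t
  let g' : FibCat.overCat T' ⥤ᵇ AlgSt.ofSp W.obj := BasedFunctor.comp c (fpSnd g w)
  let c' : FibCat.overCat T' ⥤ᵇ 𝒵 := BasedFunctor.comp c (fpFst g w)
  have h1 : AlgSt.IsQuasiCompact (fp g' (fpFst w f)) :=
    H (FibCat.overCat T') hT' (isQuasiCompact_overCat' T') g'
  -- transport along equivalences
  have hA1 := isAlgStack_fp' hwf hW hT' g' (fpFst w f)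
  have hA2 := isAlgStack_fp' h𝒳 h𝒴 hT' (BasedFunctor.comp g' w) f
  have hA3 := isAlgStack_fp' h𝒳 h𝒴 hT' (BasedFunctor.comp c' g) f
  have hA4 := isAlgStack_fp' hgf h𝒵 hT' c' (fpFst g f)
  obtain ⟨P', hP', -, -⟩ := exists_inv_isEquivOver (paste_isEquivOver g' w f)
  have h2 : AlgSt.IsQuasiCompact (fp (BasedFunctor.comp g' w) f) :=
    Groth.Agent.H65.QC.isQuasiCompact_of_equiv hA1.isStack.1 hA2.isStack.1 P' hP' h1
  have ι : BasedFunctor.comp g' w ≅ BasedFunctor.comp c' g := whiskerLeftIso c (fpIso g w).symm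
  have h3 : AlgSt.IsQuasiCompact (fp (BasedFunctor.comp c' g) f) :=
    Groth.Agent.H65.QC.isQuasiCompact_of_equiv hA2.isStack.1 hA3.isStack.1
      (congrLeft ι f) (congrLeft_isEquivOver ι f) h2
  have h4 : AlgSt.IsQuasiCompact (fp c' (fpFst g f)) :=
    Groth.Agent.H65.QC.isQuasiCompact_of_equiv hA3.isStack.1 hA4.isStack.1
      (paste c' g f) (paste_isEquivOver c' g f) h3
  have hs : AlgSt.IsSurjective (fpSnd c' (fpFst g f)) := by
    intro z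
    obtain ⟨τ, hτ⟩ := hsurj (AlgSt.Points.map (fpFst g f) z)
    obtain ⟨w', -, hw'⟩ := Groth.Agent.S12818.result hgf h𝒵 hT' (fpFst g f) c' (ptOf T' τ) z hτ
    exact ⟨w', hw'⟩
  exact isQuasiCompact_of_isSurjective hA4 hgf _ hs h4

end Groth.Agent.H32.StQCMor
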