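import Groth.Agent.H32.IsoPts
import Groth.Agent.H32.StQCMor
import Groth.Agent.H32.StInj
import Groth.Agent.H32.StOpen
import Groth.Agent.H32.OpenSub3
import Groth.Agent.H65.QCProd
import Groth.Agent.S15493
import Groth.Agent.S12818

/-!
# Quasi-compact morphisms of algebraic stacks, read on spaces of points (helper32)
-/

set_option autoImplicit false
universe u
open CategoryTheory CategoryTheory.Limits AlgebraicGeometry Opposite Topology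

namespace Groth.Agent.H32.IsoQC

open FibCat Stk Groth.Agent.H32.FibProd
open Groth.Agent.H32.StPoints Groth.Agent.H32.StTop Groth.Agent.H32.StQC
open Groth.Agent.H32.StUniv Groth.Agent.H32.StQCMor Groth.Agent.H32.Fp2 Groth.Agent.H32.Fp3
open Groth.Agent.H32.OpenSub Groth.Agent.H32.SubStk

variable {S : Scheme.{u}} {𝒳 𝒴 𝒵 𝒰 : AlgSt.Cat S}

theorem isMono_of_isOpenImm (j : 𝒰 ⥤ᵇ 𝒳) (hj : AlgSt.IsOpenImm j) : AlgSt.IsMono j :=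
  Groth.Agent.H32.DiagApps.with_imp
    (fun _ _ a h => Groth.Agent.S15493.mono_of_repWith_openImm a h) hj

theorem isOpenEmbedding_of_isOpenImm (h𝒰 : AlgSt.IsAlgStack Scheme.fppfPrecoverage 𝒰)
    (h𝒳 : AlgSt.IsAlgStack Scheme.fppfPrecoverage 𝒳) (j : 𝒰 ⥤ᵇ 𝒳) (hj : AlgSt.IsOpenImm j) :
    IsOpenEmbedding (AlgSt.Points.map j) :=
  .of_continuous_injective_isOpenMap (continuous_map h𝒳 j)
    (Groth.Agent.H32.StInj.injective_of_isMono h𝒰 h𝒳 j (isMono_of_isOpenImm j hj))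
    (Groth.Agent.H32.StOpen.isOpenMap_of_isOpenImm h𝒰 h𝒳 j hj)

theorem isQuasiCompact_iff_isCompact_range (h𝒰 : AlgSt.IsAlgStack Scheme.fppfPrecoverage 𝒰)
    (h𝒳 : AlgSt.IsAlgStack Scheme.fppfPrecoverage 𝒳) (j : 𝒰 ⥤ᵇ 𝒳) (hj : AlgSt.IsOpenImm j) :
    AlgSt.IsQuasiCompact 𝒰 ↔ IsCompact (Set.range (AlgSt.Points.map j)) := by
  rw [isQuasiCompact_iff h𝒰, ← isCompact_univ_iff, ← Set.image_univ]
  exact (isOpenEmbedding_of_isOpenImm h𝒰 h𝒳 j hj).isInducing.isCompact_iff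

theorem map_fp_sq (g : 𝒵 ⥤ᵇ 𝒴) (f : 𝒳 ⥤ᵇ 𝒴) (w : AlgSt.Points (fp g f)) :
    AlgSt.Points.map g (AlgSt.Points.map (fpFst g f) w) =
      AlgSt.Points.map f (AlgSt.Points.map (fpSnd g f) w) := by
  rw [← map_comp, ← map_comp]
  exact map_congr (fpIso g f) w

theorem range_fpSnd (h𝒳 : AlgSt.IsAlgStack Scheme.fppfPrecoverage 𝒳)
    (h𝒴 : AlgSt.IsAlgStack Scheme.fppfPrecoverage 𝒴) (h𝒵 : AlgSt.IsAlgStack Scheme.fppfPrecoverage 𝒵)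
    (g : 𝒵 ⥤ᵇ 𝒴) (f : 𝒳 ⥤ᵇ 𝒴) :
    Set.range (AlgSt.Points.map (fpSnd g f)) =
      AlgSt.Points.map f ⁻¹' Set.range (AlgSt.Points.map g) := by
  ext x
  constructor
  · rintro ⟨w, rfl⟩
    exact ⟨_, map_fp_sq g f w⟩
  · rintro ⟨z, hz⟩
    obtain ⟨w, -, hw⟩ := Groth.Agent.S12818.result h𝒳 h𝒴 h𝒵 f g z x hz
    exact ⟨w, hw⟩

/-- `𝒵 ×_𝒴 𝒳` is quasi-compact as soon as `𝒵` is and the part of `𝒳` over the image of `𝒵` is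
covered by a quasi-compact stack. -/
theorem isQuasiCompact_fp_of_cover [QuasiSeparatedSpace S] {𝒳₀ : AlgSt.Cat S}
    (h𝒳 : AlgSt.IsAlgStack Scheme.fppfPrecoverage 𝒳)
    (h𝒴 : AlgSt.IsAlgStack Scheme.fppfPrecoverage 𝒴) (h𝒵 : AlgSt.IsAlgStack Scheme.fppfPrecoverage 𝒵)
    (h𝒳₀ : AlgSt.IsAlgStack Scheme.fppfPrecoverage 𝒳₀)
    (hΔ : AlgSt.RepByAlgSpWith AlgSp.IsQuasiCompactMor (FibCat.diag (FibCat.toSelf 𝒴)))
    (f : 𝒳 ⥤ᵇ 𝒴) (g : 𝒵 ⥤ᵇ 𝒴) (h : 𝒳₀ ⥤ᵇ 𝒳)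
    (h𝒵qc : AlgSt.IsQuasiCompact 𝒵) (h𝒳₀qc : AlgSt.IsQuasiCompact 𝒳₀)
    (hcov : AlgSt.Points.map f ⁻¹' Set.range (AlgSt.Points.map g) ⊆
      Set.range (AlgSt.Points.map h)) :
    AlgSt.IsQuasiCompact (fp g f) := by
  have hgf := isAlgStack_fp' h𝒳 h𝒴 h𝒵 g f
  have hghf := isAlgStack_fp' h𝒳₀ h𝒴 h𝒵 g (BasedFunctor.comp h f)
  have h𝒜 := isAlgStack_fp' h𝒳₀ h𝒳 hgf (fpSnd g f) h
  have h1 : AlgSt.IsQuasiCompact (fp g (BasedFunctor.comp h f)) :=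
    Groth.Agent.H65.QCProd.isQuasiCompact_fp h𝒵.isStack.1 h𝒴.isStack.1 h𝒳₀.isStack.1 g
      (BasedFunctor.comp h f) hΔ h𝒵qc h𝒳₀qc
  have h3 : AlgSt.IsQuasiCompact (fp (fpSnd g f) h) :=
    Groth.Agent.H65.QC.isQuasiCompact_of_equiv hghf.isStack.1 h𝒜.isStack.1
      (bcEquiv h f g) (bcEquiv_isEquivOver h f g) h1
  have hsurj : AlgSt.IsSurjective (fpFst (fpSnd g f) h) := by
    intro w
    obtain ⟨x, hx⟩ := hcov (⟨_, map_fp_sq g f w⟩ :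
      AlgSt.Points.map (fpSnd g f) w ∈ AlgSt.Points.map f ⁻¹' Set.range (AlgSt.Points.map g))
    obtain ⟨v, hv, -⟩ := Groth.Agent.S12818.result h𝒳₀ h𝒳 hgf h (fpSnd g f) w x hx.symm
    exact ⟨v, hv⟩
  exact isQuasiCompact_of_isSurjective h𝒜 hgf _ hsurj h3

theorem exists_compact_open_superset (h𝒴 : AlgSt.IsAlgStack Scheme.fppfPrecoverage 𝒴)
    {K : Set (AlgSt.Points 𝒴)} (hK : IsCompact K) :
    ∃ W : Set (AlgSt.Points 𝒴), IsOpen W ∧ IsCompact W ∧ K ⊆ W := by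
  obtain ⟨T, a, ha, hs⟩ := h𝒴.atlas
  have hq := ofChart_isOpenQuotientMap h𝒴 a (flat_lfp_of_smooth_chart ha) hs
  obtain ⟨s, hs'⟩ := hK.elim_finite_subcover
    (fun A : T.left.affineOpens => AlgSt.Points.ofChart a '' (A.1 : Set T.left))
    (fun A => hq.isOpenMap _ A.1.isOpen) (by
      intro z _
      obtain ⟨t, rfl⟩ := hq.surjective z
      obtain ⟨A, ⟨A', hA', rfl⟩, htA, -⟩ := (T.left.isBasis_affineOpens).exists_subset_of_mem_open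
        (Set.mem_univ t) isOpen_univ
      exact Set.mem_iUnion.2 ⟨⟨A', hA'⟩, t, htA, rfl⟩)
  exact ⟨⋃ A ∈ s, AlgSt.Points.ofChart a '' (A.1 : Set T.left),
    isOpen_biUnion (fun A _ => hq.isOpenMap _ A.1.isOpen),
    s.isCompact_biUnion (fun A _ => A.2.isCompact.image hq.continuous), hs'⟩

open Groth.Agent.H32.OpenSub3 Groth.Agent.H32.AlgStackEquiv in
/-- the open substack on an open set of points. -/
theorem openSub_facts (h𝒴 : AlgSt.IsAlgStack Scheme.fppfPrecoverage 𝒴)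
    {W : Set (AlgSt.Points 𝒴)} (hWo : IsOpen W) :
    AlgSt.IsOpenImm (AlgSt.subIncl 𝒴 (Qof W)) ∧
      AlgSt.IsAlgStack Scheme.fppfPrecoverage (AlgSt.fullSub 𝒴 (Qof W)) ∧
      (IsCompact W → AlgSt.IsQuasiCompact (AlgSt.fullSub 𝒴 (Qof W))) := by
  have hj := isOpenImm_subIncl_Qof W h𝒴 hWo
  have h𝒴' := isAlgStack_fullSub h𝒴 (Qof_pbClosed W) (repByAlgSp1_of_with hj)
  refine ⟨hj, h𝒴', fun hWc => ?_⟩
  rw [isQuasiCompact_iff_isCompact_range h𝒴' h𝒴 _ hj, range_subIncl]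
  exact hWc

open Groth.Agent.H32.SpComp in
/-- quasi-compactness of a morphism is tested on quasi-compact open substacks of the target. -/
theorem isQuasiCompactMor_of_openImm [QuasiSeparatedSpace S]
    (h𝒳 : AlgSt.IsAlgStack Scheme.fppfPrecoverage 𝒳)
    (h𝒴 : AlgSt.IsAlgStack Scheme.fppfPrecoverage 𝒴)
    (hΔ : AlgSt.RepByAlgSpWith AlgSp.IsQuasiCompactMor (FibCat.diag (FibCat.toSelf 𝒴)))
    (f : 𝒳 ⥤ᵇ 𝒴)
    (H : ∀ (𝒴' : AlgSt.Cat S), AlgSt.IsAlgStack Scheme.fppfPrecoverage 𝒴' →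
      AlgSt.IsQuasiCompact 𝒴' → ∀ (j : 𝒴' ⥤ᵇ 𝒴), AlgSt.IsOpenImm j →
        AlgSt.IsQuasiCompact (FibCat.fp j f)) :
    AlgSt.IsQuasiCompactMor Scheme.fppfPrecoverage f := by
  intro 𝒵 h𝒵 h𝒵qc g
  have hc := compactSpace_of_isQuasiCompact h𝒵 h𝒵qc
  have hK : IsCompact (Set.range (AlgSt.Points.map g)) := isCompact_range (continuous_map h𝒴 g)
  obtain ⟨W, hWo, hWc, hKW⟩ := exists_compact_open_superset h𝒴 hK
  obtain ⟨hj, h𝒴', hqc'⟩ := openSub_facts h𝒴 hWo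
  have h0 := H _ h𝒴' (hqc' hWc) _ hj
  refine isQuasiCompact_fp_of_cover h𝒳 h𝒴 h𝒵 (isAlgStack_fp' h𝒳 h𝒴 h𝒴' _ f) hΔ f g
    (fpSnd (AlgSt.subIncl 𝒴 (Qof W)) f) h𝒵qc h0 ?_
  rw [range_fpSnd h𝒳 h𝒴 h𝒴', range_subIncl]
  exact Set.preimage_mono hKW

/-- the topological form of quasi-compactness of a morphism. -/
def TopQC (f : 𝒳 ⥤ᵇ 𝒴) : Prop :=
  ∀ W : Set (AlgSt.Points 𝒴), IsOpen W → IsCompact W → IsCompact (AlgSt.Points.map f ⁻¹' W)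

theorem topQC_of_isQuasiCompactMor (h𝒳 : AlgSt.IsAlgStack Scheme.fppfPrecoverage 𝒳)
    (h𝒴 : AlgSt.IsAlgStack Scheme.fppfPrecoverage 𝒴) (f : 𝒳 ⥤ᵇ 𝒴)
    (hf : AlgSt.IsQuasiCompactMor Scheme.fppfPrecoverage f) : TopQC f := by
  intro W hWo hWc
  obtain ⟨hj, h𝒴', hqc'⟩ := openSub_facts h𝒴 hWo
  have h0 := hf _ h𝒴' (hqc' hWc) (AlgSt.subIncl 𝒴 (Qof W))
  have hfp := isAlgStack_fp' h𝒳 h𝒴 h𝒴' (AlgSt.subIncl 𝒴 (Qof W)) f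
  have hc := compactSpace_of_isQuasiCompact hfp h0
  have := isCompact_range (continuous_map h𝒳 (fpSnd (AlgSt.subIncl 𝒴 (Qof W)) f))
  rwa [range_fpSnd h𝒳 h𝒴 h𝒴', range_subIncl] at this

open Groth.Agent.H32.SpComp in
theorem isQuasiCompactMor_of_topQC [QuasiSeparatedSpace S]
    (h𝒳 : AlgSt.IsAlgStack Scheme.fppfPrecoverage 𝒳)
    (h𝒴 : AlgSt.IsAlgStack Scheme.fppfPrecoverage 𝒴)
    (hΔ : AlgSt.RepByAlgSpWith AlgSp.IsQuasiCompactMor (FibCat.diag (FibCat.toSelf 𝒴)))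
    (f : 𝒳 ⥤ᵇ 𝒴) (hf : TopQC f) : AlgSt.IsQuasiCompactMor Scheme.fppfPrecoverage f := by
  refine isQuasiCompactMor_of_openImm h𝒳 h𝒴 hΔ f ?_
  intro 𝒴' h𝒴' hqc j hj
  have hfp := isAlgStack_fp' h𝒳 h𝒴 h𝒴' j f
  have hsnd : AlgSt.IsOpenImm (fpSnd j f) := repByAlgSpWith_fpSnd _ j f hj
  rw [isQuasiCompact_iff_isCompact_range hfp h𝒳 _ hsnd, range_fpSnd h𝒳 h𝒴 h𝒴']
  exact hf _ (Groth.Agent.H32.StOpen.isOpen_range_of_isOpenImm h𝒴' h𝒴 j hj)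
    ((isQuasiCompact_iff_isCompact_range h𝒴' h𝒴 j hj).1 hqc)

open Groth.Agent.H32.IsoPts in
theorem topQC_of_fIsoSq {𝒳' 𝒴' : AlgSt.Cat S}
    (h𝒳 : AlgSt.IsAlgStack Scheme.fppfPrecoverage 𝒳)
    (h𝒴 : AlgSt.IsAlgStack Scheme.fppfPrecoverage 𝒴)
    (h𝒳' : AlgSt.IsAlgStack Scheme.fppfPrecoverage 𝒳')
    (h𝒴' : AlgSt.IsAlgStack Scheme.fppfPrecoverage 𝒴')
    (f : 𝒳 ⥤ᵇ 𝒴) (f' : 𝒳' ⥤ᵇ 𝒴') (φ : IsoNat.FIsoSq f f') (hf : TopQC f) : TopQC f' := by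
  intro W' hWo hWc
  let hX := IsoPts.ptsHomeo h𝒳 h𝒳' φ.src
  let hY := IsoPts.ptsHomeo h𝒴 h𝒴' φ.tgt
  have h1 := hf (hY ⁻¹' W') (hWo.preimage hY.continuous) (hY.isCompact_preimage.2 hWc)
  have e : AlgSt.Points.map f' ⁻¹' W' = hX '' (AlgSt.Points.map f ⁻¹' (hY ⁻¹' W')) := by
    ext z'
    constructor
    · intro hz'
      refine ⟨hX.symm z', ?_, hX.apply_symm_apply z'⟩
      change hY (AlgSt.Points.map f (hX.symm z')) ∈ W'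
      rw [IsoPts.ptsHomeo_apply, ptsMap_sq, ← IsoPts.ptsHomeo_apply h𝒳 h𝒳', hX.apply_symm_apply]
      exact hz'
    · rintro ⟨z, hz, rfl⟩
      change AlgSt.Points.map f' (hX z) ∈ W'
      rw [IsoPts.ptsHomeo_apply, ← ptsMap_sq]
      exact hz
  rw [e]
  exact h1.image hX.continuous

end Groth.Agent.H32.IsoQC
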