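import Groth.Prelude.Def_AlgSp

/-!
# Restriction of fppf sheaves along a morphism of base schemes (helper32)
-/
set_option autoImplicit false
universe u
open CategoryTheory CategoryTheory.Limits AlgebraicGeometry Opposite

namespace Groth.Agent.H32.OverBC
variable {S S' : Scheme.{u}} (g : S ⟶ S')

noncomputable abbrev jf : AlgSp.Sp S' ⥤ AlgSp.Sp S := Scheme.fppfTopology.overMapPullback (Type (u + 1)) g

noncomputable abbrev adj : Over.map g ⊣ Over.pullback g := Over.mapPullbackAdj g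

/-- sectionwise equivalence -/
noncomputable def secEquiv (X' : Over S') (T : Over S) :
    ((AlgSp.yon S).obj ((Over.pullback g).obj X')).obj.obj (op T) ≃
      ((jf g).obj ((AlgSp.yon S').obj X')).obj.obj (op T) :=
  Equiv.ulift.trans (((adj g).homEquiv T X').symm.trans Equiv.ulift.symm)

theorem secEquiv_apply (X' : Over S') (T : Over S) (f : T ⟶ (Over.pullback g).obj X') :
    secEquiv g X' T ⟨f⟩ = ⟨((adj g).homEquiv T X').symm f⟩ := rfl

noncomputable def rho (X' : Over S') :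
    (AlgSp.yon S).obj ((Over.pullback g).obj X') ≅ (jf g).obj ((AlgSp.yon S').obj X') :=
  (fullyFaithfulSheafToPresheaf _ _).preimageIso
    (NatIso.ofComponents (fun T => (secEquiv g X' T.unop).toIso) (by
      intro T T' f
      ext ⟨a⟩
      change secEquiv g X' T'.unop ⟨f.unop ≫ a⟩ = ⟨(Over.map g).map f.unop ≫ (secEquiv g X' T.unop ⟨a⟩).down⟩
      rw [secEquiv_apply, secEquiv_apply, (adj g).homEquiv_naturality_left_symm]))

theorem rho_hom_app (X' : Over S') (T : Over S) (f : T ⟶ (Over.pullback g).obj X') :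
    (rho g X').hom.hom.app (op T) ⟨f⟩ = ⟨((adj g).homEquiv T X').symm f⟩ := rfl

theorem rho_natural {X' Y' : Over S'} (m : X' ⟶ Y') :
    (AlgSp.yon S).map ((Over.pullback g).map m) ≫ (rho g Y').hom =
      (rho g X').hom ≫ (jf g).map ((AlgSp.yon S').map m) := by
  apply ObjectProperty.hom_ext
  ext T ⟨a⟩
  change (rho g Y').hom.hom.app T ⟨a ≫ (Over.pullback g).map m⟩ =
    ⟨((rho g X').hom.hom.app T ⟨a⟩).down ≫ m⟩
  obtain ⟨T⟩ := T
  rw [rho_hom_app, rho_hom_app, (adj g).homEquiv_naturality_right_symm]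

/-- factorization of a map from a representable to `j F'`. -/
theorem factor (F' : AlgSp.Sp S') (T : Over S) (a : (AlgSp.yon S).obj T ⟶ (jf g).obj F') :
    ∃ a' : (AlgSp.yon S').obj ((Over.map g).obj T) ⟶ F',
      a = (AlgSp.yon S).map ((adj g).unit.app T) ≫ (rho g ((Over.map g).obj T)).hom ≫ (jf g).map a' := by
  refine ⟨(AlgSp.J S').uliftYonedaEquiv.{u + 1}.symm ((AlgSp.J S).uliftYonedaEquiv.{u + 1} a), ?_⟩
  apply (AlgSp.J S).uliftYonedaEquiv.{u + 1}.injective
  rw [GrothendieckTopology.uliftYonedaEquiv_apply, GrothendieckTopology.uliftYonedaEquiv_apply]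
  change _ = ((AlgSp.J S').uliftYonedaEquiv.{u + 1}.symm (a.hom.app (op T) ⟨𝟙 T⟩)).hom.app _
    ((rho g ((Over.map g).obj T)).hom.hom.app (op T) ⟨𝟙 T ≫ (adj g).unit.app T⟩)
  rw [rho_hom_app, Category.id_comp]
  have : ((adj g).homEquiv T ((Over.map g).obj T)).symm ((adj g).unit.app T) = 𝟙 _ := by
    rw [← (adj g).homEquiv_id, Equiv.symm_apply_apply]
  rw [this]
  have : ((AlgSp.J S').uliftYonedaEquiv.{u + 1}.symm (a.hom.app (op T) ⟨𝟙 T⟩)).hom.app
      (op ((Over.map g).obj T)) ⟨𝟙 ((Over.map g).obj T)⟩ =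
      F'.obj.map (𝟙 ((Over.map g).obj T)).op (a.hom.app (op T) ⟨𝟙 T⟩) :=
    GrothendieckTopology.uliftYonedaEquiv_symm_app_apply _ _ _ _
  have h3 : F'.obj.map (𝟙 ((Over.map g).obj T)).op (a.hom.app (op T) ⟨𝟙 T⟩) =
      a.hom.app (op T) ⟨𝟙 T⟩ := by
    rw [op_id, F'.obj.map_id]; rfl
  exact (this.trans h3).symm



/-- `j` preserves pullback squares, transported to representables. -/
theorem bc_square {F' : AlgSp.Sp S'} {A' B' P' : Over S'} {α' : (AlgSp.yon S').obj A' ⟶ F'}
    {β' : (AlgSp.yon S').obj B' ⟶ F'} {p₁ : P' ⟶ A'} {p₂ : P' ⟶ B'}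
    (sq : IsPullback ((AlgSp.yon S').map p₁) ((AlgSp.yon S').map p₂) α' β') :
    IsPullback ((AlgSp.yon S).map ((Over.pullback g).map p₁))
      ((AlgSp.yon S).map ((Over.pullback g).map p₂))
      ((rho g A').hom ≫ (jf g).map α') ((rho g B').hom ≫ (jf g).map β') := by
  have h := sq.map (jf g)
  refine IsPullback.of_iso h (rho g P').symm (rho g A').symm (rho g B').symm (Iso.refl _) ?_ ?_ ?_ ?_
  · rw [Iso.symm_hom, Iso.symm_hom, Iso.comp_inv_eq, Category.assoc, Iso.eq_inv_comp]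
    exact (rho_natural g p₁).symm
  · rw [Iso.symm_hom, Iso.symm_hom, Iso.comp_inv_eq, Category.assoc, Iso.eq_inv_comp]
    exact (rho_natural g p₂).symm
  · simp
  · simp

/-- pasting a base change on the `B`-side. -/
theorem paste_right {Z : AlgSp.Sp S} {A B Q T₂ : Over S} {α : (AlgSp.yon S).obj A ⟶ Z}
    {β : (AlgSp.yon S).obj B ⟶ Z} {q₁ : Q ⟶ A} {q₂ : Q ⟶ B}
    (sq : IsPullback ((AlgSp.yon S).map q₁) ((AlgSp.yon S).map q₂) α β) (uB : T₂ ⟶ B) :
    IsPullback ((AlgSp.yon S).map (pullback.fst q₂ uB ≫ q₁))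
      ((AlgSp.yon S).map (pullback.snd q₂ uB)) α ((AlgSp.yon S).map uB ≫ β) := by
  have h1 : IsPullback ((AlgSp.yon S).map (pullback.fst q₂ uB))
      ((AlgSp.yon S).map (pullback.snd q₂ uB)) ((AlgSp.yon S).map q₂) ((AlgSp.yon S).map uB) :=
    (IsPullback.of_hasPullback q₂ uB).map (AlgSp.yon S)
  have := h1.paste_horiz sq
  rwa [← Functor.map_comp] at this

/-- pasting a base change on the `A`-side. -/
theorem paste_left {Z : AlgSp.Sp S} {A B Q T : Over S} {α : (AlgSp.yon S).obj A ⟶ Z}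
    {β : (AlgSp.yon S).obj B ⟶ Z} {q₁ : Q ⟶ A} {q₂ : Q ⟶ B}
    (sq : IsPullback ((AlgSp.yon S).map q₁) ((AlgSp.yon S).map q₂) α β) (uA : T ⟶ A) :
    IsPullback ((AlgSp.yon S).map (pullback.snd q₁ uA))
      ((AlgSp.yon S).map (pullback.fst q₁ uA ≫ q₂)) ((AlgSp.yon S).map uA ≫ α) β :=
  (paste_right sq.flip uA).flip

/-- base change of a property along `Over.pullback g`. -/
theorem prop_pullback_map (P : MorphismProperty Scheme.{u}) [P.IsStableUnderBaseChange]
    {X' Y' : Over S'} (m : X' ⟶ Y') (hm : P m.left) : P ((Over.pullback g).map m).left := by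
  have outer : IsPullback (pullback.snd X'.hom g) (pullback.fst X'.hom g) g X'.hom :=
    (IsPullback.of_hasPullback X'.hom g).flip
  have right : IsPullback (pullback.snd Y'.hom g) (pullback.fst Y'.hom g) g Y'.hom :=
    (IsPullback.of_hasPullback Y'.hom g).flip
  have e1 : ((Over.pullback g).map m).left ≫ pullback.snd Y'.hom g = pullback.snd X'.hom g := by
    change pullback.lift _ _ _ ≫ _ = _
    exact pullback.lift_snd _ _ _
  have e2 : ((Over.pullback g).map m).left ≫ pullback.fst Y'.hom g =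
      pullback.fst X'.hom g ≫ m.left := by
    change pullback.lift _ _ _ ≫ _ = _
    exact pullback.lift_fst _ _ _
  have outer' : IsPullback (((Over.pullback g).map m).left ≫ pullback.snd Y'.hom g)
      (pullback.fst X'.hom g) g (m.left ≫ Y'.hom) := by
    rw [e1, Over.w m]; exact outer
  have left := IsPullback.of_right outer' e2 right
  exact P.of_isPullback left.flip hm


/-- the pullback square representing `a ×_{jF'} b`. -/
theorem exists_square {F' : AlgSp.Sp S'} {T T₂ : Over S}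
    (a' : (AlgSp.yon S').obj ((Over.map g).obj T) ⟶ F')
    (b' : (AlgSp.yon S').obj ((Over.map g).obj T₂) ⟶ F')
    {P' : Over S'} (p₁ : P' ⟶ (Over.map g).obj T) (p₂ : P' ⟶ (Over.map g).obj T₂)
    (sq : IsPullback ((AlgSp.yon S').map p₁) ((AlgSp.yon S').map p₂) a' b') :
    ∃ (P : Over S) (r₁ : P ⟶ T) (r₂ : P ⟶ T₂),
      IsPullback ((AlgSp.yon S).map r₁) ((AlgSp.yon S).map r₂)
        ((AlgSp.yon S).map ((adj g).unit.app T) ≫ (rho g ((Over.map g).obj T)).hom ≫ (jf g).map a')
        ((AlgSp.yon S).map ((adj g).unit.app T₂) ≫ (rho g ((Over.map g).obj T₂)).hom ≫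
          (jf g).map b') := by
  have h1 := bc_square g sq
  have h2 := paste_right h1 ((adj g).unit.app T₂)
  have h3 := paste_left h2 ((adj g).unit.app T)
  exact ⟨_, _, _, h3⟩

theorem representable_of_isAlgSpace {F' : AlgSp.Sp S'} (hF' : AlgSp.IsAlgSpace F') {T : Over S}
    (a : (AlgSp.yon S).obj T ⟶ (jf g).obj F') : AlgSp.Representable a := by
  intro T₂ b
  obtain ⟨a', rfl⟩ := factor g F' T a
  obtain ⟨b', rfl⟩ := factor g F' T₂ b
  obtain ⟨P', p₂, fst', sq⟩ := hF'.representable_from_yon a' b'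
  obtain ⟨p₁, rfl⟩ := (AlgSp.yon S').map_surjective fst'
  obtain ⟨P, r₁, r₂, h⟩ := exists_square g a' b' p₁ p₂ sq
  exact ⟨P, r₂, (AlgSp.yon S).map r₁, h⟩

theorem repWith_atlas (P : MorphismProperty Scheme.{u}) [P.IsStableUnderBaseChange]
    {F' : AlgSp.Sp S'} {U' : Over S'} (p' : (AlgSp.yon S').obj U' ⟶ F')
    (hp' : AlgSp.RepWith P p') :
    AlgSp.RepWith P ((rho g U').hom ≫ (jf g).map p') := by
  have : P.RespectsIso := MorphismProperty.IsStableUnderBaseChange.respectsIso
  apply MorphismProperty.relative.of_exists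
  intro T₂ b
  obtain ⟨b', rfl⟩ := factor g F' T₂ b
  obtain ⟨P', p₂, fst', sq⟩ := hp'.rep b'
  obtain ⟨p₁, rfl⟩ := (AlgSp.yon S').map_surjective fst'
  have hp₂ : P p₂.left := hp'.property b' _ _ sq
  have h1 := bc_square g sq
  have h2 := paste_right h1 ((adj g).unit.app T₂)
  refine ⟨_, _, _, h2, ?_⟩
  have h3 : P ((Over.pullback g).map p₂).left := prop_pullback_map g P p₂ hp₂
  exact (inferInstance : (P.inverseImage (Over.forget S)).IsStableUnderBaseChange).of_isPullback
    (IsPullback.of_hasPullback ((Over.pullback g).map p₂) ((adj g).unit.app T₂)) h3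

theorem isAlgSpace_jf {F' : AlgSp.Sp S'} (hF' : AlgSp.IsAlgSpace F') :
    AlgSp.IsAlgSpace ((jf g).obj F') where
  diag := Functor.relativelyRepresentable.diag_of_map_from_obj
    (fun _ a => representable_of_isAlgSpace g hF' a)
  atlas := by
    obtain ⟨U', p', h1, h2⟩ := hF'.atlas
    exact ⟨(Over.pullback g).obj U', (rho g U').hom ≫ (jf g).map p',
      repWith_atlas g _ p' h1, repWith_atlas g _ p' h2⟩

/-- `j⁻¹ h_{X'}` is represented by `X' ×_{S'} S`. -/
noncomputable def representableBy (X' : Over S') :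
    ((jf g).obj ((AlgSp.yon S').obj X')).obj.RepresentableBy ((Over.pullback g).obj X') where
  homEquiv {T} := ((adj g).homEquiv T X').symm.trans Equiv.ulift.symm
  homEquiv_comp {T T₂} f k := by
    change (⟨((adj g).homEquiv T X').symm (f ≫ k)⟩ : ULift _) =
      ⟨(Over.map g).map f ≫ ((adj g).homEquiv T₂ X').symm k⟩
    rw [(adj g).homEquiv_naturality_left_symm]

end Groth.Agent.H32.OverBC
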