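import Groth.Prelude.Def_AlgSp
import Groth.Agent.H32.OverBC

/-!
# The left adjoint `j_!` of restriction of fppf sheaves along a morphism of base schemes,
explicitly (helper32)
-/

set_option autoImplicit false
universe u
open CategoryTheory CategoryTheory.Limits AlgebraicGeometry Opposite

namespace Groth.Agent.H32.JShriek

open Groth.Agent.H32.OverBC

variable {S S' : Scheme.{u}} (g : S ⟶ S')

/-- sections of `j_! F` over `T'`. -/
structure Sec (F : (Over S)ᵒᵖ ⥤ Type (u + 1)) (T' : Over S') where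
  τ : T'.left ⟶ S
  w : τ ≫ g = T'.hom
  ξ : F.obj (op (Over.mk τ))

variable {g}

theorem Sec.ext' {F : (Over S)ᵒᵖ ⥤ Type (u + 1)} {T' : Over S'} {a b : Sec g F T'} (h : a.τ = b.τ)
    (hξ : F.map (Over.homMk (𝟙 _) (by simp [h]) : Over.mk a.τ ⟶ Over.mk b.τ).op b.ξ = a.ξ) :
    a = b := by
  obtain ⟨τ, w, ξ⟩ := a
  obtain ⟨τ', w', ξ'⟩ := b
  change τ = τ' at h
  subst h
  have : (Over.homMk (𝟙 _) (by simp) : Over.mk τ ⟶ Over.mk τ) = 𝟙 (Over.mk τ) := by
    ext; rfl
  change F.map (Over.homMk (𝟙 _) _).op ξ' = ξ at hξ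
  rw [this, op_id, F.map_id] at hξ
  change ξ' = ξ at hξ
  subst hξ
  rfl

/-- restriction. -/
def Sec.res {F : (Over S)ᵒᵖ ⥤ Type (u + 1)} {T' Y' : Over S'} (k : Y' ⟶ T') (a : Sec g F T') :
    Sec g F Y' :=
  ⟨k.left ≫ a.τ, by rw [Category.assoc, a.w, Over.w],
    F.map (Over.homMk k.left rfl : Over.mk (k.left ≫ a.τ) ⟶ Over.mk a.τ).op a.ξ⟩

theorem map_map {C : Type*} [Category C] {F : Cᵒᵖ ⥤ Type (u + 1)} {A B D : C} (m : A ⟶ B)
    (n : B ⟶ D) (s : F.obj (op D)) : F.map m.op (F.map n.op s) = F.map (m ≫ n).op s := by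
  rw [op_comp, Functor.map_comp_apply]

theorem map_congr {C : Type*} [Category C] {F : Cᵒᵖ ⥤ Type (u + 1)} {A B : C} {m n : A ⟶ B}
    (h : m = n) (s : F.obj (op B)) : F.map m.op s = F.map n.op s := by rw [h]

theorem map_id' {C : Type*} [Category C] {F : Cᵒᵖ ⥤ Type (u + 1)} {A : C} {m : A ⟶ A}
    (h : m = 𝟙 A) (s : F.obj (op A)) : F.map m.op s = s := by
  rw [h, op_id, F.map_id]; rfl

theorem Sec.res_id {F : (Over S)ᵒᵖ ⥤ Type (u + 1)} {T' : Over S'} (a : Sec g F T') :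
    a.res (𝟙 T') = a := by
  refine Sec.ext' ?_ ?_
  · change (𝟙 T' : T' ⟶ T').left ≫ a.τ = a.τ
    simp
  · exact map_congr (by ext; simp) _

theorem Sec.res_res {F : (Over S)ᵒᵖ ⥤ Type (u + 1)} {T' Y' Z' : Over S'} (k : Y' ⟶ T')
    (l : Z' ⟶ Y') (a : Sec g F T') : a.res (l ≫ k) = (a.res k).res l := by
  refine Sec.ext' ?_ ?_
  · change (l ≫ k).left ≫ a.τ = l.left ≫ k.left ≫ a.τ
    simp
  · have h1 : ((a.res k).res l).ξ = F.map (Over.homMk l.left rfl :
        Over.mk (l.left ≫ k.left ≫ a.τ) ⟶ Over.mk (k.left ≫ a.τ)).op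
        (F.map (Over.homMk k.left rfl : Over.mk (k.left ≫ a.τ) ⟶ Over.mk a.τ).op a.ξ) := rfl
    have h2 : (a.res (l ≫ k)).ξ = F.map (Over.homMk (l ≫ k).left rfl :
        Over.mk ((l ≫ k).left ≫ a.τ) ⟶ Over.mk a.τ).op a.ξ := rfl
    rw [h1, h2]
    refine (map_map _ _ _).trans ?_
    refine (map_map _ _ _).trans ?_
    refine map_congr ?_ _
    ext
    change (𝟙 Z'.left ≫ l.left) ≫ k.left = l.left ≫ k.left
    rw [Category.id_comp]

variable (g)

/-- the presheaf `j_! F`. -/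
def LP (F : (Over S)ᵒᵖ ⥤ Type (u + 1)) : (Over S')ᵒᵖ ⥤ Type (u + 1) where
  obj T' := Sec g F T'.unop
  map k := ↾fun a => a.res k.unop
  map_id T' := by
    ext a
    exact Sec.res_id a
  map_comp {A B D} k l := by
    ext a
    exact Sec.res_res k.unop l.unop a

section Sheaf

variable {g}
variable {F : (Over S)ᵒᵖ ⥤ Type (u + 1)}

theorem Sec.map_eq_of_eq {T' : Over S'} {a b : Sec g F T'} (h : a = b) {V : Over S}
    (φ : V ⟶ Over.mk a.τ) (ψ : V ⟶ Over.mk b.τ) (hφ : φ.left = ψ.left) :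
    F.map φ.op a.ξ = F.map ψ.op b.ξ := by
  subst h
  have : φ = ψ := by ext; exact hφ
  rw [this]

theorem over_hom_induction {X : Scheme.{u}} {T : Over X}
    {motive : ∀ (Y : Over X), (Y ⟶ T) → Prop}
    (h : ∀ (Yl : Scheme.{u}) (f : Yl ⟶ T.left), motive (Over.mk (f ≫ T.hom)) (Over.homMk f rfl))
    (Y : Over X) (k : Y ⟶ T) : motive Y k := by
  obtain ⟨Yl, ⟨⟨⟩⟩, Yh⟩ := Y
  obtain ⟨f, hf, rfl⟩ : ∃ (f : Yl ⟶ T.left) (hf : f ≫ T.hom = Yh),
      k = (Over.homMk f hf : Over.mk Yh ⟶ T) := ⟨k.left, Over.w k, by ext; rfl⟩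
  subst hf
  exact h Yl f

theorem fam_congr {P : (Over S')ᵒᵖ ⥤ Type (u + 1)} {T' : Over S'} {R : Sieve T'}
    (x : Presieve.FamilyOfElements P R.arrows) {Y' : Over S'} {k k' : Y' ⟶ T'} (h : k = k')
    (hk : R k) (hk' : R k') : x k hk = x k' hk' := by
  subst h; rfl

theorem exists_tau {T' : Over S'} (R : Sieve T') (hR : R ∈ AlgSp.J S' T')
    (x : Presieve.FamilyOfElements (LP g F) R.arrows) (hx : x.Compatible) :
    ∃ τ : T'.left ⟶ S, τ ≫ g = T'.hom ∧
      ∀ (Y' : Over S') (k : Y' ⟶ T') (hk : R k), k.left ≫ τ = (x k hk).τ := by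
  have hxs := (Presieve.compatible_iff_sieveCompatible x).1 hx
  have hy : Presieve.IsSheaf (AlgSp.J S') (yoneda.obj (Over.mk g)) :=
    GrothendieckTopology.Subcanonical.isSheaf_of_isRepresentable _
  let x₁ : Presieve.FamilyOfElements (yoneda.obj (Over.mk g)) R.arrows :=
    fun Y' k hk => (Over.homMk (x k hk).τ (x k hk).w : Y' ⟶ Over.mk g)
  have hx₁ : x₁.Compatible := by
    rw [Presieve.compatible_iff_sieveCompatible]
    intro Y' Z' k l hk
    change (Over.homMk (x (l ≫ k) _).τ (x (l ≫ k) _).w : Z' ⟶ Over.mk g) =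
      l ≫ (Over.homMk (x k hk).τ (x k hk).w : Y' ⟶ Over.mk g)
    ext
    change (x (l ≫ k) _).τ = l.left ≫ (x k hk).τ
    rw [hxs k l hk]
    rfl
  obtain ⟨t, ht, -⟩ := hy R hR x₁ hx₁
  refine ⟨t.left, Over.w t, ?_⟩
  intro Y' k hk
  have := ht k hk
  change k ≫ t = (Over.homMk (x k hk).τ (x k hk).w : Y' ⟶ Over.mk g) at this
  have h2 := congrArg (fun m => m.left) this
  exact h2

theorem tau_unique {T' : Over S'} (R : Sieve T') (hR : R ∈ AlgSp.J S' T')
    (τ₁ τ₂ : T'.left ⟶ S) (h₁ : τ₁ ≫ g = T'.hom) (h₂ : τ₂ ≫ g = T'.hom)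
    (h : ∀ (Y' : Over S') (k : Y' ⟶ T') (_ : R k), k.left ≫ τ₁ = k.left ≫ τ₂) : τ₁ = τ₂ := by
  have hy : Presieve.IsSheaf (AlgSp.J S') (yoneda.obj (Over.mk g)) :=
    GrothendieckTopology.Subcanonical.isSheaf_of_isRepresentable _
  have hsep := (hy R hR).isSeparatedFor
  have : (Over.homMk τ₁ h₁ : T' ⟶ Over.mk g) = Over.homMk τ₂ h₂ := by
    refine hsep.ext ?_
    intro Y' k hk
    change k ≫ (Over.homMk τ₁ h₁ : T' ⟶ Over.mk g) = k ≫ Over.homMk τ₂ h₂
    ext
    exact h Y' k hk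
  exact congrArg (fun m => m.left) this

theorem LP_isSheaf (hF : Presieve.IsSheaf (AlgSp.J S) F) :
    Presieve.IsSheaf (AlgSp.J S') (LP g F) := by
  intro T' R hR x hx
  have hxs := (Presieve.compatible_iff_sieveCompatible x).1 hx
  obtain ⟨τ, w, hτ⟩ := exists_tau R hR x hx
  -- the sieve on `T = (T'.left, τ)`
  obtain ⟨T, hT⟩ : ∃ T : Over S, T = Over.mk τ := ⟨_, rfl⟩
  subst hT
  let RS : Sieve (Over.mk τ) := (Sieve.overEquiv (Over.mk τ)).symm (Sieve.overEquiv T' R)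
  have hRS : RS ∈ AlgSp.J S (Over.mk τ) :=
    GrothendieckTopology.overEquiv_symm_mem_over _ (Over.mk τ) (Sieve.overEquiv T' R)
      ((GrothendieckTopology.mem_over_iff _ _).1 hR)
  have hmem : ∀ {V : Over S} (n : V ⟶ Over.mk τ), RS n →
      R (Over.homMk n.left rfl : Over.mk (n.left ≫ T'.hom) ⟶ T') := by
    intro V n hn
    exact (Sieve.overEquiv_iff _ _).1 hn
  have hVw : ∀ {V : Over S} (n : V ⟶ Over.mk τ) (hn : RS n),
      𝟙 V.left ≫ (x _ (hmem n hn)).τ = V.hom := by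
    intro V n hn
    rw [Category.id_comp, ← hτ _ _ (hmem n hn)]
    exact Over.w n
  let y : Presieve.FamilyOfElements F RS.arrows := fun V n hn =>
    F.map (Over.homMk (𝟙 V.left) (hVw n hn) : V ⟶ Over.mk (x _ (hmem n hn)).τ).op
      (x _ (hmem n hn)).ξ
  have hy : y.Compatible := by
    rw [Presieve.compatible_iff_sieveCompatible]
    intro V W n m hn
    have hmn : RS (m ≫ n) := RS.downward_closed hn m
    change F.map (Over.homMk (𝟙 W.left) (hVw (m ≫ n) hmn) :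
        W ⟶ Over.mk (x _ (hmem (m ≫ n) hmn)).τ).op (x _ (hmem (m ≫ n) hmn)).ξ =
      F.map m.op (F.map (Over.homMk (𝟙 V.left) (hVw n hn) :
        V ⟶ Over.mk (x _ (hmem n hn)).τ).op (x _ (hmem n hn)).ξ)
    let l : Over.mk ((m ≫ n).left ≫ T'.hom) ⟶ Over.mk (n.left ≫ T'.hom) :=
      Over.homMk m.left (by simp)
    have hl : (Over.homMk (m ≫ n).left rfl : Over.mk ((m ≫ n).left ≫ T'.hom) ⟶ T') =
        l ≫ (Over.homMk n.left rfl : Over.mk (n.left ≫ T'.hom) ⟶ T') := by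
      ext; simp [l]
    have h1 : x _ (hmem (m ≫ n) hmn) = (x _ (hmem n hn)).res l :=
      (fam_congr x hl _ (R.downward_closed (hmem n hn) l)).trans (hxs _ l (hmem n hn))
    have hψ : 𝟙 W.left ≫ ((x _ (hmem n hn)).res l).τ = W.hom := by
      rw [← h1]; exact hVw (m ≫ n) hmn
    rw [Sec.map_eq_of_eq h1 _ (Over.homMk (𝟙 W.left) hψ : W ⟶ Over.mk ((x _ (hmem n hn)).res l).τ) rfl]
    change F.map _ (F.map (Over.homMk l.left rfl : Over.mk (l.left ≫ (x _ (hmem n hn)).τ) ⟶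
      Over.mk (x _ (hmem n hn)).τ).op (x _ (hmem n hn)).ξ) = _
    refine (map_map _ _ _).trans ?_
    refine Eq.trans ?_ (map_map _ _ _).symm
    refine map_congr ?_ _
    ext
    change 𝟙 W.left ≫ m.left = m.left ≫ 𝟙 V.left
    simp
  obtain ⟨ξ, hξ, hξu⟩ := hF RS hRS y hy
  refine ⟨⟨τ, w, ξ⟩, ?_, ?_⟩
  · -- amalgamation
    intro Y' k
    refine over_hom_induction (motive := fun Y' k => ∀ hk : R k,
      (LP g F).map k.op ⟨τ, w, ξ⟩ = x k hk) ?_ Y' k
    intro Yl f hk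
    let n : Over.mk (f ≫ τ) ⟶ Over.mk τ := Over.homMk f rfl
    have hn : RS n := (Sieve.overEquiv_iff _ _).2 hk
    refine Sec.ext' (hτ _ _ hk) ?_
    exact (hξ n hn).symm
  · -- uniqueness
    rintro ⟨τb, wb, ξb⟩ hb
    have hτb : τ = τb := by
      refine tau_unique R hR τ τb w wb ?_
      intro Y' k hk
      rw [hτ Y' k hk, ← hb k hk]
      rfl
    subst hτb
    have : ξb = ξ := by
      apply hξu
      intro V n hn
      have h1 := hb _ (hmem n hn)
      change (⟨τ, wb, ξb⟩ : Sec g F T').res (Over.homMk n.left rfl : Over.mk (n.left ≫ T'.hom) ⟶ T') = x _ (hmem n hn) at h1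
      have hφ : 𝟙 V.left ≫ ((⟨τ, wb, ξb⟩ : Sec g F T').res
          (Over.homMk n.left rfl : Over.mk (n.left ≫ T'.hom) ⟶ T')).τ = V.hom := by
        rw [h1]; exact hVw n hn
      have h2 := Sec.map_eq_of_eq h1 (Over.homMk (𝟙 V.left) hφ : V ⟶ Over.mk ((⟨τ, wb, ξb⟩ : Sec g F T').res
          (Over.homMk n.left rfl : Over.mk (n.left ≫ T'.hom) ⟶ T')).τ)
        (Over.homMk (𝟙 V.left) (hVw n hn) : V ⟶ Over.mk (x _ (hmem n hn)).τ) rfl
      refine Eq.trans ?_ h2
      change _ = F.map _ (F.map (Over.homMk n.left rfl : Over.mk (n.left ≫ τ) ⟶ Over.mk τ).op ξb)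
      refine Eq.trans ?_ (map_map _ _ _).symm
      refine map_congr ?_ _
      ext
      change n.left = 𝟙 V.left ≫ n.left
      simp
    subst this
    rfl

end Sheaf

section Functor

/-- functoriality of `LP` in the presheaf. -/
def LPmap {F G : (Over S)ᵒᵖ ⥤ Type (u + 1)} (α : F ⟶ G) : LP g F ⟶ LP g G where
  app T' := ↾fun a => (⟨a.τ, a.w, α.app _ a.ξ⟩ : Sec g G T'.unop)
  naturality A B k := by
    ext a
    change (⟨k.unop.left ≫ a.τ, _, α.app _ (F.map _ a.ξ)⟩ : Sec g G B.unop) =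
      ⟨k.unop.left ≫ a.τ, _, G.map _ (α.app _ a.ξ)⟩
    congr 1
    exact NatTrans.naturality_apply α _ a.ξ

theorem LPmap_app {F G : (Over S)ᵒᵖ ⥤ Type (u + 1)} (α : F ⟶ G) (T' : Over S')
    (a : Sec g F T') : (LPmap g α).app (op T') a = ⟨a.τ, a.w, α.app _ a.ξ⟩ := rfl

/-- the functor `j_!` on sheaves. -/
noncomputable def L : AlgSp.Sp S ⥤ AlgSp.Sp S' where
  obj F := ⟨LP g F.obj, (isSheaf_iff_isSheaf_of_type _ _).2
    (LP_isSheaf ((isSheaf_iff_isSheaf_of_type _ _).1 F.property))⟩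
  map α := ObjectProperty.homMk (LPmap g α.hom)
  map_id F := by
    apply ObjectProperty.hom_ext
    ext T' a
    rfl
  map_comp α β := by
    apply ObjectProperty.hom_ext
    ext T' a
    rfl

theorem L_obj_obj (F : AlgSp.Sp S) : ((L g).obj F).obj = LP g F.obj := rfl

theorem L_map_app {F G : AlgSp.Sp S} (α : F ⟶ G) (T' : Over S') (a : Sec g F.obj T') :
    ((L g).map α).hom.app (op T') a = ⟨a.τ, a.w, α.hom.app _ a.ξ⟩ := rfl

/-- unit of the adjunction `j_! ⊣ j⁻¹`. -/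
noncomputable def unitApp (F : AlgSp.Sp S) : F ⟶ (jf g).obj ((L g).obj F) :=
  ObjectProperty.homMk
    { app := fun T => ↾fun x =>
        (⟨T.unop.hom, rfl, x⟩ : Sec g F.obj ((Over.map g).obj T.unop))
      naturality := by
        intro T T₂ f
        ext x
        refine Sec.ext' (Over.w f.unop).symm ?_
        change F.obj.map _ (F.obj.map (Over.homMk f.unop.left rfl :
          Over.mk (f.unop.left ≫ T.unop.hom) ⟶ Over.mk T.unop.hom).op x) = F.obj.map f x
        refine (map_map _ _ _).trans ?_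
        refine map_congr (n := f.unop) ?_ _
        ext
        change 𝟙 _ ≫ f.unop.left = f.unop.left
        simp }

theorem unitApp_app (F : AlgSp.Sp S) (T : Over S) (x : F.obj.obj (op T)) :
    (unitApp g F).hom.app (op T) x = ⟨T.hom, rfl, x⟩ := rfl

/-- counit of the adjunction `j_! ⊣ j⁻¹`. -/
noncomputable def counitApp (G' : AlgSp.Sp S') : (L g).obj ((jf g).obj G') ⟶ G' :=
  ObjectProperty.homMk
    { app := fun T' => ↾fun (a : Sec g ((jf g).obj G').obj T'.unop) =>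
        G'.obj.map (Over.homMk (𝟙 _) ((Category.id_comp _).trans a.w) :
          T'.unop ⟶ (Over.map g).obj (Over.mk a.τ)).op a.ξ
      naturality := by
        intro T' Y' k
        ext a
        change G'.obj.map (Over.homMk (𝟙 _) _ : Y'.unop ⟶
            (Over.map g).obj (Over.mk (k.unop.left ≫ a.τ))).op
          (G'.obj.map ((Over.map g).map (Over.homMk k.unop.left rfl :
            Over.mk (k.unop.left ≫ a.τ) ⟶ Over.mk a.τ)).op a.ξ) =
          G'.obj.map k.unop.op (G'.obj.map (Over.homMk (𝟙 _) _ :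
            T'.unop ⟶ (Over.map g).obj (Over.mk a.τ)).op a.ξ)
        refine (map_map _ _ _).trans ?_
        refine Eq.trans ?_ (map_map _ _ _).symm
        refine map_congr ?_ _
        ext
        change 𝟙 _ ≫ k.unop.left = k.unop.left ≫ 𝟙 _
        simp }

theorem counitApp_app (G' : AlgSp.Sp S') (T' : Over S')
    (a : Sec g ((jf g).obj G').obj T') :
    (counitApp g G').hom.app (op T') a =
      G'.obj.map (Over.homMk (𝟙 _) ((Category.id_comp _).trans a.w) :
          T' ⟶ (Over.map g).obj (Over.mk a.τ)).op a.ξ := rfl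

/-- the adjunction `j_! ⊣ j⁻¹`. -/
noncomputable def adjL : L g ⊣ jf g where
  unit :=
    { app := unitApp g
      naturality := by
        intro F G α
        apply ObjectProperty.hom_ext
        ext T x
        rfl }
  counit :=
    { app := counitApp g
      naturality := by
        intro G' G'' β
        apply ObjectProperty.hom_ext
        ext T' a
        obtain ⟨T'⟩ := T'
        change G''.obj.map (Over.homMk (𝟙 _) _ : T' ⟶ (Over.map g).obj (Over.mk a.τ)).op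
            (β.hom.app (op ((Over.map g).obj (Over.mk a.τ))) a.ξ) =
          β.hom.app (op T') (G'.obj.map (Over.homMk (𝟙 _) _ :
            T' ⟶ (Over.map g).obj (Over.mk a.τ)).op a.ξ)
        exact (NatTrans.naturality_apply β.hom _ a.ξ).symm }
  left_triangle_components F := by
    apply ObjectProperty.hom_ext
    ext T' a
    obtain ⟨T'⟩ := T'
    change (LP g F.obj).map (Over.homMk (𝟙 _) _ : T' ⟶ (Over.map g).obj (Over.mk a.τ)).op
      (⟨a.τ, rfl, a.ξ⟩ : Sec g F.obj ((Over.map g).obj (Over.mk a.τ))) = a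
    refine Sec.ext' ?_ ?_
    · exact Category.id_comp _
    · rfl
  right_triangle_components G' := by
    apply ObjectProperty.hom_ext
    ext T y
    obtain ⟨T⟩ := T
    change G'.obj.map (Over.homMk (𝟙 _) (by simp) : (Over.map g).obj T ⟶
      (Over.map g).obj (Over.mk T.hom)).op y = y
    have : (Over.homMk (𝟙 _) (by simp) : (Over.map g).obj T ⟶
      (Over.map g).obj (Over.mk T.hom)) = 𝟙 _ := by ext; rfl
    exact map_id' this y

end Functor

section Rep

/-- the sheaf pullback in the statements. -/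
noncomputable abbrev Lsh : AlgSp.Sp S ⥤ AlgSp.Sp S' :=
  (Over.map g).sheafPullback (Type (u + 1)) (AlgSp.J S) (AlgSp.J S')

/-- `j_!` as constructed is the abstract left adjoint. -/
noncomputable def LIso : L g ≅ Lsh g :=
  (adjL g).leftAdjointUniq
    ((Over.map g).sheafAdjunctionContinuous (Type (u + 1)) (AlgSp.J S) (AlgSp.J S'))

/-- sections of `j_! h_X`. -/
def secEquivL (X : Over S) (T' : Over S') :
    Sec g ((AlgSp.yon S).obj X).obj T' ≃ ULift.{u + 1} (T' ⟶ (Over.map g).obj X) where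
  toFun a := ⟨Over.homMk a.ξ.down.left (by
    have h1 : a.ξ.down.left ≫ X.hom = a.τ := Over.w a.ξ.down
    change a.ξ.down.left ≫ X.hom ≫ g = T'.hom
    rw [← Category.assoc, h1, a.w])⟩
  invFun k := ⟨k.down.left ≫ X.hom, by
    have := Over.w k.down
    change k.down.left ≫ X.hom ≫ g = T'.hom at this
    rw [Category.assoc, this], ⟨Over.homMk k.down.left rfl⟩⟩
  left_inv a := by
    refine Sec.ext' (Over.w a.ξ.down) ?_
    apply ULift.ext
    change (Over.homMk (𝟙 _) ((Category.id_comp _).trans (Over.w a.ξ.down).symm) :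
        Over.mk (a.ξ.down.left ≫ X.hom) ⟶ Over.mk a.τ) ≫ a.ξ.down =
      (Over.homMk a.ξ.down.left rfl : Over.mk (a.ξ.down.left ≫ X.hom) ⟶ X)
    ext
    change 𝟙 _ ≫ a.ξ.down.left = a.ξ.down.left
    simp
  right_inv k := by
    apply ULift.ext
    ext
    rfl

theorem secEquivL_apply (X : Over S) (T' : Over S') (a : Sec g ((AlgSp.yon S).obj X).obj T') :
    ((secEquivL g X T') a).down.left = a.ξ.down.left := rfl

/-- `j_! h_X ≅ h_X` with `X` viewed over `S'`. -/
noncomputable def lam (X : Over S) :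
    (L g).obj ((AlgSp.yon S).obj X) ≅ (AlgSp.yon S').obj ((Over.map g).obj X) :=
  (fullyFaithfulSheafToPresheaf _ _).preimageIso
    (NatIso.ofComponents (fun T' => (secEquivL g X T'.unop).toIso) (by
      intro T' Y' k
      ext a
      apply ULift.ext
      apply Over.OverMorphism.ext
      rfl))

theorem lam_hom_app (X : Over S) (T' : Over S') (a : Sec g ((AlgSp.yon S).obj X).obj T') :
    (lam g X).hom.hom.app (op T') a = secEquivL g X T' a := rfl

theorem lam_inv_app (X : Over S) (T' : Over S') (k : ULift.{u + 1} (T' ⟶ (Over.map g).obj X)) :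
    (lam g X).inv.hom.app (op T') k = (secEquivL g X T').symm k := rfl

theorem lam_natural {X Y : Over S} (m : X ⟶ Y) :
    (L g).map ((AlgSp.yon S).map m) ≫ (lam g Y).hom =
      (lam g X).hom ≫ (AlgSp.yon S').map ((Over.map g).map m) := by
  apply ObjectProperty.hom_ext
  ext T' a
  apply ULift.ext
  apply Over.OverMorphism.ext
  rfl

end Rep

section Pullback

theorem sheaf_isPullback_app {C : Type*} [Category C] {J : GrothendieckTopology C}
    {P A B Z : Sheaf J (Type (u + 1))} {fst : P ⟶ A} {snd : P ⟶ B} {f : A ⟶ Z} {h : B ⟶ Z}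
    (sq : IsPullback fst snd f h) (T : Cᵒᵖ) :
    IsPullback (fst.hom.app T) (snd.hom.app T) (f.hom.app T) (h.hom.app T) :=
  (sq.map (sheafToPresheaf J (Type (u + 1)))).app T

theorem sheaf_isPullback_of_app {C : Type*} [Category C] {J : GrothendieckTopology C}
    {P A B Z : Sheaf J (Type (u + 1))} {fst : P ⟶ A} {snd : P ⟶ B} {f : A ⟶ Z} {h : B ⟶ Z}
    (H : ∀ T : Cᵒᵖ, IsPullback (fst.hom.app T) (snd.hom.app T) (f.hom.app T) (h.hom.app T)) :
    IsPullback fst snd f h := by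
  have hp : IsPullback ((sheafToPresheaf J (Type (u + 1))).map fst)
      ((sheafToPresheaf J (Type (u + 1))).map snd) ((sheafToPresheaf J (Type (u + 1))).map f)
      ((sheafToPresheaf J (Type (u + 1))).map h) := IsPullback.of_forall_isPullback_app H
  refine IsPullback.of_map (sheafToPresheaf J (Type (u + 1))) ?_ hp
  apply (sheafToPresheaf J (Type (u + 1))).map_injective
  rw [Functor.map_comp, Functor.map_comp]
  exact hp.w

theorem Sec.τ_eq_of_eq {F : (Over S)ᵒᵖ ⥤ Type (u + 1)} {T' : Over S'} {a b : Sec g F T'}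
    (h : a = b) : a.τ = b.τ := by rw [h]

theorem Sec.ξ_eq_of_mk_eq {F : (Over S)ᵒᵖ ⥤ Type (u + 1)} {T' : Over S'} {τ : T'.left ⟶ S}
    {w w' : τ ≫ g = T'.hom} {ξ ξ' : F.obj (op (Over.mk τ))}
    (h : (⟨τ, w, ξ⟩ : Sec g F T') = ⟨τ, w', ξ'⟩) : ξ = ξ' := by
  have := (Sec.mk.inj h).2
  exact eq_of_heq this

/-- `j_!` preserves pullback squares. -/
theorem L_isPullback {P A B Z : AlgSp.Sp S} {fst : P ⟶ A} {snd : P ⟶ B} {f : A ⟶ Z} {h : B ⟶ Z}
    (sq : IsPullback fst snd f h) :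
    IsPullback ((L g).map fst) ((L g).map snd) ((L g).map f) ((L g).map h) := by
  apply sheaf_isPullback_of_app
  intro T'
  obtain ⟨T'⟩ := T'
  rw [Types.isPullback_iff]
  refine ⟨?_, ?_, ?_⟩
  · have := congrArg (fun m => m.hom.app (op T')) (by
      rw [← Functor.map_comp, ← Functor.map_comp, sq.w] :
      (L g).map fst ≫ (L g).map f = (L g).map snd ≫ (L g).map h)
    exact this
  · rintro ⟨τ, w, ξ⟩ ⟨τ', w', ξ'⟩ ⟨h1, h2⟩
    have hτ : τ = τ' := Sec.τ_eq_of_eq g h1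
    subst hτ
    have e1 : fst.hom.app _ ξ = fst.hom.app _ ξ' := Sec.ξ_eq_of_mk_eq g h1
    have e2 : snd.hom.app _ ξ = snd.hom.app _ ξ' := Sec.ξ_eq_of_mk_eq g h2
    have : ξ = ξ' := Types.ext_of_isPullback (sheaf_isPullback_app sq (op (Over.mk τ))) e1 e2
    subst this
    rfl
  · rintro ⟨τ, w, ξ⟩ ⟨τ', w', ξ'⟩ h1
    have hτ : τ = τ' := Sec.τ_eq_of_eq g h1
    subst hτ
    have e1 : f.hom.app _ ξ = h.hom.app _ ξ' := Sec.ξ_eq_of_mk_eq g h1
    obtain ⟨p, hp1, hp2⟩ :=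
      Types.exists_of_isPullback (sheaf_isPullback_app sq (op (Over.mk τ))) ξ ξ' e1
    refine ⟨⟨τ, w, p⟩, ?_, ?_⟩
    · change (⟨τ, w, fst.hom.app _ p⟩ : Sec g A.obj T') = _
      rw [hp1]
    · change (⟨τ, w, snd.hom.app _ p⟩ : Sec g B.obj T') = _
      rw [hp2]

end Pullback

section AlgSpace

/-- every map from a representable to `j_! F` comes from a map from a representable to `F`. -/
theorem factorL (F : AlgSp.Sp S) (T' : Over S') (a : (AlgSp.yon S').obj T' ⟶ (L g).obj F) :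
    ∃ (T : Over S) (θ : T' ≅ (Over.map g).obj T) (ξ : (AlgSp.yon S).obj T ⟶ F),
      a = (AlgSp.yon S').map θ.hom ≫ (lam g T).inv ≫ (L g).map ξ := by
  obtain ⟨s, hs⟩ : ∃ s : Sec g F.obj T', s = (AlgSp.J S').uliftYonedaEquiv.{u + 1} a := ⟨_, rfl⟩
  let θ : T' ≅ (Over.map g).obj (Over.mk s.τ) :=
    Over.isoMk (Iso.refl _) (by
      change 𝟙 _ ≫ s.τ ≫ g = T'.hom
      rw [Category.id_comp, s.w])
  refine ⟨Over.mk s.τ, θ, (AlgSp.J S).uliftYonedaEquiv.{u + 1}.symm s.ξ, ?_⟩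
  apply (AlgSp.J S').uliftYonedaEquiv.{u + 1}.injective
  rw [← hs, GrothendieckTopology.uliftYonedaEquiv_apply]
  change s = ((L g).map ((AlgSp.J S).uliftYonedaEquiv.{u + 1}.symm s.ξ)).hom.app (op T')
    ((lam g (Over.mk s.τ)).inv.hom.app (op T') ⟨𝟙 T' ≫ θ.hom⟩)
  rw [lam_inv_app, L_map_app]
  refine (Sec.ext' ?_ ?_).symm
  · change (𝟙 T' ≫ θ.hom).left ≫ s.τ = s.τ
    change (𝟙 _ ≫ 𝟙 _) ≫ s.τ = s.τ
    simp
  · have h1 : ((AlgSp.J S).uliftYonedaEquiv.{u + 1}.symm s.ξ).hom.app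
        (op (Over.mk ((𝟙 T' ≫ θ.hom).left ≫ s.τ)))
        ⟨(Over.homMk (𝟙 T' ≫ θ.hom).left rfl : Over.mk ((𝟙 T' ≫ θ.hom).left ≫ s.τ) ⟶
          Over.mk s.τ)⟩ =
        F.obj.map (Over.homMk (𝟙 T' ≫ θ.hom).left rfl :
          Over.mk ((𝟙 T' ≫ θ.hom).left ≫ s.τ) ⟶ Over.mk s.τ).op s.ξ :=
      GrothendieckTopology.uliftYonedaEquiv_symm_app_apply _ _ _ _
    refine Eq.trans ?_ h1.symm
    refine map_congr ?_ _
    ext
    change 𝟙 _ = 𝟙 _ ≫ 𝟙 _
    simp

/-- transport of a pullback square along `j_!`. -/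
theorem squareL {F : AlgSp.Sp S} {T Y P : Over S} {ξ : (AlgSp.yon S).obj T ⟶ F}
    {ζ : (AlgSp.yon S).obj Y ⟶ F} {p₁ : P ⟶ T} {p₂ : P ⟶ Y}
    (sq : IsPullback ((AlgSp.yon S).map p₁) ((AlgSp.yon S).map p₂) ξ ζ) {T' Y' : Over S'}
    (θ : T' ≅ (Over.map g).obj T) (θ₂ : Y' ≅ (Over.map g).obj Y) :
    IsPullback ((AlgSp.yon S').map ((Over.map g).map p₁ ≫ θ.inv))
      ((AlgSp.yon S').map ((Over.map g).map p₂ ≫ θ₂.inv))
      ((AlgSp.yon S').map θ.hom ≫ (lam g T).inv ≫ (L g).map ξ)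
      ((AlgSp.yon S').map θ₂.hom ≫ (lam g Y).inv ≫ (L g).map ζ) := by
  refine IsPullback.of_iso (L_isPullback g sq) (lam g P)
    (lam g T ≪≫ (AlgSp.yon S').mapIso θ.symm) (lam g Y ≪≫ (AlgSp.yon S').mapIso θ₂.symm)
    (Iso.refl _) ?_ ?_ ?_ ?_
  · rw [Iso.trans_hom, ← Category.assoc, lam_natural, Category.assoc, Functor.mapIso_hom,
      Iso.symm_hom, ← Functor.map_comp]
  · rw [Iso.trans_hom, ← Category.assoc, lam_natural, Category.assoc, Functor.mapIso_hom,
      Iso.symm_hom, ← Functor.map_comp]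
  · rw [Iso.refl_hom, Category.comp_id, Iso.trans_hom, Functor.mapIso_hom, Iso.symm_hom,
      Category.assoc, ← Functor.map_comp_assoc, Iso.inv_hom_id, CategoryTheory.Functor.map_id, Category.id_comp,
      Iso.hom_inv_id_assoc]
  · rw [Iso.refl_hom, Category.comp_id, Iso.trans_hom, Functor.mapIso_hom, Iso.symm_hom,
      Category.assoc, ← Functor.map_comp_assoc, Iso.inv_hom_id, CategoryTheory.Functor.map_id, Category.id_comp,
      Iso.hom_inv_id_assoc]

theorem representable_L {F : AlgSp.Sp S} (hF : AlgSp.IsAlgSpace F) {T' : Over S'}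
    (a : (AlgSp.yon S').obj T' ⟶ (L g).obj F) : AlgSp.Representable a := by
  intro Y' b
  obtain ⟨T, θ, ξ, rfl⟩ := factorL g F T' a
  obtain ⟨Y, θ₂, ζ, rfl⟩ := factorL g F Y' b
  obtain ⟨P, p₂, fst, sq⟩ := hF.representable_from_yon ξ ζ
  obtain ⟨p₁, rfl⟩ := (AlgSp.yon S).map_surjective fst
  exact ⟨_, _, _, squareL g sq θ θ₂⟩

theorem repWith_L (P : MorphismProperty Scheme.{u}) [P.IsStableUnderBaseChange]
    {F : AlgSp.Sp S} {U : Over S} (p : (AlgSp.yon S).obj U ⟶ F) (hp : AlgSp.RepWith P p) :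
    AlgSp.RepWith P ((lam g U).inv ≫ (L g).map p) := by
  have : P.RespectsIso := MorphismProperty.IsStableUnderBaseChange.respectsIso
  apply MorphismProperty.relative.of_exists
  intro Y' b
  obtain ⟨Y, θ₂, ζ, rfl⟩ := factorL g F Y' b
  obtain ⟨Q, p₂, fst, sq⟩ := hp.rep ζ
  obtain ⟨p₁, rfl⟩ := (AlgSp.yon S).map_surjective fst
  have hp₂ : P p₂.left := hp.property ζ _ _ sq
  have h := squareL g sq (Iso.refl ((Over.map g).obj U)) θ₂
  rw [Iso.refl_hom, CategoryTheory.Functor.map_id, Category.id_comp] at h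
  refine ⟨_, _, _, h, ?_⟩
  change P (((Over.map g).map p₂).left ≫ θ₂.inv.left)
  have : IsIso θ₂.inv.left := (inferInstance : IsIso ((Over.forget S').map θ₂.inv))
  rw [P.cancel_right_of_respectsIso]
  exact hp₂

theorem isAlgSpace_L {F : AlgSp.Sp S} (hF : AlgSp.IsAlgSpace F) :
    AlgSp.IsAlgSpace ((L g).obj F) where
  diag := Functor.relativelyRepresentable.diag_of_map_from_obj
    (fun _ a => representable_L g hF a)
  atlas := by
    obtain ⟨U, p, h1, h2⟩ := hF.atlas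
    exact ⟨(Over.map g).obj U, (lam g U).inv ≫ (L g).map p, repWith_L g _ p h1,
      repWith_L g _ p h2⟩

/-- `j_! h_X` is represented by `X` over `S'`. -/
noncomputable def representableByL (X : Over S) :
    ((L g).obj ((AlgSp.yon S).obj X)).obj.RepresentableBy ((Over.map g).obj X) where
  homEquiv {T'} := Equiv.ulift.symm.trans (secEquivL g X T').symm
  homEquiv_comp {T' Y'} k f := by
    refine Sec.ext' ?_ ?_
    · change (k ≫ f).left ≫ X.hom = k.left ≫ f.left ≫ X.hom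
      simp
    · apply ULift.ext
      apply Over.OverMorphism.ext
      change 𝟙 _ ≫ k.left ≫ f.left = (k ≫ f).left
      simp

/-- `Lsh h_X` is represented by `X` over `S'`. -/
noncomputable def representableByLsh (X : Over S) :
    ((Lsh g).obj ((AlgSp.yon S).obj X)).obj.RepresentableBy ((Over.map g).obj X) :=
  (representableByL g X).ofIso
    ((sheafToPresheaf _ _).mapIso ((LIso g).app ((AlgSp.yon S).obj X)))

theorem isAlgSpace_Lsh {F : AlgSp.Sp S} (hF : AlgSp.IsAlgSpace F) :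
    AlgSp.IsAlgSpace ((Lsh g).obj F) :=
  (isAlgSpace_L g hF).of_iso ((LIso g).app F)

end AlgSpace

end Groth.Agent.H32.JShriek
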