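import Groth.Agent.H32.JShriek
import Groth.Agent.H52.FibProd

/-!
# More on `j_!`: the projection to `h_S`, the product formula `j_! j⁻¹ F' = h_S × F'` and the
cartesian unit (helper32)
-/

set_option autoImplicit false
universe u
open CategoryTheory CategoryTheory.Limits AlgebraicGeometry Opposite

namespace Groth.Agent.H32.JShriek

open Groth.Agent.H32.OverBC

variable {S S' : Scheme.{u}} (g : S ⟶ S')

/-- the structure map `j_! F ⟶ h_S`. -/
noncomputable def piL (F : AlgSp.Sp S) : (L g).obj F ⟶ (AlgSp.yon S').obj (Over.mk g) :=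
  ObjectProperty.homMk
    { app := fun T' => ↾fun (a : Sec g F.obj T'.unop) =>
        (⟨(Over.homMk a.τ a.w : T'.unop ⟶ Over.mk g)⟩ : ULift.{u + 1} (T'.unop ⟶ Over.mk g))
      naturality := by
        intro T' Y' k
        ext a
        apply ULift.ext
        apply Over.OverMorphism.ext
        rfl }

theorem piL_app (F : AlgSp.Sp S) (T' : Over S') (a : Sec g F.obj T') :
    (piL g F).hom.app (op T') a = ⟨(Over.homMk a.τ a.w : T' ⟶ Over.mk g)⟩ := rfl

theorem piL_natural {F G : AlgSp.Sp S} (α : F ⟶ G) : (L g).map α ≫ piL g G = piL g F := by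
  apply ObjectProperty.hom_ext
  ext T' a
  rfl

/-- sectionwise criterion for binary products of sheaves of sets. -/
theorem isLimit_binaryFan_of_app {C : Type*} [Category C] {J : GrothendieckTopology C}
    {P A B : Sheaf J (Type (u + 1))} (p₁ : P ⟶ A) (p₂ : P ⟶ B)
    (hinj : ∀ (T : Cᵒᵖ) (x y : P.obj.obj T), p₁.hom.app T x = p₁.hom.app T y →
      p₂.hom.app T x = p₂.hom.app T y → x = y)
    (hsurj : ∀ (T : Cᵒᵖ) (a : A.obj.obj T) (b : B.obj.obj T),
      ∃ x, p₁.hom.app T x = a ∧ p₂.hom.app T x = b) :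
    Nonempty (IsLimit (BinaryFan.mk p₁ p₂)) := by
  choose lft h1 h2 using hsurj
  refine ⟨BinaryFan.IsLimit.mk _
    (fun {G} α β => ObjectProperty.homMk
      { app := fun T => ↾fun x => lft T (α.hom.app T x) (β.hom.app T x)
        naturality := ?_ }) ?_ ?_ ?_⟩
  · intro T T₂ k
    ext x
    apply hinj
    · change p₁.hom.app T₂ (lft T₂ (α.hom.app T₂ (G.obj.map k x)) (β.hom.app T₂ (G.obj.map k x))) =
        p₁.hom.app T₂ (P.obj.map k (lft T (α.hom.app T x) (β.hom.app T x)))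
      rw [h1, NatTrans.naturality_apply p₁.hom, h1, NatTrans.naturality_apply α.hom]
    · change p₂.hom.app T₂ (lft T₂ (α.hom.app T₂ (G.obj.map k x)) (β.hom.app T₂ (G.obj.map k x))) =
        p₂.hom.app T₂ (P.obj.map k (lft T (α.hom.app T x) (β.hom.app T x)))
      rw [h2, NatTrans.naturality_apply p₂.hom, h2, NatTrans.naturality_apply β.hom]
  · intro G α β
    apply ObjectProperty.hom_ext
    ext T x
    exact h1 T _ _
  · intro G α β
    apply ObjectProperty.hom_ext
    ext T x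
    exact h2 T _ _
  · intro G α β m hm1 hm2
    apply ObjectProperty.hom_ext
    ext T x
    apply hinj
    · refine Eq.trans ?_ (h1 T _ _).symm
      rw [← hm1]; rfl
    · refine Eq.trans ?_ (h2 T _ _).symm
      rw [← hm2]; rfl

/-- the two canonical maps between `T'` and `(T'.left, τ)` viewed over `S'`. -/
def thetaHom {T' : Over S'} (τ : T'.left ⟶ S) (w : τ ≫ g = T'.hom) :
    T' ⟶ (Over.map g).obj (Over.mk τ) :=
  Over.homMk (𝟙 _) ((Category.id_comp _).trans w)

def thetaInv {T' : Over S'} (τ : T'.left ⟶ S) (w : τ ≫ g = T'.hom) :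
    (Over.map g).obj (Over.mk τ) ⟶ T' :=
  Over.homMk (𝟙 _) ((Category.id_comp _).trans w.symm)

theorem thetaInv_hom {T' : Over S'} (τ : T'.left ⟶ S) (w : τ ≫ g = T'.hom) :
    thetaInv g τ w ≫ thetaHom g τ w = 𝟙 _ := by
  apply Over.OverMorphism.ext
  change 𝟙 _ ≫ 𝟙 _ = 𝟙 _
  simp

theorem thetaHom_inv {T' : Over S'} (τ : T'.left ⟶ S) (w : τ ≫ g = T'.hom) :
    thetaHom g τ w ≫ thetaInv g τ w = 𝟙 _ := by
  apply Over.OverMorphism.ext
  change 𝟙 _ ≫ 𝟙 _ = 𝟙 _
  simp

theorem counitApp_app' (G' : AlgSp.Sp S') (T' : Over S')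
    (a : Sec g ((jf g).obj G').obj T') :
    (counitApp g G').hom.app (op T') a = G'.obj.map (thetaHom g a.τ a.w).op a.ξ := rfl

/-- `j_! j⁻¹ F'` is the product `h_S × F'`. -/
theorem prodL (F' : AlgSp.Sp S') :
    Nonempty (IsLimit (BinaryFan.mk (piL g ((jf g).obj F')) (counitApp g F'))) := by
  apply isLimit_binaryFan_of_app
  · rintro ⟨T'⟩ ⟨τ, w, ξ⟩ ⟨τ', w', ξ'⟩ h1 h2
    have hτ : τ = τ' := by
      rw [piL_app, piL_app] at h1
      exact congrArg (fun m => m.down.left) h1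
    subst hτ
    rw [counitApp_app', counitApp_app'] at h2
    change F'.obj.map (thetaHom g τ w).op ξ = F'.obj.map (thetaHom g τ w).op ξ' at h2
    have h3 := congrArg (F'.obj.map (thetaInv g τ w).op) h2
    have e : ∀ z : F'.obj.obj (op ((Over.map g).obj (Over.mk τ))),
        F'.obj.map (thetaInv g τ w).op (F'.obj.map (thetaHom g τ w).op z) = z := fun z =>
      (map_map _ _ _).trans (map_id' (thetaInv_hom g τ w) z)
    have h4 : ξ = ξ' := (e ξ).symm.trans (h3.trans (e ξ'))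
    subst h4
    rfl
  · rintro ⟨T'⟩ ⟨m⟩ y
    refine ⟨⟨m.left, Over.w m, F'.obj.map (thetaInv g m.left (Over.w m)).op y⟩, ?_, ?_⟩
    · rw [piL_app]
      apply ULift.ext
      apply Over.OverMorphism.ext
      rfl
    · rw [counitApp_app']
      exact (map_map _ _ _).trans (map_id' (thetaHom_inv g m.left (Over.w m)) y)

/-- the map to the terminal sheaf `h_S` over `S`. -/
noncomputable def toOne (F : AlgSp.Sp S) : F ⟶ (AlgSp.yon S).obj (Over.mk (𝟙 S)) :=
  ObjectProperty.homMk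
    { app := fun T => ↾fun _ =>
        (⟨(Over.homMk T.unop.hom (Category.comp_id _) : T.unop ⟶ Over.mk (𝟙 S))⟩ :
          ULift.{u + 1} (T.unop ⟶ Over.mk (𝟙 S)))
      naturality := by
        intro T T₂ k
        ext x
        apply ULift.ext
        exact Over.mkIdTerminal.hom_ext _ _ }

/-- the canonical section `1 ⟶ j⁻¹ h_S`. -/
noncomputable def sigma : (AlgSp.yon S).obj (Over.mk (𝟙 S)) ⟶
    (jf g).obj ((AlgSp.yon S').obj (Over.mk g)) :=
  unitApp g _ ≫ (jf g).map (piL g _)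

/-- the unit of `j_! ⊣ j⁻¹` is cartesian over the terminal object. -/
theorem unit_cartesian (F : AlgSp.Sp S) :
    IsPullback (unitApp g F) (toOne F) ((jf g).map (piL g F)) (sigma g) := by
  apply sheaf_isPullback_of_app
  rintro ⟨T⟩
  rw [Types.isPullback_iff]
  refine ⟨?_, ?_, ?_⟩
  · ext x
    rfl
  · rintro x y ⟨h1, -⟩
    rw [unitApp_app, unitApp_app] at h1
    exact Sec.ξ_eq_of_mk_eq g h1
  · rintro ⟨τ, w, ξ⟩ ⟨m⟩ h1
    have hτ : τ = T.hom := by
      have := congrArg (fun (z : ULift.{u + 1} ((Over.map g).obj T ⟶ Over.mk g)) => z.down.left) h1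
      exact this
    subst hτ
    refine ⟨ξ, rfl, ?_⟩
    apply ULift.ext
    exact Over.mkIdTerminal.hom_ext _ _

/-- `j⁻¹ F'` is an algebraic space if `h_S × F'` is. -/
theorem isAlgSpace_jf_of_prod (F' : AlgSp.Sp S')
    (h : AlgSp.IsAlgSpace ((AlgSp.yon S').obj (Over.mk g) ⨯ F')) :
    AlgSp.IsAlgSpace ((jf g).obj F') := by
  obtain ⟨hl⟩ := prodL g F'
  have e : (L g).obj ((jf g).obj F') ≅ (AlgSp.yon S').obj (Over.mk g) ⨯ F' :=
    hl.conePointUniqueUpToIso (limit.isLimit _)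
  have h1 : AlgSp.IsAlgSpace ((L g).obj ((jf g).obj F')) := h.of_iso e.symm
  have h2 : AlgSp.IsAlgSpace ((jf g).obj ((L g).obj ((jf g).obj F'))) := isAlgSpace_jf g h1
  have h3 : AlgSp.IsAlgSpace ((jf g).obj ((AlgSp.yon S').obj (Over.mk g))) :=
    isAlgSpace_jf g (AlgSp.IsAlgSpace.yon_obj _)
  exact Groth.Agent.H52.isAlgSpace_of_isPullback (unit_cartesian g ((jf g).obj F')) h3.diag h2
    (AlgSp.IsAlgSpace.yon_obj _)

/-- `h_S × F'` is an algebraic space if `j⁻¹ F'` is. -/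
theorem isAlgSpace_prod_of_jf (F' : AlgSp.Sp S') (h : AlgSp.IsAlgSpace ((jf g).obj F')) :
    AlgSp.IsAlgSpace ((AlgSp.yon S').obj (Over.mk g) ⨯ F') := by
  obtain ⟨hl⟩ := prodL g F'
  have e : (L g).obj ((jf g).obj F') ≅ (AlgSp.yon S').obj (Over.mk g) ⨯ F' :=
    hl.conePointUniqueUpToIso (limit.isLimit _)
  exact (isAlgSpace_L g h).of_iso e

end Groth.Agent.H32.JShriek
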