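import Groth.Agent.H32.JShriek2

/-!
# `j_!` induces an equivalence between algebraic spaces over `S` and algebraic spaces over `S'`
with a map to `h_S` (helper32)
-/

set_option autoImplicit false
universe u
open CategoryTheory CategoryTheory.Limits AlgebraicGeometry Opposite

namespace Groth.Agent.H32.JShriek

open Groth.Agent.H32.OverBC

variable {S S' : Scheme.{u}} (g : S ⟶ S')

theorem isIso_of_app_bijective {C : Type*} [Category C] {J : GrothendieckTopology C}
    {A B : Sheaf J (Type (u + 1))} (c : A ⟶ B)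
    (h : ∀ T : Cᵒᵖ, Function.Bijective (c.hom.app T)) : IsIso c := by
  have h1 : ∀ T : Cᵒᵖ, IsIso (c.hom.app T) := fun T => (isIso_iff_bijective _).2 (h T)
  have h2 : IsIso c.hom := NatIso.isIso_of_isIso_app _
  have h3 : IsIso ((sheafToPresheaf J (Type (u + 1))).map c) := h2
  exact isIso_of_fully_faithful (sheafToPresheaf J (Type (u + 1))) c

/-- `j_!` is faithful. -/
theorem L_map_injective {F G : AlgSp.Sp S} {α β : F ⟶ G} (h : (L g).map α = (L g).map β) :
    α = β := by
  apply ObjectProperty.hom_ext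
  ext T x
  obtain ⟨T⟩ := T
  have h1 := congrArg (fun m => m.hom.app (op ((Over.map g).obj T))
    (⟨T.hom, rfl, x⟩ : Sec g F.obj ((Over.map g).obj T))) h
  change (⟨T.hom, rfl, α.hom.app _ x⟩ : Sec g G.obj ((Over.map g).obj T)) =
    ⟨T.hom, rfl, β.hom.app _ x⟩ at h1
  exact Sec.ξ_eq_of_mk_eq g h1

/-- `j_!` is full on maps over `h_S`. -/
theorem L_map_surjective {F G : AlgSp.Sp S} (c : (L g).obj F ⟶ (L g).obj G)
    (hc : c ≫ piL g G = piL g F) : ∃ α : F ⟶ G, (L g).map α = c := by
  have hw : (unitApp g F ≫ (jf g).map c) ≫ (jf g).map (piL g G) = toOne F ≫ sigma g := by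
    rw [Category.assoc, ← Functor.map_comp, hc]
    exact (unit_cartesian g F).w
  refine ⟨(unit_cartesian g G).lift _ _ hw, ?_⟩
  apply ((adjL g).homEquiv _ _).injective
  rw [Adjunction.homEquiv_unit, Adjunction.homEquiv_unit]
  have h1 : (adjL g).unit.app F ≫ (jf g).map ((L g).map ((unit_cartesian g G).lift _ _ hw)) =
      (unit_cartesian g G).lift _ _ hw ≫ (adjL g).unit.app G :=
    ((adjL g).unit.naturality _).symm
  rw [h1]
  exact (unit_cartesian g G).lift_fst _ _ hw

/-- compatibility of the counit with the canonical section. -/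
theorem L_sigma_counit :
    (L g).map (sigma g) ≫ counitApp g ((AlgSp.yon S').obj (Over.mk g)) = piL g _ := by
  apply ObjectProperty.hom_ext
  ext T' a
  obtain ⟨T'⟩ := T'
  apply ULift.ext
  apply Over.OverMorphism.ext
  change 𝟙 _ ≫ a.τ = a.τ
  simp

section Fibre

variable {g}
variable {F' : AlgSp.Sp S'} (ϖ : F' ⟶ (AlgSp.yon S').obj (Over.mk g))

/-- the fibre of `j⁻¹ F' ⟶ j⁻¹ h_S` over the canonical section. -/
noncomputable abbrev fib : AlgSp.Sp S := pullback ((jf g).map ϖ) (sigma g)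

theorem isAlgSpace_fib (hF' : AlgSp.IsAlgSpace F') : AlgSp.IsAlgSpace (fib ϖ) :=
  Groth.Agent.H52.isAlgSpace_of_isPullback (IsPullback.of_hasPullback ((jf g).map ϖ) (sigma g))
    (isAlgSpace_jf g (AlgSp.IsAlgSpace.yon_obj _)).diag (isAlgSpace_jf g hF')
    (AlgSp.IsAlgSpace.yon_obj _)

/-- the comparison `j_! (fibre) ⟶ F'`. -/
noncomputable def fibMap : (L g).obj (fib ϖ) ⟶ F' :=
  (L g).map (pullback.fst ((jf g).map ϖ) (sigma g)) ≫ counitApp g F'

theorem fibMap_comp : fibMap ϖ ≫ ϖ = piL g (fib ϖ) := by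
  have h1 : counitApp g F' ≫ ϖ =
      (L g).map ((jf g).map ϖ) ≫ counitApp g ((AlgSp.yon S').obj (Over.mk g)) :=
    ((adjL g).counit.naturality ϖ).symm
  have h2 : (L g).map (pullback.fst ((jf g).map ϖ) (sigma g)) ≫ (L g).map ((jf g).map ϖ) =
      (L g).map (pullback.snd ((jf g).map ϖ) (sigma g)) ≫ (L g).map (sigma g) := by
    rw [← Functor.map_comp, ← Functor.map_comp, pullback.condition]
  calc fibMap ϖ ≫ ϖ = (L g).map (pullback.fst ((jf g).map ϖ) (sigma g)) ≫
        (counitApp g F' ≫ ϖ) := Category.assoc _ _ _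
    _ = ((L g).map (pullback.fst ((jf g).map ϖ) (sigma g)) ≫ (L g).map ((jf g).map ϖ)) ≫
        counitApp g ((AlgSp.yon S').obj (Over.mk g)) := by rw [h1, Category.assoc]
    _ = (L g).map (pullback.snd ((jf g).map ϖ) (sigma g)) ≫ ((L g).map (sigma g) ≫
        counitApp g ((AlgSp.yon S').obj (Over.mk g))) := by rw [h2, Category.assoc]
    _ = (L g).map (pullback.snd ((jf g).map ϖ) (sigma g)) ≫ piL g _ := by rw [L_sigma_counit]
    _ = piL g (fib ϖ) := piL_natural g _

theorem fibMap_app (T' : Over S') (a : Sec g (fib ϖ).obj T') :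
    (fibMap ϖ).hom.app (op T') a = F'.obj.map (thetaHom g a.τ a.w).op
      ((pullback.fst ((jf g).map ϖ) (sigma g)).hom.app (op (Over.mk a.τ)) a.ξ) := rfl

theorem fibMap_bijective (T' : (Over S')ᵒᵖ) : Function.Bijective ((fibMap ϖ).hom.app T') := by
  obtain ⟨T'⟩ := T'
  have sq := IsPullback.of_hasPullback ((jf g).map ϖ) (sigma g)
  have hpi : ∀ a : Sec g (fib ϖ).obj T', (piL g (fib ϖ)).hom.app (op T') a =
      ϖ.hom.app (op T') ((fibMap ϖ).hom.app (op T') a) := fun a =>
    (congrArg (fun m => m.hom.app (op T') a) (fibMap_comp ϖ)).symm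
  constructor
  · intro a b hab
    have h1 : (piL g (fib ϖ)).hom.app (op T') a = (piL g (fib ϖ)).hom.app (op T') b := by
      exact (hpi a).trans ((congrArg _ hab).trans (hpi b).symm)
    obtain ⟨τ, w, ξ⟩ := a
    obtain ⟨τ', w', ξ'⟩ := b
    have hτ : τ = τ' := by
      rw [piL_app, piL_app] at h1
      exact congrArg (fun m => m.down.left) h1
    subst hτ
    rw [fibMap_app, fibMap_app] at hab
    change F'.obj.map (thetaHom g τ w).op
        ((pullback.fst ((jf g).map ϖ) (sigma g)).hom.app (op (Over.mk τ)) ξ) =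
      F'.obj.map (thetaHom g τ w).op
        ((pullback.fst ((jf g).map ϖ) (sigma g)).hom.app (op (Over.mk τ)) ξ') at hab
    have h3 := congrArg (F'.obj.map (thetaInv g τ w).op) hab
    have e : ∀ z : F'.obj.obj (op ((Over.map g).obj (Over.mk τ))),
        F'.obj.map (thetaInv g τ w).op (F'.obj.map (thetaHom g τ w).op z) = z := fun z =>
      (map_map _ _ _).trans (map_id' (thetaInv_hom g τ w) z)
    have h4 : (pullback.fst ((jf g).map ϖ) (sigma g)).hom.app (op (Over.mk τ)) ξ =
        (pullback.fst ((jf g).map ϖ) (sigma g)).hom.app (op (Over.mk τ)) ξ' :=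
      (e _).symm.trans (h3.trans (e _))
    have h5 : (pullback.snd ((jf g).map ϖ) (sigma g)).hom.app (op (Over.mk τ)) ξ =
        (pullback.snd ((jf g).map ϖ) (sigma g)).hom.app (op (Over.mk τ)) ξ' := by
      apply ULift.ext
      exact Over.mkIdTerminal.hom_ext _ _
    have h6 : ξ = ξ' :=
      Types.ext_of_isPullback (sheaf_isPullback_app sq (op (Over.mk τ))) h4 h5
    subst h6
    rfl
  · intro y'
    obtain ⟨m, hm⟩ : ∃ m : T' ⟶ Over.mk g, ϖ.hom.app (op T') y' = ⟨m⟩ := ⟨_, rfl⟩
    let y : ((jf g).obj F').obj.obj (op (Over.mk m.left)) :=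
      F'.obj.map (thetaInv g m.left (Over.w m)).op y'
    let one : ((AlgSp.yon S).obj (Over.mk (𝟙 S))).obj.obj (op (Over.mk m.left)) :=
      ⟨(Over.homMk m.left (Category.comp_id _) : Over.mk m.left ⟶ Over.mk (𝟙 S))⟩
    have hcond : ((jf g).map ϖ).hom.app (op (Over.mk m.left)) y =
        (sigma g).hom.app (op (Over.mk m.left)) one := by
      have h1 : ϖ.hom.app (op ((Over.map g).obj (Over.mk m.left)))
          (F'.obj.map (thetaInv g m.left (Over.w m)).op y') =
          ((AlgSp.yon S').obj (Over.mk g)).obj.map (thetaInv g m.left (Over.w m)).op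
            (ϖ.hom.app (op T') y') := NatTrans.naturality_apply ϖ.hom _ y'
      refine h1.trans ?_
      rw [hm]
      apply ULift.ext
      apply Over.OverMorphism.ext
      change 𝟙 _ ≫ m.left = m.left
      simp
    obtain ⟨ξ, hξ1, -⟩ :=
      Types.exists_of_isPullback (sheaf_isPullback_app sq (op (Over.mk m.left))) y one hcond
    refine ⟨⟨m.left, Over.w m, ξ⟩, ?_⟩
    rw [fibMap_app]
    change F'.obj.map (thetaHom g m.left (Over.w m)).op
      ((pullback.fst ((jf g).map ϖ) (sigma g)).hom.app (op (Over.mk m.left)) ξ) = y'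
    rw [hξ1]
    exact (map_map _ _ _).trans (map_id' (thetaHom_inv g m.left (Over.w m)) y')

instance : IsIso (fibMap ϖ) := isIso_of_app_bijective _ (fibMap_bijective ϖ)

end Fibre

section Equivalence

/-- the functor `F ↦ (j_! F ⟶ h_S)`. -/
noncomputable def Phi : AlgSp.Space S ⥤ Over ((AlgSp.ofScheme S').obj (Over.mk g)) where
  obj F := Over.mk (Y := (⟨(L g).obj F.obj, isAlgSpace_L g F.property⟩ : AlgSp.Space S'))
    (ObjectProperty.homMk (piL g F.obj))
  map {F G} α := Over.homMk (ObjectProperty.homMk ((L g).map α.hom)) (by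
    apply ObjectProperty.hom_ext
    exact piL_natural g α.hom)
  map_id F := by
    apply Over.OverMorphism.ext
    apply ObjectProperty.hom_ext
    exact (L g).map_id _
  map_comp α β := by
    apply Over.OverMorphism.ext
    apply ObjectProperty.hom_ext
    exact (L g).map_comp _ _

theorem Phi_map_left_hom {F G : AlgSp.Space S} (α : F ⟶ G) :
    ((Phi g).map α).left.hom = (L g).map α.hom := rfl

instance : (Phi g).Faithful where
  map_injective {F G} α β h := by
    apply ObjectProperty.hom_ext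
    apply L_map_injective g
    rw [← Phi_map_left_hom, ← Phi_map_left_hom, h]

instance : (Phi g).Full where
  map_surjective {F G} γ := by
    have hc : γ.left.hom ≫ piL g G.obj = piL g F.obj :=
      congrArg (fun m => m.hom) (Over.w γ)
    obtain ⟨α, hα⟩ := L_map_surjective g γ.left.hom hc
    refine ⟨ObjectProperty.homMk α, ?_⟩
    apply Over.OverMorphism.ext
    apply ObjectProperty.hom_ext
    exact hα

instance : (Phi g).EssSurj where
  mem_essImage Y := by
    let ϖ : Y.left.obj ⟶ (AlgSp.yon S').obj (Over.mk g) := Y.hom.hom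
    let F : AlgSp.Space S := ⟨fib ϖ, isAlgSpace_fib ϖ Y.left.property⟩
    have hiso : IsIso (fibMap ϖ) := isIso_of_app_bijective _ (fibMap_bijective ϖ)
    let e : (L g).obj (fib ϖ) ≅ Y.left.obj := @asIso _ _ _ _ (fibMap ϖ) hiso
    refine ⟨F, ⟨Over.isoMk (ObjectProperty.isoMk _ e) ?_⟩⟩
    apply ObjectProperty.hom_ext
    exact fibMap_comp ϖ

instance : (Phi g).IsEquivalence where

/-- the compatibility of `Phi` with `j_!`. -/
noncomputable def PhiIso :
    (Phi g) ⋙ Over.forget _ ⋙ ObjectProperty.ι (AlgSp.IsAlgSpace (S := S')) ≅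
      ObjectProperty.ι (AlgSp.IsAlgSpace (S := S)) ⋙ Lsh g :=
  (NatIso.ofComponents (fun F => Iso.refl _) (by
    intro F G α
    change (L g).map α.hom ≫ 𝟙 _ = 𝟙 _ ≫ (L g).map α.hom
    simp) : (Phi g) ⋙ Over.forget _ ⋙ ObjectProperty.ι (AlgSp.IsAlgSpace (S := S')) ≅
      ObjectProperty.ι (AlgSp.IsAlgSpace (S := S)) ⋙ L g) ≪≫
    Functor.isoWhiskerLeft _ (LIso g)

end Equivalence

end Groth.Agent.H32.JShriek
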