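import Groth.Prelude.Def_Found
import Groth.Prelude.Def_CAlgX
import Mathlib.LinearAlgebra.TensorProduct.Pi
import Mathlib.LinearAlgebra.TensorProduct.RightExactness

set_option autoImplicit false
universe u

namespace Groth.Agent.H32

open TensorProduct

/-- naturality of `piRightHom` in the left tensor factor. -/
theorem piRightHom_rTensor {R : Type u} [CommRing R] {M₁ M₂ : Type u}
    [AddCommGroup M₁] [Module R M₁] [AddCommGroup M₂] [Module R M₂] (f : M₁ →ₗ[R] M₂)
    {ι : Type u} (Q : ι → Type u) [∀ i, AddCommGroup (Q i)] [∀ i, Module R (Q i)]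
    (x : M₁ ⊗[R] (∀ i, Q i)) :
    TensorProduct.piRightHom R R M₂ Q (f.rTensor (∀ i, Q i) x) =
      fun i => f.rTensor (Q i) (TensorProduct.piRightHom R R M₁ Q x i) := by
  induction x using TensorProduct.induction_on with
  | zero => simp; rfl
  | tmul m q => simp
  | add x y hx hy =>
    rw [map_add, map_add, hx, hy, map_add]
    funext i
    simp

end Groth.Agent.H32

namespace Groth.Agent.H32

open TensorProduct

/-- for a finitely generated module, `piRightHom` is surjective. -/
theorem piRightHom_surjective_of_finite {R : Type u} [CommRing R] {N : Type u}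
    [AddCommGroup N] [Module R N] [Module.Finite R N]
    {ι : Type u} (Q : ι → Type u) [∀ i, AddCommGroup (Q i)] [∀ i, Module R (Q i)] :
    Function.Surjective (TensorProduct.piRightHom R R N Q) := by
  classical
  obtain ⟨k, n, hn⟩ := Module.Finite.exists_fin (R := R) (M := N)
  -- every element of `N ⊗ Q` is of the form `∑ j, n j ⊗ q j`
  have key : ∀ (Q' : Type u) [AddCommGroup Q'] [Module R Q'] (z : N ⊗[R] Q'),
      ∃ q : Fin k → Q', z = ∑ j, n j ⊗ₜ[R] q j := by
    intro Q' _ _ z
    induction z using TensorProduct.induction_on with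
    | zero => exact ⟨0, by simp⟩
    | tmul m q =>
      have hm : m ∈ Submodule.span R (Set.range n) := hn ▸ Submodule.mem_top
      obtain ⟨c, rfl⟩ := (Submodule.mem_span_range_iff_exists_fun R).mp hm
      refine ⟨fun j => c j • q, ?_⟩
      rw [TensorProduct.sum_tmul]
      refine Finset.sum_congr rfl fun j _ => ?_
      rw [TensorProduct.smul_tmul]
    | add x y hx hy =>
      obtain ⟨qx, rfl⟩ := hx
      obtain ⟨qy, rfl⟩ := hy
      refine ⟨qx + qy, ?_⟩
      rw [← Finset.sum_add_distrib]
      refine Finset.sum_congr rfl fun j _ => ?_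
      rw [Pi.add_apply, TensorProduct.tmul_add]
  intro z
  choose q hq using fun i => key (Q i) (z i)
  refine ⟨∑ j, n j ⊗ₜ[R] (fun i => q i j), ?_⟩
  rw [map_sum]
  funext i
  rw [Finset.sum_apply, hq i]
  rfl

end Groth.Agent.H32
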