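import Groth.Agent.H32.ML
import Mathlib.LinearAlgebra.TensorProduct.Tower

set_option autoImplicit false
universe u

namespace Groth.Agent.H32

open TensorProduct

section
variable (R S : Type u) [CommRing R] [CommRing S] [Algebra R S]
  (M : Type u) [AddCommGroup M] [Module R M]
  (P : Type u) [AddCommGroup P] [Module S P] [Module R P] [IsScalarTower R S P]

/-- `(S ⊗[R] M) ⊗[S] P ≃ M ⊗[R] P`, additive version. -/
noncomputable def eBC : (S ⊗[R] M) ⊗[S] P ≃+ M ⊗[R] P :=
  ((TensorProduct.comm S (S ⊗[R] M) P).toAddEquiv.trans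
    (TensorProduct.AlgebraTensorModule.cancelBaseChange R S S P M).toAddEquiv).trans
    (TensorProduct.comm R P M).toAddEquiv

theorem eBC_tmul (s : S) (m : M) (p : P) :
    eBC R S M P ((s ⊗ₜ[R] m) ⊗ₜ[S] p) = m ⊗ₜ[R] (s • p) := by
  simp [eBC]

end

section
variable (R S : Type u) [CommRing R] [CommRing S] [Algebra R S]
  (M : Type u) [AddCommGroup M] [Module R M]
  {ι : Type u} (Q : ι → Type u) [∀ i, AddCommGroup (Q i)] [∀ i, Module S (Q i)]
  [∀ i, Module R (Q i)] [∀ i, IsScalarTower R S (Q i)]

theorem piRightHom_eBC (x : (S ⊗[R] M) ⊗[S] (∀ i, Q i)) :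
    TensorProduct.piRightHom R R M Q (eBC R S M (∀ i, Q i) x) =
      fun i => eBC R S M (Q i) (TensorProduct.piRightHom S S (S ⊗[R] M) Q x i) := by
  induction x using TensorProduct.induction_on with
  | zero => simp; rfl
  | add a b ha hb =>
    rw [map_add, map_add, ha, hb, map_add]
    funext i
    simp
  | tmul t q =>
    induction t using TensorProduct.induction_on with
    | zero => simp; rfl
    | add a b ha hb =>
      rw [TensorProduct.add_tmul, map_add, map_add, ha, hb, map_add]
      funext i
      simp
    | tmul s m =>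
      rw [eBC_tmul]
      funext i
      simp [eBC_tmul]

end

end Groth.Agent.H32
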