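import Groth.Agent.H32.ML
import Mathlib.LinearAlgebra.TensorProduct.DirectLimit

set_option autoImplicit false
universe u

namespace Groth.Agent.H32

open TensorProduct Module

section
variable {R : Type u} [CommRing R] {ι : Type u} [Preorder ι] [IsDirected ι (· ≤ ·)] [DecidableEq ι]
  (G : ι → Type u) [∀ i, AddCommGroup (G i)] [∀ i, Module R (G i)]
  (f : ∀ i j, i ≤ j → G i →ₗ[R] G j) [DirectedSystem G fun i j h => f i j h]

/-- if the transition maps are universally injective, so are the maps into the direct limit. -/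
theorem of_universallyInjective
    (hf : ∀ i j (h : i ≤ j), CAlgX.UniversallyInjective R (f i j h)) (i : ι) :
    CAlgX.UniversallyInjective R (Module.DirectLimit.of R ι G f i) := by
  intro Q _ _
  rw [injective_iff_map_eq_zero]
  intro z hz
  have h1 := TensorProduct.directLimitLeft_rTensor_of f Q z
  rw [hz, map_zero] at h1
  obtain ⟨j, hij, hj⟩ := Module.DirectLimit.of.zero_exact h1.symm
  exact (injective_iff_map_eq_zero _).mp (hf i j hij Q) z hj

/-- every element of `(lim G) ⊗ P` comes from some `G i ⊗ P`. -/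
theorem exists_rTensor_of [Nonempty ι] (P : Type u) [AddCommGroup P] [Module R P]
    (x : Module.DirectLimit G f ⊗[R] P) :
    ∃ (i : ι) (y : G i ⊗[R] P), (Module.DirectLimit.of R ι G f i).rTensor P y = x := by
  induction x using TensorProduct.induction_on with
  | zero => exact ⟨Classical.arbitrary ι, 0, map_zero _⟩
  | tmul l p =>
    obtain ⟨i, g, rfl⟩ := Module.DirectLimit.exists_of l
    exact ⟨i, g ⊗ₜ p, rfl⟩
  | add x y hx hy =>
    obtain ⟨i, a, rfl⟩ := hx
    obtain ⟨j, b, rfl⟩ := hy
    obtain ⟨k, hik, hjk⟩ := exists_ge_ge i j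
    refine ⟨k, (f i k hik).rTensor P a + (f j k hjk).rTensor P b, ?_⟩
    rw [map_add, ← LinearMap.comp_apply, ← LinearMap.comp_apply, ← LinearMap.rTensor_comp,
      ← LinearMap.rTensor_comp]
    congr 3 <;> exact LinearMap.ext fun _ => Module.DirectLimit.of_f

end

end Groth.Agent.H32
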