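import Groth.Agent.H32.FppfLocal
import Groth.Agent.H52.LocPBC
import Groth.Agent.H52.LocPOps
import Groth.Agent.H52.EtLocalInst
import Groth.Agent.H50.Nice
import Groth.Agent.S10542
import Groth.Agent.S10541
import Groth.Agent.S10543

/-!
# Properties of morphisms of algebraic spaces stable under base change and composition and fppf
local on the base (helper32)
-/

set_option autoImplicit false
open CategoryTheory CategoryTheory.Limits AlgebraicGeometry Opposite
universe u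

namespace Groth.Agent.H32.PFacts

variable {S : Scheme.{u}}

/-- the three permanence hypotheses used by the rows on `AlgSt.RepByAlgSpWith`. -/
structure Good (P : MorphismProperty (AlgSp.Sp S)) : Prop where
  bc : ∀ ⦃X₁ Y₁ X₂ Y₂ : AlgSp.Sp S⦄, AlgSp.IsAlgSpace X₁ → AlgSp.IsAlgSpace Y₁ →
    AlgSp.IsAlgSpace X₂ → AlgSp.IsAlgSpace Y₂ → ∀ (a : X₁ ⟶ Y₁) (b : Y₂ ⟶ Y₁) (a' : X₂ ⟶ Y₂)
    (b' : X₂ ⟶ X₁), IsPullback b' a' a b → P a → P a'
  comp : ∀ ⦃X Y Z : AlgSp.Sp S⦄, AlgSp.IsAlgSpace X → AlgSp.IsAlgSpace Y → AlgSp.IsAlgSpace Z →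
    ∀ (a : X ⟶ Y) (b : Y ⟶ Z), P a → P b → P (a ≫ b)
  loc : AlgSp.IsLocalOnBase AlgSp.IsFppfCover P

theorem good_top : Good (⊤ : MorphismProperty (AlgSp.Sp S)) where
  bc := fun _ _ _ _ _ _ _ _ _ _ _ _ _ _ => trivial
  comp := fun _ _ _ _ _ _ _ _ _ _ => trivial
  loc := fun _ _ _ _ _ _ _ _ _ _ _ _ _ _ _ => ⟨fun _ _ => trivial, fun _ => trivial⟩

theorem good_locP {P : MorphismProperty Scheme.{u}} (hP : Groth.Agent.H52.EtLocal P)
    (hloc : AlgSp.IsLocalOnBase (AlgSp.IsFpqcCover (S := S)) (AlgSp.LocP P)) :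
    Good (AlgSp.LocP (S := S) P) where
  bc := fun _ _ _ _ hX₁ hY₁ _ hY₂ _ _ _ _ sq ha =>
    Groth.Agent.H52.locP_baseChange hP hX₁ hY₁ hY₂ sq ha
  comp := fun _ _ _ _ hY _ a b ha hb => Groth.Agent.H52.locP_comp hP hY a b ha hb
  loc := Groth.Agent.H32.FppfLocal.isLocalOnBase_fppf_of_fpqc _ hloc

theorem good_smooth : Good (AlgSp.LocP (S := S) @Smooth) :=
  good_locP Groth.Agent.H52.etLocal_smooth (Groth.Agent.S10542.result S)

theorem good_unramified :
    Good (AlgSp.LocP (S := S) (@LocallyOfFiniteType ⊓ @FormallyUnramified)) :=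
  good_locP Groth.Agent.H52.etLocal_unramified (Groth.Agent.S10543.result S)

theorem good_lqf : Good (AlgSp.LocP (S := S) (@LocallyQuasiFinite ⊓ @LocallyOfFiniteType)) :=
  good_locP Groth.Agent.H52.etLocal_lqf (Groth.Agent.S10541.result S).1

theorem good_surjective : Good (AlgSp.IsSurjectiveMor (S := S)) where
  bc := fun _ _ _ _ _ _ _ _ _ _ _ _ sq ha => Groth.Agent.H50.isSurjectiveMor_baseChange sq ha
  comp := fun _ _ _ _ _ _ _ _ ha hb => Groth.Agent.H50.isSurjectiveMor_comp ha hb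
  loc := by
    intro ι Y Yi g hY hYi hcov X f hX Xi p q hXi hsq
    constructor
    · intro hf i
      exact Groth.Agent.H50.isSurjectiveMor_baseChange (hsq i) hf
    · intro hp y
      obtain ⟨i, yi, rfl⟩ := hcov.2 y
      obtain ⟨xi, hxi⟩ := hp i yi
      refine ⟨AlgSp.Points.map (q i) xi, ?_⟩
      rw [← AlgSp.Points.map_comp, (hsq i).w, AlgSp.Points.map_comp, hxi]

end Groth.Agent.H32.PFacts
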