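import Groth.Prelude.Def_AlgSt
import Mathlib.CategoryTheory.Sites.SheafOfTypes
import Groth.Agent.H32.StkLoc

/-!
# The category fibred in sets of a presheaf is a stack iff the presheaf is a sheaf (helper32)
-/

set_option autoImplicit false
open CategoryTheory Opposite
universe w v₂ u₂ v u

namespace Groth.Agent.H32.PshStack

open Stk FibCat Groth.Agent.H32.StkLoc

variable {C : Type u} [Category.{v} C] {P : Cᵒᵖ ⥤ Type w}

/-- the section of an object of `ofPsh P`, seen over an object equal to its base. -/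
def secAs (x : EltObj P) {W : C} (h : x.base = W) : P.obj (op W) :=
  P.map (eqToHom h.symm).op x.sec

theorem secAs_self (x : EltObj P) (h : x.base = x.base) : secAs x h = x.sec := by
  simp [secAs]

theorem secAs_map {x y : EltObj P} (m : x ⟶ y) {V W : C} (f : V ⟶ W)
    (hm : (EltObj.forget P).IsHomLift f m) (hx : x.base = V) (hy : y.base = W) :
    P.map f.op (secAs y hy) = secAs x hx := by
  haveI := hm
  subst_hom_lift (EltObj.forget P) f m
  have e1 : secAs y hy = y.sec := secAs_self y hy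
  have e2 : secAs x hx = x.sec := secAs_self x hx
  rw [e1, e2]
  exact m.map_sec

theorem exists_hom_of_secAs_eq (x y : EltObj P) {W : C} (hx : x.base = W) (hy : y.base = W)
    (h : secAs x hx = secAs y hy) : ∃ m : x ⟶ y, (EltObj.forget P).IsHomLift (𝟙 W) m := by
  obtain ⟨bx, sx⟩ := x
  obtain ⟨by', sy⟩ := y
  dsimp at hx hy
  subst hx
  subst hy
  simp only [secAs, eqToHom_refl, op_id, FunctorToTypes.map_id_apply] at h
  subst h
  exact ⟨𝟙 _, IsHomLift.id rfl⟩

theorem secAs_eq_of_hom {x y : EltObj P} (m : x ⟶ y) {W : C}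
    (hm : (EltObj.forget P).IsHomLift (𝟙 W) m) (hx : x.base = W) (hy : y.base = W) :
    secAs x hx = secAs y hy := by
  have := secAs_map m (𝟙 W) hm hx hy
  simpa using this.symm

theorem hom_eq_of_lift {x y : EltObj P} (m m' : x ⟶ y) {V W : C} (f : V ⟶ W)
    (hm : (EltObj.forget P).IsHomLift f m) (hm' : (EltObj.forget P).IsHomLift f m') : m = m' := by
  apply EltObj.hom_ext
  have e1 := IsHomLift.fac' (EltObj.forget P) f m
  have e2 := IsHomLift.fac' (EltObj.forget P) f m'
  exact e1.trans e2.symm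

section nat
variable {𝒜 : BasedCategory.{v₂, u₂} C}

theorem natTrans_thin {G H : 𝒜 ⥤ᵇ ofPsh P} (α β : G ⟶ H) : α = β := by
  apply BasedNatTrans.homCategory.ext
  refine NatTrans.ext (funext fun a => ?_)
  exact hom_eq_of_lift _ _ (𝟙 (𝒜.p.obj a)) (α.isHomLift' a) (β.isHomLift' a)

theorem exists_natTrans_of_secAs (G H : 𝒜 ⥤ᵇ ofPsh P)
    (h : ∀ a : 𝒜.obj, secAs (G.obj a) (G.w_obj a) = secAs (H.obj a) (H.w_obj a)) :
    Nonempty (G ⟶ H) := by
  have hex : ∀ a, ∃ m : G.obj a ⟶ H.obj a,
      (EltObj.forget P).IsHomLift (𝟙 (𝒜.p.obj a)) m := fun a =>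
    exists_hom_of_secAs_eq _ _ _ _ (h a)
  choose m hm using hex
  refine ⟨{ app := m, naturality := ?_, isHomLift' := hm }⟩
  intro a b k
  have h1 : (EltObj.forget P).IsHomLift (𝒜.p.map k) (G.map k) :=
    (BasedFunctor.isHomLift_iff G (𝒜.p.map k) k).mpr (IsHomLift.map 𝒜.p k)
  have h2 : (EltObj.forget P).IsHomLift (𝒜.p.map k) (H.map k) :=
    (BasedFunctor.isHomLift_iff H (𝒜.p.map k) k).mpr (IsHomLift.map 𝒜.p k)
  exact hom_eq_of_lift _ _ (𝒜.p.map k)
    (isHomLift_comp_id_right (EltObj.forget P) (𝒜.p.map k) _ _ h1 (hm b))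
    (isHomLift_comp_id_left (EltObj.forget P) (𝒜.p.map k) _ _ (hm a) h2)

theorem secAs_eq_of_natTrans {G H : 𝒜 ⥤ᵇ ofPsh P} (α : G ⟶ H) (a : 𝒜.obj) :
    secAs (G.obj a) (G.w_obj a) = secAs (H.obj a) (H.w_obj a) :=
  secAs_eq_of_hom (α.toNatTrans.app a) (α.isHomLift' a) _ _

theorem secAs_functor_map (G : 𝒜 ⥤ᵇ ofPsh P) {a b : 𝒜.obj} (k : a ⟶ b) :
    P.map (𝒜.p.map k).op (secAs (G.obj b) (G.w_obj b)) = secAs (G.obj a) (G.w_obj a) :=
  secAs_map (G.map k) (𝒜.p.map k)
    ((BasedFunctor.isHomLift_iff G (𝒜.p.map k) k).mpr (IsHomLift.map 𝒜.p k)) _ _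

theorem exists_iso_of_secAs (G H : 𝒜 ⥤ᵇ ofPsh P)
    (h : ∀ a : 𝒜.obj, secAs (G.obj a) (G.w_obj a) = secAs (H.obj a) (H.w_obj a)) :
    Nonempty (G ≅ H) := by
  obtain ⟨α⟩ := exists_natTrans_of_secAs G H h
  obtain ⟨β⟩ := exists_natTrans_of_secAs H G (fun a => (h a).symm)
  exact ⟨⟨α, β, natTrans_thin _ _, natTrans_thin _ _⟩⟩

end nat

/-- the functor `C/U ⟶ ofPsh P` over `C` of a section `s ∈ P(U)`. -/
def secFunctor {U : C} (s : P.obj (op U)) : FibCat.overCat U ⥤ᵇ ofPsh P where
  toFunctor :=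
    { obj := fun X => ⟨X.left, P.map X.hom.op s⟩
      map := fun {X Y} k => ⟨k.left, by
        change P.map k.left.op (P.map Y.hom.op s) = P.map X.hom.op s
        rw [← FunctorToTypes.map_comp_apply, ← op_comp, Over.w k]⟩
      map_id := fun X => EltObj.hom_ext rfl
      map_comp := fun f g => EltObj.hom_ext rfl }
  w := rfl

theorem secFunctor_secAs {U : C} (s : P.obj (op U)) (X : Over U)
    (h : ((secFunctor s).obj X).base = X.left) :
    secAs ((secFunctor s).obj X) h = P.map X.hom.op s :=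
  secAs_self ((secFunctor s).obj X) h

/-- the functor `sieveCat R ⟶ ofPsh P` over `C` of a compatible family. -/
def famFunctor {U : C} (R : Sieve U) (x : Presieve.FamilyOfElements P R.arrows)
    (hx : x.Compatible) : Stk.sieveCat R ⥤ᵇ ofPsh P where
  toFunctor :=
    { obj := fun a => ⟨a.obj.left, x a.obj.hom a.property⟩
      map := fun {a b} k => ⟨k.hom.left, by
        have := hx k.hom.left (𝟙 _) b.property a.property
          (by rw [Category.id_comp]; exact Over.w k.hom)
        simpa using this⟩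
      map_id := fun X => EltObj.hom_ext rfl
      map_comp := fun f g => EltObj.hom_ext rfl }
  w := rfl

theorem isStack_of_isSheaf (J : GrothendieckTopology C) (hP : Presieve.IsSheaf J P) :
    Stk.IsStack J (ofPsh P) := by
  refine ⟨inferInstance, fun U R hR => ?_⟩
  have hsh := hP R hR
  refine { faithful := ⟨fun {G H} α β _ => natTrans_thin α β⟩
           full := ⟨fun {G H} β => ?_⟩
           essSurj := ⟨fun D => ?_⟩ }
  · -- full
    have hsec : ∀ X : Over U, secAs (G.obj X) (G.w_obj X) = secAs (H.obj X) (H.w_obj X) := by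
      intro X
      have hS : R.pullback X.hom ∈ J X.left := J.pullback_stable X.hom hR
      refine (hP _ hS).isSeparatedFor.ext ?_
      intro V f hf
      have hf' : R (f ≫ X.hom) := hf
      let a : (Stk.sieveCat R).obj := ⟨Over.mk (f ≫ X.hom), hf'⟩
      let k : a.obj ⟶ X := Over.homMk f rfl
      have e1 := secAs_functor_map G k
      have e2 := secAs_functor_map H k
      have e3 := secAs_eq_of_natTrans β a
      exact e1.trans (e3.trans e2.symm)
    obtain ⟨α⟩ := exists_natTrans_of_secAs G H hsec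
    exact ⟨α, natTrans_thin _ _⟩
  · -- essentially surjective
    let x : Presieve.FamilyOfElements P R.arrows := fun V f hf =>
      secAs (D.obj ⟨Over.mk f, hf⟩) (D.w_obj _)
    have hx : x.Compatible := by
      rw [Presieve.compatible_iff_sieveCompatible]
      intro V W f g hf
      let a : (Stk.sieveCat R).obj := ⟨Over.mk f, hf⟩
      let a' : (Stk.sieveCat R).obj := ⟨Over.mk (g ≫ f), R.downward_closed hf g⟩
      let k : a' ⟶ a := ObjectProperty.homMk (Over.homMk g rfl)
      exact (secAs_functor_map D k).symm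
    obtain ⟨s, hs, -⟩ := hsh x hx
    refine ⟨secFunctor s, ?_⟩
    refine exists_iso_of_secAs _ _ ?_
    intro a
    have e1 : secAs (((Stk.resSieve R (ofPsh P)).obj (secFunctor s)).obj a)
        (((Stk.resSieve R (ofPsh P)).obj (secFunctor s)).w_obj a) = P.map a.obj.hom.op s :=
      secFunctor_secAs s a.obj _
    rw [e1, hs a.obj.hom a.property]
    rfl

theorem isSheaf_of_isStack (J : GrothendieckTopology C) (h : Stk.IsStack J (ofPsh P)) :
    Presieve.IsSheaf J P := by
  intro U R hR
  have heq := h.2 R hR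
  intro x hx
  obtain ⟨G, ⟨e⟩⟩ := heq.essSurj.mem_essImage (famFunctor R x hx)
  have hG : ∀ (V : C) (f : V ⟶ U) (hf : R f),
      P.map f.op (secAs (G.obj (Groth.Agent.H32.Split.T U)) (G.w_obj _)) = x f hf := by
    intro V f hf
    let a : (Stk.sieveCat R).obj := ⟨Over.mk f, hf⟩
    let τ : a.obj ⟶ Groth.Agent.H32.Split.T U := Over.homMk f (Category.comp_id f)
    have e1 := secAs_functor_map G τ
    have e2 := secAs_eq_of_natTrans e.hom a
    have e3 : secAs ((famFunctor R x hx).obj a) ((famFunctor R x hx).w_obj a) = x f hf :=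
      secAs_self _ _
    exact e1.trans (e2.trans e3)
  refine ⟨secAs (G.obj (Groth.Agent.H32.Split.T U)) (G.w_obj _), fun V f hf => hG V f hf, ?_⟩
  intro s' hs'
  have hres : ∀ a : (Stk.sieveCat R).obj,
      secAs (((Stk.resSieve R (ofPsh P)).obj (secFunctor s')).obj a)
        (((Stk.resSieve R (ofPsh P)).obj (secFunctor s')).w_obj a) =
      secAs (((Stk.resSieve R (ofPsh P)).obj
        (secFunctor (secAs (G.obj (Groth.Agent.H32.Split.T U)) (G.w_obj _)))).obj a)
        (((Stk.resSieve R (ofPsh P)).obj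
          (secFunctor (secAs (G.obj (Groth.Agent.H32.Split.T U)) (G.w_obj _)))).w_obj a) := by
    intro a
    have e1 : secAs (((Stk.resSieve R (ofPsh P)).obj (secFunctor s')).obj a)
        (((Stk.resSieve R (ofPsh P)).obj (secFunctor s')).w_obj a) = P.map a.obj.hom.op s' :=
      secFunctor_secAs s' a.obj _
    have e2 : secAs (((Stk.resSieve R (ofPsh P)).obj
        (secFunctor (secAs (G.obj (Groth.Agent.H32.Split.T U)) (G.w_obj _)))).obj a)
        (((Stk.resSieve R (ofPsh P)).obj
          (secFunctor (secAs (G.obj (Groth.Agent.H32.Split.T U)) (G.w_obj _)))).w_obj a) =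
        P.map a.obj.hom.op (secAs (G.obj (Groth.Agent.H32.Split.T U)) (G.w_obj _)) :=
      secFunctor_secAs _ a.obj _
    rw [e1, e2, hs' a.obj.hom a.property, hG _ a.obj.hom a.property]
  obtain ⟨β⟩ := exists_natTrans_of_secAs _ _ hres
  obtain ⟨α, -⟩ := heq.full.map_surjective β
  have e := secAs_eq_of_natTrans α (Groth.Agent.H32.Split.T U)
  have e1 := secFunctor_secAs s' (Groth.Agent.H32.Split.T U)
    ((secFunctor s').w_obj (Groth.Agent.H32.Split.T U))
  have e2 := secFunctor_secAs (secAs (G.obj (Groth.Agent.H32.Split.T U)) (G.w_obj _))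
    (Groth.Agent.H32.Split.T U)
    ((secFunctor (secAs (G.obj (Groth.Agent.H32.Split.T U)) (G.w_obj _))).w_obj
      (Groth.Agent.H32.Split.T U))
  have e3 := e1.symm.trans (e.trans e2)
  have h4 : ∀ t : P.obj (op U), P.map (𝟙 U).op t = t := fun t => by simp
  have e3' : P.map (𝟙 U).op s' =
      P.map (𝟙 U).op (secAs (G.obj (Groth.Agent.H32.Split.T U)) (G.w_obj _)) := e3
  exact (h4 s').symm.trans (e3'.trans (h4 _))

end Groth.Agent.H32.PshStack
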