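import Groth.Prelude.Def_AlgSt
import Groth.Agent.H32.StkFp

/-!
# A category fibred in groupoids over a stack all of whose base changes to slices are stacks is a
stack (helper32)
-/

set_option autoImplicit false
open CategoryTheory
universe v₅ u₅ v₄ u₄ v₃ u₃ v₂ u₂ v u

namespace Groth.Agent.H32.RepStack

open FibCat Groth.Agent.H32.FibProd Groth.Agent.H32.StkFp

variable {C : Type u} [Category.{v} C]

section aux
variable {𝒜 : BasedCategory.{v₅, u₅} C} {𝒵 : BasedCategory.{v₂, u₂} C}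

/-- every 2-morphism between functors over `C` into a category fibred in groupoids is invertible. -/
theorem isIso_natTrans (h : IsFibGrpd 𝒵.p) {G H : 𝒜 ⥤ᵇ 𝒵} (ε : G ⟶ H) : IsIso ε := by
  have hiso_app : ∀ a, IsIso (ε.toNatTrans.app a) := fun a => by
    have hl : 𝒵.p.IsHomLift (𝟙 (𝒜.p.obj a)) (ε.toNatTrans.app a) := ε.isHomLift' a
    exact isIso_of_isFibGrpd 𝒵.p h (𝟙 (𝒜.p.obj a)) (ε.toNatTrans.app a)
  have h5 : IsIso (X := G.toFunctor) ε.toNatTrans := NatIso.isIso_of_isIso_app _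
  exact BasedNatIso.isIso_of_toNatTrans_isIso ε

end aux

section main
variable {𝒜 : BasedCategory.{v₅, u₅} C} {ℬ : BasedCategory.{v₄, u₄} C} (ι : 𝒜 ⥤ᵇ ℬ)
  {𝒳 : BasedCategory.{v₂, u₂} C} {𝒴 : BasedCategory.{v₃, u₃} C} (j : 𝒳 ⥤ᵇ 𝒴)

/-- the lift of `H : ℬ ⟶ 𝒳` to the fibre product `ℬ ×_𝒴 𝒳` along `y = G ⋙ j`, given a
2-morphism `σ : G ⋙ j ⟶ H ⋙ j`. -/
noncomputable def lift (h𝒴 : IsFibGrpd 𝒴.p) (G H : ℬ ⥤ᵇ 𝒳)
    (σ : BasedFunctor.comp G j ⟶ BasedFunctor.comp H j) : ℬ ⥤ᵇ fp (BasedFunctor.comp G j) j :=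
  haveI := isIso_natTrans h𝒴 σ
  fpLift (F := BasedFunctor.comp G j) (G := j) (BasedFunctor.id ℬ) H
    (asIso σ : BasedFunctor.comp G j ≅ BasedFunctor.comp H j)

theorem lift_iso_hom (h𝒴 : IsFibGrpd 𝒴.p) (G H : ℬ ⥤ᵇ 𝒳)
    (σ : BasedFunctor.comp G j ⟶ BasedFunctor.comp H j) (X : ℬ.obj) :
    ((lift j h𝒴 G H σ).obj X).obj.iso.hom = σ.toNatTrans.app X := rfl

theorem restr_faithful (h𝒳 : IsFibGrpd 𝒳.p) (h𝒴 : IsFibGrpd 𝒴.p)
    (h1 : (Stk.restr ι 𝒴).Faithful)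
    (h2 : ∀ y : ℬ ⥤ᵇ 𝒴, (Stk.restr ι (fp y j)).Faithful) : (Stk.restr ι 𝒳).Faithful := by
  refine ⟨fun {G H} α β hαβ => ?_⟩
  have hαβ' : ∀ a, α.toNatTrans.app (ι.obj a) = β.toNatTrans.app (ι.obj a) := fun a =>
    congrArg (fun δ => δ.toNatTrans.app a) hαβ
  have e0 : BasedCategory.whiskerRight α j = BasedCategory.whiskerRight β j := by
    apply (Stk.restr ι 𝒴).map_injective
    apply BasedNatTrans.homCategory.ext
    ext a
    change j.map (α.toNatTrans.app (ι.obj a)) = j.map (β.toNatTrans.app (ι.obj a))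
    rw [hαβ' a]
  have e0' : ∀ X, j.map (α.toNatTrans.app X) = j.map (β.toNatTrans.app X) := fun X =>
    congrArg (fun δ => δ.toNatTrans.app X) e0
  let G' := lift j h𝒴 G G (𝟙 _)
  let H' := lift j h𝒴 G H (BasedCategory.whiskerRight α j)
  have wα : ∀ X, (BasedFunctor.comp G j).map (𝟙 X) ≫ (H'.obj X).obj.iso.hom =
      (G'.obj X).obj.iso.hom ≫ j.map (α.toNatTrans.app X) := by
    intro X
    change (BasedFunctor.comp G j).map (𝟙 X) ≫ j.map (α.toNatTrans.app X) =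
      𝟙 _ ≫ j.map (α.toNatTrans.app X)
    rw [(BasedFunctor.comp G j).toFunctor.map_id]
    rfl
  have wβ : ∀ X, (BasedFunctor.comp G j).map (𝟙 X) ≫ (H'.obj X).obj.iso.hom =
      (G'.obj X).obj.iso.hom ≫ j.map (β.toNatTrans.app X) := by
    intro X
    change (BasedFunctor.comp G j).map (𝟙 X) ≫ j.map (α.toNatTrans.app X) =
      𝟙 _ ≫ j.map (β.toNatTrans.app X)
    rw [(BasedFunctor.comp G j).toFunctor.map_id, e0' X]
    rfl
  let α' : G' ⟶ H' :=
    { app := fun X => mkHom (BasedFunctor.comp G j) j (𝟙 X) (α.toNatTrans.app X) (wα X)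
      naturality := fun X X' k => fp_hom_ext _ _
        ((Category.comp_id k).trans (Category.id_comp k).symm) (α.toNatTrans.naturality k)
      isHomLift' := fun X => (fp_isHomLift_iff _ _ _ _).mpr (IsHomLift.id rfl) }
  let β' : G' ⟶ H' :=
    { app := fun X => mkHom (BasedFunctor.comp G j) j (𝟙 X) (β.toNatTrans.app X) (wβ X)
      naturality := fun X X' k => fp_hom_ext _ _
        ((Category.comp_id k).trans (Category.id_comp k).symm) (β.toNatTrans.naturality k)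
      isHomLift' := fun X => (fp_isHomLift_iff _ _ _ _).mpr (IsHomLift.id rfl) }
  have e1 : α' = β' := by
    apply (h2 (BasedFunctor.comp G j)).map_injective
    apply BasedNatTrans.homCategory.ext
    refine NatTrans.ext (funext fun a => ?_)
    exact fp_hom_ext _ _ rfl (hαβ' a)
  apply BasedNatTrans.homCategory.ext
  refine NatTrans.ext (funext fun X => ?_)
  exact congrArg (fun δ => (δ.toNatTrans.app X).hom.snd) e1

theorem restr_full (h𝒳 : IsFibGrpd 𝒳.p) (h𝒴 : IsFibGrpd 𝒴.p)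
    (h1 : (Stk.restr ι 𝒴).Full)
    (h2 : ∀ y : ℬ ⥤ᵇ 𝒴, (Stk.restr ι (fp y j)).Full) : (Stk.restr ι 𝒳).Full := by
  refine ⟨fun {G H} β => ?_⟩
  obtain ⟨σ, hσ⟩ := h1.map_surjective
    (show (Stk.restr ι 𝒴).obj (BasedFunctor.comp G j) ⟶ (Stk.restr ι 𝒴).obj (BasedFunctor.comp H j)
      from BasedCategory.whiskerRight β j)
  have hσ' : ∀ a, σ.toNatTrans.app (ι.obj a) = j.map (β.toNatTrans.app a) := fun a =>
    congrArg (fun δ => δ.toNatTrans.app a) hσ
  let G' := lift j h𝒴 G G (𝟙 _)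
  let H' := lift j h𝒴 G H σ
  have wβ : ∀ a, (BasedFunctor.comp G j).map (𝟙 (ι.obj a)) ≫ (H'.obj (ι.obj a)).obj.iso.hom =
      (G'.obj (ι.obj a)).obj.iso.hom ≫ j.map (β.toNatTrans.app a) := by
    intro a
    change (BasedFunctor.comp G j).map (𝟙 (ι.obj a)) ≫ σ.toNatTrans.app (ι.obj a) =
      𝟙 _ ≫ j.map (β.toNatTrans.app a)
    rw [(BasedFunctor.comp G j).toFunctor.map_id, hσ' a]
    rfl
  let β' : (Stk.restr ι (fp (BasedFunctor.comp G j) j)).obj G' ⟶
      (Stk.restr ι (fp (BasedFunctor.comp G j) j)).obj H' :=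
    { app := fun a => mkHom (BasedFunctor.comp G j) j (𝟙 (ι.obj a)) (β.toNatTrans.app a) (wβ a)
      naturality := fun a a' k => fp_hom_ext _ _
        ((Category.comp_id (ι.map k)).trans (Category.id_comp (ι.map k)).symm)
        (β.toNatTrans.naturality k)
      isHomLift' := fun a => (fp_isHomLift_iff _ _ _ _).mpr (IsHomLift.id (ι.w_obj a)) }
  obtain ⟨α', hα'⟩ := (h2 (BasedFunctor.comp G j)).map_surjective β'
  have hα'' : ∀ a, (α'.toNatTrans.app (ι.obj a)).hom.snd = β.toNatTrans.app a := fun a =>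
    congrArg (fun δ => (δ.toNatTrans.app a).hom.snd) hα'
  refine ⟨{ app := fun X => (α'.toNatTrans.app X).hom.snd
            naturality := fun X X' k =>
              congrArg (fun m => m.hom.snd) (α'.toNatTrans.naturality k)
            isHomLift' := fun X =>
              haveI := α'.isHomLift' X
              fp_isHomLift_snd' _ _ (𝟙 (ℬ.p.obj X)) (α'.toNatTrans.app X) }, ?_⟩
  apply BasedNatTrans.homCategory.ext
  refine NatTrans.ext (funext fun a => ?_)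
  exact hα'' a

theorem restr_essSurj (h𝒳 : IsFibGrpd 𝒳.p)
    (h1 : (Stk.restr ι 𝒴).EssSurj)
    (h2 : ∀ y : ℬ ⥤ᵇ 𝒴, (Stk.restr ι (fp y j)).EssSurj) : (Stk.restr ι 𝒳).EssSurj := by
  refine ⟨fun D => ?_⟩
  obtain ⟨y, ⟨θ⟩⟩ := h1.mem_essImage (BasedFunctor.comp D j)
  let D' : 𝒜 ⥤ᵇ fp y j := fpLift (F := y) (G := j) ι D θ
  obtain ⟨G', ⟨ε⟩⟩ := (h2 y).mem_essImage D'
  let ε' : (Stk.restr ι 𝒳).obj (BasedFunctor.comp G' (fpSnd y j)) ⟶ D :=
    { app := fun a => (ε.hom.toNatTrans.app a).hom.snd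
      naturality := fun a a' k =>
        congrArg (fun m => m.hom.snd) (ε.hom.toNatTrans.naturality k)
      isHomLift' := fun a =>
        haveI := ε.hom.isHomLift' a
        fp_isHomLift_snd' _ _ (𝟙 (𝒜.p.obj a)) (ε.hom.toNatTrans.app a) }
  haveI := isIso_natTrans h𝒳 ε'
  exact ⟨BasedFunctor.comp G' (fpSnd y j), ⟨asIso ε'⟩⟩

end main

/-- a category fibred in groupoids over a stack `𝒴`, all of whose base changes along functors
`C/U ⟶ 𝒴` are stacks, is a stack. -/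
theorem isStack_of_fp_isStack (J : GrothendieckTopology C) {𝒳 𝒴 : BasedCategory.{v, max u v} C}
    (h𝒳 : IsFibGrpd 𝒳.p) (h𝒴 : Stk.IsStack J 𝒴) (j : 𝒳 ⥤ᵇ 𝒴)
    (hfp : ∀ (U : C) (y : FibCat.overCat U ⥤ᵇ 𝒴), Stk.IsStack J (fp y j)) :
    Stk.IsStack J 𝒳 := by
  refine ⟨h𝒳, fun U R hR => ?_⟩
  have h1 := h𝒴.2 R hR
  have h2 : ∀ y : FibCat.overCat U ⥤ᵇ 𝒴, (Stk.resSieve R (fp y j)).IsEquivalence := fun y =>
    (hfp U y).2 R hR
  exact { faithful := restr_faithful (Stk.sieveIncl R) j h𝒳 h𝒴.1 h1.faithful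
            (fun y => (h2 y).faithful)
          full := restr_full (Stk.sieveIncl R) j h𝒳 h𝒴.1 h1.full (fun y => (h2 y).full)
          essSurj := restr_essSurj (Stk.sieveIncl R) j h𝒳 h1.essSurj
            (fun y => (h2 y).essSurj) }

end Groth.Agent.H32.RepStack
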