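import Groth.Agent.H32.PFacts
import Groth.Agent.H32.AtlasRep
import Groth.Agent.S12780
import Groth.Agent.S12767

/-!
# Operations on 1-morphisms representable by algebraic spaces with a property (helper32)
-/

set_option autoImplicit false
open CategoryTheory CategoryTheory.Limits AlgebraicGeometry Opposite
universe u

namespace Groth.Agent.H32.StackOps

open FibCat Stk Groth.Agent.H32.FibProd Groth.Agent.H32.Fp2 Groth.Agent.H32.Fp3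
  Groth.Agent.H32.Fp4 Groth.Agent.H32.SpBridge Groth.Agent.H32.PFacts
  Groth.Agent.H32.AlgStackEquiv Groth.Agent.H32.AtlasRep Groth.Agent.H32.SpComp

variable {S : Scheme.{u}}

theorem with_comp {P : MorphismProperty (AlgSp.Sp S)} (hG : Good P) {𝒳 𝒴 𝒵 : AlgSt.Cat S}
    (h𝒳 : IsFibGrpd 𝒳.p) (h𝒴 : IsFibGrpd 𝒴.p) (h𝒵 : IsFibGrpd 𝒵.p) (f : 𝒳 ⥤ᵇ 𝒴) (g : 𝒴 ⥤ᵇ 𝒵)
    (hf : AlgSt.RepByAlgSpWith P f) (hg : AlgSt.RepByAlgSpWith P g) :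
    AlgSt.RepByAlgSpWith P (BasedFunctor.comp f g) :=
  Groth.Agent.S12780.result h𝒳 h𝒴 h𝒵 P hG.bc hG.comp hG.loc f g hf hg

theorem with_of_iso (P : MorphismProperty (AlgSp.Sp S)) {𝒳 𝒴 : AlgSt.Cat S}
    (h𝒳 : IsFibGrpd 𝒳.p) (h𝒴 : IsFibGrpd 𝒴.p) {f f' : 𝒳 ⥤ᵇ 𝒴} (e : f' ≅ f)
    (hf : AlgSt.RepByAlgSpWith P f) : AlgSt.RepByAlgSpWith P f' :=
  (Groth.Agent.S12782.result h𝒳 h𝒴 h𝒳 h𝒴 P f f' (BasedFunctor.id _) (BasedFunctor.id _)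
    (isEquivOver_id _) (isEquivOver_id _) e).mp hf

/-- precomposition with an equivalence. -/
theorem with_precomp_equiv (P : MorphismProperty (AlgSp.Sp S)) {𝒳' 𝒳 𝒴 : AlgSt.Cat S}
    (h𝒳' : IsFibGrpd 𝒳'.p) (h𝒳 : IsFibGrpd 𝒳.p) (h𝒴 : IsFibGrpd 𝒴.p) (a : 𝒳' ⥤ᵇ 𝒳)
    (ha : IsEquivOver a) (f : 𝒳 ⥤ᵇ 𝒴) (hf : AlgSt.RepByAlgSpWith P f) :
    AlgSt.RepByAlgSpWith P (BasedFunctor.comp a f) :=
  (Groth.Agent.S12782.result h𝒳 h𝒴 h𝒳' h𝒴 P f (BasedFunctor.comp a f) a (BasedFunctor.id _)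
    ha (isEquivOver_id _) (Iso.refl _)).mp hf

theorem repByAlgSp1_comp {𝒳 𝒴 𝒵 : AlgSt.Cat S}
    (h𝒳 : IsFibGrpd 𝒳.p) (h𝒴 : IsFibGrpd 𝒴.p) (h𝒵 : IsFibGrpd 𝒵.p) (f : 𝒳 ⥤ᵇ 𝒴) (g : 𝒴 ⥤ᵇ 𝒵)
    (hf : AlgSt.RepByAlgSp1 f) (hg : AlgSt.RepByAlgSp1 g) :
    AlgSt.RepByAlgSp1 (BasedFunctor.comp f g) :=
  (repByAlgSp1_iff_top _).mpr (with_comp good_top h𝒳 h𝒴 h𝒵 f g
    ((repByAlgSp1_iff_top _).mp hf) ((repByAlgSp1_iff_top _).mp hg))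

theorem repByAlgSp1_fpSnd {𝒳 𝒴 𝒵 : AlgSt.Cat S} (z : 𝒵 ⥤ᵇ 𝒴) (f : 𝒳 ⥤ᵇ 𝒴)
    (hz : AlgSt.RepByAlgSp1 z) : AlgSt.RepByAlgSp1 (fpSnd z f) :=
  (repByAlgSp1_iff_top _).mpr (repByAlgSpWith_fpSnd _ z f ((repByAlgSp1_iff_top _).mp hz))

/-- if `j : 𝒳 ⟶ 𝒴` is representable by algebraic spaces and the diagonal of `𝒴` is, then every
`(Sch/U) ⟶ 𝒳` is representable by algebraic spaces. -/
theorem repByAlgSp1_of_target_diag {𝒳 𝒴 : AlgSt.Cat S} (h𝒳 : IsFibGrpd 𝒳.p)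
    (h𝒴 : IsFibGrpd 𝒴.p) (hΔ : AlgSt.RepByAlgSp1 (FibCat.diag (FibCat.toSelf 𝒴)))
    (j : 𝒳 ⥤ᵇ 𝒴) (hj : AlgSt.RepByAlgSp1 j) (U : Over S) (x : FibCat.overCat U ⥤ᵇ 𝒳) :
    AlgSt.RepByAlgSp1 x := by
  have hxj : AlgSt.RepByAlgSp1 (BasedFunctor.comp x j) :=
    (Groth.Agent.S12765.result h𝒴).mp hΔ U _
  have h2 : AlgSt.RepByAlgSp1 (fpSnd (BasedFunctor.comp x j) j) := repByAlgSp1_fpSnd _ j hxj
  let s : FibCat.overCat U ⥤ᵇ fp (BasedFunctor.comp x j) j :=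
    fpLift (F := BasedFunctor.comp x j) (G := j) (BasedFunctor.id _) x (Iso.refl _)
  have h1 : AlgSt.RepByAlgSp1 s :=
    repByAlgSp1_of_repByAlgSp (Groth.Agent.H32.Prod.repByAlgSp_overCat U) (hj U _) s
  have hfp : IsFibGrpd (fp (BasedFunctor.comp x j) j).p :=
    Groth.Agent.H32.Repr.fp_isFibGrpd _ _ (Groth.Agent.S6411.over_isFibGrpd U) h𝒳 h𝒴
  exact repByAlgSp1_comp (Groth.Agent.S6411.over_isFibGrpd U) hfp h𝒳 s _ h1 h2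

theorem ofSp_isFibGrpd (F : AlgSp.Sp S) : IsFibGrpd (AlgSt.ofSp F).p :=
  inferInstanceAs (IsFibGrpd (EltObj.forget _))

/-- a smooth surjective chart from an algebraic space gives a smooth surjective atlas from a
scheme. -/
theorem hasAtlas_smooth_of_space_chart {𝒳 : AlgSt.Cat S} (h𝒳 : IsFibGrpd 𝒳.p) (F : AlgSp.Space S)
    (z : AlgSt.ofSp F.obj ⥤ᵇ 𝒳) (hz1 : AlgSt.RepByAlgSpWith (AlgSp.LocP @Smooth) z)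
    (hz2 : AlgSt.RepByAlgSpWith AlgSp.IsSurjectiveMor z) :
    AlgSt.HasAtlas (AlgSp.LocP @Smooth) 𝒳 := by
  obtain ⟨⟨T, x₀, h1, h2⟩, -⟩ := hasAtlas_ofSp F
  exact ⟨T, BasedFunctor.comp x₀ z,
    with_comp good_smooth (Groth.Agent.S6411.over_isFibGrpd T) (ofSp_isFibGrpd F.obj) h𝒳 x₀ z h1 hz1,
    with_comp good_surjective (Groth.Agent.S6411.over_isFibGrpd T) (ofSp_isFibGrpd F.obj) h𝒳 x₀ z
      h2 hz2⟩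

/-- `j : 𝒳 ⟶ 𝒴` representable by algebraic spaces with `𝒴` an algebraic stack: `𝒳` is an
algebraic stack. -/
theorem isAlgStack_of_repByAlgSp1 {𝒳 𝒴 : AlgSt.Cat S} (h𝒳 : IsFibGrpd 𝒳.p)
    (h𝒴 : AlgSt.IsAlgStack Scheme.fppfPrecoverage 𝒴) (j : 𝒳 ⥤ᵇ 𝒴) (hj : AlgSt.RepByAlgSp1 j) :
    AlgSt.IsAlgStack Scheme.fppfPrecoverage 𝒳 := by
  refine ⟨Groth.Agent.S12767.result h𝒳 h𝒴.isStack j hj, ?_, ?_⟩
  · exact (Groth.Agent.S12765.result h𝒳).mpr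
      (fun U x => repByAlgSp1_of_target_diag h𝒳 h𝒴.isStack.1 h𝒴.diag j hj U x)
  · obtain ⟨U, y, hy1, hy2⟩ := h𝒴.atlas
    obtain ⟨F, eF, heF⟩ := hj U y
    have hfp : IsFibGrpd (fp y j).p :=
      Groth.Agent.H32.Repr.fp_isFibGrpd _ _ (Groth.Agent.S6411.over_isFibGrpd U) h𝒳 h𝒴.isStack.1
    exact hasAtlas_smooth_of_space_chart h𝒳 F (BasedFunctor.comp eF (fpSnd y j))
      (with_precomp_equiv _ (ofSp_isFibGrpd F.obj) hfp h𝒳 eF heF _ (repByAlgSpWith_fpSnd _ y j hy1))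
      (with_precomp_equiv _ (ofSp_isFibGrpd F.obj) hfp h𝒳 eF heF _ (repByAlgSpWith_fpSnd _ y j hy2))

end Groth.Agent.H32.StackOps
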