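import Groth.Agent.H32.Sect
import Groth.Agent.H32.StackOps
import Groth.Agent.S12779
import Groth.Agent.S12782

/-!
# Sections, graphs, diagonals of base changes and composites: `RepByAlgSpWith` level (helper32)
-/

set_option autoImplicit false
open CategoryTheory CategoryTheory.Limits AlgebraicGeometry Opposite
universe u

namespace Groth.Agent.H32.SectSt

open FibCat Stk Groth.Agent.H32.FibProd Groth.Agent.H32.Fp2 Groth.Agent.H32.Fp3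
  Groth.Agent.H32.Fp4 Groth.Agent.H32.SpBridge Groth.Agent.H32.PFacts
  Groth.Agent.H32.AlgStackEquiv Groth.Agent.H32.AtlasRep Groth.Agent.H32.SpComp
  Groth.Agent.H32.StackOps Groth.Agent.H32.Magic Groth.Agent.H32.Sect Groth.Agent.H32.Repr

variable {S : Scheme.{u}}

/-- **Section lemma.** If the diagonal of `f : 𝒳 ⟶ 𝒴` is representable by algebraic spaces with
`P`, then so is the graph-type section `(id, q, ι) : 𝒲 ⟶ 𝒲 ×_𝒴 𝒳` for every `q : 𝒲 ⟶ 𝒳`. -/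
theorem with_sec (P : MorphismProperty (AlgSp.Sp S)) {𝒲 𝒳 𝒴 : AlgSt.Cat S}
    (h𝒲 : IsFibGrpd 𝒲.p) (h𝒳 : IsFibGrpd 𝒳.p) (h𝒴 : IsFibGrpd 𝒴.p)
    (f : 𝒳 ⥤ᵇ 𝒴) (q : 𝒲 ⥤ᵇ 𝒳) (k : 𝒲 ⥤ᵇ 𝒴)
    (ι : BasedFunctor.comp (BasedFunctor.id 𝒲) k ≅ BasedFunctor.comp q f)
    (hΔ : AlgSt.RepByAlgSpWith P (FibCat.diag f)) :
    AlgSt.RepByAlgSpWith P (FibCat.fpLift (F := k) (G := f) (BasedFunctor.id 𝒲) q ι) := by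
  have hff : IsFibGrpd (fp f f).p := fp_isFibGrpd f f h𝒳 h𝒳 h𝒴
  have h1 : IsFibGrpd (fp (BasedFunctor.comp q f) (BasedFunctor.comp (BasedFunctor.id 𝒳) f)).p :=
    fp_isFibGrpd _ _ h𝒲 h𝒳 h𝒴
  have h2 : IsFibGrpd (fp (prodF q (BasedFunctor.id 𝒳) f) (diag f)).p :=
    fp_isFibGrpd _ _ h1 h𝒳 hff
  have h3 : IsFibGrpd (fp k f).p := fp_isFibGrpd _ _ h𝒲 h𝒳 h𝒴
  have hπ : AlgSt.RepByAlgSpWith P (fpFst (prodF q (BasedFunctor.id 𝒳) f) (diag f)) :=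
    Groth.Agent.S12779.result h𝒳 hff h1 P (diag f) (prodF q (BasedFunctor.id 𝒳) f) hΔ
  exact (Groth.Agent.S12782.result h𝒲 h3 h2 h1 P (sec f q k ι)
    (fpFst (prodF q (BasedFunctor.id 𝒳) f) (diag f)) (secA f q) (secB f q k ι)
    (secA_isEquivOver f q) (secB_isEquivOver f q k ι) (secIso f q k ι)).mpr hπ

/-- postcomposition with an equivalence. -/
theorem with_postcomp_equiv (P : MorphismProperty (AlgSp.Sp S)) {𝒳 𝒴 𝒵 : AlgSt.Cat S}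
    (h𝒳 : IsFibGrpd 𝒳.p) (h𝒴 : IsFibGrpd 𝒴.p) (h𝒵 : IsFibGrpd 𝒵.p) (σ : 𝒳 ⥤ᵇ 𝒴) (E : 𝒴 ⥤ᵇ 𝒵)
    (hE : IsEquivOver E) :
    AlgSt.RepByAlgSpWith P (BasedFunctor.comp σ E) ↔ AlgSt.RepByAlgSpWith P σ :=
  Groth.Agent.S12782.result h𝒳 h𝒵 h𝒳 h𝒴 P (BasedFunctor.comp σ E) σ (BasedFunctor.id _) E
    (isEquivOver_id _) hE (Iso.refl _)

/-- a section of `f` has the property of the diagonal of `f`. -/
theorem with_section (P : MorphismProperty (AlgSp.Sp S)) {𝒳 𝒯 : AlgSt.Cat S}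
    (h𝒳 : IsFibGrpd 𝒳.p) (h𝒯 : IsFibGrpd 𝒯.p) (f : 𝒳 ⥤ᵇ 𝒯) (s : 𝒯 ⥤ᵇ 𝒳)
    (e : BasedFunctor.comp s f ≅ BasedFunctor.id 𝒯)
    (hΔ : AlgSt.RepByAlgSpWith P (FibCat.diag f)) : AlgSt.RepByAlgSpWith P s := by
  have h1 := with_sec P h𝒯 h𝒳 h𝒯 f s (BasedFunctor.id 𝒯) e.symm hΔ
  have h3 : IsFibGrpd (fp (BasedFunctor.id 𝒯) f).p := fp_isFibGrpd _ _ h𝒯 h𝒳 h𝒯
  exact (with_postcomp_equiv P h𝒯 h3 h𝒳 _ (fpSnd (BasedFunctor.id 𝒯) f)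
    (fpSnd_isEquivOver _ _ (isEquivOver_id _))).mpr h1

/-- the diagonal of a base change has the property of the diagonal. -/
theorem with_diag_fpFst (P : MorphismProperty (AlgSp.Sp S)) {𝒳 𝒴 𝒵 : AlgSt.Cat S}
    (h𝒳 : IsFibGrpd 𝒳.p) (h𝒴 : IsFibGrpd 𝒴.p) (h𝒵 : IsFibGrpd 𝒵.p)
    (g : 𝒵 ⥤ᵇ 𝒴) (f : 𝒳 ⥤ᵇ 𝒴) (hΔ : AlgSt.RepByAlgSpWith P (FibCat.diag f)) :
    AlgSt.RepByAlgSpWith P (FibCat.diag (FibCat.fpFst g f)) := by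
  have hgf : IsFibGrpd (fp g f).p := fp_isFibGrpd _ _ h𝒵 h𝒳 h𝒴
  have h1 : AlgSt.RepByAlgSpWith P (bcSec g f) :=
    with_sec P hgf h𝒳 h𝒴 f (fpSnd g f) (BasedFunctor.comp (fpFst g f) g) (fpIso g f) hΔ
  have h2 : IsFibGrpd (fp (BasedFunctor.comp (fpFst g f) g) f).p := fp_isFibGrpd _ _ hgf h𝒳 h𝒴
  have h3 : IsFibGrpd (fp (fpFst g f) (fpFst g f)).p := fp_isFibGrpd _ _ hgf hgf h𝒵
  have h4 := (with_postcomp_equiv P hgf h2 h3 (bcSec g f) (paste (fpFst g f) g f)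
    (paste_isEquivOver _ _ _)).mpr h1
  exact with_of_iso P hgf h3 (bcIso g f).symm h4

/-- `𝒳 ×_𝒴 𝒳 ⟶ 𝒳 ×_𝒵 𝒳` has the property of the diagonal of `g : 𝒴 ⟶ 𝒵`. -/
theorem with_diagMap (P : MorphismProperty (AlgSp.Sp S)) {𝒳 𝒴 𝒵 : AlgSt.Cat S}
    (h𝒳 : IsFibGrpd 𝒳.p) (h𝒴 : IsFibGrpd 𝒴.p) (h𝒵 : IsFibGrpd 𝒵.p)
    (f : 𝒳 ⥤ᵇ 𝒴) (g : 𝒴 ⥤ᵇ 𝒵) (hΔ : AlgSt.RepByAlgSpWith P (FibCat.diag g)) :
    AlgSt.RepByAlgSpWith P (diagMap f g) := by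
  have hff : IsFibGrpd (fp f f).p := fp_isFibGrpd _ _ h𝒳 h𝒳 h𝒴
  have hgg : IsFibGrpd (fp g g).p := fp_isFibGrpd _ _ h𝒴 h𝒴 h𝒵
  have h1 : IsFibGrpd (fp (BasedFunctor.comp f g) (BasedFunctor.comp f g)).p :=
    fp_isFibGrpd _ _ h𝒳 h𝒳 h𝒵
  have h2 : IsFibGrpd (fp (prodF f f g) (diag g)).p := fp_isFibGrpd _ _ h1 h𝒴 hgg
  have hπ : AlgSt.RepByAlgSpWith P (fpFst (prodF f f g) (diag g)) :=
    Groth.Agent.S12779.result h𝒴 hgg h1 P (diag g) (prodF f f g) hΔ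
  exact (Groth.Agent.S12782.result hff h1 h2 h1 P (diagMap f g) (fpFst (prodF f f g) (diag g))
    (magic f f g) (BasedFunctor.id _) (magic_isEquivOver f f g) (isEquivOver_id _)
    (diagMapIso f g).symm).mpr hπ

/-- the diagonal of a composite. -/
theorem with_diag_comp {P : MorphismProperty (AlgSp.Sp S)} (hG : Good P) {𝒳 𝒴 𝒵 : AlgSt.Cat S}
    (h𝒳 : IsFibGrpd 𝒳.p) (h𝒴 : IsFibGrpd 𝒴.p) (h𝒵 : IsFibGrpd 𝒵.p)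
    (f : 𝒳 ⥤ᵇ 𝒴) (g : 𝒴 ⥤ᵇ 𝒵) (hf : AlgSt.RepByAlgSpWith P (FibCat.diag f))
    (hg : AlgSt.RepByAlgSpWith P (FibCat.diag g)) :
    AlgSt.RepByAlgSpWith P (FibCat.diag (BasedFunctor.comp f g)) := by
  have hff : IsFibGrpd (fp f f).p := fp_isFibGrpd _ _ h𝒳 h𝒳 h𝒴
  have h1 : IsFibGrpd (fp (BasedFunctor.comp f g) (BasedFunctor.comp f g)).p :=
    fp_isFibGrpd _ _ h𝒳 h𝒳 h𝒵
  have h2 := with_comp hG h𝒳 hff h1 (diag f) (diagMap f g) hf (with_diagMap P h𝒳 h𝒴 h𝒵 f g hg)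
  exact with_of_iso P h𝒳 h1 (diagCompIso f g).symm h2

end Groth.Agent.H32.SectSt
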