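import Groth.Agent.H32.StPoints
import Groth.Agent.H32.StackOps
import Groth.Agent.H32.GoodMore
import Groth.Agent.H32.PFacts
import Groth.Agent.H32.SectSt

/-!
# The topology of the points of an algebraic stack (helper32)
-/

set_option autoImplicit false
universe u
open CategoryTheory CategoryTheory.Limits AlgebraicGeometry Opposite Topology

namespace Groth.Agent.H32.StTop

open FibCat Stk Groth.Agent.H32.Fp3 Groth.Agent.H32.PshStack Groth.Agent.H32.StPoints
open Groth.Agent.H32.SpBridge Groth.Agent.H32.AtlasRep Groth.Agent.H32.DiagDict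
open Groth.Agent.H32.PFacts Groth.Agent.H32.GoodMore Groth.Agent.H32.StackOps
open Groth.Agent.H32.AlgStackEquiv

variable {S : Scheme.{u}}

noncomputable section

section charts
variable {𝒳 𝒴 : AlgSt.Cat S}

theorem ofChart_comp {U : Over S} (x : FibCat.overCat U ⥤ᵇ 𝒳) (f : 𝒳 ⥤ᵇ 𝒴) (t : ↥U.left) :
    AlgSt.Points.ofChart (BasedFunctor.comp x f) t = AlgSt.Points.map f (AlgSt.Points.ofChart x t) :=
  rfl

theorem ofChart_congr {U : Over S} {x x' : FibCat.overCat U ⥤ᵇ 𝒳} (α : x ≅ x') (t : ↥U.left) :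
    AlgSt.Points.ofChart x t = AlgSt.Points.ofChart x' t := by
  rw [ofChart_eq, ofChart_eq]
  exact map_congr α _

/-- a surjective chart is surjective on points. -/
theorem ofChart_surjective (h𝒳 : AlgSt.IsAlgStack Scheme.fppfPrecoverage 𝒳) {U : Over S}
    (x : FibCat.overCat U ⥤ᵇ 𝒳) (hs : AlgSt.RepByAlgSpWith AlgSp.IsSurjectiveMor x) :
    Function.Surjective (AlgSt.Points.ofChart x) := by
  intro z
  obtain ⟨w, rfl⟩ := (surj_iff (isAlgStack_overCat U) h𝒳 x (repByAlgSp1_of_with hs)).2 hs z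
  obtain ⟨t, rfl⟩ := (ptOf_bijective U).2 w
  exact ⟨t, rfl⟩

theorem continuous_map (h𝒴 : AlgSt.IsAlgStack Scheme.fppfPrecoverage 𝒴) (f : 𝒳 ⥤ᵇ 𝒴) :
    Continuous (AlgSt.Points.map f) := by
  refine continuous_def.2 fun W hW U x _ => ?_
  exact (ofChart_continuous h𝒴 U (BasedFunctor.comp x f)).isOpen_preimage W hW

theorem flat_lfp_of_smooth_chart {U : Over S} {x : FibCat.overCat U ⥤ᵇ 𝒳}
    (hx : AlgSt.RepByAlgSpWith (AlgSp.LocP @Smooth) x) :
    AlgSt.RepByAlgSpWith (AlgSp.LocP @Flat ⊓ AlgSp.LocP @LocallyOfFinitePresentation) x :=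
  Groth.Agent.H32.DiagApps.with_imp flat_lfp_of_smooth hx

/-- a smooth surjective chart is an open quotient map. -/
theorem ofChart_isOpenQuotientMap (h𝒳 : AlgSt.IsAlgStack Scheme.fppfPrecoverage 𝒳) {U : Over S}
    (x : FibCat.overCat U ⥤ᵇ 𝒳)
    (hx : AlgSt.RepByAlgSpWith (AlgSp.LocP @Flat ⊓ AlgSp.LocP @LocallyOfFinitePresentation) x)
    (hs : AlgSt.RepByAlgSpWith AlgSp.IsSurjectiveMor x) :
    IsOpenQuotientMap (AlgSt.Points.ofChart x) :=
  ⟨ofChart_surjective h𝒳 x hs, ofChart_continuous h𝒳 U x, ofChart_isOpenMap h𝒳 U x hx⟩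

end charts

section homeo

theorem ofChart_ofPoint {F : AlgSp.Sp S} {T : Over S} (g : (AlgSp.yon S).obj T ⟶ F) (t : ↥T.left) :
    AlgSt.Points.ofChart (ofPoint g.hom) t = toSt F (AlgSp.Points.ofPt g t) := rfl

theorem exists_ofPoint_iso {F : AlgSp.Sp S} {T : Over S} (b : FibCat.overCat T ⥤ᵇ AlgSt.ofSp F) :
    ∃ g : (AlgSp.yon S).obj T ⟶ F, Nonempty (ofPoint g.hom ≅ b) :=
  ⟨ObjectProperty.homMk (pointMap b), pointMap_iso b⟩

/-- the two topologies on the points of an algebraic space agree. -/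
def ptsHomeo (F : AlgSp.Space S) : AlgSp.Points F.obj ≃ₜ AlgSt.Points (AlgSt.ofSp F.obj) where
  toEquiv := ptsEquiv F.obj
  continuous_toFun := by
    refine continuous_def.2 fun W hW => AlgSp.Points.isOpen_iff.2 fun T g => ?_
    exact (ofChart_continuous (isAlgStack_ofSp F) T (ofPoint g.hom)).isOpen_preimage W hW
  continuous_invFun := by
    refine continuous_def.2 fun O hO T b _ => ?_
    obtain ⟨g, ⟨α⟩⟩ := exists_ofPoint_iso b
    have h : AlgSt.Points.ofChart b ⁻¹' (ofSt F.obj ⁻¹' O) = AlgSp.Points.ofPt g ⁻¹' O := by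
      ext t
      change ofSt F.obj (AlgSt.Points.ofChart b t) ∈ O ↔ _
      rw [← ofChart_congr α t, ofChart_ofPoint, ofSt_toSt]
      rfl
    change IsOpen (AlgSt.Points.ofChart b ⁻¹' (ofSt F.obj ⁻¹' O))
    rw [h]
    exact AlgSp.Points.isOpen_iff.1 hO T g

theorem ptsHomeo_apply (F : AlgSp.Space S) (x : AlgSp.Points F.obj) : ptsHomeo F x = toSt F.obj x := rfl

theorem ptsHomeo_map {F G : AlgSp.Space S} (a : F ⟶ G) (x : AlgSp.Points F.obj) :
    ptsHomeo G (AlgSp.Points.map a.hom x) = AlgSt.Points.map (AlgSt.ofSpMap a.hom) (ptsHomeo F x) :=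
  toSt_map a.hom x

end homeo

section maps
variable {𝒰 𝒳 : AlgSt.Cat S}

theorem ofSp_isFibGrpd' (F : AlgSp.Sp S) : IsFibGrpd (AlgSt.ofSp F).p :=
  inferInstanceAs (IsFibGrpd (EltObj.forget _))

/-- a functor out of an algebraic stack whose composite with a smooth surjective chart is flat and
locally finitely presented is open on points. -/
theorem isOpenMap_of_atlas (h𝒰 : AlgSt.IsAlgStack Scheme.fppfPrecoverage 𝒰)
    (h𝒳 : AlgSt.IsAlgStack Scheme.fppfPrecoverage 𝒳) (f : 𝒰 ⥤ᵇ 𝒳) {T : Over S}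
    (a : FibCat.overCat T ⥤ᵇ 𝒰) (ha : AlgSt.RepByAlgSpWith (AlgSp.LocP @Smooth) a)
    (hs : AlgSt.RepByAlgSpWith AlgSp.IsSurjectiveMor a)
    (haf : AlgSt.RepByAlgSpWith (AlgSp.LocP @Flat ⊓ AlgSp.LocP @LocallyOfFinitePresentation)
      (BasedFunctor.comp a f)) :
    IsOpenMap (AlgSt.Points.map f) := by
  intro O hO
  have h : AlgSt.Points.map f '' O =
      AlgSt.Points.ofChart (BasedFunctor.comp a f) '' (AlgSt.Points.ofChart a ⁻¹' O) := by
    ext z
    constructor
    · rintro ⟨w, hw, rfl⟩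
      obtain ⟨t, rfl⟩ := ofChart_surjective h𝒰 a hs w
      exact ⟨t, hw, rfl⟩
    · rintro ⟨t, ht, rfl⟩
      exact ⟨_, ht, rfl⟩
  rw [h]
  exact ofChart_isOpenMap h𝒳 T _ haf _ (hO T a ha)

theorem with_flat_lfp {𝒴 : AlgSt.Cat S} {f : 𝒴 ⥤ᵇ 𝒳}
    (h₁ : AlgSt.RepByAlgSpWith (AlgSp.LocP @Flat) f)
    (h₂ : AlgSt.RepByAlgSpWith (AlgSp.LocP @LocallyOfFinitePresentation) f) :
    AlgSt.RepByAlgSpWith (AlgSp.LocP @Flat ⊓ AlgSp.LocP @LocallyOfFinitePresentation) f :=
  with_inf (locP_precomp_iso @LocallyOfFinitePresentation) h₁ h₂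

theorem good_flat_lfp :
    Good (AlgSp.LocP (S := S) @Flat ⊓ AlgSp.LocP @LocallyOfFinitePresentation) :=
  good_inf good_flat good_lfp

/-- a flat, locally finitely presented functor between algebraic stacks is open on points. -/
theorem isOpenMap_of_flat_lfp (h𝒰 : AlgSt.IsAlgStack Scheme.fppfPrecoverage 𝒰)
    (h𝒳 : AlgSt.IsAlgStack Scheme.fppfPrecoverage 𝒳) (f : 𝒰 ⥤ᵇ 𝒳)
    (hf : AlgSt.RepByAlgSpWith (AlgSp.LocP @Flat ⊓ AlgSp.LocP @LocallyOfFinitePresentation) f) :
    IsOpenMap (AlgSt.Points.map f) := by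
  obtain ⟨T, a, ha, hs⟩ := h𝒰.atlas
  exact isOpenMap_of_atlas h𝒰 h𝒳 f a ha hs
    (with_comp good_flat_lfp (Groth.Agent.S6411.over_isFibGrpd T) h𝒰.isStack.1 h𝒳.isStack.1 a f
      (flat_lfp_of_smooth_chart ha) hf)

end maps

section overMap
variable {𝒳 : AlgSt.Cat S}

/-- a chart precomposed with a morphism of schemes. -/
theorem ofChart_overMap {T U : Over S} (j : T ⟶ U) (a : FibCat.overCat U ⥤ᵇ 𝒳) (t : ↥T.left) :
    AlgSt.Points.ofChart (BasedFunctor.comp (AlgSt.overMap j) a) t =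
      AlgSt.Points.ofChart a (j.left t) := by
  have hw : Spec.map (j.left.residueFieldMap t) ≫ U.left.fromSpecResidueField (j.left t) =
      T.left.fromSpecResidueField t ≫ j.left :=
    Scheme.Hom.SpecMap_residueFieldMap_fromSpecResidueField j.left t
  have hjw : j.left ≫ U.hom = T.hom := Over.w j
  let m0 : Over.mk (T.left.fromSpecResidueField t ≫ T.hom) ⟶
      Over.mk (U.left.fromSpecResidueField (j.left t) ≫ U.hom) :=
    Over.homMk (Spec.map (j.left.residueFieldMap t)) (by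
      change Spec.map (j.left.residueFieldMap t) ≫ U.left.fromSpecResidueField (j.left t) ≫ U.hom =
        T.left.fromSpecResidueField t ≫ T.hom
      rw [← Category.assoc, hw, Category.assoc, hjw])
  let m : (AlgSt.overMap j).obj (Over.mk (Over.homMk (T.left.fromSpecResidueField t) rfl :
        Over.mk (T.left.fromSpecResidueField t ≫ T.hom) ⟶ T)) ⟶
      (Over.mk (Over.homMk (U.left.fromSpecResidueField (j.left t)) rfl :
        Over.mk (U.left.fromSpecResidueField (j.left t) ≫ U.hom) ⟶ U) : Over U) :=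
    Over.homMk m0 (by
      apply Over.OverMorphism.ext
      exact hw)
  exact AlgSt.Points.sound ⟨_, 𝟙 _, a.map m, trivial⟩

end overMap

section overMapWith
open Groth.Agent.H32.SectSt

/-- the composition functor of a morphism of schemes with `P` is representable by algebraic
spaces with `Q`, when representable `P`-morphisms to schemes have `Q`. -/
theorem overMap_with (P : MorphismProperty Scheme.{u}) [P.IsStableUnderBaseChange]
    (Q : MorphismProperty (AlgSp.Sp S)) [Q.RespectsIso]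
    (hPQ : ∀ ⦃F' : AlgSp.Sp S⦄ ⦃U : Over S⦄ (snd : F' ⟶ (AlgSp.yon S).obj U),
      AlgSp.RepWith P snd → Q snd) {T U : Over S} (j : T ⟶ U) (hj : P j.left) :
    AlgSt.RepByAlgSpWith Q (AlgSt.overMap j) := by
  have h1 : AlgSt.RepByAlgSpWith Q (ofPoint ((AlgSp.yon S).map j).hom) :=
    repByAlgSpWith_ofPoint P Q hPQ ((AlgSp.yon S).map j) ((AlgSp.repWith_yon_map_iff P j).2 hj)
  exact (with_postcomp_equiv Q (Groth.Agent.S6411.over_isFibGrpd T) (ofSp_isFibGrpd' _)
    (Groth.Agent.S6411.over_isFibGrpd U) (ofPoint ((AlgSp.yon S).map j).hom) (AlgSt.toOverCat U)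
    (toOverCat_isEquivOver U)).2 h1

theorem overMap_smooth {T U : Over S} (j : T ⟶ U) [Smooth j.left] :
    AlgSt.RepByAlgSpWith (AlgSp.LocP @Smooth) (AlgSt.overMap j) := by
  have i1 := locP_respectsIso (S := S) @Smooth
  exact overMap_with @Smooth (AlgSp.LocP @Smooth)
    (fun F' U snd h => Groth.Agent.H50.locP_of_repWith (P := @Smooth)
      (fun A B g hg => inferInstance) h) j inferInstance

end overMapWith

end

end Groth.Agent.H32.StTop
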