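import Groth.Agent.H32.OpenSub3
import Groth.Agent.H32.StkGlue
import Groth.Agent.H32.IsoClEquiv
import Groth.Agent.H32.StOpen
import Groth.Agent.H32.StTop
import Groth.Agent.H50.Fppf

/-!
# Stacks covered by open substacks that are algebraic spaces have thin fibres (helper32)
-/

set_option autoImplicit false
open CategoryTheory CategoryTheory.Limits AlgebraicGeometry Opposite
universe u w

namespace Groth.Agent.H32.OpenCover

open FibCat Stk Groth.Agent.H32.FibProd Groth.Agent.H32.Fp2 Groth.Agent.H32.Fp3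
  Groth.Agent.H32.PshFp Groth.Agent.H32.PshStack Groth.Agent.H32.SubStk Groth.Agent.H32.OpenSub
  Groth.Agent.H32.Yoneda2

variable {S : Scheme.{u}} {𝒳 : AlgSt.Cat S}

/-- two morphisms over the same base morphism in a category with a faithful functor to the
category of a presheaf are equal. -/
theorem hom_eq_of_faithful_ofPsh {𝒯 : AlgSt.Cat S} {P : AlgSp.PSp S} (Ψ : 𝒯 ⥤ᵇ Stk.ofPsh P)
    (hΨ : Ψ.toFunctor.Faithful) {s s' : 𝒯.obj} (β β' : s ⟶ s') {V W : Over S} (f : V ⟶ W)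
    (hβ : 𝒯.p.IsHomLift f β) (hβ' : 𝒯.p.IsHomLift f β') : β = β' := by
  apply hΨ.map_injective
  exact hom_eq_of_lift _ _ f ((BasedFunctor.isHomLift_iff Ψ f β).2 hβ)
    ((BasedFunctor.isHomLift_iff Ψ f β').2 hβ')

/-- morphisms of a full substack representable by an algebraic space are determined by their
base morphism. -/
theorem hom_eq_of_repByAlgSp_fullSub {Q : 𝒳.obj → Prop}
    (hsp : AlgSt.RepByAlgSp (AlgSt.fullSub 𝒳 Q)) {s s' : 𝒳.obj} (hs : Q s) (hs' : Q s')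
    (β β' : s ⟶ s') {V W : Over S} (f : V ⟶ W)
    (hβ : 𝒳.p.IsHomLift f β) (hβ' : 𝒳.p.IsHomLift f β') : β = β' := by
  obtain ⟨G, e, he⟩ := hsp
  obtain ⟨Ψ, hΨ, -, -⟩ := exists_inv_isEquivOver he
  have hff := (Groth.Agent.S5139.result Ψ).mp hΨ
  have hfa : Ψ.toFunctor.Faithful := hff.1.2
  let b : (⟨s, hs⟩ : (AlgSt.fullSub 𝒳 Q).obj) ⟶ ⟨s', hs'⟩ := ObjectProperty.homMk β
  let b' : (⟨s, hs⟩ : (AlgSt.fullSub 𝒳 Q).obj) ⟶ ⟨s', hs'⟩ := ObjectProperty.homMk β'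
  have h : b = b' := hom_eq_of_faithful_ofPsh Ψ hfa b b' f
    ((fullSub_isHomLift_iff f b).2 hβ) ((fullSub_isHomLift_iff f b').2 hβ')
  exact congrArg (fun m => m.hom) h

/-- the open subscheme of a chart cut out by `W`, together with its range. -/
theorem exists_open_chart' (W : Set (AlgSt.Points 𝒳))
    (h𝒳 : AlgSt.IsAlgStack Scheme.fppfPrecoverage 𝒳) (hW : IsOpen W)
    (U : Over S) (y : FibCat.overCat U ⥤ᵇ 𝒳) :
    ∃ (V : Over S) (j : V ⟶ U), IsOpenImmersion j.left ∧ Mono j ∧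
      (∀ u : ↥U.left, AlgSt.Points.ofChart y u ∈ W → u ∈ Set.range j.left) ∧
      ∀ a : Over U, Qof W (y.obj a) ↔ ∃ b : a.left ⟶ V, b ≫ j = a.hom := by
  let O : U.left.Opens := ⟨AlgSt.Points.ofChart y ⁻¹' W,
    (Groth.Agent.H32.StPoints.ofChart_continuous h𝒳 U y).isOpen_preimage W hW⟩
  let V : Over S := Over.mk (O.ι ≫ U.hom)
  let j : V ⟶ U := Over.homMk O.ι rfl
  have hjl : j.left = O.ι := rfl
  have hjoi : IsOpenImmersion j.left := inferInstanceAs (IsOpenImmersion O.ι)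
  have hjm : Mono j.left := inferInstanceAs (Mono O.ι)
  have hmono : Mono j := Over.mono_of_mono_left j
  refine ⟨V, j, hjoi, hmono, fun u hu => ?_, fun a => ?_⟩
  · have h : u ∈ Set.range O.ι := by
      rw [Scheme.Opens.range_ι]
      exact hu
    exact h
  rw [Qof_chart W h𝒳.isStack.1 y a]
  constructor
  · intro h
    have hrange : Set.range a.hom.left ⊆ Set.range O.ι := by
      rw [Scheme.Opens.range_ι]
      rintro _ ⟨t, rfl⟩
      exact h t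
    let b0 : a.left.left ⟶ V.left := IsOpenImmersion.lift O.ι a.hom.left hrange
    have hb0 : b0 ≫ O.ι = a.hom.left := IsOpenImmersion.lift_fac _ _ _
    have hw : b0 ≫ V.hom = a.left.hom := by
      change b0 ≫ O.ι ≫ U.hom = a.left.hom
      rw [← Category.assoc, hb0]
      exact Over.w a.hom
    refine ⟨Over.homMk b0 hw, ?_⟩
    apply Over.OverMorphism.ext
    exact hb0
  · rintro ⟨b, hb⟩ t
    have h1 : a.hom.left t = O.ι (b.left t) := by
      rw [← hb]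
      rfl
    rw [h1]
    have : (O.ι (b.left t) : ↥U.left) ∈ O := by
      have h := Set.mem_range_self (f := O.ι) (b.left t)
      rwa [Scheme.Opens.range_ι] at h
    exact this

section cover

variable {ι : Type w} (Q : ι → 𝒳.obj → Prop)

/-- the sieve of morphisms to the base of `t` over which `t` lies in one of the substacks. -/
def locSieve (t : 𝒳.obj) (W : Over S) : Sieve W where
  arrows V f := ∃ i, ∀ (V' : Over S) (g : V' ⟶ V) (s : 𝒳.obj) (ψ : s ⟶ t),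
    𝒳.p.IsHomLift (g ≫ f) ψ → Q i s
  downward_closed := by
    rintro V V'' f ⟨i, hi⟩ h
    refine ⟨i, fun V' g s ψ hψ => hi V' (g ≫ h) s ψ ?_⟩
    rwa [Category.assoc]

variable (h𝒳 : AlgSt.IsAlgStack Scheme.fppfPrecoverage 𝒳)
    (hQ : ∀ i, AlgSt.IsOpenSubstack 𝒳 (Q i) Scheme.fppfPrecoverage)
    (hcov : ⋃ i, Set.range (AlgSt.Points.map (AlgSt.subIncl 𝒳 (Q i))) = Set.univ)

include h𝒳 hQ in
theorem pbClosed (i : ι) : PbClosed (Q i) :=
  pbClosed_of_isFibGrpd (hQ i).1 (hQ i).2.1.isStack.1 h𝒳.isStack.1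

include h𝒳 hQ in
theorem isOpen_range (i : ι) :
    IsOpen (Set.range (AlgSt.Points.map (AlgSt.subIncl 𝒳 (Q i)))) :=
  Groth.Agent.H32.StOpen.isOpen_range_of_isOpenImm (hQ i).2.1 h𝒳 _ (hQ i).2.2

include h𝒳 hQ hcov in
/-- an open cover of a chart by the open subschemes cut out by the substacks. -/
theorem exists_chart_cover (U : Over S) (y : FibCat.overCat U ⥤ᵇ 𝒳) :
    ∃ (V : ι → Over S) (j : ∀ i, V i ⟶ U), (∀ i, IsOpenImmersion (j i).left) ∧ (∀ i, Mono (j i)) ∧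
      (∀ u : ↥U.left, ∃ (i : ι) (v : ↥(V i).left), (j i).left v = u) ∧
      ∀ (i : ι) (a : Over U), Q i (y.obj a) ↔ ∃ b : a.left ⟶ V i, b ≫ j i = a.hom := by
  choose V j hjoi hjmono hjrange hjfac using fun i =>
    exists_open_chart' (Set.range (AlgSt.Points.map (AlgSt.subIncl 𝒳 (Q i)))) h𝒳
      (isOpen_range Q h𝒳 hQ i) U y
  refine ⟨V, j, hjoi, hjmono, fun u => ?_, fun i a => ?_⟩
  · have hu : AlgSt.Points.ofChart y u ∈
        ⋃ i, Set.range (AlgSt.Points.map (AlgSt.subIncl 𝒳 (Q i))) := by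
      rw [hcov]; trivial
    obtain ⟨i, hi⟩ := Set.mem_iUnion.1 hu
    obtain ⟨v, hv⟩ := hjrange i u hi
    exact ⟨i, v, hv⟩
  · rw [Q_iff_Qof h𝒳 (hQ i)]
    exact hjfac i a

include h𝒳 hQ hcov in
theorem locSieve_mem (t : 𝒳.obj) (W : Over S) (ht : 𝒳.p.obj t = W) :
    locSieve Q t W ∈ AlgSp.J S W := by
  haveI : 𝒳.p.IsFibered := Groth.Agent.H32.Split.isFibered_of_isFibGrpd 𝒳 h𝒳.isStack.1
  obtain ⟨ya, -, τ₀, hτ₀iso, hτ₀⟩ := exists_based_functor (Groth.Agent.H32.Split.hT W) t ht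
  have hτ₀' : 𝒳.p.IsHomLift (𝟙 W) τ₀ := hτ₀
  obtain ⟨V, j, hjoi, hjmono, hjsurj, hjfac⟩ := exists_chart_cover Q h𝒳 hQ hcov W ya
  refine Groth.Agent.H50.mem_J_of_fppf_family V j hjsurj (fun i => ?_) (fun i => ?_) _
    (fun i => ?_)
  · haveI := hjoi i; infer_instance
  · haveI := hjoi i; infer_instance
  · refine ⟨i, fun V' g s ψ hψ => ?_⟩
    let a : Over W := Over.mk (g ≫ j i)
    have hQa : Q i (ya.obj a) := (hjfac i a).2 ⟨g, rfl⟩
    let k : a ⟶ Groth.Agent.H32.Split.T W := Over.homMk (g ≫ j i) (by simp [a])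
    have hk : (FibCat.overCat W).p.IsHomLift (g ≫ j i) k :=
      IsHomLift.of_fac' (FibCat.overCat W).p _ _ rfl rfl
        (by change g ≫ j i = eqToHom rfl ≫ (g ≫ j i) ≫ eqToHom rfl; simp)
    have hyk : 𝒳.p.IsHomLift (g ≫ j i) (ya.map k) := (BasedFunctor.isHomLift_iff ya _ k).2 hk
    have hφ : 𝒳.p.IsHomLift (g ≫ j i) (ya.map k ≫ τ₀) :=
      Groth.Agent.H32.StkLoc.isHomLift_comp_id_right 𝒳.p (g ≫ j i) _ _ hyk hτ₀'
    have := hφ
    have := hψ
    have := sc_of_isFibGrpd 𝒳.p h𝒳.isStack.1 (g ≫ j i) (ya.map k ≫ τ₀)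
    exact pbClosed Q h𝒳 hQ i
      (Functor.IsCartesian.map 𝒳.p (g ≫ j i) (ya.map k ≫ τ₀) ψ) hQa

include h𝒳 hQ hcov in
/-- morphisms of a stack covered by open substacks that are algebraic spaces are determined by
their base morphism. -/
theorem hom_eq_of_cover (hsp : ∀ i, AlgSt.RepByAlgSp (AlgSt.fullSub 𝒳 (Q i))) {t t' : 𝒳.obj}
    (b b' : t ⟶ t') {W W' : Over S} (u : W ⟶ W') (hb : 𝒳.p.IsHomLift u b)
    (hb' : 𝒳.p.IsHomLift u b') : b = b' := by
  have ht : 𝒳.p.obj t = W := IsHomLift.domain_eq 𝒳.p u b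
  have hR := locSieve_mem Q h𝒳 hQ hcov t W ht
  refine Groth.Agent.H32.StkGlue.eq_of_locally h𝒳.isStack.1 u (locSieve Q t W)
    (h𝒳.isStack.2 _ hR).faithful b b' hb hb' ?_
  rintro V f ⟨i, hi⟩ s ψ hψ
  have hs : Q i s := hi V (𝟙 V) s ψ (by rwa [Category.id_comp])
  have := hψ
  have := hb
  have := hb'
  have l1 : 𝒳.p.IsHomLift (f ≫ u) (ψ ≫ b) := inferInstance
  have l2 : 𝒳.p.IsHomLift (f ≫ u) (ψ ≫ b') := inferInstance
  have := sc_of_isFibGrpd 𝒳.p h𝒳.isStack.1 (f ≫ u) (ψ ≫ b)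
  let β : s ⟶ s := Functor.IsCartesian.map 𝒳.p (f ≫ u) (ψ ≫ b) (ψ ≫ b')
  have hβ : 𝒳.p.IsHomLift (𝟙 V) β := inferInstance
  have hfac : β ≫ ψ ≫ b = ψ ≫ b' := Functor.IsCartesian.fac 𝒳.p (f ≫ u) (ψ ≫ b) (ψ ≫ b')
  have hsV : 𝒳.p.obj s = V := IsHomLift.domain_eq 𝒳.p f ψ
  have h1 : 𝒳.p.IsHomLift (𝟙 V) (𝟙 s) := IsHomLift.id hsV
  have hβ1 : β = 𝟙 s := hom_eq_of_repByAlgSp_fullSub (hsp i) hs hs β (𝟙 s) (𝟙 V) hβ h1
  rw [← hfac, hβ1, Category.id_comp]

end cover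

end Groth.Agent.H32.OpenCover
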