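import Groth.Agent.H32.SpBridge
import Groth.Agent.H32.AlgStackEquiv
import Groth.Agent.S12778

/-!
# From the stack-level `RepByAlgSpWith (RepWith P)` to the sheaf-level `RepWith P` (helper32)
-/

set_option autoImplicit false
open CategoryTheory CategoryTheory.Limits AlgebraicGeometry Opposite
universe u

namespace Groth.Agent.H32.RepWithSt

open FibCat Stk Groth.Agent.H32.SpBridge Groth.Agent.H32.AlgStackEquiv

variable {S : Scheme.{u}}

/-- a map of sheaves all of whose base changes to representables are `RepWith P` is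
`RepWith P`. -/
theorem repWith_of_forall_pullback (P : MorphismProperty Scheme.{u}) {A B : AlgSp.Sp S} (f : A ⟶ B)
    (h : ∀ ⦃U : Over S⦄ (ξ : (AlgSp.yon S).obj U ⟶ B) ⦃F' : AlgSp.Sp S⦄ (fst : F' ⟶ A)
      (snd : F' ⟶ (AlgSp.yon S).obj U), IsPullback fst snd f ξ → AlgSp.RepWith P snd) :
    AlgSp.RepWith P f := by
  rw [AlgSp.repWith_iff]
  constructor
  · intro U g
    have sq := IsPullback.of_hasPullback f g
    have h1 := h g (pullback.fst f g) (pullback.snd f g) sq
    obtain ⟨hrep, -⟩ := (AlgSp.repWith_iff P _).1 h1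
    obtain ⟨V, snd, fst, sq'⟩ := hrep (𝟙 ((AlgSp.yon S).obj U))
    refine ⟨V, snd, fst ≫ pullback.fst f g, ?_⟩
    have := sq'.paste_horiz sq
    rwa [Category.id_comp] at this
  · intro U V g fst snd sq
    have h1 := h g fst ((AlgSp.yon S).map snd) sq
    obtain ⟨-, hP⟩ := (AlgSp.repWith_iff P _).1 h1
    exact hP (𝟙 _) (𝟙 _) snd (IsPullback.id_horiz _)

/-- the sheaf-level `RepWith P` of a map of sheaves whose functor is `RepWith P` at the level
of stacks. -/
theorem repWith_of_with (P : MorphismProperty Scheme.{u}) [(AlgSp.RepWith (S := S) P).RespectsIso]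
    {A B : AlgSp.Sp S} (f : A ⟶ B)
    (h : AlgSt.RepByAlgSpWith (AlgSp.RepWith P) (Stk.ofPshMap f.hom)) : AlgSp.RepWith P f := by
  have hrep1 : AlgSt.RepByAlgSp1 (Stk.ofPshMap f.hom) := repByAlgSp1_of_with h
  have hrep : AlgSp.RepBySp f.hom := repBySp_of_repByAlgSp1 _ hrep1
  have hw : AlgSp.RepBySpWith (AlgSp.RepWith P) f.hom :=
    (Groth.Agent.S12778.result (AlgSp.RepWith P) f.hom hrep).2 h
  have hw' := (AlgSp.repBySpWith_hom_iff _ f).1 hw
  exact repWith_of_forall_pullback P f (fun U ξ F' fst snd sq => (hw' ξ fst snd sq).2)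

end Groth.Agent.H32.RepWithSt
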