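import Groth.Agent.H32.OpenCover
import Groth.Agent.H32.RepWithSt
import Groth.Agent.H32.StackOps
import Groth.Agent.H32.SectSt
import Groth.Agent.H32.DiagDict
import Groth.Agent.S9877
import Groth.Agent.S9881
import Groth.Agent.H51.ZarGlue

/-!
# An algebraic stack covered by open substacks that are algebraic spaces is an algebraic space
(helper32)
-/

set_option autoImplicit false
open CategoryTheory CategoryTheory.Limits AlgebraicGeometry Opposite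
universe u w

namespace Groth.Agent.H32.OpenCover2

open FibCat Stk Groth.Agent.H32.FibProd Groth.Agent.H32.Fp2 Groth.Agent.H32.Fp3
  Groth.Agent.H32.PshFp Groth.Agent.H32.PshStack Groth.Agent.H32.SubStk Groth.Agent.H32.OpenSub
  Groth.Agent.H32.OpenCover Groth.Agent.H32.IsoClEquiv Groth.Agent.H32.SpBridge

variable {S : Scheme.{u}} {𝒳 : AlgSt.Cat S} [IsFibGrpd 𝒳.p] {ι : Type w} (Q : ι → 𝒳.obj → Prop)
  (h𝒳 : AlgSt.IsAlgStack Scheme.fppfPrecoverage 𝒳)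
  (hQ : ∀ i, AlgSt.IsOpenSubstack 𝒳 (Q i) Scheme.fppfPrecoverage)
  (hcov : ⋃ i, Set.range (AlgSt.Points.map (AlgSt.subIncl 𝒳 (Q i))) = Set.univ)
  (hsp : ∀ i, AlgSt.RepByAlgSp (AlgSt.fullSub 𝒳 (Q i)))

omit [IsFibGrpd 𝒳.p] in
include h𝒳 hQ hcov hsp in
theorem thin (U : Over S) : Quiver.IsThin (𝒳.p.Fiber U) := by
  intro a b
  refine ⟨fun m m' => ?_⟩
  apply Functor.Fiber.hom_ext
  exact hom_eq_of_cover Q h𝒳 hQ hcov hsp m.1 m'.1 (𝟙 U) m.2 m'.2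

include h𝒳 hQ hcov hsp in
theorem toIsoCl_equiv : IsEquivOver (toIsoCl 𝒳) :=
  toIsoCl_isEquivOver 𝒳 (thin Q h𝒳 hQ hcov hsp)

include h𝒳 hQ hcov hsp in
theorem isSheaf_isoClPsh : Presheaf.IsSheaf (AlgSp.J S) (Gerb.isoClPsh 𝒳) := by
  have hs := Groth.Agent.H84.isStack_of_isEquivOver _ (toIsoCl 𝒳)
    (toIsoCl_equiv Q h𝒳 hQ hcov hsp) h𝒳.isStack
  rw [isSheaf_iff_isSheaf_of_type]
  exact isSheaf_of_isStack _ hs

/-- the sheaf of isomorphism classes of objects of `𝒳`. -/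
noncomputable def isoSp : AlgSp.Sp S := ⟨Gerb.isoClPsh 𝒳, isSheaf_isoClPsh Q h𝒳 hQ hcov hsp⟩

section maps

variable (G : ι → AlgSp.Space S) (e : ∀ i, AlgSt.ofSp (G i).obj ⥤ᵇ AlgSt.fullSub 𝒳 (Q i))
  (he : ∀ i, IsEquivOver (e i))

/-- the functor from the category of the `i`-th algebraic space to the category of the presheaf
of isomorphism classes. -/
noncomputable def Θ (i : ι) : AlgSt.ofSp (G i).obj ⥤ᵇ Stk.ofPsh (Gerb.isoClPsh 𝒳) :=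
  BasedFunctor.comp (BasedFunctor.comp (e i) (AlgSt.subIncl 𝒳 (Q i))) (toIsoCl 𝒳)

/-- the map of sheaves from the `i`-th algebraic space to the sheaf of isomorphism classes. -/
noncomputable def fmap (i : ι) : (G i).obj ⟶ isoSp Q h𝒳 hQ hcov hsp :=
  ObjectProperty.homMk (pshMapOf (Θ Q G e i))

include he in
theorem isOpenImm_fmap (i : ι) :
    AlgSt.IsOpenImm (Stk.ofPshMap (fmap Q h𝒳 hQ hcov hsp G e i).hom) := by
  have hfibG : IsFibGrpd (AlgSt.ofSp (G i).obj).p :=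
    Groth.Agent.H32.StackOps.ofSp_isFibGrpd (G i).obj
  have hfibS : IsFibGrpd (AlgSt.fullSub 𝒳 (Q i)).p := (hQ i).2.1.isStack.1
  have hfib : IsFibGrpd 𝒳.p := inferInstance
  have hfibP : IsFibGrpd (Stk.ofPsh (Gerb.isoClPsh 𝒳)).p := inferInstance
  have h1 : AlgSt.IsOpenImm (AlgSt.subIncl 𝒳 (Q i)) := (hQ i).2.2
  have h2 := Groth.Agent.H32.StackOps.with_precomp_equiv (AlgSp.RepWith @IsOpenImmersion)
    hfibG hfibS hfib (e i) (he i) _ h1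
  have h3 := (Groth.Agent.H32.SectSt.with_postcomp_equiv (AlgSp.RepWith @IsOpenImmersion)
    hfibG hfib hfibP _ (toIsoCl 𝒳) (toIsoCl_equiv Q h𝒳 hQ hcov hsp)).2 h2
  obtain ⟨α⟩ := ofPshMap_pshMapOf (Θ Q G e i)
  exact Groth.Agent.H32.StackOps.with_of_iso _ hfibG hfibP α h3

include he in
theorem repWith_fmap (i : ι) :
    AlgSp.RepWith @IsOpenImmersion (fmap Q h𝒳 hQ hcov hsp G e i) :=
  Groth.Agent.H32.RepWithSt.repWith_of_with _ _ (isOpenImm_fmap Q h𝒳 hQ hcov hsp G e he i)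

omit [IsFibGrpd 𝒳.p] in
theorem isHomLift_id_congr {C : Type*} [Category C] {𝒜 : Type*} [Category 𝒜] (p : 𝒜 ⥤ C)
    {a b : 𝒜} (k : a ⟶ b) {W W' : C} (h : W = W') (hk : p.IsHomLift (𝟙 W) k) :
    p.IsHomLift (𝟙 W') k := by
  subst h; exact hk

include h𝒳 hQ hcov hsp he in
/-- every section of the presheaf of isomorphism classes comes, fppf locally, from one of the
algebraic spaces. -/
theorem exists_local_lift (T : Over S) (s : (Gerb.isoClPsh 𝒳).obj (op T)) :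
    ∃ Sg ∈ AlgSp.J S T, ∀ ⦃T' : Over S⦄ (φ : T' ⟶ T), Sg φ →
      ∃ (i : ι) (x : (G i).obj.obj.obj (op T')),
        (pshMapOf (Θ Q G e i)).app (op T') x = (Gerb.isoClPsh 𝒳).map φ.op s := by
  obtain ⟨Ψ', hΨ', -, ⟨ε⟩⟩ := exists_inv_isEquivOver (toIsoCl_equiv Q h𝒳 hQ hcov hsp)
  let o : (Stk.ofPsh (Gerb.isoClPsh 𝒳)).obj := ⟨T, s⟩
  have hx : 𝒳.p.obj (Ψ'.obj o) = T := Ψ'.w_obj o
  refine ⟨locSieve Q (Ψ'.obj o) T, locSieve_mem Q h𝒳 hQ hcov _ T hx, ?_⟩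
  rintro T' φ ⟨i, hi⟩
  let o' : (Stk.ofPsh (Gerb.isoClPsh 𝒳)).obj := ⟨T', (Gerb.isoClPsh 𝒳).map φ.op s⟩
  let m : o' ⟶ o := ⟨φ, rfl⟩
  have hm : (Stk.ofPsh (Gerb.isoClPsh 𝒳)).p.IsHomLift φ m := isHomLift_mk m
  have hψ : 𝒳.p.IsHomLift φ (Ψ'.map m) := (BasedFunctor.isHomLift_iff Ψ' φ m).2 hm
  have hq : Q i (Ψ'.obj o') := hi T' (𝟙 T') _ (Ψ'.map m) (by rwa [Category.id_comp])
  let x'' : (AlgSt.fullSub 𝒳 (Q i)).obj := ⟨Ψ'.obj o', hq⟩
  obtain ⟨E', hE', -, ⟨εi⟩⟩ := exists_inv_isEquivOver (he i)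
  have hx'' : (AlgSt.fullSub 𝒳 (Q i)).p.obj x'' = T' := Ψ'.w_obj o'
  have hz : (E'.obj x'').base = T' := (E'.w_obj x'').trans hx''
  refine ⟨i, secAs (E'.obj x'') hz, ?_⟩
  rw [pshMapOf_app]
  obtain ⟨m1, hm1⟩ := exists_hom_of_secAs_eq
    (⟨T', secAs (E'.obj x'') hz⟩ : EltObj (G i).obj.obj) (E'.obj x'') rfl hz (secAs_mk _ _ _)
  have hk1 : (Stk.ofPsh (Gerb.isoClPsh 𝒳)).p.IsHomLift (𝟙 T') ((Θ Q G e i).map m1) :=
    (BasedFunctor.isHomLift_iff (Θ Q G e i) (𝟙 T') m1).2 hm1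
  have hε1 : (AlgSt.fullSub 𝒳 (Q i)).p.IsHomLift (𝟙 T') (εi.hom.toNatTrans.app x'') :=
    isHomLift_id_congr _ _ hx'' (εi.hom.isHomLift' x'')
  have hk2 : (Stk.ofPsh (Gerb.isoClPsh 𝒳)).p.IsHomLift (𝟙 T')
      ((toIsoCl 𝒳).map ((AlgSt.subIncl 𝒳 (Q i)).map (εi.hom.toNatTrans.app x''))) :=
    (BasedFunctor.isHomLift_iff (toIsoCl 𝒳) (𝟙 T') _).2
      ((BasedFunctor.isHomLift_iff (AlgSt.subIncl 𝒳 (Q i)) (𝟙 T') _).2 hε1)
  have hk3 : (Stk.ofPsh (Gerb.isoClPsh 𝒳)).p.IsHomLift (𝟙 T') (ε.hom.toNatTrans.app o') :=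
    ε.hom.isHomLift' o'
  have hk23 := Groth.Agent.H32.StkLoc.isHomLift_comp_id_left _ (𝟙 T') _ _ hk2 hk3
  have hk := Groth.Agent.H32.StkLoc.isHomLift_comp_id_left _ (𝟙 T') _ _ hk1 hk23
  have := secAs_eq_of_hom _ hk ((Θ Q G e i).w_obj _) rfl
  exact this.trans (secAs_mk _ _ _)

end maps

section small

variable {κ : Type u} (R : κ → 𝒳.obj → Prop)
  (hR : ∀ i, AlgSt.IsOpenSubstack 𝒳 (R i) Scheme.fppfPrecoverage)
  (hcovR : ⋃ i, Set.range (AlgSt.Points.map (AlgSt.subIncl 𝒳 (R i))) = Set.univ)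
  (hspR : ∀ i, AlgSt.RepByAlgSp (AlgSt.fullSub 𝒳 (R i)))

include h𝒳 in
theorem isAlgSpace_isoSp : AlgSp.IsAlgSpace (isoSp R h𝒳 hR hcovR hspR) := by
  have hspR' := hspR
  choose G e he using hspR'
  let Fi : κ → AlgSp.Sp S := fun i => (G i).obj
  let c : Cofan Fi := colimit.cocone (Discrete.functor Fi)
  have hc : IsColimit c := colimit.isColimit _
  refine Groth.Agent.S9877.result S _ Fi (fmap R h𝒳 hR hcovR hspR G e) (fun i => (G i).property)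
    (repWith_fmap R h𝒳 hR hcovR hspR G e he) c hc ?_
    (Groth.Agent.S9881.result S Fi (fun i => (G i).property) c hc)
  refine ⟨fun {T} s => ?_⟩
  obtain ⟨Sg, hSg, h⟩ := exists_local_lift R h𝒳 hR hcovR hspR G e he T s
  refine (AlgSp.J S).superset_covering ?_ hSg
  intro T' φ hφ
  obtain ⟨i, x, hx⟩ := h φ hφ
  refine ⟨(c.inj i).hom.app (op T') x, ?_⟩
  have hfac : c.inj i ≫ Cofan.IsColimit.desc hc (fmap R h𝒳 hR hcovR hspR G e) =
      fmap R h𝒳 hR hcovR hspR G e i := Cofan.IsColimit.fac hc _ i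
  have := congrArg (fun (t : Fi i ⟶ isoSp R h𝒳 hR hcovR hspR) => t.hom.app (op T') x) hfac
  exact this.trans hx

include h𝒳 hR hcovR hspR in
theorem repByAlgSp_small : AlgSt.RepByAlgSp 𝒳 := by
  obtain ⟨Ψ', hΨ', -, -⟩ := exists_inv_isEquivOver (toIsoCl_equiv R h𝒳 hR hcovR hspR)
  exact ⟨⟨isoSp R h𝒳 hR hcovR hspR, isAlgSpace_isoSp h𝒳 R hR hcovR hspR⟩, Ψ', hΨ'⟩

end small

omit [IsFibGrpd 𝒳.p] in
include h𝒳 hcov in
/-- refinement of the cover to one indexed by the points of an atlas. -/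
theorem exists_small_cover : ∃ (κ : Type u) (j : κ → ι),
    ⋃ k, Set.range (AlgSt.Points.map (AlgSt.subIncl 𝒳 (Q (j k)))) = Set.univ := by
  obtain ⟨U, a, -, ha2⟩ := h𝒳.atlas
  have hsurj := Groth.Agent.H32.StTop.ofChart_surjective h𝒳 a ha2
  have hmem : ∀ t : ↥U.left, ∃ i, AlgSt.Points.ofChart a t ∈
      Set.range (AlgSt.Points.map (AlgSt.subIncl 𝒳 (Q i))) := fun t => by
    have : AlgSt.Points.ofChart a t ∈
        ⋃ i, Set.range (AlgSt.Points.map (AlgSt.subIncl 𝒳 (Q i))) := by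
      rw [hcov]; trivial
    exact Set.mem_iUnion.1 this
  choose j hj using hmem
  refine ⟨↥U.left, j, Set.eq_univ_of_forall fun z => ?_⟩
  obtain ⟨t, rfl⟩ := hsurj z
  exact Set.mem_iUnion.2 ⟨t, hj t⟩

include h𝒳 hQ hcov hsp in
theorem repByAlgSp : AlgSt.RepByAlgSp 𝒳 := by
  obtain ⟨κ, j, hj⟩ := exists_small_cover Q h𝒳 hcov
  exact repByAlgSp_small h𝒳 (fun k => Q (j k)) (fun k => hQ (j k)) hj (fun k => hsp (j k))

end Groth.Agent.H32.OpenCover2
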