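import Groth.Agent.H32.OpenCover2

/-!
# An algebraic stack covered by open substacks that are schemes is a scheme (helper32)
-/

set_option autoImplicit false
open CategoryTheory CategoryTheory.Limits AlgebraicGeometry Opposite
universe u w

namespace Groth.Agent.H32.OpenCover3

open FibCat Stk Groth.Agent.H32.FibProd Groth.Agent.H32.Fp2 Groth.Agent.H32.Fp3
  Groth.Agent.H32.PshFp Groth.Agent.H32.PshStack Groth.Agent.H32.SubStk Groth.Agent.H32.OpenSub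
  Groth.Agent.H32.OpenCover Groth.Agent.H32.OpenCover2 Groth.Agent.H32.IsoClEquiv
  Groth.Agent.H32.SpBridge

variable {S : Scheme.{u}} {𝒳 : AlgSt.Cat S} [IsFibGrpd 𝒳.p]

theorem repByAlgSp_of_isRepresentable {𝒯 : AlgSt.Cat S} (X : Over S) (F : 𝒯 ⥤ᵇ FibCat.overCat X)
    (hF : IsEquivOver F) :
    ∃ e : AlgSt.ofSp ((AlgSp.ofScheme S).obj X).obj ⥤ᵇ 𝒯, IsEquivOver e := by
  obtain ⟨F', hF', -, -⟩ := exists_inv_isEquivOver hF
  exact ⟨BasedFunctor.comp (AlgSt.toOverCat X) F',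
    isEquivOver_comp _ _ (toOverCat_isEquivOver X) hF'⟩

section small

variable {κ : Type u} (R : κ → 𝒳.obj → Prop)
  (h𝒳 : AlgSt.IsAlgStack Scheme.fppfPrecoverage 𝒳)
  (hR : ∀ i, AlgSt.IsOpenSubstack 𝒳 (R i) Scheme.fppfPrecoverage)
  (hcovR : ⋃ i, Set.range (AlgSt.Points.map (AlgSt.subIncl 𝒳 (R i))) = Set.univ)
  (hsch : ∀ i, FibCat.IsRepresentable (AlgSt.fullSub 𝒳 (R i)))

include h𝒳 hR hcovR hsch in
theorem isRepresentable_small : FibCat.IsRepresentable 𝒳 := by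
  choose X F hF using hsch
  choose e he using fun i => repByAlgSp_of_isRepresentable (X i) (F i) (hF i)
  let G : κ → AlgSp.Space S := fun i => (AlgSp.ofScheme S).obj (X i)
  have hspR : ∀ i, AlgSt.RepByAlgSp (AlgSt.fullSub 𝒳 (R i)) := fun i => ⟨G i, e i, he i⟩
  let f : ∀ i, (AlgSp.yon S).obj (X i) ⟶ isoSp R h𝒳 hR hcovR hspR :=
    fmap R h𝒳 hR hcovR hspR G e
  have hf : ∀ i, AlgSp.RepWith @IsOpenImmersion (f i) := repWith_fmap R h𝒳 hR hcovR hspR G e he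
  have hsurj : ∀ (T : Over S) (y : (AlgSp.yon S).obj T ⟶ isoSp R h𝒳 hR hcovR hspR),
      ∃ Sg ∈ AlgSp.J S T, ∀ ⦃T' : Over S⦄ (φ : T' ⟶ T), Sg φ →
        ∃ (i : κ) (x : (AlgSp.yon S).obj T' ⟶ (AlgSp.yon S).obj (X i)),
          x ≫ f i = (AlgSp.yon S).map φ ≫ y := by
    intro T y
    obtain ⟨Sg, hSg, h⟩ := exists_local_lift R h𝒳 hR hcovR hspR G e he T
      ((AlgSp.J S).uliftYonedaEquiv y)
    refine ⟨Sg, hSg, fun T' φ hφ => ?_⟩
    obtain ⟨i, x, hx⟩ := h φ hφ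
    obtain ⟨x', hx'⟩ : ∃ x' : ((AlgSp.yon S).obj (X i)).obj.obj (op T'), x' = x := ⟨x, rfl⟩
    refine ⟨i, (AlgSp.J S).uliftYonedaEquiv.symm x', ?_⟩
    apply (AlgSp.J S).uliftYonedaEquiv.injective
    rw [GrothendieckTopology.uliftYonedaEquiv_comp, Equiv.apply_symm_apply,
      ← GrothendieckTopology.uliftYonedaEquiv_naturality, hx']
    exact hx
  obtain ⟨G0, e0, -, -, -, -⟩ := Groth.Agent.H51.ZarGlue.exists_iso_yon hf hsurj
  have : IsIso e0.inv.hom := by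
    have : IsIso ((sheafToPresheaf _ _).map e0.inv) := inferInstance
    exact this
  have h1 : IsEquivOver (Stk.ofPshMap e0.inv.hom) :=
    Groth.Agent.H32.DiagDict.ofPshMap_isEquivOver e0.inv.hom
  refine ⟨G0, BasedFunctor.comp (toIsoCl 𝒳)
    (BasedFunctor.comp (Stk.ofPshMap e0.inv.hom) (AlgSt.toOverCat G0)), ?_⟩
  exact isEquivOver_comp _ _ (toIsoCl_equiv R h𝒳 hR hcovR hspR)
    (isEquivOver_comp _ _ h1 (toOverCat_isEquivOver G0))

end small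

variable {ι : Type w} (Q : ι → 𝒳.obj → Prop)
  (h𝒳 : AlgSt.IsAlgStack Scheme.fppfPrecoverage 𝒳)
  (hQ : ∀ i, AlgSt.IsOpenSubstack 𝒳 (Q i) Scheme.fppfPrecoverage)
  (hcov : ⋃ i, Set.range (AlgSt.Points.map (AlgSt.subIncl 𝒳 (Q i))) = Set.univ)
  (hsch : ∀ i, FibCat.IsRepresentable (AlgSt.fullSub 𝒳 (Q i)))

include h𝒳 hQ hcov hsch in
theorem isRepresentable : FibCat.IsRepresentable 𝒳 := by
  obtain ⟨κ, j, hj⟩ := exists_small_cover Q h𝒳 hcov
  exact isRepresentable_small (fun k => Q (j k)) h𝒳 (fun k => hQ (j k)) hj (fun k => hsch (j k))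

end Groth.Agent.H32.OpenCover3
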