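import Groth.Agent.H32.SubStk
import Groth.Agent.H32.StOpen

/-!
# Open substacks of algebraic stacks from open subsets of the space of points (helper32)
-/

set_option autoImplicit false
universe u
open CategoryTheory CategoryTheory.Limits AlgebraicGeometry Opposite Topology

namespace Groth.Agent.H32.OpenSub

open FibCat Stk Groth.Agent.H32.Fp2 Groth.Agent.H32.Fp3 Groth.Agent.H32.Fp4
open Groth.Agent.H32.FibProd Groth.Agent.H32.SubStk
open Groth.Agent.H32.StPoints Groth.Agent.H32.StTop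

variable {S : Scheme.{u}} {𝒳 : AlgSt.Cat S}

/-- the objects all of whose field-valued points lie in `W`. -/
def Qof (W : Set (AlgSt.Points 𝒳)) : 𝒳.obj → Prop :=
  fun x => ∀ p : AlgSt.FPt 𝒳, Nonempty (p.obj ⟶ x) → AlgSt.Points.mk p ∈ W

variable (W : Set (AlgSt.Points 𝒳))

theorem Qof_pbClosed : PbClosed (Qof W) := fun _ _ φ h p ⟨ψ⟩ => h p ⟨ψ ≫ φ⟩

theorem Qof_mono {W W' : Set (AlgSt.Points 𝒳)} (h : W ⊆ W') (x : 𝒳.obj) (hx : Qof W x) :
    Qof W' x := fun p hp => h (hx p hp)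

theorem Qof_fpt (p : AlgSt.FPt 𝒳) : Qof W p.obj ↔ AlgSt.Points.mk p ∈ W :=
  ⟨fun h => h p ⟨𝟙 _⟩, fun h q ⟨ψ⟩ => by
    rw [AlgSt.Points.sound ⟨q, 𝟙 _, ψ, trivial⟩]; exact h⟩

theorem range_subIncl : Set.range (AlgSt.Points.map (AlgSt.subIncl 𝒳 (Qof W))) = W := by
  ext z
  constructor
  · rintro ⟨w, rfl⟩
    obtain ⟨q, rfl⟩ := AlgSt.Points.mk_surjective w
    exact (Qof_fpt W (q.map (AlgSt.subIncl 𝒳 (Qof W)))).1 q.obj.property
  · intro hz
    obtain ⟨p, rfl⟩ := AlgSt.Points.mk_surjective z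
    exact ⟨AlgSt.Points.mk ⟨p.K, p.str, ⟨p.obj, (Qof_fpt W p).2 hz⟩, p.lies⟩, rfl⟩

/-- a field-valued point mapping to `y(a)` is the image of a point of the source of `a`. -/
theorem fpt_mem_range (h𝒳 : IsFibGrpd 𝒳.p) {T : Over S} (y : FibCat.overCat T ⥤ᵇ 𝒳) (a : Over T)
    (p : AlgSt.FPt 𝒳) (φ : p.obj ⟶ y.obj a) :
    ∃ t : ↥a.left.left, AlgSt.Points.mk p = AlgSt.Points.ofChart y (a.hom.left t) := by
  have hya : 𝒳.p.obj (y.obj a) = a.left := y.w_obj a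
  let s : Over.mk p.str ⟶ a.left := eqToHom p.lies.symm ≫ 𝒳.p.map φ ≫ eqToHom hya
  have hs : 𝒳.p.IsHomLift s φ := IsHomLift.of_fac 𝒳.p _ φ p.lies hya rfl
  let a' : Over T := Over.mk (s ≫ a.hom)
  let k : a' ⟶ a := Over.homMk s rfl
  have hk : (FibCat.overCat T).p.IsHomLift s k :=
    IsHomLift.of_fac' (FibCat.overCat T).p _ _ rfl rfl (by
      change s = eqToHom rfl ≫ s ≫ eqToHom rfl
      simp)
  have hyk : 𝒳.p.IsHomLift s (y.map k) := (BasedFunctor.isHomLift_iff y s k).2 hk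
  have hsc : 𝒳.p.IsStronglyCartesian s (y.map k) := sc_of_isFibGrpd 𝒳.p h𝒳 s (y.map k)
  have hid : s = 𝟙 _ ≫ s := (Category.id_comp s).symm
  let χ : p.obj ⟶ y.obj a' := Functor.IsStronglyCartesian.map 𝒳.p s (y.map k) hid φ
  let q' : AlgSt.FPt (FibCat.overCat a.left) := ⟨p.K, p.str, Over.mk s, rfl⟩
  obtain ⟨t, ht⟩ := (ptOf_bijective a.left).2 (AlgSt.Points.mk q')
  refine ⟨t, ?_⟩
  rw [← ofChart_overMap a.hom y t, ofChart_eq, ht]
  exact AlgSt.Points.sound ⟨p, 𝟙 _, χ, trivial⟩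

theorem Qof_chart (h𝒳 : IsFibGrpd 𝒳.p) {U : Over S} (y : FibCat.overCat U ⥤ᵇ 𝒳) (a : Over U) :
    Qof W (y.obj a) ↔ ∀ t : ↥a.left.left, AlgSt.Points.ofChart y (a.hom.left t) ∈ W := by
  constructor
  · intro h t
    rw [← ofChart_overMap a.hom y t]
    let m : Over.mk (a.left.left.fromSpecResidueField t ≫ a.left.hom) ⟶ a.left :=
      Over.homMk (a.left.left.fromSpecResidueField t) rfl
    let k : (AlgSt.overMap a.hom).obj (Over.mk m) ⟶ a := Over.homMk m rfl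
    exact h _ ⟨y.map k⟩
  · intro h p ⟨φ⟩
    obtain ⟨t, ht⟩ := fpt_mem_range h𝒳 y a p φ
    rw [ht]
    exact h t

section openImm

open Groth.Agent.H32.AlgStackEquiv

/-- the open subscheme of a chart cut out by `W`. -/
theorem exists_open_chart (h𝒳 : AlgSt.IsAlgStack Scheme.fppfPrecoverage 𝒳) (hW : IsOpen W)
    (U : Over S) (y : FibCat.overCat U ⥤ᵇ 𝒳) :
    ∃ (V : Over S) (j : V ⟶ U), IsOpenImmersion j.left ∧ Mono j ∧
      (∀ v : ↥V.left, AlgSt.Points.ofChart y (j.left v) ∈ W) ∧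
      ∀ a : Over U, Qof W (y.obj a) ↔ ∃ b : a.left ⟶ V, b ≫ j = a.hom := by
  let O : U.left.Opens := ⟨AlgSt.Points.ofChart y ⁻¹' W,
    (ofChart_continuous h𝒳 U y).isOpen_preimage W hW⟩
  let V : Over S := Over.mk (O.ι ≫ U.hom)
  let j : V ⟶ U := Over.homMk O.ι rfl
  have hjl : j.left = O.ι := rfl
  have hjoi : IsOpenImmersion j.left := inferInstanceAs (IsOpenImmersion O.ι)
  have hjm : Mono j.left := inferInstanceAs (Mono O.ι)
  have hmono : Mono j := Over.mono_of_mono_left j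
  refine ⟨V, j, hjoi, hmono, fun v => ?_, fun a => ?_⟩
  · have : (O.ι v : ↥U.left) ∈ O := by
      have h := Set.mem_range_self (f := O.ι) v
      rwa [Scheme.Opens.range_ι] at h
    exact this
  rw [Qof_chart W h𝒳.isStack.1 y a]
  constructor
  · intro h
    have hrange : Set.range a.hom.left ⊆ Set.range O.ι := by
      rw [Scheme.Opens.range_ι]
      rintro _ ⟨t, rfl⟩
      exact h t
    let b0 : a.left.left ⟶ V.left := IsOpenImmersion.lift O.ι a.hom.left hrange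
    have hb0 : b0 ≫ O.ι = a.hom.left := IsOpenImmersion.lift_fac _ _ _
    have hw : b0 ≫ V.hom = a.left.hom := by
      change b0 ≫ O.ι ≫ U.hom = a.left.hom
      rw [← Category.assoc, hb0]
      exact Over.w a.hom
    refine ⟨Over.homMk b0 hw, ?_⟩
    apply Over.OverMorphism.ext
    exact hb0
  · rintro ⟨b, hb⟩ t
    have h1 : a.hom.left t = O.ι (b.left t) := by
      rw [← hb]
      rfl
    rw [h1]
    have : (O.ι (b.left t) : ↥U.left) ∈ O := by
      have h := Set.mem_range_self (f := O.ι) (b.left t)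
      rwa [Scheme.Opens.range_ι] at h
    exact this

theorem isOpenImm_subIncl_Qof (h𝒳 : AlgSt.IsAlgStack Scheme.fppfPrecoverage 𝒳) (hW : IsOpen W) :
    AlgSt.IsOpenImm (AlgSt.subIncl 𝒳 (Qof W)) := by
  intro U y
  obtain ⟨V, j, hjoi, hmono, -, hfac⟩ := exists_open_chart W h𝒳 hW U y
  have hj : AlgSt.RepByAlgSpWith (AlgSp.RepWith @IsOpenImmersion) (AlgSt.overMap j) :=
    overMap_with @IsOpenImmersion (AlgSp.RepWith @IsOpenImmersion) (fun _ _ _ h => h) j hjoi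
  exact exists_rep_of_chart_equiv _ j hj y (AlgSt.subIncl 𝒳 (Qof W)) (chartLift j y hfac)
    (chartLift_isEquivOver j y hfac (Qof_pbClosed W)) (chartLift_fst j y hfac)

theorem isOpenSubstack_Qof (h𝒳 : AlgSt.IsAlgStack Scheme.fppfPrecoverage 𝒳) (hW : IsOpen W) :
    AlgSt.IsOpenSubstack 𝒳 (Qof W) Scheme.fppfPrecoverage := by
  have h1 := isOpenImm_subIncl_Qof W h𝒳 hW
  refine ⟨(Qof_pbClosed W).isoClosed, ?_, h1⟩
  exact Groth.Agent.H32.StackOps.isAlgStack_of_repByAlgSp1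
    (fullSub_isFibGrpd h𝒳.isStack.1 (Qof_pbClosed W)) h𝒳 _ (repByAlgSp1_of_with h1)

end openImm

section converse

theorem exists_section_of_openImm_surjective {F : AlgSp.Sp S} {T : Over S}
    (π : F ⟶ (AlgSp.yon S).obj T) (hπ : AlgSp.RepWith @IsOpenImmersion π)
    (hs : Function.Surjective (AlgSp.Points.map π)) :
    ∃ σ : (AlgSp.yon S).obj T ⟶ F, σ ≫ π = 𝟙 _ := by
  obtain ⟨hrep, hP⟩ := (AlgSp.repWith_iff _ π).1 hπ
  obtain ⟨V, snd, fst, sq⟩ := hrep (𝟙 _)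
  have hoi : IsOpenImmersion snd.left := hP (𝟙 _) fst snd sq
  have : IsIso fst := sq.isIso_fst_of_isIso
  have hw : inv fst ≫ (AlgSp.yon S).map snd = π := by
    rw [IsIso.inv_comp_eq]
    have := sq.w
    rw [Category.comp_id] at this
    exact this.symm
  have hsurj : Function.Surjective snd.left := by
    intro t
    obtain ⟨r, hr⟩ := hs (AlgSp.Points.schemeHomeo T t)
    obtain ⟨v, hv⟩ := (AlgSp.Points.schemeHomeo V).surjective (AlgSp.Points.map (inv fst) r)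
    refine ⟨v, ?_⟩
    apply (AlgSp.Points.schemeHomeo T).injective
    rw [← AlgSp.Points.map_yon_map_apply, hv, ← AlgSp.Points.map_comp, hw, hr]
  have : Epi snd.left.base := (TopCat.epi_iff_surjective _).2 hsurj
  have : IsIso snd.left := IsOpenImmersion.isIso snd.left
  have : IsIso ((Over.forget S).map snd) := inferInstanceAs (IsIso snd.left)
  have : IsIso snd := isIso_of_reflects_iso snd (Over.forget S)
  refine ⟨(AlgSp.yon S).map (inv snd) ≫ fst, ?_⟩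
  rw [Category.assoc, sq.w, Category.comp_id, ← Functor.map_comp, IsIso.inv_hom_id]
  exact (AlgSp.yon S).map_id _


theorem pbClosed_of_isFibGrpd {Q : 𝒳.obj → Prop}
    (hiso : ObjectProperty.IsClosedUnderIsomorphisms Q)
    (hfib : IsFibGrpd (AlgSt.fullSub 𝒳 Q).p) (h𝒳 : IsFibGrpd 𝒳.p) : PbClosed Q := by
  intro x' x φ hx
  obtain ⟨y', ψ, hψ⟩ := hfib.exists_lift (x := ⟨x, hx⟩) (𝒳.p.map φ)
  have hψ' : 𝒳.p.IsHomLift (𝒳.p.map φ) ψ.hom := (fullSub_isHomLift_iff _ _).1 hψ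
  have hsc := sc_of_isFibGrpd 𝒳.p h𝒳 (𝒳.p.map φ) ψ.hom
  have hid : 𝒳.p.map φ = 𝟙 _ ≫ 𝒳.p.map φ := (Category.id_comp _).symm
  let χ : x' ⟶ y'.obj := Functor.IsStronglyCartesian.map 𝒳.p (𝒳.p.map φ) ψ.hom hid φ
  have hχ : 𝒳.p.IsHomLift (𝟙 (𝒳.p.obj x')) χ := inferInstance
  have : IsIso χ := isIso_of_isFibGrpd 𝒳.p h𝒳 (𝟙 (𝒳.p.obj x')) χ
  exact hiso.of_iso (asIso χ).symm y'.property

open Groth.Agent.H32.SpTrack in
/-- an open substack is determined by its set of points. -/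
theorem Q_iff_Qof (h𝒳 : AlgSt.IsAlgStack Scheme.fppfPrecoverage 𝒳) {Q : 𝒳.obj → Prop}
    (hQ : AlgSt.IsOpenSubstack 𝒳 Q Scheme.fppfPrecoverage) (x : 𝒳.obj) :
    Q x ↔ Qof (Set.range (AlgSt.Points.map (AlgSt.subIncl 𝒳 Q))) x := by
  obtain ⟨hiso, halg, himm⟩ := hQ
  have hpb := pbClosed_of_isFibGrpd hiso halg.isStack.1 h𝒳.isStack.1
  constructor
  · rintro hx p ⟨φ⟩
    exact ⟨AlgSt.Points.mk ⟨p.K, p.str, ⟨p.obj, hpb φ hx⟩, p.lies⟩, rfl⟩
  · intro hx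
    have : 𝒳.p.IsFibered := Groth.Agent.H32.Split.isFibered_of_isFibGrpd 𝒳 h𝒳.isStack.1
    obtain ⟨y, -, τ, hτiso, hτ⟩ := Groth.Agent.H32.Yoneda2.exists_based_functor
      (Groth.Agent.H32.Split.hT (𝒳.p.obj x)) x rfl
    obtain ⟨F, e, he, hP⟩ := himm (𝒳.p.obj x) y
    have hs : Function.Surjective (AlgSp.Points.map
        (AlgSt.spMapOfOver (BasedFunctor.comp e (fpFst y (AlgSt.subIncl 𝒳 Q))))) := by
      intro r0
      obtain ⟨t, rfl⟩ := (AlgSp.Points.schemeEquiv (𝒳.p.obj x)).surjective r0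
      have h1 : AlgSt.Points.ofChart y t ∈
          Set.range (AlgSt.Points.map (AlgSt.subIncl 𝒳 Q)) := by
        let m : Over.mk ((𝒳.p.obj x).left.fromSpecResidueField t ≫ (𝒳.p.obj x).hom) ⟶ 𝒳.p.obj x :=
          Over.homMk ((𝒳.p.obj x).left.fromSpecResidueField t) rfl
        let k : Over.mk m ⟶ Groth.Agent.H32.Split.T (𝒳.p.obj x) :=
          Over.homMk m (Category.comp_id _)
        exact hx _ ⟨y.map k ≫ τ⟩
      obtain ⟨w, hw⟩ := h1
      obtain ⟨r, hr, -⟩ := exists_point_fp halg h𝒳 (AlgSt.subIncl 𝒳 Q) y F.obj e he t w hw.symm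
      exact ⟨r, hr⟩
    obtain ⟨σ, hσ⟩ := exists_section_of_openImm_surjective _ hP hs
    let T₀ : Over S := 𝒳.p.obj x
    let s : F.obj.obj.obj (op T₀) := σ.hom.app (op T₀) ⟨𝟙 T₀⟩
    have h2 : (AlgSt.spMapOfOver (BasedFunctor.comp e (fpFst y (AlgSt.subIncl 𝒳 Q)))).hom.app
        (op T₀) s = ⟨𝟙 T₀⟩ := by
      have := congrArg (fun m => m.hom.app (op T₀) ⟨𝟙 T₀⟩) hσ
      exact this
    rw [AlgSt.spMapOfOver_app] at h2
    have h3 : AlgSt.secHom (BasedFunctor.comp e (fpFst y (AlgSt.subIncl 𝒳 Q))) ⟨T₀, s⟩ = 𝟙 T₀ :=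
      congrArg ULift.down h2
    let a : (AlgSt.ofSp F.obj).obj := ⟨T₀, s⟩
    let z := e.obj a
    let k : Groth.Agent.H32.Split.T T₀ ⟶ z.obj.fst :=
      Over.homMk (eqToHom ((BasedFunctor.comp e (fpFst y (AlgSt.subIncl 𝒳 Q))).w_obj a).symm) h3
    exact hpb (inv τ ≫ y.map k ≫ z.obj.iso.hom) z.obj.snd.property

end converse

end Groth.Agent.H32.OpenSub
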