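import Groth.Agent.H32.OpenSub

/-!
# Images of charts as open substacks (helper32)
-/

set_option autoImplicit false
universe u
open CategoryTheory CategoryTheory.Limits AlgebraicGeometry Opposite Topology

namespace Groth.Agent.H32.OpenSub2

open FibCat Stk Groth.Agent.H32.Fp2 Groth.Agent.H32.Fp3 Groth.Agent.H32.Fp4
open Groth.Agent.H32.FibProd Groth.Agent.H32.SubStk Groth.Agent.H32.OpenSub
open Groth.Agent.H32.StPoints Groth.Agent.H32.StTop Groth.Agent.H32.SpTrack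

variable {S : Scheme.{u}} {𝒳 : AlgSt.Cat S}

/-- transfer of a representing datum along an equivalence compatible with the projections. -/
theorem rep_transfer (P : MorphismProperty (AlgSp.Sp S)) {U : Over S} {A B : AlgSt.Cat S}
    (pA : A ⥤ᵇ FibCat.overCat U) (pB : B ⥤ᵇ FibCat.overCat U) (Φ : A ⥤ᵇ B) (hΦ : IsEquivOver Φ)
    (hcomp : BasedFunctor.comp Φ pB = pA)
    (h : ∃ (F : AlgSp.Space S) (e : AlgSt.ofSp F.obj ⥤ᵇ B),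
      IsEquivOver e ∧ P (AlgSt.spMapOfOver (BasedFunctor.comp e pB))) :
    ∃ (F : AlgSp.Space S) (e : AlgSt.ofSp F.obj ⥤ᵇ A),
      IsEquivOver e ∧ P (AlgSt.spMapOfOver (BasedFunctor.comp e pA)) := by
  obtain ⟨F, e, he, hP⟩ := h
  obtain ⟨E2, hE2, -, ⟨β⟩⟩ := exists_inv_isEquivOver hΦ
  refine ⟨F, BasedFunctor.comp e E2, isEquivOver_comp _ _ he hE2, ?_⟩
  have key : AlgSt.spMapOfOver (BasedFunctor.comp e pB) =
      AlgSt.spMapOfOver (BasedFunctor.comp (BasedFunctor.comp e E2) pA) := by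
    apply spMapOfOver_eq_of_hom
    intro a
    subst hcomp
    refine ⟨pB.map (appIso β (e.obj a)).inv, ?_⟩
    have h1 : B.p.IsHomLift (𝟙 (B.p.obj (e.obj a))) (appIso β (e.obj a)).inv := by
      have := appIso_isHomLift β.symm (e.obj a)
      exact this
    have h2 : B.p.IsHomLift (𝟙 ((AlgSt.ofSp F.obj).p.obj a)) (appIso β (e.obj a)).inv :=
      isHomLift_id_of_eq B.p (e.w_obj a) _ h1
    exact (BasedFunctor.isHomLift_iff pB _ _).mpr h2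
  rw [← key]
  exact hP

/-- a field-valued point mapping to an object in the image of `c` is in the image of `|c|`. -/
theorem fpt_lift (h𝒳 : IsFibGrpd 𝒳.p) {𝒵 : AlgSt.Cat S} (h𝒵 : IsFibGrpd 𝒵.p) (c : 𝒵 ⥤ᵇ 𝒳)
    (z : 𝒵.obj) (p : AlgSt.FPt 𝒳) (φ : p.obj ⟶ c.obj z) :
    AlgSt.Points.mk p ∈ Set.range (AlgSt.Points.map c) := by
  have hcz : 𝒳.p.obj (c.obj z) = 𝒵.p.obj z := c.w_obj z
  let s : Over.mk p.str ⟶ 𝒵.p.obj z := eqToHom p.lies.symm ≫ 𝒳.p.map φ ≫ eqToHom hcz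
  have hs : 𝒳.p.IsHomLift s φ := IsHomLift.of_fac 𝒳.p _ φ p.lies hcz rfl
  obtain ⟨z', ψ, hψ⟩ := h𝒵.exists_lift (x := z) s
  have hcψ : 𝒳.p.IsHomLift s (c.map ψ) := (BasedFunctor.isHomLift_iff c s ψ).2 hψ
  have hsc : 𝒳.p.IsStronglyCartesian s (c.map ψ) := sc_of_isFibGrpd 𝒳.p h𝒳 s (c.map ψ)
  have hid : s = 𝟙 _ ≫ s := (Category.id_comp s).symm
  let χ : p.obj ⟶ c.obj z' := Functor.IsStronglyCartesian.map 𝒳.p s (c.map ψ) hid φ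
  let q : AlgSt.FPt 𝒵 := ⟨p.K, p.str, z', IsHomLift.domain_eq 𝒵.p s ψ⟩
  exact ⟨AlgSt.Points.mk q, (AlgSt.Points.sound ⟨p, 𝟙 _, χ, trivial⟩).symm⟩

theorem Qof_range (h𝒳 : IsFibGrpd 𝒳.p) {𝒵 : AlgSt.Cat S} (h𝒵 : IsFibGrpd 𝒵.p) (c : 𝒵 ⥤ᵇ 𝒳)
    (z : 𝒵.obj) : Qof (Set.range (AlgSt.Points.map c)) (c.obj z) :=
  fun p ⟨φ⟩ => fpt_lift h𝒳 h𝒵 c z p φ

/-- the image of a flat, locally finitely presented morphism as an open substack. -/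
theorem exists_image (h𝒳 : AlgSt.IsAlgStack Scheme.fppfPrecoverage 𝒳) {𝒵 : AlgSt.Cat S}
    (h𝒵 : AlgSt.IsAlgStack Scheme.fppfPrecoverage 𝒵) (c : 𝒵 ⥤ᵇ 𝒳)
    (hc : AlgSt.RepByAlgSpWith (AlgSp.LocP @Flat ⊓ AlgSp.LocP @LocallyOfFinitePresentation) c) :
    AlgSt.IsOpenSubstack 𝒳 (Qof (Set.range (AlgSt.Points.map c))) Scheme.fppfPrecoverage :=
  isOpenSubstack_Qof _ h𝒳 (isOpenMap_of_flat_lfp h𝒵 h𝒳 c hc).isOpen_range

/-- the corestriction of `c` to its image. -/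
def corestrict (h𝒳 : IsFibGrpd 𝒳.p) {𝒵 : AlgSt.Cat S} (h𝒵 : IsFibGrpd 𝒵.p) (c : 𝒵 ⥤ᵇ 𝒳) :
    𝒵 ⥤ᵇ AlgSt.fullSub 𝒳 (Qof (Set.range (AlgSt.Points.map c))) :=
  subLift c (Qof_range h𝒳 h𝒵 c)

/-- properties of `g ≫ i` at charts through `i` pass to `g` when `i` is the inclusion of a full
subcategory. -/
theorem with_of_comp_subIncl (P : MorphismProperty (AlgSp.Sp S)) {Q : 𝒳.obj → Prop}
    {𝒵 : AlgSt.Cat S} (g : 𝒵 ⥤ᵇ AlgSt.fullSub 𝒳 Q)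
    (h : ∀ (U : Over S) (y : FibCat.overCat U ⥤ᵇ AlgSt.fullSub 𝒳 Q),
      ∃ (F : AlgSp.Space S) (e : AlgSt.ofSp F.obj ⥤ᵇ
          fp (BasedFunctor.comp y (AlgSt.subIncl 𝒳 Q)) (BasedFunctor.comp g (AlgSt.subIncl 𝒳 Q))),
        IsEquivOver e ∧ P (AlgSt.spMapOfOver (BasedFunctor.comp e (fpFst _ _)))) :
    AlgSt.RepByAlgSpWith P g := by
  intro U y
  exact rep_transfer P (fpFst y g) (fpFst _ _) (fpPost y g (AlgSt.subIncl 𝒳 Q))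
    (fpPost_isEquivOver y g (AlgSt.subIncl 𝒳 Q)
      (inferInstanceAs (ObjectProperty.ι Q).Full) (inferInstanceAs (ObjectProperty.ι Q).Faithful))
    (fpPost_fst y g _) (h U y)

theorem corestrict_with (P : MorphismProperty (AlgSp.Sp S)) (h𝒳 : IsFibGrpd 𝒳.p)
    {𝒵 : AlgSt.Cat S} (h𝒵 : IsFibGrpd 𝒵.p) (c : 𝒵 ⥤ᵇ 𝒳) (hc : AlgSt.RepByAlgSpWith P c) :
    AlgSt.RepByAlgSpWith P (corestrict h𝒳 h𝒵 c) :=
  with_of_comp_subIncl P _ fun U y => hc U (BasedFunctor.comp y (AlgSt.subIncl 𝒳 _))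

theorem corestrict_surjective (h𝒳 : AlgSt.IsAlgStack Scheme.fppfPrecoverage 𝒳)
    {𝒵 : AlgSt.Cat S} (h𝒵 : AlgSt.IsAlgStack Scheme.fppfPrecoverage 𝒵) (c : 𝒵 ⥤ᵇ 𝒳)
    (hc : AlgSt.RepByAlgSp1 c) :
    AlgSt.RepByAlgSpWith AlgSp.IsSurjectiveMor (corestrict h𝒳.isStack.1 h𝒵.isStack.1 c) := by
  refine with_of_comp_subIncl _ _ fun U y => ?_
  obtain ⟨F, e, he⟩ := hc U (BasedFunctor.comp y (AlgSt.subIncl 𝒳 _))
  refine ⟨F, e, he, fun r0 => ?_⟩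
  obtain ⟨t, rfl⟩ := (AlgSp.Points.schemeEquiv U).surjective r0
  have h1 : AlgSt.Points.ofChart (BasedFunctor.comp y (AlgSt.subIncl 𝒳
      (Qof (Set.range (AlgSt.Points.map c))))) t ∈ Set.range (AlgSt.Points.map c) := by
    rw [ofChart_comp]
    have := Set.mem_range_self (f := AlgSt.Points.map (AlgSt.subIncl 𝒳
      (Qof (Set.range (AlgSt.Points.map c))))) (AlgSt.Points.ofChart y t)
    rwa [range_subIncl] at this
  obtain ⟨x, hx⟩ := h1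
  obtain ⟨r, hr, -⟩ := exists_point_fp h𝒵 h𝒳 c _ F.obj e he t x hx.symm
  exact ⟨r, hr⟩

end Groth.Agent.H32.OpenSub2
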