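import Groth.Agent.H32.SpComp
import Groth.Agent.H32.Sect
import Groth.Agent.H32.Fp4

/-!
# Base change of representing spaces, with the comparison functors (helper32)
-/

set_option autoImplicit false
open CategoryTheory CategoryTheory.Limits AlgebraicGeometry Opposite
universe u

namespace Groth.Agent.H32.PLoc1

open FibCat Stk Groth.Agent.H32.FibProd Groth.Agent.H32.Fp2 Groth.Agent.H32.Fp3
  Groth.Agent.H32.Fp4 Groth.Agent.H32.PshFp Groth.Agent.H32.PshStack Groth.Agent.H32.SpBridge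
  Groth.Agent.H32.SpTrack Groth.Agent.H32.SpComp Groth.Agent.H32.Sect

variable {S : Scheme.{u}} {𝒳 𝒴 : AlgSt.Cat S}

/-- strengthened base change: the comparison map of representing presheaves is compatible with
the base change functor `pasteMid`. -/
theorem exists_isPullback_baseChange' (f : 𝒳 ⥤ᵇ 𝒴) {G F G' F' : AlgSp.PSp S}
    (h : Stk.ofPsh G ⥤ᵇ 𝒴) (eF : Stk.ofPsh F ⥤ᵇ fp h f) (heF : IsEquivOver eF)
    (k : G' ⟶ G) (eF' : Stk.ofPsh F' ⥤ᵇ fp (BasedFunctor.comp (Stk.ofPshMap k) h) f)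
    (heF' : IsEquivOver eF') :
    ∃ q : F' ⟶ F, IsPullback q
      (pshMapOf (BasedFunctor.comp eF' (fpFst (BasedFunctor.comp (Stk.ofPshMap k) h) f)))
      (pshMapOf (BasedFunctor.comp eF (fpFst h f))) k ∧
      Nonempty (BasedFunctor.comp (Stk.ofPshMap q) eF ≅
        BasedFunctor.comp eF' (pasteMid (Stk.ofPshMap k) h f)) := by
  obtain ⟨α⟩ := ofPshMap_pshMapOf (BasedFunctor.comp eF (fpFst h f))
  obtain ⟨E2, hE2, -, ⟨ε2⟩⟩ := exists_inv_isEquivOver
    (pasteMidR_isEquivOver (Stk.ofPshMap k) eF (fpFst h f) heF)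
  obtain ⟨E, hEdef⟩ : ∃ E : Stk.ofPsh F' ⥤ᵇ fp (Stk.ofPshMap k)
      (Stk.ofPshMap (pshMapOf (BasedFunctor.comp eF (fpFst h f)))),
      E = BasedFunctor.comp eF' (BasedFunctor.comp (paste (Stk.ofPshMap k) h f)
        (BasedFunctor.comp E2 (congrRight (Stk.ofPshMap k) α.symm))) := ⟨_, rfl⟩
  have hE : IsEquivOver E := by
    rw [hEdef]
    exact isEquivOver_comp _ _ heF' (isEquivOver_comp _ _ (paste_isEquivOver _ _ _)
      (isEquivOver_comp _ _ hE2 (congrRight_isEquivOver _ _)))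
  have sq := isPullback_of_equiv (pshMapOf (BasedFunctor.comp eF (fpFst h f))) k E hE
  have e1 : pshMapOf (BasedFunctor.comp E (fpFst _ _)) =
      pshMapOf (BasedFunctor.comp eF' (fpFst (BasedFunctor.comp (Stk.ofPshMap k) h) f)) := by
    rw [hEdef]
    refine pshMapOf_eq_of_hom _ _ (fun a => ?_)
    exact ⟨(fpFst (Stk.ofPshMap k) (fpFst h f)).map
        (appIso ε2 ((paste (Stk.ofPshMap k) h f).obj (eF'.obj a))).hom,
      isHomLift_id_of_eq _ (eF'.w_obj a) _
        ((BasedFunctor.isHomLift_iff (fpFst (Stk.ofPshMap k) (fpFst h f)) _ _).mpr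
          (appIso_isHomLift ε2 ((paste (Stk.ofPshMap k) h f).obj (eF'.obj a))))⟩
  rw [e1] at sq
  refine ⟨_, sq, ?_⟩
  obtain ⟨β⟩ := ofPshMap_pshMapOf (BasedFunctor.comp E (fpSnd (Stk.ofPshMap k)
    (Stk.ofPshMap (pshMapOf (BasedFunctor.comp eF (fpFst h f))))))
  have iso1 := whiskerRightIso β eF
  have e2 : BasedFunctor.comp (BasedFunctor.comp E (fpSnd (Stk.ofPshMap k)
      (Stk.ofPshMap (pshMapOf (BasedFunctor.comp eF (fpFst h f)))))) eF =
      BasedFunctor.comp (BasedFunctor.comp eF' (paste (Stk.ofPshMap k) h f))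
        (BasedFunctor.comp (BasedFunctor.comp E2 (pasteMidR (Stk.ofPshMap k) eF (fpFst h f)))
          (fpSnd (Stk.ofPshMap k) (fpFst h f))) := by
    rw [hEdef]; rfl
  have iso2 := whiskerLeftIso (BasedFunctor.comp eF' (paste (Stk.ofPshMap k) h f))
    (whiskerRightIso ε2 (fpSnd (Stk.ofPshMap k) (fpFst h f)))
  have e3 : BasedFunctor.comp (BasedFunctor.comp eF' (paste (Stk.ofPshMap k) h f))
      (BasedFunctor.comp (BasedFunctor.id _) (fpSnd (Stk.ofPshMap k) (fpFst h f))) =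
      BasedFunctor.comp eF' (pasteMid (Stk.ofPshMap k) h f) := rfl
  exact ⟨iso1 ≪≫ eqToIso e2 ≪≫ iso2 ≪≫ eqToIso e3⟩

/-- the comparison of the two ways of changing the base along `r ≫ y` and along the map of
presheaves it induces. -/
noncomputable def bcCompare (f : 𝒳 ⥤ᵇ 𝒴) {G G' : AlgSp.PSp S} {𝒵 : AlgSt.Cat S}
    (h : Stk.ofPsh G ⥤ᵇ 𝒴) (y : 𝒵 ⥤ᵇ Stk.ofPsh G) (r : Stk.ofPsh G' ⥤ᵇ 𝒵)
    (θ₀ : Stk.ofPshMap (pshMapOf (BasedFunctor.comp r y)) ≅ BasedFunctor.comp r y) :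
    BasedFunctor.comp
      (congrLeft (y := BasedFunctor.comp (BasedFunctor.comp r y) h)
        (y' := BasedFunctor.comp (Stk.ofPshMap (pshMapOf (BasedFunctor.comp r y))) h)
        (whiskerRightIso θ₀.symm h) f)
      (pasteMid (Stk.ofPshMap (pshMapOf (BasedFunctor.comp r y))) h f) ≅
    BasedFunctor.comp (pasteMid r (BasedFunctor.comp y h) f) (pasteMid y h f) :=
  fpIsoMk _ _
    (fun t => appIso θ₀ t.obj.fst)
    (fun t => Iso.refl t.obj.snd)
    (fun t => appIso_isHomLift θ₀ t.obj.fst)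
    (fun t => by
      change h.map (appIso θ₀ t.obj.fst).hom ≫ t.obj.iso.hom =
        (h.map (appIso θ₀.symm t.obj.fst).inv ≫ t.obj.iso.hom) ≫ f.map (𝟙 t.obj.snd)
      rw [f.toFunctor.map_id, Category.comp_id]
      rfl)
    (fun {t t'} m => appIso_naturality θ₀ m.hom.fst)
    (fun {t t'} m => by
      change m.hom.snd ≫ 𝟙 _ = 𝟙 _ ≫ m.hom.snd
      rw [Category.comp_id, Category.id_comp])

/-- base change along a functor `y : 𝒵 ⟶ ofPsh G` from a category `𝒵` equivalent to the category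
of a presheaf `G'`. -/
theorem exists_isPullback_baseChange_y (f : 𝒳 ⥤ᵇ 𝒴) {G F G' F' : AlgSp.PSp S} {𝒵 : AlgSt.Cat S}
    (h : Stk.ofPsh G ⥤ᵇ 𝒴) (eF : Stk.ofPsh F ⥤ᵇ fp h f) (heF : IsEquivOver eF)
    (y : 𝒵 ⥤ᵇ Stk.ofPsh G) (r : Stk.ofPsh G' ⥤ᵇ 𝒵) (hr : IsEquivOver r)
    (eF' : Stk.ofPsh F' ⥤ᵇ fp (BasedFunctor.comp y h) f) (heF' : IsEquivOver eF') :
    ∃ (q : F' ⟶ F) (f' : F' ⟶ G'),
      IsPullback q f' (pshMapOf (BasedFunctor.comp eF (fpFst h f)))
        (pshMapOf (BasedFunctor.comp r y)) ∧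
      Nonempty (BasedFunctor.comp (Stk.ofPshMap q) eF ≅
        BasedFunctor.comp eF' (pasteMid y h f)) ∧
      Nonempty (BasedFunctor.comp (Stk.ofPshMap f') r ≅
        BasedFunctor.comp eF' (fpFst (BasedFunctor.comp y h) f)) := by
  obtain ⟨θ₀⟩ := ofPshMap_pshMapOf (BasedFunctor.comp r y)
  obtain ⟨PMi, hPMi, -, ⟨ε⟩⟩ := exists_inv_isEquivOver
    (pasteMid_isEquivOver r (BasedFunctor.comp y h) f hr)
  obtain ⟨CL, hCLdef⟩ : ∃ CL : fp (BasedFunctor.comp r (BasedFunctor.comp y h)) f ⥤ᵇ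
      fp (BasedFunctor.comp (Stk.ofPshMap (pshMapOf (BasedFunctor.comp r y))) h) f,
      CL = congrLeft (y := BasedFunctor.comp (BasedFunctor.comp r y) h)
        (y' := BasedFunctor.comp (Stk.ofPshMap (pshMapOf (BasedFunctor.comp r y))) h)
        (whiskerRightIso θ₀.symm h) f := ⟨_, rfl⟩
  have hCL : IsEquivOver CL := by rw [hCLdef]; exact congrLeft_isEquivOver _ f
  obtain ⟨eF'', heF''def⟩ : ∃ eF'' : Stk.ofPsh F' ⥤ᵇ
      fp (BasedFunctor.comp (Stk.ofPshMap (pshMapOf (BasedFunctor.comp r y))) h) f,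
      eF'' = BasedFunctor.comp eF' (BasedFunctor.comp PMi CL) := ⟨_, rfl⟩
  have heF'' : IsEquivOver eF'' := by
    rw [heF''def]; exact isEquivOver_comp _ _ heF' (isEquivOver_comp _ _ hPMi hCL)
  obtain ⟨q, sq, ⟨c1⟩⟩ := exists_isPullback_baseChange' f h eF heF
    (pshMapOf (BasedFunctor.comp r y)) eF'' heF''
  refine ⟨q, _, sq, ?_, ?_⟩
  · -- compatibility with the base change functor
    have e1 : BasedFunctor.comp eF''
        (pasteMid (Stk.ofPshMap (pshMapOf (BasedFunctor.comp r y))) h f) =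
        BasedFunctor.comp (BasedFunctor.comp eF' PMi) (BasedFunctor.comp
          (congrLeft (y := BasedFunctor.comp (BasedFunctor.comp r y) h)
            (y' := BasedFunctor.comp (Stk.ofPshMap (pshMapOf (BasedFunctor.comp r y))) h)
            (whiskerRightIso θ₀.symm h) f)
          (pasteMid (Stk.ofPshMap (pshMapOf (BasedFunctor.comp r y))) h f)) := by
      rw [heF''def, hCLdef]; rfl
    have i2 := whiskerLeftIso (BasedFunctor.comp eF' PMi) (bcCompare f h y r θ₀)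
    have e2 : BasedFunctor.comp (BasedFunctor.comp eF' PMi)
        (BasedFunctor.comp (pasteMid r (BasedFunctor.comp y h) f) (pasteMid y h f)) =
        BasedFunctor.comp eF' (BasedFunctor.comp
          (BasedFunctor.comp PMi (pasteMid r (BasedFunctor.comp y h) f)) (pasteMid y h f)) := rfl
    have i3 := whiskerLeftIso eF' (whiskerRightIso ε (pasteMid y h f))
    have e3 : BasedFunctor.comp eF' (BasedFunctor.comp (BasedFunctor.id _) (pasteMid y h f)) =
        BasedFunctor.comp eF' (pasteMid y h f) := rfl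
    exact ⟨c1 ≪≫ eqToIso e1 ≪≫ i2 ≪≫ eqToIso e2 ≪≫ i3 ≪≫ eqToIso e3⟩
  · obtain ⟨β⟩ := ofPshMap_pshMapOf (BasedFunctor.comp eF''
      (fpFst (BasedFunctor.comp (Stk.ofPshMap (pshMapOf (BasedFunctor.comp r y))) h) f))
    have i1 := whiskerRightIso β r
    have e1 : BasedFunctor.comp (BasedFunctor.comp eF''
        (fpFst (BasedFunctor.comp (Stk.ofPshMap (pshMapOf (BasedFunctor.comp r y))) h) f)) r =
        BasedFunctor.comp eF' (BasedFunctor.comp
          (BasedFunctor.comp PMi (pasteMid r (BasedFunctor.comp y h) f))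
          (fpFst (BasedFunctor.comp y h) f)) := by
      rw [heF''def, hCLdef]; rfl
    have i2 := whiskerLeftIso eF' (whiskerRightIso ε (fpFst (BasedFunctor.comp y h) f))
    have e2 : BasedFunctor.comp eF' (BasedFunctor.comp (BasedFunctor.id _)
        (fpFst (BasedFunctor.comp y h) f)) =
        BasedFunctor.comp eF' (fpFst (BasedFunctor.comp y h) f) := rfl
    exact ⟨i1 ≪≫ eqToIso e1 ≪≫ i2 ≪≫ eqToIso e2⟩

end Groth.Agent.H32.PLoc1
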