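import Groth.Prelude.Def_AlgSt
import Groth.Agent.H32.PshStack
import Groth.Agent.H32.Fp2
import Mathlib.CategoryTheory.Limits.Types.Pullbacks

/-!
# Functors between categories of presheaves, and pullbacks of presheaves as 2-fibre products
(helper32)
-/

set_option autoImplicit false
open CategoryTheory CategoryTheory.Limits Opposite
universe w v₂ u₂ v u

namespace Groth.Agent.H32.PshFp

open Stk FibCat Groth.Agent.H32.PshStack Groth.Agent.H32.FibProd Groth.Agent.H32.Fp2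
  Groth.Agent.H32.StkLoc

variable {C : Type u} [Category.{v} C]

section maps
variable {P Q : Cᵒᵖ ⥤ Type w}

/-- the map of presheaves of a functor over `C` between the categories of two presheaves. -/
def pshMapOf (Φ : ofPsh P ⥤ᵇ ofPsh Q) : P ⟶ Q where
  app U := ↾fun s => secAs (Φ.obj ⟨U.unop, s⟩) (Φ.w_obj ⟨U.unop, s⟩)
  naturality U V f := by
    ext s
    have h := secAs_functor_map Φ (a := (⟨V.unop, P.map f s⟩ : EltObj P)) (b := ⟨U.unop, s⟩)
      ⟨f.unop, rfl⟩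
    exact h.symm

theorem pshMapOf_app (Φ : ofPsh P ⥤ᵇ ofPsh Q) (U : C) (s : P.obj (op U)) :
    (pshMapOf Φ).app (op U) s = secAs (Φ.obj ⟨U, s⟩) (Φ.w_obj ⟨U, s⟩) := rfl

theorem secAs_mk (b : C) (s : P.obj (op b)) (h : b = b) : secAs (⟨b, s⟩ : EltObj P) h = s :=
  secAs_self _ _

theorem pshMapOf_ofPshMap (φ : P ⟶ Q) : pshMapOf (ofPshMap φ) = φ := by
  ext U s
  change secAs ((ofPshMap φ).obj ⟨U.unop, s⟩) ((ofPshMap φ).w_obj ⟨U.unop, s⟩) = φ.app U s
  exact secAs_mk _ _ _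

theorem ofPshMap_pshMapOf (Φ : ofPsh P ⥤ᵇ ofPsh Q) : Nonempty (ofPshMap (pshMapOf Φ) ≅ Φ) := by
  refine exists_iso_of_secAs _ _ (fun a => ?_)
  exact (secAs_mk _ _ _).trans rfl

theorem pshMapOf_congr {Φ Ψ : ofPsh P ⥤ᵇ ofPsh Q} (α : Φ ⟶ Ψ) : pshMapOf Φ = pshMapOf Ψ := by
  ext U s
  exact secAs_eq_of_natTrans α ⟨U.unop, s⟩

/-- a morphism of the category of a presheaf lying over an identity has equal sections. -/
theorem sec_eq_of_hom_id {T : C} {s s' : P.obj (op T)} (k : (⟨T, s⟩ : EltObj P) ⟶ ⟨T, s'⟩)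
    (hk : (EltObj.forget P).IsHomLift (𝟙 T) k) : s = s' := by
  have := secAs_eq_of_hom k hk rfl rfl
  rwa [secAs_self, secAs_self] at this

theorem isIso_pshMapOf (Φ : ofPsh P ⥤ᵇ ofPsh Q) (h : IsEquivOver Φ) : IsIso (pshMapOf Φ) := by
  rw [Groth.Agent.S5139.result] at h
  obtain ⟨⟨hfull, hfaith⟩, hess⟩ := h
  have hiso : ∀ U, IsIso ((pshMapOf Φ).app U) := fun U => by
    rw [isIso_iff_bijective]
    constructor
    · intro s s' hss'
      have hss'' : secAs (Φ.obj ⟨U.unop, s⟩) (Φ.w_obj ⟨U.unop, s⟩) =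
          secAs (Φ.obj ⟨U.unop, s'⟩) (Φ.w_obj ⟨U.unop, s'⟩) := hss'
      obtain ⟨m, hm⟩ := exists_hom_of_secAs_eq _ _ _ _ hss''
      obtain ⟨k, hk⟩ := hfull.map_surjective m
      have hm' : (EltObj.forget Q).IsHomLift (𝟙 U.unop) (Φ.map k) := by
        have e : Φ.map k = m := hk
        rw [e]; exact hm
      have hk' : (EltObj.forget P).IsHomLift (𝟙 U.unop) k :=
        (BasedFunctor.isHomLift_iff Φ _ _).mp hm'
      exact sec_eq_of_hom_id k hk'
    · intro t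
      obtain ⟨ξ, e, he⟩ := hess ⟨U.unop, t⟩
      have he' : (EltObj.forget Q).IsHomLift (𝟙 U.unop) e.hom := he
      have hb : ξ.base = U.unop :=
        (Φ.w_obj ξ).symm.trans (IsHomLift.domain_eq (EltObj.forget Q) (𝟙 U.unop) e.hom)
      obtain ⟨b, s⟩ := ξ
      dsimp at hb
      subst hb
      refine ⟨s, ?_⟩
      have h1 := secAs_eq_of_hom e.hom he' (Φ.w_obj ⟨U.unop, s⟩) rfl
      rw [secAs_self] at h1
      exact h1
  exact NatIso.isIso_of_isIso_app _

end maps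

section pb
variable {F G G' F' : Cᵒᵖ ⥤ Type (max u v)} (a : F ⟶ G) (ξ : G' ⟶ G) (fst : F' ⟶ F) (snd : F' ⟶ G')

theorem pb_w_app (w : fst ≫ a = snd ≫ ξ) (x : EltObj F') : ξ.app (op x.base) (snd.app (op x.base) x.sec) =
    a.app (op x.base) (fst.app (op x.base) x.sec) := by
  have := congrArg (fun t => t.app (op x.base) x.sec) w
  exact this.symm

/-- the 2-isomorphism filling the square of categories of a commutative square of presheaves. -/
noncomputable def pbIso (w : fst ≫ a = snd ≫ ξ) :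
    BasedFunctor.comp (ofPshMap snd) (ofPshMap ξ) ≅
    BasedFunctor.comp (ofPshMap fst) (ofPshMap a) :=
  (exists_iso_of_secAs (BasedFunctor.comp (ofPshMap snd) (ofPshMap ξ))
    (BasedFunctor.comp (ofPshMap fst) (ofPshMap a)) (fun x =>
      (secAs_mk _ _ _).trans ((pb_w_app a ξ fst snd w x).trans (secAs_mk _ _ _).symm))).some

/-- the comparison functor from the category of the corner of a commutative square of presheaves
to the 2-fibre product of the categories. -/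
noncomputable def pbFunctor (w : fst ≫ a = snd ≫ ξ) :
    ofPsh F' ⥤ᵇ fp (ofPshMap ξ) (ofPshMap a) :=
  fpLift (F := ofPshMap ξ) (G := ofPshMap a) (ofPshMap snd) (ofPshMap fst) (pbIso a ξ fst snd w)

theorem pbFunctor_fst (w : fst ≫ a = snd ≫ ξ) : BasedFunctor.comp (pbFunctor a ξ fst snd w) (fpFst _ _) = ofPshMap snd := rfl

theorem pbFunctor_snd (w : fst ≫ a = snd ≫ ξ) : BasedFunctor.comp (pbFunctor a ξ fst snd w) (fpSnd _ _) = ofPshMap fst := rfl

theorem isHomLift_mk {P : Cᵒᵖ ⥤ Type w} {x y : EltObj P} (m : x ⟶ y) :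
    (EltObj.forget P).IsHomLift m.hom m := IsHomLift.map (EltObj.forget P) m

theorem isIso_of_hom_id {P : Cᵒᵖ ⥤ Type w} {T : C} {x y : EltObj P} (m : x ⟶ y)
    (hm : (EltObj.forget P).IsHomLift (𝟙 T) m) : IsIso m :=
  @isIso_of_isFibGrpd _ _ _ _ (EltObj.forget P) inferInstance _ _ _ _ (𝟙 T) (IsIso.id _) m hm

theorem pbFunctor_isEquivOver (sq : IsPullback fst snd a ξ) :
    IsEquivOver (pbFunctor a ξ fst snd sq.w) := by
  have sqT : ∀ T : C,
      IsPullback (fst.app (op T)) (snd.app (op T)) (a.app (op T)) (ξ.app (op T)) :=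
    fun T => sq.map ((evaluation Cᵒᵖ (Type (max u v))).obj (op T))
  rw [Groth.Agent.S5139.result]
  refine ⟨⟨⟨fun {x x'} m => ?_⟩, ⟨fun {x x'} k k' hkk' => ?_⟩⟩, fun η => ?_⟩
  · -- full
    have inst := fp_isHomLift_snd (ofPshMap ξ) (ofPshMap a) m
    have hf : m.hom.fst.hom = m.hom.snd.hom :=
      @IsHomLift.eq_of_isHomLift _ _ _ _ (EltObj.forget F)
        (((pbFunctor a ξ fst snd sq.w).obj x).obj.snd)
        (((pbFunctor a ξ fst snd sq.w).obj x').obj.snd) m.hom.fst.hom m.hom.snd inst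
    obtain ⟨f, hf1, hf2⟩ : ∃ f : x.base ⟶ x'.base, f = m.hom.fst.hom ∧ f = m.hom.snd.hom :=
      ⟨m.hom.fst.hom, rfl, hf⟩
    have h1 : G'.map f.op (snd.app (op x'.base) x'.sec) = snd.app (op x.base) x.sec := by
      subst hf1
      exact m.hom.fst.map_sec
    have h2 : F.map f.op (fst.app (op x'.base) x'.sec) = fst.app (op x.base) x.sec := by
      rw [hf2]
      exact m.hom.snd.map_sec
    have hs : F'.map f.op x'.sec = x.sec :=
      Types.ext_of_isPullback (sqT x.base)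
        ((NatTrans.naturality_apply fst f.op x'.sec).trans h2)
        ((NatTrans.naturality_apply snd f.op x'.sec).trans h1)
    refine ⟨⟨f, hs⟩, ?_⟩
    refine fp_hom_ext _ _ (EltObj.hom_ext hf1) (EltObj.hom_ext hf2)
  · exact EltObj.hom_ext (congrArg (fun t => t.hom.fst.hom) hkk')
  · obtain ⟨⟨x, y, iso⟩, prop⟩ := η
    obtain ⟨T, g'⟩ := x
    obtain ⟨T₂, s⟩ := y
    have prop' : (EltObj.forget G).IsHomLift (𝟙 T) iso.hom := prop
    have hb : T₂ = T := IsHomLift.codomain_eq (EltObj.forget G) (𝟙 T) iso.hom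
    subst hb
    have hsec : ξ.app (op T₂) g' = a.app (op T₂) s := sec_eq_of_hom_id iso.hom prop'
    obtain ⟨s', hs1, hs2⟩ := Types.exists_of_isPullback (sqT T₂) s g' hsec.symm
    let e1 : (⟨T₂, snd.app (op T₂) s'⟩ : EltObj G') ⟶ ⟨T₂, g'⟩ :=
      ⟨𝟙 T₂, by rw [op_id, FunctorToTypes.map_id_apply]; exact hs2.symm⟩
    let e2 : (⟨T₂, fst.app (op T₂) s'⟩ : EltObj F) ⟶ ⟨T₂, s⟩ :=
      ⟨𝟙 T₂, by rw [op_id, FunctorToTypes.map_id_apply]; exact hs1.symm⟩
    have he1 : (EltObj.forget G').IsHomLift (𝟙 T₂) e1 := isHomLift_mk e1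
    have he2 : (EltObj.forget F).IsHomLift (𝟙 T₂) e2 := isHomLift_mk e2
    have hA : (EltObj.forget G).IsHomLift (𝟙 T₂) ((ofPshMap ξ).map e1) :=
      isHomLift_mk ((ofPshMap ξ).map e1)
    have hB : (EltObj.forget G).IsHomLift (𝟙 T₂) ((ofPshMap a).map e2) :=
      isHomLift_mk ((ofPshMap a).map e2)
    have hI : (EltObj.forget G).IsHomLift (𝟙 T₂)
        (((pbFunctor a ξ fst snd sq.w).obj ⟨T₂, s'⟩).obj.iso.hom) :=
      ((pbFunctor a ξ fst snd sq.w).obj ⟨T₂, s'⟩).property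
    have cond : (ofPshMap ξ).map e1 ≫ iso.hom =
        ((pbFunctor a ξ fst snd sq.w).obj ⟨T₂, s'⟩).obj.iso.hom ≫ (ofPshMap a).map e2 :=
      hom_eq_of_lift _ _ (𝟙 T₂)
        (isHomLift_comp_id_left (EltObj.forget G) (𝟙 T₂) _ _ hA prop')
        (isHomLift_comp_id_left (EltObj.forget G) (𝟙 T₂) _ _ hI hB)
    let e : (pbFunctor a ξ fst snd sq.w).obj ⟨T₂, s'⟩ ⟶
        (⟨⟨⟨T₂, g'⟩, ⟨T₂, s⟩, iso⟩, prop⟩ : (fp (ofPshMap ξ) (ofPshMap a)).obj) :=
      mkHom (ofPshMap ξ) (ofPshMap a) e1 e2 cond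
    have hiso : IsIso e := fp_isIso e (isIso_of_hom_id e1 he1) (isIso_of_hom_id e2 he2)
    have hl : (fp (ofPshMap ξ) (ofPshMap a)).p.IsHomLift (𝟙 T₂) e :=
      (fp_isHomLift_iff _ _ _ _).mpr he1
    exact ⟨⟨T₂, s'⟩, asIso e, hl⟩

end pb

end Groth.Agent.H32.PshFp
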