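import Groth.Prelude.Def_AlgSt2
import Groth.Prelude.Def_AlgSpRep
import Groth.Agent.H32.PshFp
import Groth.Agent.H32.Fp3
import Groth.Agent.H32.IsoClEquiv
import Groth.Agent.H50.RepBySp
import Groth.Agent.H50.Fibre

/-!
# Bridge between categories over `(Sch/S)` and presheaves / algebraic spaces (helper32)
-/

set_option autoImplicit false
open CategoryTheory CategoryTheory.Limits AlgebraicGeometry Opposite
universe u

namespace Groth.Agent.H32.SpBridge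

open FibCat Stk Groth.Agent.H32.FibProd Groth.Agent.H32.Fp2 Groth.Agent.H32.Fp3
  Groth.Agent.H32.PshFp Groth.Agent.H32.PshStack

variable {S : Scheme.{u}}

theorem isEquivOver_id (𝒜 : AlgSt.Cat S) : IsEquivOver (BasedFunctor.id 𝒜) :=
  ⟨BasedFunctor.id 𝒜, ⟨Iso.refl _⟩, ⟨Iso.refl _⟩⟩

theorem repByAlgSp_of_equiv {𝒜 ℬ : AlgSt.Cat S} (E : 𝒜 ⥤ᵇ ℬ) (hE : IsEquivOver E)
    (h : AlgSt.RepByAlgSp 𝒜) : AlgSt.RepByAlgSp ℬ := by
  obtain ⟨F, e, he⟩ := h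
  exact ⟨F, BasedFunctor.comp e E, isEquivOver_comp _ _ he hE⟩

theorem repByAlgSp_of_equiv' {𝒜 ℬ : AlgSt.Cat S} (E : 𝒜 ⥤ᵇ ℬ) (hE : IsEquivOver E)
    (h : AlgSt.RepByAlgSp ℬ) : AlgSt.RepByAlgSp 𝒜 := by
  obtain ⟨E', hE', -, -⟩ := exists_inv_isEquivOver hE
  exact repByAlgSp_of_equiv E' hE' h

theorem isAlgSpaceP_of_equiv (H : AlgSp.Space S) (F' : AlgSp.PSp S)
    (E : AlgSt.ofSp H.obj ⥤ᵇ Stk.ofPsh F') (hE : IsEquivOver E) : AlgSp.IsAlgSpaceP F' := by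
  have := isIso_pshMapOf E hE
  exact ((AlgSp.isAlgSpaceP_obj_iff H.obj).2 H.property).of_iso (asIso (pshMapOf E))

theorem repByAlgSp_ofPsh (F' : AlgSp.PSp S) (h : AlgSp.IsAlgSpaceP F') :
    AlgSt.RepByAlgSp (Stk.ofPsh F') := by
  obtain ⟨hs, ha⟩ := h
  exact ⟨⟨⟨F', hs⟩, ha⟩, BasedFunctor.id _, isEquivOver_id _⟩

theorem isAlgSpaceP_of_repByAlgSp (F' : AlgSp.PSp S) (h : AlgSt.RepByAlgSp (Stk.ofPsh F')) :
    AlgSp.IsAlgSpaceP F' := by
  obtain ⟨H, e, he⟩ := h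
  exact isAlgSpaceP_of_equiv H F' e he

theorem ofOverCat_isEquivOver (U : Over S) : IsEquivOver (AlgSt.ofOverCat U) :=
  ⟨AlgSt.toOverCat U, ⟨Iso.refl _⟩, ⟨Iso.refl _⟩⟩

theorem toOverCat_isEquivOver (U : Over S) : IsEquivOver (AlgSt.toOverCat U) :=
  ⟨AlgSt.ofOverCat U, ⟨Iso.refl _⟩, ⟨Iso.refl _⟩⟩

/-- the map of presheaves `h_U ⟶ G` of a functor `(Sch/U) ⟶ ofPsh G`. -/
def pointMap {G : AlgSp.PSp S} {U : Over S} (y : FibCat.overCat U ⥤ᵇ Stk.ofPsh G) :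
    (AlgSp.pyon S).obj U ⟶ G :=
  pshMapOf (BasedFunctor.comp (AlgSt.toOverCat U) y)

theorem pointMap_iso {G : AlgSp.PSp S} {U : Over S} (y : FibCat.overCat U ⥤ᵇ Stk.ofPsh G) :
    Nonempty (BasedFunctor.comp (AlgSt.ofOverCat U) (Stk.ofPshMap (pointMap y)) ≅ y) := by
  refine exists_iso_of_secAs _ _ (fun X => ?_)
  exact (secAs_mk _ _ _).trans rfl

/-- the functor `(Sch/U) ⟶ ofPsh G` of a map of presheaves `h_U ⟶ G`. -/
def ofPoint {G : AlgSp.PSp S} {U : Over S} (ξ : (AlgSp.pyon S).obj U ⟶ G) :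
    FibCat.overCat U ⥤ᵇ Stk.ofPsh G :=
  BasedFunctor.comp (AlgSt.ofOverCat U) (Stk.ofPshMap ξ)

section rep
variable {F G : AlgSp.PSp S} (a : F ⟶ G)

theorem repBySp_of_repByAlgSp1 (h : AlgSt.RepByAlgSp1 (Stk.ofPshMap a)) : AlgSp.RepBySp a := by
  intro U ξ F' fst snd sq
  obtain ⟨H, e, he⟩ := h U (ofPoint ξ)
  have h1 : IsEquivOver (pasteMid (AlgSt.ofOverCat U) (Stk.ofPshMap ξ) (Stk.ofPshMap a)) :=
    pasteMid_isEquivOver _ _ _ (ofOverCat_isEquivOver U)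
  have h2 : IsEquivOver (pbFunctor a ξ fst snd sq.w) := pbFunctor_isEquivOver a ξ fst snd sq
  obtain ⟨E2', hE2', -, -⟩ := exists_inv_isEquivOver h2
  exact isAlgSpaceP_of_equiv H F'
    (BasedFunctor.comp e (BasedFunctor.comp
      (pasteMid (AlgSt.ofOverCat U) (Stk.ofPshMap ξ) (Stk.ofPshMap a)) E2'))
    (isEquivOver_comp _ _ he (isEquivOver_comp _ _ h1 hE2'))

theorem repByAlgSp1_of_repBySp (h : AlgSp.RepBySp a) : AlgSt.RepByAlgSp1 (Stk.ofPshMap a) := by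
  intro U y
  have sq := IsPullback.of_hasPullback a (pointMap y)
  have hF' : AlgSp.IsAlgSpaceP (pullback a (pointMap y)) :=
    h (pointMap y) (pullback.fst a (pointMap y)) (pullback.snd a (pointMap y)) sq
  have h0 := repByAlgSp_ofPsh _ hF'
  have h2 : IsEquivOver (pbFunctor a (pointMap y) _ _ sq.w) := pbFunctor_isEquivOver a _ _ _ sq
  have h3 := repByAlgSp_of_equiv _ h2 h0
  have h1 : IsEquivOver (pasteMid (AlgSt.ofOverCat U) (Stk.ofPshMap (pointMap y)) (Stk.ofPshMap a)) :=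
    pasteMid_isEquivOver _ _ _ (ofOverCat_isEquivOver U)
  have h4 := repByAlgSp_of_equiv' _ h1 h3
  obtain ⟨α⟩ := pointMap_iso y
  exact repByAlgSp_of_equiv _ (congrLeft_isEquivOver α (Stk.ofPshMap a)) h4

end rep

/-- a morphism of algebraic spaces is representable by algebraic spaces as a map of presheaves. -/
theorem repBySp_of_algSpaces {X Y : AlgSp.Sp S} (b : X ⟶ Y) (hX : AlgSp.IsAlgSpace X)
    (hY : AlgSp.IsAlgSpace Y) : AlgSp.RepBySp b.hom := by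
  intro U ξ F' fst snd sq
  let ξ' : (AlgSp.yon S).obj U ⟶ Y := ObjectProperty.homMk ξ
  have hP : AlgSp.IsAlgSpace (pullback b ξ') :=
    Groth.Agent.H50.isAlgSpace_pullback b ξ' hX (AlgSp.IsAlgSpace.yon_obj U) hY.diag
  have sq' : IsPullback (pullback.fst b ξ').hom (pullback.snd b ξ').hom b.hom ξ :=
    (IsPullback.of_hasPullback b ξ').map (sheafToPresheaf (AlgSp.J S) (Type (u + 1)))
  exact ((AlgSp.isAlgSpaceP_obj_iff _).2 hP).of_iso (sq'.isoIsPullback _ _ sq)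

/-- every functor over the base between categories representable by algebraic spaces is
representable by algebraic spaces. -/
theorem repByAlgSp1_of_repByAlgSp {𝒳 𝒴 : AlgSt.Cat S} (hX : AlgSt.RepByAlgSp 𝒳)
    (hY : AlgSt.RepByAlgSp 𝒴) (f : 𝒳 ⥤ᵇ 𝒴) : AlgSt.RepByAlgSp1 f := by
  obtain ⟨X, eX, heX⟩ := hX
  obtain ⟨Y, eY, heY⟩ := hY
  obtain ⟨eY', heY', -, -⟩ := exists_inv_isEquivOver heY
  have hff := (Groth.Agent.S5139.result eY').mp heY'
  intro U y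
  refine repByAlgSp_of_equiv _ (pasteMidR_isEquivOver y eX f heX) ?_
  refine repByAlgSp_of_equiv' _
    (fpPost_isEquivOver y (BasedFunctor.comp eX f) eY' hff.1.1 hff.1.2) ?_
  obtain ⟨α⟩ := ofPshMap_pshMapOf (BasedFunctor.comp (BasedFunctor.comp eX f) eY')
  refine repByAlgSp_of_equiv _ (congrRight_isEquivOver (BasedFunctor.comp y eY') α) ?_
  have hb : AlgSp.RepBySp (pshMapOf (BasedFunctor.comp (BasedFunctor.comp eX f) eY')) :=
    repBySp_of_algSpaces (X := X.obj) (Y := Y.obj)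
      (ObjectProperty.homMk (pshMapOf (BasedFunctor.comp (BasedFunctor.comp eX f) eY')))
      X.property Y.property
  exact repByAlgSp1_of_repBySp _ hb U (BasedFunctor.comp y eY')

end Groth.Agent.H32.SpBridge
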