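import Groth.Prelude.Def_AlgSt4
import Groth.Agent.S12817
import Groth.Agent.S12818
import Groth.Agent.H32.SpBridge
import Groth.Agent.H32.Fp3
import Groth.Agent.H32.Fp4
import Groth.Agent.H32.PshFp
import Groth.Agent.H32.SpTrack
import Groth.Agent.H32.AtlasRep
import Groth.Agent.H32.AlgStackEquiv
import Groth.Agent.S9962
import Groth.Agent.H32.DiagDict
import Groth.Agent.H32.Split

/-!
# Points of categories over `(Sch/S)`: functoriality and comparison with points of sheaves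
(helper32)
-/

set_option autoImplicit false
universe u
open CategoryTheory CategoryTheory.Limits AlgebraicGeometry Opposite

namespace Groth.Agent.H32.StPoints

open FibCat Stk Groth.Agent.H32.Fp3 Groth.Agent.H32.PshStack

variable {S : Scheme.{u}}

noncomputable section

section basic
variable {𝒳 𝒴 𝒵 : AlgSt.Cat S}

theorem map_comp (f : 𝒳 ⥤ᵇ 𝒴) (g : 𝒴 ⥤ᵇ 𝒵) (x : AlgSt.Points 𝒳) :
    AlgSt.Points.map (BasedFunctor.comp f g) x = AlgSt.Points.map g (AlgSt.Points.map f x) := by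
  obtain ⟨p, rfl⟩ := AlgSt.Points.mk_surjective x
  rfl

theorem map_id (x : AlgSt.Points 𝒳) : AlgSt.Points.map (BasedFunctor.id 𝒳) x = x := by
  obtain ⟨p, rfl⟩ := AlgSt.Points.mk_surjective x
  rfl

theorem map_congr {f g : 𝒳 ⥤ᵇ 𝒴} (α : f ≅ g) (x : AlgSt.Points 𝒳) :
    AlgSt.Points.map f x = AlgSt.Points.map g x := by
  obtain ⟨p, rfl⟩ := AlgSt.Points.mk_surjective x
  exact AlgSt.Points.sound ⟨p.map f, 𝟙 _, (appIso α p.obj).hom, trivial⟩

theorem map_bijective (e : 𝒳 ⥤ᵇ 𝒴) (he : IsEquivOver e) :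
    Function.Bijective (AlgSt.Points.map e) := by
  obtain ⟨e', ⟨α⟩, ⟨β⟩⟩ := he
  refine Function.bijective_iff_has_inverse.2 ⟨AlgSt.Points.map e', fun x => ?_, fun y => ?_⟩
  · rw [← map_comp, map_congr α, map_id]
  · rw [← map_comp, map_congr β, map_id]

end basic

theorem map_eqToHom_secAs {C : Type*} [Category C] {P : Cᵒᵖ ⥤ Type*} (x : EltObj P) {W : C}
    (h : x.base = W) : P.map (eqToHom h).op (secAs x h) = x.sec := by
  obtain ⟨b, s⟩ := x
  subst h
  simp [secAs]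

section sp
variable (F : AlgSp.Sp S)

/-- a field-valued point of a sheaf as a field-valued point of its category. -/
def toFPt (p : AlgSp.FieldPt F) : AlgSt.FPt (AlgSt.ofSp F) :=
  { K := p.K, str := p.str, obj := ⟨p.pt, p.val⟩, lies := rfl }

/-- a field-valued point of the category of a sheaf as a field-valued point of the sheaf. -/
def ofFPt (q : AlgSt.FPt (AlgSt.ofSp F)) : AlgSp.FieldPt F :=
  { K := q.K, str := q.str, val := secAs q.obj q.lies }

theorem toFPt_rel {p q : AlgSp.FieldPt F} (h : AlgSp.FieldPt.Rel p q) :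
    AlgSt.FPt.Rel (toFPt F p) (toFPt F q) := by
  obtain ⟨Ω, _, w, a, b, hab⟩ := h
  exact ⟨{ K := Ω, str := w, obj := ⟨Over.mk w, F.obj.map a.op p.val⟩, lies := rfl },
    ⟨a, rfl⟩, ⟨b, hab.symm⟩, trivial⟩

theorem ofFPt_rel {p q : AlgSt.FPt (AlgSt.ofSp F)} (h : AlgSt.FPt.Rel p q) :
    AlgSp.FieldPt.Rel (ofFPt F p) (ofFPt F q) := by
  obtain ⟨r, α, β, -⟩ := h
  refine ⟨r.K, inferInstance, r.str, eqToHom r.lies.symm ≫ α.hom ≫ eqToHom p.lies,
    eqToHom r.lies.symm ≫ β.hom ≫ eqToHom q.lies, ?_⟩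
  have h1 := secAs_map (P := F.obj) α (eqToHom r.lies.symm ≫ α.hom ≫ eqToHom p.lies)
    (IsHomLift.of_fac (EltObj.forget F.obj) _ α r.lies p.lies rfl) r.lies p.lies
  have h2 := secAs_map (P := F.obj) β (eqToHom r.lies.symm ≫ β.hom ≫ eqToHom q.lies)
    (IsHomLift.of_fac (EltObj.forget F.obj) _ β r.lies q.lies rfl) r.lies q.lies
  exact h1.trans h2.symm

/-- points of a sheaf to points of its category. -/
def toSt : AlgSp.Points F → AlgSt.Points (AlgSt.ofSp F) :=
  Quotient.lift (fun p => AlgSt.Points.mk (toFPt F p))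
    (fun _ _ h => AlgSt.Points.sound (toFPt_rel F h))

/-- points of the category of a sheaf to points of the sheaf. -/
def ofSt : AlgSt.Points (AlgSt.ofSp F) → AlgSp.Points F :=
  Quot.lift (fun q => AlgSp.Points.mk (ofFPt F q))
    (fun _ _ h => AlgSp.Points.sound (ofFPt_rel F h))

@[simp] theorem toSt_mk (p : AlgSp.FieldPt F) :
    toSt F (AlgSp.Points.mk p) = AlgSt.Points.mk (toFPt F p) := rfl

@[simp] theorem ofSt_mk (q : AlgSt.FPt (AlgSt.ofSp F)) :
    ofSt F (AlgSt.Points.mk q) = AlgSp.Points.mk (ofFPt F q) := rfl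

theorem ofSt_toSt (x : AlgSp.Points F) : ofSt F (toSt F x) = x := by
  induction x using AlgSp.Points.ind with
  | h p =>
    rw [toSt_mk, ofSt_mk]
    congr 1
    obtain ⟨K, str, val⟩ := p
    change (⟨K, str, _⟩ : AlgSp.FieldPt F) = ⟨K, str, val⟩
    congr 1
    exact secAs_self _ _

theorem toSt_ofSt (y : AlgSt.Points (AlgSt.ofSp F)) : toSt F (ofSt F y) = y := by
  obtain ⟨q, rfl⟩ := AlgSt.Points.mk_surjective y
  rw [ofSt_mk, toSt_mk]
  exact AlgSt.Points.sound ⟨q, ⟨eqToHom q.lies, map_eqToHom_secAs q.obj q.lies⟩, 𝟙 _, trivial⟩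

/-- the points of a sheaf are the points of its category. -/
def ptsEquiv : AlgSp.Points F ≃ AlgSt.Points (AlgSt.ofSp F) where
  toFun := toSt F
  invFun := ofSt F
  left_inv := ofSt_toSt F
  right_inv := toSt_ofSt F

end sp


section chart
variable {𝒳 : AlgSt.Cat S}

/-- the point of `(Sch/U)` of a point of the scheme `U`. -/
def ptOf (U : Over S) (t : ↥U.left) : AlgSt.Points (FibCat.overCat U) :=
  AlgSt.Points.mk
    { K := ↥(U.left.residueField t)
      str := U.left.fromSpecResidueField t ≫ U.hom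
      obj := Over.mk (Over.homMk (U.left.fromSpecResidueField t) rfl :
          Over.mk (U.left.fromSpecResidueField t ≫ U.hom) ⟶ U)
      lies := rfl }

theorem ofChart_eq {U : Over S} (x : FibCat.overCat U ⥤ᵇ 𝒳) (t : ↥U.left) :
    AlgSt.Points.ofChart x t = AlgSt.Points.map x (ptOf U t) := rfl

theorem ptOf_eq (U : Over S) (t : ↥U.left) :
    ptOf U t = AlgSt.Points.map (AlgSt.toOverCat U)
      (toSt ((AlgSp.yon S).obj U) (AlgSp.Points.ofScheme U t)) := rfl

/-- points of a scheme are the points of its slice category. -/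
def ptEquiv (U : Over S) : ↥U.left ≃ AlgSt.Points (FibCat.overCat U) :=
  ((AlgSp.Points.schemeEquiv U).trans (ptsEquiv ((AlgSp.yon S).obj U))).trans
    (Equiv.ofBijective _ (map_bijective _ (Groth.Agent.H32.SpBridge.toOverCat_isEquivOver U)))

theorem ptEquiv_apply (U : Over S) (t : ↥U.left) : ptEquiv U t = ptOf U t := rfl

theorem ptOf_bijective (U : Over S) : Function.Bijective (ptOf U) := (ptEquiv U).bijective

end chart

theorem toSt_map {F G : AlgSp.Sp S} (a : F ⟶ G) (x : AlgSp.Points F) :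
    toSt G (AlgSp.Points.map a x) = AlgSt.Points.map (AlgSt.ofSpMap a) (toSt F x) := by
  induction x using AlgSp.Points.ind with
  | h p => rfl

section overS
open Groth.Agent.H32.PshFp Groth.Agent.H32.SpTrack Groth.Agent.H32.Fp4

/-- the image of a point of a sheaf under a functor to a slice category, through the map of sheaves
it determines. -/
theorem map_toSt_over {F : AlgSp.Sp S} {U : Over S} (Φ : AlgSt.ofSp F ⥤ᵇ FibCat.overCat U)
    (r : AlgSp.Points F) :
    AlgSt.Points.map Φ (toSt F r) =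
      ptOf U (AlgSp.Points.toScheme U (AlgSp.Points.map (AlgSt.spMapOfOver Φ) r)) := by
  obtain ⟨α⟩ := ofPshMap_pshMapOf (BasedFunctor.comp Φ (AlgSt.ofOverCat U))
  have h1 : AlgSt.ofSpMap (AlgSt.spMapOfOver Φ) =
      Stk.ofPshMap (pshMapOf (BasedFunctor.comp Φ (AlgSt.ofOverCat U))) := by
    change Stk.ofPshMap (AlgSt.spMapOfOver Φ).hom = _
    rw [spMapOfOver_hom]
  have h2 : AlgSt.Points.map (AlgSt.ofSpMap (AlgSt.spMapOfOver Φ)) (toSt F r) =
      AlgSt.Points.map (BasedFunctor.comp Φ (AlgSt.ofOverCat U)) (toSt F r) := by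
    rw [h1]
    exact map_congr α _
  rw [ptOf_eq, AlgSp.Points.ofScheme_toScheme, toSt_map, h2, map_comp, ← map_comp (AlgSt.ofOverCat U)]
  exact (map_id _).symm

variable {𝒳 : AlgSt.Cat S}

/-- a representing sheaf of the fibre product of two charts maps compatibly to the points. -/
theorem chart_sq {U V : Over S} (y : FibCat.overCat V ⥤ᵇ 𝒳) (x : FibCat.overCat U ⥤ᵇ 𝒳)
    (F : AlgSp.Sp S) (e : AlgSt.ofSp F ⥤ᵇ fp y x) (r : AlgSp.Points F) :
    AlgSt.Points.ofChart y (AlgSp.Points.toScheme V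
        (AlgSp.Points.map (AlgSt.spMapOfOver (BasedFunctor.comp e (fpFst y x))) r)) =
      AlgSt.Points.ofChart x (AlgSp.Points.toScheme U
        (AlgSp.Points.map (AlgSt.spMapOfOver (BasedFunctor.comp e (fpSnd y x))) r)) := by
  rw [ofChart_eq, ofChart_eq, ← map_toSt_over, ← map_toSt_over, ← map_comp, ← map_comp]
  exact map_congr (whiskerLeftIso e (fpIso y x)) _

theorem isAlgStack_overCat (U : Over S) :
    AlgSt.IsAlgStack Scheme.fppfPrecoverage (FibCat.overCat U) :=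
  Groth.Agent.H32.AlgStackEquiv.isAlgStack_of_equiv (AlgSt.toOverCat U)
    (Groth.Agent.H32.SpBridge.toOverCat_isEquivOver U)
    (Groth.Agent.H32.AtlasRep.isAlgStack_ofSp ((AlgSp.ofScheme S).obj U))

/-- two points of two charts with the same image come from a point of a representing sheaf of the
fibre product. -/
theorem chart_sq_surj (h𝒳 : AlgSt.IsAlgStack Scheme.fppfPrecoverage 𝒳) {U V : Over S}
    (y : FibCat.overCat V ⥤ᵇ 𝒳) (x : FibCat.overCat U ⥤ᵇ 𝒳)
    (F : AlgSp.Sp S) (e : AlgSt.ofSp F ⥤ᵇ fp y x) (he : IsEquivOver e) (v : ↥V.left) (u : ↥U.left)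
    (h : AlgSt.Points.ofChart y v = AlgSt.Points.ofChart x u) :
    ∃ r : AlgSp.Points F,
      AlgSp.Points.toScheme V
        (AlgSp.Points.map (AlgSt.spMapOfOver (BasedFunctor.comp e (fpFst y x))) r) = v ∧
      AlgSp.Points.toScheme U
        (AlgSp.Points.map (AlgSt.spMapOfOver (BasedFunctor.comp e (fpSnd y x))) r) = u := by
  obtain ⟨w, hw1, hw2⟩ := Groth.Agent.S12818.result (isAlgStack_overCat U) h𝒳 (isAlgStack_overCat V)
    x y (ptOf V v) (ptOf U u) h
  obtain ⟨w', rfl⟩ := (map_bijective e he).2 w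
  obtain ⟨r, rfl⟩ := (ptsEquiv F).surjective w'
  refine ⟨r, (ptOf_bijective V).1 ?_, (ptOf_bijective U).1 ?_⟩
  · rw [← map_toSt_over, map_comp]
    exact hw1
  · rw [← map_toSt_over, map_comp]
    exact hw2

end overS

section top
open Groth.Agent.H32.DiagDict Groth.Agent.H32.AtlasRep
variable {𝒳 : AlgSt.Cat S}

theorem isOpenMap_of_flat_lfp {X Y : AlgSp.Sp S} (hX : AlgSp.IsAlgSpace X) (hY : AlgSp.IsAlgSpace Y)
    (f : X ⟶ Y) (h : (AlgSp.LocP @Flat ⊓ AlgSp.LocP @LocallyOfFinitePresentation) f) :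
    IsOpenMap (AlgSp.Points.map f) :=
  Groth.Agent.S9962.result (X := ⟨X, hX⟩) (Y := ⟨Y, hY⟩) (ObjectProperty.homMk f) h.1 h.2 hY
    (𝟙 _) (𝟙 _) f IsPullback.of_id_fst

theorem continuous_toScheme (U : Over S) : Continuous (AlgSp.Points.toScheme U) :=
  (AlgSp.Points.schemeHomeo U).symm.continuous

theorem locP_precomp_iso (Q : MorphismProperty Scheme.{u}) ⦃X X' Y : AlgSp.Sp S⦄ (i : X' ≅ X)
    (a : X ⟶ Y) (h : AlgSp.LocP Q a) : AlgSp.LocP Q (i.hom ≫ a) :=
  Groth.Agent.H32.SpComp.locP_iso_comp i a h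

/-- flat, locally finitely presented charts are open, with open preimages of opens. -/
theorem ofChart_isOpenMap (h𝒳 : AlgSt.IsAlgStack Scheme.fppfPrecoverage 𝒳) (U : Over S)
    (x : FibCat.overCat U ⥤ᵇ 𝒳)
    (hx : AlgSt.RepByAlgSpWith (AlgSp.LocP @Flat ⊓ AlgSp.LocP @LocallyOfFinitePresentation) x) :
    IsOpenMap (AlgSt.Points.ofChart x) := by
  intro O hO V b _
  obtain ⟨F, e, he, hP⟩ := hx V b
  let pV := AlgSt.spMapOfOver (BasedFunctor.comp e (fpFst b x))
  let pU := AlgSt.spMapOfOver (BasedFunctor.comp e (fpSnd b x))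
  have hopen : IsOpenMap (AlgSp.Points.map pV) :=
    isOpenMap_of_flat_lfp F.property (AlgSp.IsAlgSpace.yon_obj V) pV hP
  have heq : AlgSt.Points.ofChart b ⁻¹' (AlgSt.Points.ofChart x '' O) =
      (fun r => AlgSp.Points.toScheme V (AlgSp.Points.map pV r)) ''
        ((fun r => AlgSp.Points.toScheme U (AlgSp.Points.map pU r)) ⁻¹' O) := by
    ext v
    constructor
    · rintro ⟨u, hu, huv⟩
      obtain ⟨r, hr1, hr2⟩ := chart_sq_surj h𝒳 b x F.obj e he v u huv.symm
      exact ⟨r, by simpa [pU, hr2] using hu, hr1⟩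
    · rintro ⟨r, hr, rfl⟩
      exact ⟨_, hr, (chart_sq b x F.obj e r).symm⟩
  rw [heq]
  have h1 : IsOpen ((fun r => AlgSp.Points.toScheme U (AlgSp.Points.map pU r)) ⁻¹' O) :=
    hO.preimage ((continuous_toScheme U).comp (AlgSp.Points.continuous_map pU))
  exact ((AlgSp.Points.schemeHomeo V).symm.isOpenMap.comp hopen) _ h1

theorem locP_mono {Q Q' : MorphismProperty Scheme.{u}} (hle : ∀ ⦃A B : Scheme.{u}⦄ (g : A ⟶ B), Q g → Q' g)
    ⦃X Y : AlgSp.Sp S⦄ (a : X ⟶ Y) (h : AlgSp.LocP Q a) : AlgSp.LocP Q' a :=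
  fun _ _ p q k hp hq comm => hle _ (h p q k hp hq comm)

theorem flat_lfp_of_smooth ⦃X Y : AlgSp.Sp S⦄ (a : X ⟶ Y) (h : AlgSp.LocP @Smooth a) :
    (AlgSp.LocP @Flat ⊓ AlgSp.LocP @LocallyOfFinitePresentation) a :=
  ⟨locP_mono (fun _ _ g (_ : Smooth g) => inferInstanceAs (Flat g)) a h,
    locP_mono (fun _ _ g (_ : Smooth g) => inferInstanceAs (LocallyOfFinitePresentation g)) a h⟩

theorem isSurjectiveMor_precomp_iso ⦃X X' Y : AlgSp.Sp S⦄ (i : X' ≅ X)
    (a : X ⟶ Y) (h : AlgSp.IsSurjectiveMor a) : AlgSp.IsSurjectiveMor (i.hom ≫ a) :=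
  haveI := isSurjectiveMor_respectsIso (S := S)
  MorphismProperty.RespectsIso.precomp _ i.hom a h

/-- every scheme chart of an algebraic stack is continuous. -/
theorem ofChart_continuous (h𝒳 : AlgSt.IsAlgStack Scheme.fppfPrecoverage 𝒳) (U : Over S)
    (x : FibCat.overCat U ⥤ᵇ 𝒳) : Continuous (AlgSt.Points.ofChart x) := by
  obtain ⟨V, a, ha, hs⟩ := h𝒳.atlas
  refine continuous_def.2 fun W hW => ?_
  obtain ⟨F, e, he, hsm, hsurj⟩ := with_inf isSurjectiveMor_precomp_iso ha hs U x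
  let pU := AlgSt.spMapOfOver (BasedFunctor.comp e (fpFst x a))
  let pV := AlgSt.spMapOfOver (BasedFunctor.comp e (fpSnd x a))
  have hopen : IsOpenMap (AlgSp.Points.map pU) :=
    isOpenMap_of_flat_lfp F.property (AlgSp.IsAlgSpace.yon_obj U) pU (flat_lfp_of_smooth _ hsm)
  have hW' : IsOpen (AlgSt.Points.ofChart a ⁻¹' W) := hW V a ha
  have heq : AlgSt.Points.ofChart x ⁻¹' W =
      (fun r => AlgSp.Points.toScheme U (AlgSp.Points.map pU r)) ''
        ((fun r => AlgSp.Points.toScheme V (AlgSp.Points.map pV r)) ⁻¹'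
          (AlgSt.Points.ofChart a ⁻¹' W)) := by
    ext t
    constructor
    · intro ht
      obtain ⟨r, hr⟩ := hsurj (AlgSp.Points.ofScheme U t)
      refine ⟨r, ?_, ?_⟩
      · change AlgSt.Points.ofChart a _ ∈ W
        rw [← chart_sq x a F.obj e r]
        rw [hr, AlgSp.Points.toScheme_ofScheme]
        exact ht
      · change AlgSp.Points.toScheme U (AlgSp.Points.map pU r) = t
        rw [show AlgSp.Points.map pU r = AlgSp.Points.ofScheme U t from hr,
          AlgSp.Points.toScheme_ofScheme]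
    · rintro ⟨r, hr, rfl⟩
      change AlgSt.Points.ofChart x (AlgSp.Points.toScheme U (AlgSp.Points.map (AlgSt.spMapOfOver
        (BasedFunctor.comp e (fpFst x a))) r)) ∈ W
      rw [chart_sq x a F.obj e r]
      exact hr
  rw [heq]
  have h1 : IsOpen ((fun r => AlgSp.Points.toScheme V (AlgSp.Points.map pV r)) ⁻¹'
      (AlgSt.Points.ofChart a ⁻¹' W)) :=
    hW'.preimage ((continuous_toScheme V).comp (AlgSp.Points.continuous_map pV))
  exact ((AlgSp.Points.schemeHomeo U).symm.isOpenMap.comp hopen) _ h1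

end top

section yon
variable {𝒳 𝒴 𝒵 : AlgSt.Cat S}

/-- every field-valued point of a category fibred in groupoids is the image of a point under a
functor from a slice category (2-Yoneda). -/
theorem exists_chart_of_fpt (h𝒳 : IsFibGrpd 𝒳.p) (p : AlgSt.FPt 𝒳) :
    ∃ (Y : FibCat.overCat (Over.mk p.str) ⥤ᵇ 𝒳) (z : AlgSt.Points (FibCat.overCat (Over.mk p.str))),
      AlgSt.Points.map Y z = AlgSt.Points.mk p := by
  haveI : 𝒳.p.IsFibered := Groth.Agent.H32.Split.isFibered_of_isFibGrpd 𝒳 h𝒳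
  obtain ⟨Y, -, τ, -, -⟩ := Groth.Agent.H32.Yoneda2.exists_based_functor
    (Groth.Agent.H32.Split.hT (Over.mk p.str)) p.obj p.lies
  let q : AlgSt.FPt (FibCat.overCat (Over.mk p.str)) :=
    { K := p.K, str := p.str, obj := Groth.Agent.H32.Split.T (Over.mk p.str), lies := rfl }
  exact ⟨Y, AlgSt.Points.mk q, AlgSt.Points.sound ⟨q.map Y, 𝟙 _, τ, trivial⟩⟩

theorem exists_chart_of_point (h𝒳 : IsFibGrpd 𝒳.p) (z : AlgSt.Points 𝒳) :
    ∃ (W : Over S) (Y : FibCat.overCat W ⥤ᵇ 𝒳) (t : ↥W.left), AlgSt.Points.ofChart Y t = z := by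
  obtain ⟨p, rfl⟩ := AlgSt.Points.mk_surjective z
  obtain ⟨Y, q, hq⟩ := exists_chart_of_fpt h𝒳 p
  obtain ⟨t, rfl⟩ := (ptOf_bijective _).2 q
  exact ⟨_, Y, t, hq⟩

/-- points of the fibre product over a scheme chart, through a representing sheaf. -/
theorem exists_point_fp (h𝒳 : AlgSt.IsAlgStack Scheme.fppfPrecoverage 𝒳)
    (h𝒴 : AlgSt.IsAlgStack Scheme.fppfPrecoverage 𝒴) (f : 𝒳 ⥤ᵇ 𝒴) {U : Over S}
    (y : FibCat.overCat U ⥤ᵇ 𝒴) (F : AlgSp.Sp S) (e : AlgSt.ofSp F ⥤ᵇ fp y f) (he : IsEquivOver e)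
    (t : ↥U.left) (x : AlgSt.Points 𝒳) (h : AlgSt.Points.ofChart y t = AlgSt.Points.map f x) :
    ∃ r : AlgSp.Points F,
      AlgSp.Points.map (AlgSt.spMapOfOver (BasedFunctor.comp e (fpFst y f))) r =
        AlgSp.Points.ofScheme U t ∧
      AlgSt.Points.map (BasedFunctor.comp e (fpSnd y f)) (toSt F r) = x := by
  obtain ⟨w, hw1, hw2⟩ := Groth.Agent.S12818.result h𝒳 h𝒴 (isAlgStack_overCat U) f y (ptOf U t) x h
  obtain ⟨w', rfl⟩ := (map_bijective e he).2 w
  obtain ⟨r, rfl⟩ := (ptsEquiv F).surjective w'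
  refine ⟨r, ?_, ?_⟩
  · have h1 := map_toSt_over (BasedFunctor.comp e (fpFst y f)) r
    rw [map_comp] at h1
    have h2 := (ptOf_bijective U).1 (h1.symm.trans hw1)
    rw [← h2, AlgSp.Points.ofScheme_toScheme]
  · rw [map_comp]
    exact hw2

theorem surj_iff (h𝒳 : AlgSt.IsAlgStack Scheme.fppfPrecoverage 𝒳)
    (h𝒴 : AlgSt.IsAlgStack Scheme.fppfPrecoverage 𝒴) (f : 𝒳 ⥤ᵇ 𝒴) (hf : AlgSt.RepByAlgSp1 f) :
    AlgSt.IsSurjective f ↔ AlgSt.RepByAlgSpWith AlgSp.IsSurjectiveMor f := by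
  constructor
  · intro hs U y
    obtain ⟨F, e, he⟩ := hf U y
    refine ⟨F, e, he, fun t' => ?_⟩
    obtain ⟨t, rfl⟩ := (AlgSp.Points.schemeEquiv U).surjective t'
    obtain ⟨x, hx⟩ := hs (AlgSt.Points.ofChart y t)
    obtain ⟨r, hr, -⟩ := exists_point_fp h𝒳 h𝒴 f y F.obj e he t x hx.symm
    exact ⟨r, hr⟩
  · intro hs z
    obtain ⟨W, Y, t, rfl⟩ := exists_chart_of_point h𝒴.isStack.1 z
    obtain ⟨F, e, he, hsurj⟩ := hs W Y
    obtain ⟨r, hr⟩ := hsurj (AlgSp.Points.ofScheme W t)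
    refine ⟨AlgSt.Points.map (BasedFunctor.comp e (fpSnd Y f)) (toSt F.obj r), ?_⟩
    rw [← map_comp, ofChart_eq]
    have h1 := map_toSt_over (BasedFunctor.comp e (fpFst Y f)) r
    rw [hr, AlgSp.Points.toScheme_ofScheme] at h1
    rw [← h1, ← map_comp]
    exact (map_congr (Groth.Agent.H32.Fp4.whiskerLeftIso e (fpIso Y f)) _).symm

end yon

end

end Groth.Agent.H32.StPoints
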