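import Groth.Agent.H32.PLoc1
import Groth.Agent.H32.StPoints
import Groth.Agent.H32.AtlasRep
import Groth.Agent.S12818
import Groth.Agent.H50.Fibre

/-!
# The largest open subspace on which a morphism of algebraic spaces has `P`, and base change
(helper32)
-/

set_option autoImplicit false
open CategoryTheory CategoryTheory.Limits AlgebraicGeometry Opposite
universe u

namespace Groth.Agent.H32.PLoc2

open FibCat Stk Groth.Agent.H32.FibProd Groth.Agent.H32.Fp2 Groth.Agent.H32.Fp3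
  Groth.Agent.H32.Fp4 Groth.Agent.H32.PshFp Groth.Agent.H32.PshStack Groth.Agent.H32.SpBridge
  Groth.Agent.H32.SpTrack Groth.Agent.H32.SpComp Groth.Agent.H32.Sect Groth.Agent.H32.PLoc1
  Groth.Agent.H32.StPoints

variable {S : Scheme.{u}}

/-- `w : W ⟶ F` is the largest open subspace of `F` on which `g : F ⟶ G` has `P`. -/
def IsLargest (P : MorphismProperty (AlgSp.Sp S)) {F G : AlgSp.Space S} (g : F ⟶ G)
    (W : AlgSp.Space S) (w : W ⟶ F) : Prop :=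
  AlgSp.RepWith @IsOpenImmersion w.hom ∧ P (w ≫ g).hom ∧
    ∀ (W₁ : AlgSp.Space S) (w₁ : W₁ ⟶ F), AlgSp.RepWith @IsOpenImmersion w₁.hom →
      P (w₁ ≫ g).hom → ∃ k : W₁ ⟶ W, k ≫ w = w₁

/-- the hypotheses on the three properties `P`, `Q`, `R`. -/
structure Hyp (P Q R : MorphismProperty (AlgSp.Sp S)) : Prop where
  hPb : ∀ ⦃X₁ Y₁ X₂ Y₂ : AlgSp.Sp S⦄, AlgSp.IsAlgSpace X₁ → AlgSp.IsAlgSpace Y₁ →
    AlgSp.IsAlgSpace X₂ → AlgSp.IsAlgSpace Y₂ → ∀ (a : X₁ ⟶ Y₁) (b : Y₂ ⟶ Y₁) (a' : X₂ ⟶ Y₂)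
    (b' : X₂ ⟶ X₁), IsPullback b' a' a b → P a → P a'
  hQb : ∀ ⦃X₁ Y₁ X₂ Y₂ : AlgSp.Sp S⦄, AlgSp.IsAlgSpace X₁ → AlgSp.IsAlgSpace Y₁ →
    AlgSp.IsAlgSpace X₂ → AlgSp.IsAlgSpace Y₂ → ∀ (a : X₁ ⟶ Y₁) (b : Y₂ ⟶ Y₁) (a' : X₂ ⟶ Y₂)
    (b' : X₂ ⟶ X₁), IsPullback b' a' a b → Q a → Q a'
  hRb : ∀ ⦃X₁ Y₁ X₂ Y₂ : AlgSp.Sp S⦄, AlgSp.IsAlgSpace X₁ → AlgSp.IsAlgSpace Y₁ →
    AlgSp.IsAlgSpace X₂ → AlgSp.IsAlgSpace Y₂ → ∀ (a : X₁ ⟶ Y₁) (b : Y₂ ⟶ Y₁) (a' : X₂ ⟶ Y₂)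
    (b' : X₂ ⟶ X₁), IsPullback b' a' a b → R a → R a'
  hP : AlgSp.IsLocalOnBase AlgSp.IsFppfCover P
  hQ : AlgSp.IsLocalOnBase AlgSp.IsFppfCover Q
  hR : AlgSp.IsLocalOnBase AlgSp.IsFppfCover R
  h₂ : ∀ (X Y : AlgSp.Space S) (g : X ⟶ Y), AlgSp.LocP @Smooth g.hom → R g.hom
  h₃ : ∀ (X Y : AlgSp.Space S) (f : X ⟶ Y), Q f.hom → ∃ (W : AlgSp.Space S) (w : W ⟶ X),
    IsLargest P f W w
  h₄ : ∀ (X Y X' Y' : AlgSp.Space S) (f : X ⟶ Y) (g : Y' ⟶ Y) (f' : X' ⟶ Y') (g' : X' ⟶ X),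
    IsPullback g'.hom f'.hom f.hom g.hom → Q f.hom → R g.hom →
    ∀ (W : AlgSp.Space S) (w : W ⟶ X), IsLargest P f W w →
      ∀ (W' : AlgSp.Space S) (w' : W' ⟶ X') (k : W' ⟶ W), IsPullback k.hom w'.hom w.hom g'.hom →
        IsLargest P f' W' w'

/-- the set of points of an open subspace. -/
def ptsOf {F W : AlgSp.Space S} (w : W ⟶ F) : Set (AlgSt.Points (AlgSt.ofSp F.obj)) :=
  Set.range (AlgSt.Points.map (AlgSt.ofSpMap w.hom))

theorem ptsOf_mono {F W W' : AlgSp.Space S} (w : W ⟶ F) (w' : W' ⟶ F) (k : W' ⟶ W)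
    (hk : k ≫ w = w') : ptsOf w' ⊆ ptsOf w := by
  rintro _ ⟨z, rfl⟩
  refine ⟨AlgSt.Points.map (AlgSt.ofSpMap k.hom) z, ?_⟩
  rw [← map_comp]
  subst hk
  rfl

/-- two largest open subspaces have the same points. -/
theorem ptsOf_eq_of_isLargest {P : MorphismProperty (AlgSp.Sp S)} {F G : AlgSp.Space S}
    (g : F ⟶ G) {W W' : AlgSp.Space S} (w : W ⟶ F) (w' : W' ⟶ F) (h : IsLargest P g W w)
    (h' : IsLargest P g W' w') : ptsOf w = ptsOf w' := by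
  obtain ⟨k, hk⟩ := h.2.2 W' w' h'.1 h'.2.1
  obtain ⟨k', hk'⟩ := h'.2.2 W w h.1 h.2.1
  exact Set.Subset.antisymm (ptsOf_mono w' w k' hk') (ptsOf_mono w w' k hk)

/-- points of a pullback square of algebraic spaces. -/
theorem exists_point_of_isPullback {F G G' F' : AlgSp.Space S} (fst : F' ⟶ F) (snd : F' ⟶ G')
    (a : F ⟶ G) (k : G' ⟶ G) (sq : IsPullback fst.hom snd.hom a.hom k.hom)
    (x : AlgSt.Points (AlgSt.ofSp F.obj)) (y : AlgSt.Points (AlgSt.ofSp G'.obj))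
    (hxy : AlgSt.Points.map (AlgSt.ofSpMap a.hom) x = AlgSt.Points.map (AlgSt.ofSpMap k.hom) y) :
    ∃ z : AlgSt.Points (AlgSt.ofSp F'.obj), AlgSt.Points.map (AlgSt.ofSpMap fst.hom) z = x ∧
      AlgSt.Points.map (AlgSt.ofSpMap snd.hom) z = y := by
  have sq' : IsPullback fst.hom.hom snd.hom.hom a.hom.hom k.hom.hom :=
    sq.map (sheafToPresheaf (AlgSp.J S) (Type (u + 1)))
  have hE := pbFunctor_isEquivOver a.hom.hom k.hom.hom fst.hom.hom snd.hom.hom sq'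
  obtain ⟨w, hw1, hw2⟩ := Groth.Agent.S12818.result
    (Groth.Agent.H32.AtlasRep.isAlgStack_ofSp F) (Groth.Agent.H32.AtlasRep.isAlgStack_ofSp G)
    (Groth.Agent.H32.AtlasRep.isAlgStack_ofSp G') (AlgSt.ofSpMap a.hom) (AlgSt.ofSpMap k.hom)
    y x hxy.symm
  obtain ⟨z, rfl⟩ := (map_bijective _ hE).2 w
  refine ⟨z, ?_, ?_⟩
  · rw [← hw2, ← map_comp]; rfl
  · rw [← hw1, ← map_comp]; rfl

/-- points of the pullback of an open subspace. -/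
theorem mem_ptsOf_pullback_iff {F F' W W' : AlgSp.Space S} (w : W ⟶ F) (q : F' ⟶ F)
    (w' : W' ⟶ F') (kW : W' ⟶ W) (sq : IsPullback kW.hom w'.hom w.hom q.hom)
    (t : AlgSt.Points (AlgSt.ofSp F'.obj)) :
    t ∈ ptsOf w' ↔ AlgSt.Points.map (AlgSt.ofSpMap q.hom) t ∈ ptsOf w := by
  constructor
  · rintro ⟨z, rfl⟩
    refine ⟨AlgSt.Points.map (AlgSt.ofSpMap kW.hom) z, ?_⟩
    rw [← map_comp, ← map_comp]
    have : kW.hom ≫ w.hom = w'.hom ≫ q.hom := sq.w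
    change AlgSt.Points.map (AlgSt.ofSpMap (kW.hom ≫ w.hom)) z = _
    rw [this]; rfl
  · rintro ⟨x, hx⟩
    obtain ⟨z, -, hz⟩ := exists_point_of_isPullback kW w' w q sq x t hx
    exact ⟨z, hz⟩

section chart

variable {𝒳 𝒴 : AlgSt.Cat S} (f : 𝒳 ⥤ᵇ 𝒴) {P Q R : MorphismProperty (AlgSp.Sp S)}

/-- the morphism of algebraic spaces `F ⟶ G` of a representation of the base change of `f`
to `G`. -/
noncomputable def chartMap {G F : AlgSp.Space S} (h : AlgSt.ofSp G.obj ⥤ᵇ 𝒴)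
    (eF : AlgSt.ofSp F.obj ⥤ᵇ fp h f) : F ⟶ G :=
  ObjectProperty.homMk (ObjectProperty.homMk (pshMapOf (BasedFunctor.comp eF (fpFst h f))))

theorem chartMap_Q (H : Hyp P Q R) (hf : AlgSt.RepByAlgSpWith Q f) {G F : AlgSp.Space S}
    (h : AlgSt.ofSp G.obj ⥤ᵇ 𝒴) (eF : AlgSt.ofSp F.obj ⥤ᵇ fp h f) (heF : IsEquivOver eF) :
    Q (chartMap f h eF).hom :=
  P_baseChange Q H.hQ f hf G F h eF heF

/-- base change of the largest open subspace along a morphism with `R`, in terms of points. -/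
theorem baseChange_largest (H : Hyp P Q R) (hf : AlgSt.RepByAlgSpWith Q f)
    {G F : AlgSp.Space S} (h : AlgSt.ofSp G.obj ⥤ᵇ 𝒴) (eF : AlgSt.ofSp F.obj ⥤ᵇ fp h f)
    (heF : IsEquivOver eF) {W : AlgSp.Space S} (w : W ⟶ F)
    (hw : IsLargest P (chartMap f h eF) W w)
    {𝒵 : AlgSt.Cat S} (y : 𝒵 ⥤ᵇ AlgSt.ofSp G.obj) {G' : AlgSp.Space S}
    (r : AlgSt.ofSp G'.obj ⥤ᵇ 𝒵) (hr : IsEquivOver r)
    (hRk : R (ObjectProperty.homMk (pshMapOf (BasedFunctor.comp r y)) : G'.obj ⟶ G.obj))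
    {F' : AlgSp.Space S} (eF' : AlgSt.ofSp F'.obj ⥤ᵇ fp (BasedFunctor.comp y h) f)
    (heF' : IsEquivOver eF') :
    ∃ (gF' : F' ⟶ G') (W' : AlgSp.Space S) (w' : W' ⟶ F'), IsLargest P gF' W' w' ∧
      Nonempty (BasedFunctor.comp (AlgSt.ofSpMap gF'.hom) r ≅
        BasedFunctor.comp eF' (fpFst (BasedFunctor.comp y h) f)) ∧
      ∀ t : AlgSt.Points (fp (BasedFunctor.comp y h) f),
        t ∈ AlgSt.Points.map eF' '' ptsOf w' ↔
          AlgSt.Points.map (pasteMid y h f) t ∈ AlgSt.Points.map eF '' ptsOf w := by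
  obtain ⟨q₀, f₀', sq, ⟨c1⟩, ⟨c2⟩⟩ :=
    exists_isPullback_baseChange_y f h eF heF y r hr eF' heF'
  let q : F' ⟶ F := ObjectProperty.homMk (ObjectProperty.homMk q₀)
  let gF' : F' ⟶ G' := ObjectProperty.homMk (ObjectProperty.homMk f₀')
  let kG : G' ⟶ G := ObjectProperty.homMk (ObjectProperty.homMk
    (pshMapOf (BasedFunctor.comp r y)))
  have sqS : IsPullback q.hom gF'.hom (chartMap f h eF).hom kG.hom :=
    IsPullback.of_map_of_faithful (sheafToPresheaf (AlgSp.J S) (Type (u + 1))) sq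
  have hWp : AlgSp.IsAlgSpace (pullback w.hom q.hom) :=
    Groth.Agent.H50.isAlgSpace_pullback w.hom q.hom W.property F'.property F.property.diag
  let W' : AlgSp.Space S := ⟨pullback w.hom q.hom, hWp⟩
  let w' : W' ⟶ F' := ObjectProperty.homMk (pullback.snd w.hom q.hom)
  let kW : W' ⟶ W := ObjectProperty.homMk (pullback.fst w.hom q.hom)
  have sqW : IsPullback kW.hom w'.hom w.hom q.hom := IsPullback.of_hasPullback _ _
  have hQg := chartMap_Q f H hf h eF heF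
  have hL := H.h₄ F G F' G' (chartMap f h eF) kG gF' q sqS hQg hRk W w hw W' w' kW sqW
  refine ⟨gF', W', w', hL, ⟨c2⟩, fun t => ?_⟩
  obtain ⟨t₀, rfl⟩ := (map_bijective eF' heF').2 t
  have e1 : AlgSt.Points.map (pasteMid y h f) (AlgSt.Points.map eF' t₀) =
      AlgSt.Points.map eF (AlgSt.Points.map (AlgSt.ofSpMap q.hom) t₀) := by
    rw [← map_comp, ← map_comp]; exact (map_congr c1 t₀).symm
  rw [e1]
  constructor
  · rintro ⟨t₁, ht₁, ht₁'⟩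
    have := (map_bijective eF' heF').1 ht₁'
    rw [this] at ht₁
    exact ⟨_, (mem_ptsOf_pullback_iff w q w' kW sqW t₀).1 ht₁, rfl⟩
  · rintro ⟨x, hx, hx'⟩
    have := (map_bijective eF heF).1 hx'
    rw [this] at hx
    exact ⟨t₀, (mem_ptsOf_pullback_iff w q w' kW sqW t₀).2 hx, rfl⟩

end chart

end Groth.Agent.H32.PLoc2
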