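import Groth.Agent.H32.PLoc2
import Groth.Agent.H32.SpBoot
import Groth.Agent.H32.StUniv
import Groth.Agent.H32.PFacts

/-!
# Saturation of the largest open subspace with respect to a smooth chart (helper32)
-/

set_option autoImplicit false
open CategoryTheory CategoryTheory.Limits AlgebraicGeometry Opposite
universe u

namespace Groth.Agent.H32.PLoc3

open FibCat Stk Groth.Agent.H32.FibProd Groth.Agent.H32.Fp2 Groth.Agent.H32.Fp3
  Groth.Agent.H32.Fp4 Groth.Agent.H32.PshFp Groth.Agent.H32.PshStack Groth.Agent.H32.SpBridge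
  Groth.Agent.H32.SpTrack Groth.Agent.H32.SpComp Groth.Agent.H32.Sect Groth.Agent.H32.PLoc1
  Groth.Agent.H32.PLoc2 Groth.Agent.H32.StPoints

variable {S : Scheme.{u}} {𝒢 𝒳 𝒴 : AlgSt.Cat S}

theorem sat_aux {D D' D'' : Type*} [Category D] [Category D'] [Category D''] (f : D ⥤ D')
    (h : D'' ⥤ D') {x y : D} {z : D''} {b : D'} (α₂ : h.obj z ⟶ f.obj y) (β : x ≅ y)
    (α₁ : b ≅ f.obj x) :
    h.map (𝟙 z) ≫ α₂ = (((α₂ ≫ f.map β.inv) ≫ α₁.inv) ≫ α₁.hom) ≫ f.map β.hom := by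
  simp [← f.map_comp]

section kappa

variable (h : 𝒢 ⥤ᵇ 𝒴) (f : 𝒳 ⥤ᵇ 𝒴)

/-- the 2-isomorphism `g(u₁) ↦ h g u₁ ≅ f a u₁ ≅ f a u₂ ≅ h g u₂` on `𝒰 ×_𝒳 𝒰`, `𝒰 = 𝒢 ×_𝒴 𝒳`. -/
noncomputable def sigma :
    BasedFunctor.comp (BasedFunctor.comp (fpFst (fpSnd h f) (fpSnd h f)) (fpFst h f)) h ≅
      BasedFunctor.comp (BasedFunctor.comp (fpSnd (fpSnd h f) (fpSnd h f)) (fpFst h f)) h :=
  whiskerLeftIso (fpFst (fpSnd h f) (fpSnd h f)) (fpIso h f) ≪≫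
    whiskerRightIso (fpIso (fpSnd h f) (fpSnd h f)) f ≪≫
    (whiskerLeftIso (fpSnd (fpSnd h f) (fpSnd h f)) (fpIso h f)).symm

/-- the functor `𝒰 ×_𝒳 𝒰 ⟶ 𝒢 ×_𝒴 𝒢`. -/
noncomputable def rho : fp (fpSnd h f) (fpSnd h f) ⥤ᵇ fp h h :=
  fpLift (F := h) (G := h)
    (BasedFunctor.comp (fpFst (fpSnd h f) (fpSnd h f)) (fpFst h f))
    (BasedFunctor.comp (fpSnd (fpSnd h f) (fpSnd h f)) (fpFst h f)) (sigma h f)

/-- the functor `𝒰 ×_𝒳 𝒰 ⟶ (𝒢 ×_𝒴 𝒢) ×_𝒴 𝒳`. -/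
noncomputable def kappa :
    fp (fpSnd h f) (fpSnd h f) ⥤ᵇ fp (BasedFunctor.comp (fpFst h h) h) f :=
  fpLift (F := BasedFunctor.comp (fpFst h h) h) (G := f) (rho h f)
    (BasedFunctor.comp (fpFst (fpSnd h f) (fpSnd h f)) (fpSnd h f))
    (whiskerLeftIso (fpFst (fpSnd h f) (fpSnd h f)) (fpIso h f))

theorem kappa_fst : BasedFunctor.comp (kappa h f) (pasteMid (fpFst h h) h f) =
    fpFst (fpSnd h f) (fpSnd h f) := rfl

/-- the second projection of `kappa`. -/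
noncomputable def kappaSnd : BasedFunctor.comp (kappa h f)
      (BasedFunctor.comp (congrLeft (fpIso h h) f) (pasteMid (fpSnd h h) h f)) ≅
    fpSnd (fpSnd h f) (fpSnd h f) :=
  fpIsoMk _ _
    (fun b => Iso.refl b.obj.snd.obj.fst)
    (fun b => b.obj.iso)
    (fun b => IsHomLift.id ((fpSnd (fpSnd h f) (fpSnd h f)).w_obj b))
    (fun b => by
      change h.map (𝟙 b.obj.snd.obj.fst) ≫ b.obj.snd.obj.iso.hom =
        (((b.obj.snd.obj.iso.hom ≫ f.map b.obj.iso.inv) ≫ b.obj.fst.obj.iso.inv) ≫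
          b.obj.fst.obj.iso.hom) ≫ f.map b.obj.iso.hom
      exact sat_aux f.toFunctor h.toFunctor b.obj.snd.obj.iso.hom b.obj.iso b.obj.fst.obj.iso)
    (fun {b b'} m => by
      change m.hom.snd.hom.fst ≫ 𝟙 _ = 𝟙 _ ≫ m.hom.snd.hom.fst
      rw [Category.comp_id, Category.id_comp])
    (fun {b b'} m => m.hom.w)

end kappa

section sat

variable {P Q R : MorphismProperty (AlgSp.Sp S)} (f : 𝒳 ⥤ᵇ 𝒴)

/-- the points of the largest open subspace of a smooth chart are saturated for the equivalence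
relation of the chart. -/
theorem saturated (H : Hyp P Q R) (h𝒳 : AlgSt.IsAlgStack Scheme.fppfPrecoverage 𝒳)
    (h𝒴 : AlgSt.IsAlgStack Scheme.fppfPrecoverage 𝒴) (hf : AlgSt.RepByAlgSpWith Q f)
    {G F : AlgSp.Space S} (h : AlgSt.ofSp G.obj ⥤ᵇ 𝒴)
    (hsm : AlgSt.RepByAlgSpWith (AlgSp.LocP @Smooth) h)
    (eF : AlgSt.ofSp F.obj ⥤ᵇ fp h f) (heF : IsEquivOver eF) {W : AlgSp.Space S} (w : W ⟶ F)
    (hw : IsLargest P (chartMap f h eF) W w)
    (u₀ u : AlgSt.Points (fp h f))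
    (hu : AlgSt.Points.map (fpSnd h f) u₀ = AlgSt.Points.map (fpSnd h f) u)
    (hu₀ : u₀ ∈ AlgSt.Points.map eF '' ptsOf w) : u ∈ AlgSt.Points.map eF '' ptsOf w := by
  have hG := Groth.Agent.H32.AtlasRep.isAlgStack_ofSp G
  have h𝒰 : AlgSt.IsAlgStack Scheme.fppfPrecoverage (fp h f) :=
    Groth.Agent.H32.StUniv.isAlgStack_fp' h𝒳 h𝒴 hG h f
  have h1 : AlgSt.RepByAlgSp1 h := Groth.Agent.H32.AlgStackEquiv.repByAlgSp1_of_with hsm
  have hfib𝒴 := h𝒴.isStack.1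
  have hfibG := hG.isStack.1
  obtain ⟨R', r, hr⟩ := Groth.Agent.H32.SpBoot.repByAlgSp_fp_ofSp hfibG hfib𝒴 G h h h1
  have hR1 : R (ObjectProperty.homMk (pshMapOf (BasedFunctor.comp r (fpFst h h))) :
      R'.obj ⟶ G.obj) :=
    H.h₂ R' G (ObjectProperty.homMk (ObjectProperty.homMk
      (pshMapOf (BasedFunctor.comp r (fpFst h h)))))
      (P_baseChange (AlgSp.LocP @Smooth) Groth.Agent.H32.PFacts.good_smooth.loc h hsm G R' h r hr)
  have hR2 : R (ObjectProperty.homMk (pshMapOf (BasedFunctor.comp r (fpSnd h h))) :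
      R'.obj ⟶ G.obj) :=
    H.h₂ R' G (ObjectProperty.homMk (ObjectProperty.homMk
      (pshMapOf (BasedFunctor.comp r (fpSnd h h)))))
      (P_baseChange (AlgSp.LocP @Smooth) Groth.Agent.H32.PFacts.good_smooth.loc h hsm G R' h
        (BasedFunctor.comp r (swap h h)) (isEquivOver_comp _ _ hr (swap_isEquivOver h h)))
  have hZ : AlgSt.RepByAlgSp (fp h h) := ⟨R', r, hr⟩
  obtain ⟨F₂, eF₂, heF₂⟩ := Groth.Agent.H32.SpBoot.repByAlgSp_fp h𝒳.isStack.1 hfib𝒴 f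
    (BasedFunctor.comp (fpFst h h) h) (Groth.Agent.H32.AlgStackEquiv.repByAlgSp1_of_with hf) hZ
  obtain ⟨g1, W1, w1, hL1, ⟨c1⟩, pts1⟩ :=
    baseChange_largest f H hf h eF heF w hw (fpFst h h) r hr hR1 eF₂ heF₂
  obtain ⟨g2, W2, w2, hL2, ⟨c2⟩, pts2⟩ :=
    baseChange_largest f H hf h eF heF w hw (fpSnd h h) r hr hR2
      (BasedFunctor.comp eF₂ (congrLeft (fpIso h h) f))
      (isEquivOver_comp _ _ heF₂ (congrLeft_isEquivOver _ f))
  have hg : g1 = g2 := by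
    have e0 : BasedFunctor.comp (BasedFunctor.comp eF₂ (congrLeft (fpIso h h) f))
        (fpFst (BasedFunctor.comp (fpSnd h h) h) f) =
        BasedFunctor.comp eF₂ (fpFst (BasedFunctor.comp (fpFst h h) h) f) := rfl
    have c : BasedFunctor.comp (AlgSt.ofSpMap g1.hom) r ≅
        BasedFunctor.comp (AlgSt.ofSpMap g2.hom) r := c1 ≪≫ eqToIso e0.symm ≪≫ c2.symm
    obtain ⟨ri, -, ⟨η⟩, -⟩ := exists_inv_isEquivOver hr
    have i1 : AlgSt.ofSpMap g1.hom ≅ AlgSt.ofSpMap g2.hom :=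
      (whiskerLeftIso (AlgSt.ofSpMap g1.hom) η).symm ≪≫ whiskerRightIso c ri ≪≫
        whiskerLeftIso (AlgSt.ofSpMap g2.hom) η
    have e1 := pshMapOf_congr i1.hom
    rw [pshMapOf_ofPshMap, pshMapOf_ofPshMap] at e1
    exact ObjectProperty.hom_ext _ (ObjectProperty.hom_ext _ e1)
  subst hg
  have hpts : ptsOf w1 = ptsOf w2 := ptsOf_eq_of_isLargest g1 w1 w2 hL1 hL2
  obtain ⟨τ, hτ1, hτ2⟩ := Groth.Agent.S12818.result h𝒰 h𝒳 h𝒰 (fpSnd h f) (fpSnd h f) u₀ u hu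
  have e1 : AlgSt.Points.map (pasteMid (fpFst h h) h f) (AlgSt.Points.map (kappa h f) τ) = u₀ := by
    rw [← map_comp, kappa_fst]; exact hτ1
  have e2 : AlgSt.Points.map (pasteMid (fpSnd h h) h f)
      (AlgSt.Points.map (congrLeft (fpIso h h) f) (AlgSt.Points.map (kappa h f) τ)) = u := by
    rw [← map_comp, ← map_comp, map_congr (kappaSnd h f)]; exact hτ2
  have s1 : AlgSt.Points.map (kappa h f) τ ∈ AlgSt.Points.map eF₂ '' ptsOf w1 :=
    (pts1 _).2 (by rw [e1]; exact hu₀)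
  have s2 : AlgSt.Points.map (congrLeft (fpIso h h) f) (AlgSt.Points.map (kappa h f) τ) ∈
      AlgSt.Points.map (BasedFunctor.comp eF₂ (congrLeft (fpIso h h) f)) '' ptsOf w2 := by
    obtain ⟨z, hz, hz'⟩ := s1
    refine ⟨z, hpts ▸ hz, ?_⟩
    rw [map_comp, hz']
  have s3 := (pts2 _).1 s2
  rwa [e2] at s3

end sat

end Groth.Agent.H32.PLoc3
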