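import Groth.Agent.H32.SmLocus
import Groth.Agent.H65.LocQPts
import Groth.Agent.H51.SmoothST

/-!
# Smooth loci of morphisms of algebraic stacks: smooth precomposition (helper32)
-/

set_option autoImplicit false
universe u
open CategoryTheory CategoryTheory.Limits AlgebraicGeometry Opposite Topology

namespace Groth.Agent.H32.SmLocus2

open FibCat Stk Groth.Agent.H32.FibProd
open Groth.Agent.H32.StPoints Groth.Agent.H32.StTop Groth.Agent.H32.StQC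
open Groth.Agent.H32.StUniv Groth.Agent.H32.Fp2 Groth.Agent.H32.Fp3
open Groth.Agent.H32.OpenSub Groth.Agent.H32.OpenSub2 Groth.Agent.H32.SubStk
open Groth.Agent.H32.PFacts Groth.Agent.H32.GoodMore Groth.Agent.H32.StackOps
open Groth.Agent.H32.SmLocus Groth.Agent.H32.AtlasCover

variable {S : Scheme.{u}} {𝒳 𝒴 𝒵 : AlgSt.Cat S}

/-- a field-valued point mapping to `c(z)` is the image of a field-valued point over `z`. -/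
theorem fpt_lift' (h𝒳 : IsFibGrpd 𝒳.p) (h𝒵 : IsFibGrpd 𝒵.p) (c : 𝒵 ⥤ᵇ 𝒳)
    (z : 𝒵.obj) (p : AlgSt.FPt 𝒳) (φ : p.obj ⟶ c.obj z) :
    ∃ q : AlgSt.FPt 𝒵, Nonempty (q.obj ⟶ z) ∧
      AlgSt.Points.mk p = AlgSt.Points.map c (AlgSt.Points.mk q) := by
  have hcz : 𝒳.p.obj (c.obj z) = 𝒵.p.obj z := c.w_obj z
  let s : Over.mk p.str ⟶ 𝒵.p.obj z := eqToHom p.lies.symm ≫ 𝒳.p.map φ ≫ eqToHom hcz
  have hs : 𝒳.p.IsHomLift s φ := IsHomLift.of_fac 𝒳.p _ φ p.lies hcz rfl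
  obtain ⟨z', ψ, hψ⟩ := h𝒵.exists_lift (x := z) s
  have hcψ : 𝒳.p.IsHomLift s (c.map ψ) := (BasedFunctor.isHomLift_iff c s ψ).2 hψ
  have hsc : 𝒳.p.IsStronglyCartesian s (c.map ψ) := sc_of_isFibGrpd 𝒳.p h𝒳 s (c.map ψ)
  have hid : s = 𝟙 _ ≫ s := (Category.id_comp s).symm
  let χ : p.obj ⟶ c.obj z' := Functor.IsStronglyCartesian.map 𝒳.p s (c.map ψ) hid φ
  let q : AlgSt.FPt 𝒵 := ⟨p.K, p.str, z', IsHomLift.domain_eq 𝒵.p s ψ⟩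
  exact ⟨q, ⟨ψ⟩, AlgSt.Points.sound ⟨p, 𝟙 _, χ, trivial⟩⟩

theorem Qof_comp (h𝒳 : IsFibGrpd 𝒳.p) (h𝒵 : IsFibGrpd 𝒵.p) (c : 𝒵 ⥤ᵇ 𝒳)
    (W : Set (AlgSt.Points 𝒳)) (z : 𝒵.obj) :
    Qof W (c.obj z) ↔ Qof (AlgSt.Points.map c ⁻¹' W) z := by
  constructor
  · rintro h q ⟨ψ⟩
    exact h (q.map c) ⟨c.map ψ⟩
  · rintro h p ⟨φ⟩
    obtain ⟨q, hq, e⟩ := fpt_lift' h𝒳 h𝒵 c z p φ
    rw [e]
    exact h q hq

/-- the inverse image of an open substack is an open substack. -/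
theorem isOpenSubstack_comp (h𝒳 : AlgSt.IsAlgStack Scheme.fppfPrecoverage 𝒳)
    (h𝒵 : AlgSt.IsAlgStack Scheme.fppfPrecoverage 𝒵) (c : 𝒵 ⥤ᵇ 𝒳) {Q : 𝒳.obj → Prop}
    (hQ : AlgSt.IsOpenSubstack 𝒳 Q Scheme.fppfPrecoverage) :
    AlgSt.IsOpenSubstack 𝒵 (fun z => Q (c.obj z)) Scheme.fppfPrecoverage := by
  have hopen : IsOpen (Set.range (AlgSt.Points.map (AlgSt.subIncl 𝒳 Q))) :=
    Groth.Agent.H32.StOpen.isOpen_range_of_isOpenImm hQ.2.1 h𝒳 _ hQ.2.2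
  have e : (fun z => Q (c.obj z)) =
      Qof (AlgSt.Points.map c ⁻¹' Set.range (AlgSt.Points.map (AlgSt.subIncl 𝒳 Q))) := by
    funext z
    exact propext ((Q_iff_Qof h𝒳 hQ (c.obj z)).trans
      (Qof_comp h𝒳.isStack.1 h𝒵.isStack.1 c _ z))
  rw [e]
  exact isOpenSubstack_Qof _ h𝒵 (hopen.preimage (continuous_map h𝒳 c))

theorem smooth_of_repWith_openImm ⦃X Y : AlgSp.Sp S⦄ (a : X ⟶ Y)
    (h : AlgSp.RepWith @IsOpenImmersion a) : AlgSp.LocP @Smooth a := by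
  have hle : ∀ ⦃A B : Scheme.{u}⦄ (g : A ⟶ B), Etale g → Smooth g := fun A B g hg => inferInstance
  have hle' : ∀ ⦃A B : Scheme.{u}⦄ (g : A ⟶ B), IsOpenImmersion g → Smooth g :=
    fun A B g hg => inferInstance
  exact Groth.Agent.H50.locP_of_repWith (P := @Smooth) hle (repWith_mono hle' h)

theorem smooth_of_isOpenImm {𝒰 : AlgSt.Cat S} {f : 𝒰 ⥤ᵇ 𝒳} (hf : AlgSt.IsOpenImm f) :
    AlgSt.RepByAlgSpWith (AlgSp.LocP @Smooth) f :=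
  Groth.Agent.H32.DiagApps.with_imp smooth_of_repWith_openImm hf

open Groth.Agent.H32.SectSt in
/-- cancellation of a fully faithful smooth functor for properties read on chart squares. -/
theorem locQ_of_comp_ff {P : MorphismProperty (AlgSp.Sp S)} (hP : AlgSp.IsSmoothLocalST P)
    {𝒜 ℬ 𝒞 : AlgSt.Cat S} (h𝒜 : AlgSt.IsAlgStack Scheme.fppfPrecoverage 𝒜)
    (hℬ : AlgSt.IsAlgStack Scheme.fppfPrecoverage ℬ) (h𝒞 : IsFibGrpd 𝒞.p)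
    (a : 𝒜 ⥤ᵇ ℬ) (ι : ℬ ⥤ᵇ 𝒞) (hfull : ι.toFunctor.Full) (hfaith : ι.toFunctor.Faithful)
    (hι : AlgSt.RepByAlgSpWith (AlgSp.LocP @Smooth) ι)
    (hLoc : AlgSt.LocQ P (BasedFunctor.comp a ι)) : AlgSt.LocQ P a := by
  obtain ⟨V, y, hy1, hy2⟩ := hℬ.atlas
  obtain ⟨U, x, h, α, hx1, hx2, hl1, -⟩ :=
    Groth.Agent.H65.LocQ.exists_square h𝒜 hℬ a y hy1 hy2
  have iU := Groth.Agent.S6411.over_isFibGrpd U
  have iV := Groth.Agent.S6411.over_isFibGrpd V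
  have iP : IsFibGrpd (fp a y).p := Groth.Agent.H32.Repr.fp_isFibGrpd _ _ h𝒜.isStack.1 iV hℬ.isStack.1
  have iP' : IsFibGrpd (fp (BasedFunctor.comp a ι) (BasedFunctor.comp y ι)).p :=
    Groth.Agent.H32.Repr.fp_isFibGrpd _ _ h𝒜.isStack.1 iV h𝒞
  refine ⟨U, V, x, y, h, α, hx1, hx2, hy1, ?_⟩
  have hA : AlgSt.RepByAlgSpWith (AlgSp.LocP @Smooth)
      (BasedFunctor.comp (FibCat.fpLift x (AlgSt.overMap h) α) (fpPost a y ι)) :=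
    (with_postcomp_equiv _ iU iP iP' _ (fpPost a y ι)
      (fpPost_isEquivOver a y ι hfull hfaith)).mpr hl1
  exact Groth.Agent.H65.LocQDesc.prop_of_chart hP h𝒜.isStack.1 h𝒞 (BasedFunctor.comp a ι) hLoc
    (BasedFunctor.comp y ι) (with_comp good_smooth iV hℬ.isStack.1 h𝒞 _ _ hy1 hι)
    (BasedFunctor.comp (FibCat.fpLift x (AlgSt.overMap h) α) (fpPost a y ι)) hA h (Iso.refl _)

/-- source descent along a smooth surjective morphism of algebraic stacks. -/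
theorem locQ_of_comp_smooth_cover {P : MorphismProperty (AlgSp.Sp S)}
    (hP : AlgSp.IsSmoothLocalST P)
    (h𝒳 : AlgSt.IsAlgStack Scheme.fppfPrecoverage 𝒳)
    (h𝒴 : AlgSt.IsAlgStack Scheme.fppfPrecoverage 𝒴)
    (h𝒵 : AlgSt.IsAlgStack Scheme.fppfPrecoverage 𝒵) (f : 𝒳 ⥤ᵇ 𝒴) (g : 𝒴 ⥤ᵇ 𝒵)
    (hf₁ : AlgSt.LocQ (AlgSp.LocP @Smooth) f) (hf₃ : AlgSt.IsSurjective f)
    (hLoc : AlgSt.LocQ P (BasedFunctor.comp f g)) : AlgSt.LocQ P g := by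
  have iX := h𝒳.isStack.1
  have iY := h𝒴.isStack.1
  have iZ := h𝒵.isStack.1
  obtain ⟨Z', z, hz1, hz2⟩ := h𝒵.atlas
  obtain ⟨V, y, k, β, hy1, hy2, hℓg1, -⟩ := Groth.Agent.H65.LocQ.exists_square h𝒴 h𝒵 g z hz1 hz2
  obtain ⟨U, x, h, α, -, -, hℓf1, hℓf2⟩ := Groth.Agent.H65.LocQ.exists_square h𝒳 h𝒴 f y hy1 hy2
  obtain ⟨U₁, V₁, x₁, y₁, h₁, α₁, a1, a2, a3, a4⟩ := hf₁
  have hh1 : AlgSp.LocP @Smooth ((AlgSp.yon S).map h) :=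
    Groth.Agent.H65.LocQ.prop_of_squares isSmoothLocalST_smooth iX iY f x₁ y₁ h₁ α₁ a1 a2 a3
      a4 x y h α hy1 hℓf1
  have hh3 := Groth.Agent.H65.LocQPts.surjective_chart h𝒳 h𝒴 f hf₃ x y h α hℓf2
  refine ⟨V, Z', y, z, k, β, hy1, hy2, hz1, ?_⟩
  exact ((Groth.Agent.H51.IsSmoothLocalST.localOnSource hP) (ι := PUnit.{u + 1})
    (fun _ => (AlgSp.yon S).obj U) (fun _ => (AlgSp.yon S).map h)
    (AlgSp.IsAlgSpace.yon_obj V) (fun _ => AlgSp.IsAlgSpace.yon_obj U)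
    ⟨fun _ => hh1, fun v => ⟨PUnit.unit, hh3 v⟩⟩ ((AlgSp.yon S).map k)
    (AlgSp.IsAlgSpace.yon_obj Z')).mpr
    (fun _ => Groth.Agent.H65.LocQDesc.prop_comp_of_tower hP iX iY iZ f g hLoc z hz1 y k β hℓg1
      x h α hℓf1)

theorem locQ_mono {P P' : MorphismProperty (AlgSp.Sp S)} (hle : ∀ ⦃X Y : AlgSp.Sp S⦄ (a : X ⟶ Y), P a → P' a)
    {𝒜 ℬ : AlgSt.Cat S} {f : 𝒜 ⥤ᵇ ℬ} (h : AlgSt.LocQ P f) : AlgSt.LocQ P' f := by
  obtain ⟨U, V, x, y, k, α, h1, h2, h3, h4⟩ := h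
  exact ⟨U, V, x, y, k, α, h1, h2, h3, hle _ h4⟩

/-- an open immersion is smooth on chart squares. -/
theorem locQ_smooth_of_isOpenImm {𝒰 : AlgSt.Cat S} (h𝒰 : AlgSt.IsAlgStack Scheme.fppfPrecoverage 𝒰)
    (h𝒳 : AlgSt.IsAlgStack Scheme.fppfPrecoverage 𝒳) (i : 𝒰 ⥤ᵇ 𝒳) (hi : AlgSt.IsOpenImm i) :
    AlgSt.LocQ (AlgSp.LocP @Smooth) i :=
  (Groth.Agent.S12993.result S _ isSmoothLocalST_smooth good_smooth.bc good_smooth.loc _ _ h𝒰 h𝒳 i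
    (Groth.Agent.H32.AlgStackEquiv.repByAlgSp1_of_with hi)).mpr (smooth_of_isOpenImm hi)

open Groth.Agent.H32.IsoQC in
/-- formation of the largest open substack on which `f` is smooth commutes with smooth
precomposition. -/
theorem largest_comp {𝒳' : AlgSt.Cat S}
    (h𝒳' : AlgSt.IsAlgStack Scheme.fppfPrecoverage 𝒳')
    (h𝒳 : AlgSt.IsAlgStack Scheme.fppfPrecoverage 𝒳)
    (h𝒴 : AlgSt.IsAlgStack Scheme.fppfPrecoverage 𝒴)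
    (g : 𝒳' ⥤ᵇ 𝒳) (hg : AlgSt.LocQ (AlgSp.LocP @Smooth) g) (f : 𝒳 ⥤ᵇ 𝒴)
    (Q : 𝒳.obj → Prop) (hQ₁ : AlgSt.IsOpenSubstack 𝒳 Q Scheme.fppfPrecoverage)
    (hQ₂ : AlgSt.LocQ (AlgSp.LocP @Smooth) (BasedFunctor.comp (AlgSt.subIncl 𝒳 Q) f))
    (hQ₃ : ∀ Q' : 𝒳.obj → Prop, AlgSt.IsOpenSubstack 𝒳 Q' Scheme.fppfPrecoverage →
      AlgSt.LocQ (AlgSp.LocP @Smooth) (BasedFunctor.comp (AlgSt.subIncl 𝒳 Q') f) →
      ∀ a, Q' a → Q a) :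
    AlgSt.IsOpenSubstack 𝒳' (fun a ↦ Q (g.obj a)) Scheme.fppfPrecoverage ∧
      AlgSt.LocQ (AlgSp.LocP @Smooth)
        (BasedFunctor.comp (AlgSt.subIncl 𝒳' (fun a ↦ Q (g.obj a))) (BasedFunctor.comp g f)) ∧
      ∀ Q' : 𝒳'.obj → Prop, AlgSt.IsOpenSubstack 𝒳' Q' Scheme.fppfPrecoverage →
        AlgSt.LocQ (AlgSp.LocP @Smooth)
          (BasedFunctor.comp (AlgSt.subIncl 𝒳' Q') (BasedFunctor.comp g f)) →
        ∀ a, Q' a → Q (g.obj a) := by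
  have h1 := isOpenSubstack_comp h𝒳 h𝒳' g hQ₁
  refine ⟨h1, ?_, ?_⟩
  · let gQ : AlgSt.fullSub 𝒳' (fun a ↦ Q (g.obj a)) ⥤ᵇ AlgSt.fullSub 𝒳 Q :=
      subLift (BasedFunctor.comp (AlgSt.subIncl 𝒳' (fun a ↦ Q (g.obj a))) g) (fun z => z.property)
    have hi₁ := locQ_smooth_of_isOpenImm h1.2.1 h𝒳' _ h1.2.2
    have hcomp : AlgSt.LocQ (AlgSp.LocP @Smooth)
        (BasedFunctor.comp (AlgSt.subIncl 𝒳' (fun a ↦ Q (g.obj a))) g) :=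
      Groth.Agent.S13038.result S _ isSmoothLocalST_smooth good_smooth.comp _ _ _ h1.2.1 h𝒳' h𝒳
        _ g hi₁ hg
    have hgQ : AlgSt.LocQ (AlgSp.LocP @Smooth) gQ :=
      locQ_of_comp_ff isSmoothLocalST_smooth h1.2.1 hQ₁.2.1 h𝒳.isStack.1 gQ (AlgSt.subIncl 𝒳 Q)
        (inferInstanceAs (ObjectProperty.ι Q).Full) (inferInstanceAs (ObjectProperty.ι Q).Faithful)
        (smooth_of_isOpenImm hQ₁.2.2) hcomp
    exact Groth.Agent.S13038.result S _ isSmoothLocalST_smooth good_smooth.comp _ _ _ h1.2.1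
      hQ₁.2.1 h𝒴 gQ (BasedFunctor.comp (AlgSt.subIncl 𝒳 Q) f) hgQ hQ₂
  · intro Q' hQ' hLoc a ha
    have hc' : AlgSt.LocQ (AlgSp.LocP @Smooth) (BasedFunctor.comp (AlgSt.subIncl 𝒳' Q') g) :=
      Groth.Agent.S13038.result S _ isSmoothLocalST_smooth good_smooth.comp _ _ _ hQ'.2.1 h𝒳' h𝒳
        _ g (locQ_smooth_of_isOpenImm hQ'.2.1 h𝒳' _ hQ'.2.2) hg
    have hopen : IsOpen (Set.range (AlgSt.Points.map
        (BasedFunctor.comp (AlgSt.subIncl 𝒳' Q') g))) :=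
      (Groth.Agent.H65.LocQRep.isOpenMor_of_flat_lfp hQ'.2.1 h𝒳 _
        (locQ_mono Groth.Agent.H65.LocQRep.flat_of_smooth hc')
        (locQ_mono Groth.Agent.H65.LocQRep.lfp_of_smooth hc')).isOpen_range
    have hQ'' := isOpenSubstack_Qof _ h𝒳 hopen
    have ha_sm : AlgSt.LocQ (AlgSp.LocP @Smooth)
        (corestrict h𝒳.isStack.1 hQ'.2.1.isStack.1 (BasedFunctor.comp (AlgSt.subIncl 𝒳' Q') g)) :=
      locQ_of_comp_ff isSmoothLocalST_smooth hQ'.2.1 hQ''.2.1 h𝒳.isStack.1 _ (AlgSt.subIncl 𝒳 _)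
        (inferInstanceAs (ObjectProperty.ι _).Full) (inferInstanceAs (ObjectProperty.ι _).Faithful)
        (smooth_of_isOpenImm hQ''.2.2) hc'
    have ha_surj : AlgSt.IsSurjective
        (corestrict h𝒳.isStack.1 hQ'.2.1.isStack.1 (BasedFunctor.comp (AlgSt.subIncl 𝒳' Q') g)) := by
      intro w
      have hw : AlgSt.Points.map (AlgSt.subIncl 𝒳 _) w ∈ Set.range (AlgSt.Points.map
          (BasedFunctor.comp (AlgSt.subIncl 𝒳' Q') g)) := by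
        have := Set.mem_range_self (f := AlgSt.Points.map (AlgSt.subIncl 𝒳
          (Qof (Set.range (AlgSt.Points.map (BasedFunctor.comp (AlgSt.subIncl 𝒳' Q') g)))))) w
        rwa [range_subIncl] at this
      obtain ⟨q, hq⟩ := hw
      refine ⟨q, (isOpenEmbedding_of_isOpenImm hQ''.2.1 h𝒳 _ hQ''.2.2).injective ?_⟩
      rw [← hq, ← map_comp]
      rfl
    have hdesc := locQ_of_comp_smooth_cover isSmoothLocalST_smooth hQ'.2.1 hQ''.2.1 h𝒴 _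
      (BasedFunctor.comp (AlgSt.subIncl 𝒳 _) f) ha_sm ha_surj hLoc
    exact hQ₃ _ hQ'' hdesc (g.obj a)
      (Qof_range h𝒳.isStack.1 hQ'.2.1.isStack.1 (BasedFunctor.comp (AlgSt.subIncl 𝒳' Q') g) ⟨a, ha⟩)

end Groth.Agent.H32.SmLocus2
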