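import Groth.Agent.H32.PLoc3
import Groth.Agent.H32.SmLocus2
import Groth.Agent.H32.ImmImage
import Groth.Agent.H32.OpenSub
import Groth.Agent.H32.RepWithSt
import Groth.Agent.H32.StQCMor
import Groth.Agent.H32.SectSt
import Groth.Agent.H32.DiagRep

/-!
# The largest open substack on which a representable morphism has `P` (helper32)
-/

set_option autoImplicit false
open CategoryTheory CategoryTheory.Limits AlgebraicGeometry Opposite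
universe u

namespace Groth.Agent.H32.PLoc4

open FibCat Stk Groth.Agent.H32.FibProd Groth.Agent.H32.Fp2 Groth.Agent.H32.Fp3
  Groth.Agent.H32.Fp4 Groth.Agent.H32.PshFp Groth.Agent.H32.PshStack Groth.Agent.H32.SpBridge
  Groth.Agent.H32.SpTrack Groth.Agent.H32.SpComp Groth.Agent.H32.Sect Groth.Agent.H32.PLoc1
  Groth.Agent.H32.PLoc2 Groth.Agent.H32.PLoc3 Groth.Agent.H32.StPoints Groth.Agent.H32.SubStk
  Groth.Agent.H32.ImmImage Groth.Agent.H32.OpenSub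

variable {S : Scheme.{u}} {𝒢 𝒳 𝒴 : AlgSt.Cat S}

section iota

variable (Q' : 𝒳.obj → Prop) (h : 𝒢 ⥤ᵇ 𝒴) (f : 𝒳 ⥤ᵇ 𝒴)

/-- the inclusion `𝒢 ×_𝒴 𝒳' ⟶ 𝒢 ×_𝒴 𝒳` for a full subcategory `𝒳'` of `𝒳`. -/
def iota : fp h (BasedFunctor.comp (AlgSt.subIncl 𝒳 Q') f) ⥤ᵇ fp h f :=
  fpLift (F := h) (G := f)
    (fpFst h (BasedFunctor.comp (AlgSt.subIncl 𝒳 Q') f))
    (BasedFunctor.comp (fpSnd h (BasedFunctor.comp (AlgSt.subIncl 𝒳 Q') f)) (AlgSt.subIncl 𝒳 Q'))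
    (fpIso h (BasedFunctor.comp (AlgSt.subIncl 𝒳 Q') f))

theorem iota_fst : BasedFunctor.comp (iota Q' h f) (fpFst h f) =
    fpFst h (BasedFunctor.comp (AlgSt.subIncl 𝒳 Q') f) := rfl

theorem iota_snd : BasedFunctor.comp (iota Q' h f) (fpSnd h f) =
    BasedFunctor.comp (fpSnd h (BasedFunctor.comp (AlgSt.subIncl 𝒳 Q') f))
      (AlgSt.subIncl 𝒳 Q') := rfl

instance iota_full : (iota Q' h f).toFunctor.Full :=
  ⟨fun {w w'} n => ⟨mkHom h (BasedFunctor.comp (AlgSt.subIncl 𝒳 Q') f) n.hom.fst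
    (ObjectProperty.homMk n.hom.snd) n.hom.w, fp_hom_ext _ _ rfl rfl⟩⟩

instance iota_faithful : (iota Q' h f).toFunctor.Faithful :=
  ⟨fun {w w'} m m' hmm' => fp_hom_ext _ _
    (congrArg (fun t => t.hom.fst) hmm')
    (ObjectProperty.hom_ext _ (congrArg (fun t => t.hom.snd) hmm'))⟩

theorem essIm_iota (hiso : ObjectProperty.IsClosedUnderIsomorphisms Q') (b : (fp h f).obj) :
    EssIm (iota Q' h f) b ↔ Q' ((fpSnd h f).obj b) := by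
  constructor
  · rintro ⟨b', ⟨e⟩⟩
    exact hiso.of_iso ((fpSnd h f).toFunctor.mapIso e) b'.obj.snd.property
  · intro hb
    exact ⟨mkObj h (BasedFunctor.comp (AlgSt.subIncl 𝒳 Q') f) b.obj.fst ⟨b.obj.snd, hb⟩ b.obj.iso
      b.property, ⟨Iso.refl _⟩⟩

end iota

section factor

variable {𝒜 𝒜' 𝒞 : AlgSt.Cat S}

/-- the identity functor between full subcategories cut out by equivalent predicates. -/
def subCongr {Q Q' : 𝒞.obj → Prop} (hQ : ∀ c, Q c → Q' c) :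
    AlgSt.fullSub 𝒞 Q ⥤ᵇ AlgSt.fullSub 𝒞 Q' :=
  subLift (AlgSt.subIncl 𝒞 Q) (fun z => hQ _ z.property)

theorem subCongr_isEquivOver {Q Q' : 𝒞.obj → Prop} (hQ : ∀ c, Q c → Q' c)
    (hQ' : ∀ c, Q' c → Q c) : IsEquivOver (subCongr hQ) :=
  ⟨subCongr hQ', ⟨eqToIso rfl⟩, ⟨eqToIso rfl⟩⟩

/-- two fully faithful functors with the same essential image factor through each other. -/
theorem exists_equiv_of_essIm (h𝒜 : IsFibGrpd 𝒜.p) (h𝒜' : IsFibGrpd 𝒜'.p) (h𝒞 : IsFibGrpd 𝒞.p)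
    (i : 𝒜 ⥤ᵇ 𝒞) (i' : 𝒜' ⥤ᵇ 𝒞) (hfull : i.toFunctor.Full) (hfaith : i.toFunctor.Faithful)
    (hfull' : i'.toFunctor.Full) (hfaith' : i'.toFunctor.Faithful)
    (hii' : ∀ c, EssIm i c ↔ EssIm i' c) :
    ∃ E : 𝒜 ⥤ᵇ 𝒜', IsEquivOver E ∧ Nonempty (BasedFunctor.comp E i' ≅ i) := by
  have hT := toEssIm_isEquivOver h𝒜 h𝒞 i hfull hfaith
  have hT' := toEssIm_isEquivOver h𝒜' h𝒞 i' hfull' hfaith'
  obtain ⟨Ti, hTi, -, ⟨ε⟩⟩ := exists_inv_isEquivOver hT'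
  have hJ := subCongr_isEquivOver (fun c => (hii' c).1) (fun c => (hii' c).2)
  refine ⟨BasedFunctor.comp (toEssIm i) (BasedFunctor.comp (subCongr (fun c => (hii' c).1)) Ti),
    isEquivOver_comp _ _ hT (isEquivOver_comp _ _ hJ hTi), ⟨?_⟩⟩
  exact whiskerLeftIso (BasedFunctor.comp (toEssIm i) (subCongr (fun c => (hii' c).1)))
    (whiskerRightIso ε (AlgSt.subIncl 𝒞 (EssIm i'))) ≪≫ eqToIso rfl

end factor

section chart

open Groth.Agent.H32.StTop Groth.Agent.H32.StOpen Groth.Agent.H32.StUniv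
  Groth.Agent.H32.AtlasRep Groth.Agent.H32.AlgStackEquiv Groth.Agent.H32.DiagRep
  Groth.Agent.H32.SectSt Groth.Agent.H32.SmLocus2

variable {P Q R : MorphismProperty (AlgSp.Sp S)} (f : 𝒳 ⥤ᵇ 𝒴) {G F : AlgSp.Space S}
  (h : AlgSt.ofSp G.obj ⥤ᵇ 𝒴) (eF : AlgSt.ofSp F.obj ⥤ᵇ fp h f) {W : AlgSp.Space S} (w : W ⟶ F)

/-- the open subspace `W` of the chart `F ≃ G ×_𝒴 𝒳`, as a functor. -/
def jW : AlgSt.ofSp W.obj ⥤ᵇ fp h f := BasedFunctor.comp (AlgSt.ofSpMap w.hom) eF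

/-- the image of `W` in the points of `𝒳`. -/
def Om : Set (AlgSt.Points 𝒳) :=
  Set.range (AlgSt.Points.map (BasedFunctor.comp (jW f h eF w) (fpSnd h f)))

theorem range_jW :
    Set.range (AlgSt.Points.map (jW f h eF w)) = AlgSt.Points.map eF '' ptsOf w := by
  unfold jW ptsOf
  rw [← Set.range_comp]
  congr 1
  funext z
  exact map_comp _ _ z

theorem om_eq : Om f h eF w =
    AlgSt.Points.map (fpSnd h f) '' Set.range (AlgSt.Points.map (jW f h eF w)) := by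
  unfold Om
  rw [← Set.range_comp]
  congr 1
  funext z
  exact map_comp _ _ z

theorem bc_repWith (P₀ : MorphismProperty Scheme.{u}) : BC (AlgSp.RepWith (S := S) P₀) :=
  fun _ _ _ _ _ _ _ _ _ _ _ _ sq ha => Groth.Agent.H50.repWith_snd_of_isPullback sq ha

theorem isOpenImm_jW (h𝒳 : AlgSt.IsAlgStack Scheme.fppfPrecoverage 𝒳)
    (h𝒴 : AlgSt.IsAlgStack Scheme.fppfPrecoverage 𝒴) (heF : IsEquivOver eF)
    (hw : AlgSp.RepWith @IsOpenImmersion w.hom) : AlgSt.IsOpenImm (jW f h eF w) := by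
  have hG := isAlgStack_ofSp G
  have hfp : AlgSt.IsAlgStack Scheme.fppfPrecoverage (fp h f) := isAlgStack_fp' h𝒳 h𝒴 hG h f
  exact (with_postcomp_equiv _ (isAlgStack_ofSp W).isStack.1 (isAlgStack_ofSp F).isStack.1
    hfp.isStack.1 (AlgSt.ofSpMap w.hom) eF heF).2
    (with_ofSpMap _ (bc_repWith @IsOpenImmersion) W F w hw)

theorem isOpen_om (h𝒳 : AlgSt.IsAlgStack Scheme.fppfPrecoverage 𝒳)
    (h𝒴 : AlgSt.IsAlgStack Scheme.fppfPrecoverage 𝒴)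
    (hsm : AlgSt.RepByAlgSpWith (AlgSp.LocP @Smooth) h) (heF : IsEquivOver eF)
    (hw : AlgSp.RepWith @IsOpenImmersion w.hom) : IsOpen (Om f h eF w) := by
  have hG := isAlgStack_ofSp G
  have hfp : AlgSt.IsAlgStack Scheme.fppfPrecoverage (fp h f) := isAlgStack_fp' h𝒳 h𝒴 hG h f
  rw [om_eq]
  have h1 : IsOpenMap (AlgSt.Points.map (fpSnd h f)) :=
    isOpenMap_of_flat_lfp hfp h𝒳 _ (Groth.Agent.H32.DiagApps.with_imp flat_lfp_of_smooth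
      (repByAlgSpWith_fpSnd _ h f hsm))
  exact h1 _ (isOpen_range_of_isOpenImm (isAlgStack_ofSp W) hfp _
    (isOpenImm_jW f h eF w h𝒳 h𝒴 heF hw))

theorem preimage_om (H : Hyp P Q R) (h𝒳 : AlgSt.IsAlgStack Scheme.fppfPrecoverage 𝒳)
    (h𝒴 : AlgSt.IsAlgStack Scheme.fppfPrecoverage 𝒴) (hf : AlgSt.RepByAlgSpWith Q f)
    (hsm : AlgSt.RepByAlgSpWith (AlgSp.LocP @Smooth) h) (heF : IsEquivOver eF)
    (hw : IsLargest P (chartMap f h eF) W w) :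
    AlgSt.Points.map (fpSnd h f) ⁻¹' Om f h eF w = AlgSt.Points.map eF '' ptsOf w := by
  ext u
  constructor
  · intro hu
    have hu' : AlgSt.Points.map (fpSnd h f) u ∈ Om f h eF w := hu
    rw [om_eq, range_jW] at hu'
    obtain ⟨u₀, hu₀, e⟩ := hu'
    exact saturated f H h𝒳 h𝒴 hf h hsm eF heF w hw u₀ u e hu₀
  · intro hu
    change AlgSt.Points.map (fpSnd h f) u ∈ Om f h eF w
    rw [om_eq, range_jW]
    exact ⟨u, hu, rfl⟩

theorem ff_of_isOpenImm {𝒜 ℬ : AlgSt.Cat S} (h𝒜 : IsFibGrpd 𝒜.p) (hℬ : IsFibGrpd ℬ.p)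
    (j : 𝒜 ⥤ᵇ ℬ) (hj : AlgSt.IsOpenImm j) : j.toFunctor.Full ∧ j.toFunctor.Faithful :=
  Groth.Agent.S12774.result h𝒜 hℬ j (fun U y => by
    obtain ⟨F, e, he, hP⟩ := hj U y
    exact ⟨F, e, he, Groth.Agent.S15493.mono_of_repWith_openImm _ hP⟩)

/-- the open substack of the chart cut out by `W` is the inverse image of `Ω`. -/
theorem essIm_jW_iff (H : Hyp P Q R) (h𝒳 : AlgSt.IsAlgStack Scheme.fppfPrecoverage 𝒳)
    (h𝒴 : AlgSt.IsAlgStack Scheme.fppfPrecoverage 𝒴) (hf : AlgSt.RepByAlgSpWith Q f)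
    (hsm : AlgSt.RepByAlgSpWith (AlgSp.LocP @Smooth) h) (heF : IsEquivOver eF)
    (hw : IsLargest P (chartMap f h eF) W w) (b : (fp h f).obj) :
    EssIm (jW f h eF w) b ↔ Qof (Om f h eF w) ((fpSnd h f).obj b) := by
  have hG := isAlgStack_ofSp G
  have hW := isAlgStack_ofSp W
  have hfp : AlgSt.IsAlgStack Scheme.fppfPrecoverage (fp h f) := isAlgStack_fp' h𝒳 h𝒴 hG h f
  have hj := isOpenImm_jW f h eF w h𝒳 h𝒴 heF hw.1
  obtain ⟨hfull, hfaith⟩ := ff_of_isOpenImm hW.isStack.1 hfp.isStack.1 _ hj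
  have hT := toEssIm_isEquivOver hW.isStack.1 hfp.isStack.1 (jW f h eF w) hfull hfaith
  have hopen : AlgSt.IsOpenSubstack (fp h f) (EssIm (jW f h eF w)) Scheme.fppfPrecoverage :=
    ⟨essIm_isoClosed _, isAlgStack_of_equiv _ hT hW,
      subIncl_with _ hW.isStack.1 hfp.isStack.1 _ hfull hfaith hj⟩
  have hr : Set.range (AlgSt.Points.map (AlgSt.subIncl (fp h f) (EssIm (jW f h eF w)))) =
      Set.range (AlgSt.Points.map (jW f h eF w)) := by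
    have e : AlgSt.Points.map (jW f h eF w) =
        AlgSt.Points.map (AlgSt.subIncl (fp h f) (EssIm (jW f h eF w))) ∘
          AlgSt.Points.map (toEssIm (jW f h eF w)) := by
      funext z
      exact map_comp (toEssIm (jW f h eF w)) (AlgSt.subIncl (fp h f) (EssIm (jW f h eF w))) z
    rw [e, (map_bijective _ hT).2.range_comp]
  rw [Q_iff_Qof hfp hopen b, hr, range_jW, ← preimage_om f h eF w H h𝒳 h𝒴 hf hsm heF hw]
  exact (Qof_comp h𝒳.isStack.1 hfp.isStack.1 (fpSnd h f) _ b).symm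

/-- the chart of the open substack cut out by `Ω`. -/
theorem exists_chart_sub (H : Hyp P Q R) (h𝒳 : AlgSt.IsAlgStack Scheme.fppfPrecoverage 𝒳)
    (h𝒴 : AlgSt.IsAlgStack Scheme.fppfPrecoverage 𝒴) (hf : AlgSt.RepByAlgSpWith Q f)
    (hsm : AlgSt.RepByAlgSpWith (AlgSp.LocP @Smooth) h) (heF : IsEquivOver eF)
    (hw : IsLargest P (chartMap f h eF) W w) :
    ∃ E : AlgSt.ofSp W.obj ⥤ᵇ
        fp h (BasedFunctor.comp (AlgSt.subIncl 𝒳 (Qof (Om f h eF w))) f),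
      IsEquivOver E ∧
        Nonempty (BasedFunctor.comp E (iota (Qof (Om f h eF w)) h f) ≅ jW f h eF w) := by
  have hG := isAlgStack_ofSp G
  have hW := isAlgStack_ofSp W
  have hfp : AlgSt.IsAlgStack Scheme.fppfPrecoverage (fp h f) := isAlgStack_fp' h𝒳 h𝒴 hG h f
  have hj := isOpenImm_jW f h eF w h𝒳 h𝒴 heF hw.1
  obtain ⟨hfull, hfaith⟩ := ff_of_isOpenImm hW.isStack.1 hfp.isStack.1 _ hj
  have hsub : IsFibGrpd (AlgSt.fullSub 𝒳 (Qof (Om f h eF w))).p :=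
    fullSub_isFibGrpd h𝒳.isStack.1 (Qof_pbClosed _)
  have hfp' : IsFibGrpd (fp h (BasedFunctor.comp (AlgSt.subIncl 𝒳 (Qof (Om f h eF w))) f)).p :=
    Groth.Agent.H32.Repr.fp_isFibGrpd _ _ hG.isStack.1 hsub h𝒴.isStack.1
  exact exists_equiv_of_essIm hW.isStack.1 hfp' hfp.isStack.1 (jW f h eF w)
    (iota (Qof (Om f h eF w)) h f) hfull hfaith (iota_full _ h f) (iota_faithful _ h f)
    (fun c => (essIm_jW_iff f h eF w H h𝒳 h𝒴 hf hsm heF hw c).trans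
      (essIm_iota (Qof (Om f h eF w)) h f (Qof_pbClosed _).isoClosed c).symm)

theorem P_chart_G (hw : IsLargest P (chartMap f h eF) W w)
    (E : AlgSt.ofSp W.obj ⥤ᵇ fp h (BasedFunctor.comp (AlgSt.subIncl 𝒳 (Qof (Om f h eF w))) f))
    (γ : BasedFunctor.comp E (iota (Qof (Om f h eF w)) h f) ≅ jW f h eF w) :
    P (ObjectProperty.homMk (pshMapOf (BasedFunctor.comp E
      (fpFst h (BasedFunctor.comp (AlgSt.subIncl 𝒳 (Qof (Om f h eF w))) f)))) :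
        W.obj ⟶ G.obj) := by
  have e : (ObjectProperty.homMk (pshMapOf (BasedFunctor.comp E
      (fpFst h (BasedFunctor.comp (AlgSt.subIncl 𝒳 (Qof (Om f h eF w))) f)))) :
        W.obj ⟶ G.obj) = (w ≫ chartMap f h eF).hom := by
    apply ObjectProperty.hom_ext
    change pshMapOf _ = w.hom.hom ≫ pshMapOf (BasedFunctor.comp eF (fpFst h f))
    have e1 : pshMapOf (BasedFunctor.comp E
        (fpFst h (BasedFunctor.comp (AlgSt.subIncl 𝒳 (Qof (Om f h eF w))) f))) =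
        pshMapOf (BasedFunctor.comp (jW f h eF w) (fpFst h f)) :=
      pshMapOf_congr (whiskerRightIso γ (fpFst h f)).hom
    rw [e1]
    have e2 : BasedFunctor.comp (jW f h eF w) (fpFst h f) =
        BasedFunctor.comp (Stk.ofPshMap w.hom.hom) (BasedFunctor.comp eF (fpFst h f)) := rfl
    rw [e2, pshMapOf_comp, pshMapOf_ofPshMap]
  rw [e]
  exact hw.2.1

theorem P_chart (H : Hyp P Q R) (h𝒳 : AlgSt.IsAlgStack Scheme.fppfPrecoverage 𝒳)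
    (h𝒴 : AlgSt.IsAlgStack Scheme.fppfPrecoverage 𝒴) (hf : AlgSt.RepByAlgSpWith Q f)
    (hsm : AlgSt.RepByAlgSpWith (AlgSp.LocP @Smooth) h) (heF : IsEquivOver eF)
    (hw : IsLargest P (chartMap f h eF) W w) {Z F' : AlgSp.Space S}
    (a : AlgSt.ofSp Z.obj ⥤ᵇ AlgSt.ofSp G.obj)
    (e'' : AlgSt.ofSp F'.obj ⥤ᵇ fp (BasedFunctor.comp a h)
      (BasedFunctor.comp (AlgSt.subIncl 𝒳 (Qof (Om f h eF w))) f)) (he'' : IsEquivOver e'') :
    P (ObjectProperty.homMk (pshMapOf (BasedFunctor.comp e'' (fpFst _ _))) : F'.obj ⟶ Z.obj) := by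
  obtain ⟨E, hE, ⟨γ⟩⟩ := exists_chart_sub f h eF w H h𝒳 h𝒴 hf hsm heF hw
  have hPG := P_chart_G f h eF w hw E γ
  obtain ⟨α⟩ := ofPshMap_pshMapOf a
  obtain ⟨q, sq⟩ := exists_isPullback_baseChange
    (BasedFunctor.comp (AlgSt.subIncl 𝒳 (Qof (Om f h eF w))) f) h E hE (pshMapOf a)
    (BasedFunctor.comp e'' (congrLeft (whiskerRightIso α h).symm _))
    (isEquivOver_comp _ _ he'' (congrLeft_isEquivOver _ _))
  have sq' : IsPullback (ObjectProperty.homMk q : F'.obj ⟶ W.obj)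
      (ObjectProperty.homMk (pshMapOf (BasedFunctor.comp e'' (fpFst _ _))) : F'.obj ⟶ Z.obj)
      (ObjectProperty.homMk (pshMapOf (BasedFunctor.comp E
        (fpFst h (BasedFunctor.comp (AlgSt.subIncl 𝒳 (Qof (Om f h eF w))) f)))) :
          W.obj ⟶ G.obj)
      (ObjectProperty.homMk (pshMapOf a) : Z.obj ⟶ G.obj) :=
    IsPullback.of_map_of_faithful (sheafToPresheaf (AlgSp.J S) (Type (u + 1))) sq
  exact H.hPb W.property G.property F'.property Z.property _ _ _ _ sq' hPG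

/-- `f` restricted to the open substack cut out by `Ω` has `P`. -/
theorem P_sub (H : Hyp P Q R) (h𝒳 : AlgSt.IsAlgStack Scheme.fppfPrecoverage 𝒳)
    (h𝒴 : AlgSt.IsAlgStack Scheme.fppfPrecoverage 𝒴) (hf : AlgSt.RepByAlgSpWith Q f)
    (hsm : AlgSt.RepByAlgSpWith (AlgSp.LocP @Smooth) h)
    (hsurj : AlgSt.RepByAlgSpWith AlgSp.IsSurjectiveMor h) (heF : IsEquivOver eF)
    (hw : IsLargest P (chartMap f h eF) W w) :
    AlgSt.RepByAlgSpWith P (BasedFunctor.comp (AlgSt.subIncl 𝒳 (Qof (Om f h eF w))) f) := by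
  intro U y
  have hsub : IsFibGrpd (AlgSt.fullSub 𝒳 (Qof (Om f h eF w))).p :=
    fullSub_isFibGrpd h𝒳.isStack.1 (Qof_pbClosed _)
  have hoi := isOpenImm_subIncl_Qof (Om f h eF w) h𝒳 (isOpen_om f h eF w h𝒳 h𝒴 hsm heF hw.1)
  have h1 : AlgSt.RepByAlgSp1 (BasedFunctor.comp (AlgSt.subIncl 𝒳 (Qof (Om f h eF w))) f) :=
    Groth.Agent.H32.StackOps.repByAlgSp1_comp hsub h𝒳.isStack.1 h𝒴.isStack.1 _ _
      (repByAlgSp1_of_with hoi) (repByAlgSp1_of_with hf)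
  obtain ⟨FU, e, he⟩ := h1 U y
  refine ⟨FU, e, he, ?_⟩
  obtain ⟨Z, ez, hez, hcov⟩ := exists_cover_of_rep h
    (Groth.Agent.H32.DiagApps.with_imp (fun _ _ a ha => (flat_lfp_of_smooth a ha).1) hsm)
    (Groth.Agent.H32.DiagApps.with_imp (fun _ _ a ha => (flat_lfp_of_smooth a ha).2) hsm)
    hsurj U y
  obtain ⟨F', e'', he''⟩ := Groth.Agent.H32.SpBoot.repByAlgSp_fp_ofSp hsub h𝒴.isStack.1 Z
    (BasedFunctor.comp (BasedFunctor.comp ez (fpSnd y h)) h)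
    (BasedFunctor.comp (AlgSt.subIncl 𝒳 (Qof (Om f h eF w))) f) h1
  exact P_of_rep_cover P H.hP _ h U y FU e he Z ez hcov F' e'' he''
    (P_chart f h eF w H h𝒳 h𝒴 hf hsm heF hw (BasedFunctor.comp ez (fpSnd y h)) e'' he'')

theorem chart_eq (Q' : 𝒳.obj → Prop)
    (E : AlgSt.ofSp W.obj ⥤ᵇ fp h (BasedFunctor.comp (AlgSt.subIncl 𝒳 Q') f))
    (γ : BasedFunctor.comp E (iota Q' h f) ≅ jW f h eF w) :
    (ObjectProperty.homMk (pshMapOf (BasedFunctor.comp E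
      (fpFst h (BasedFunctor.comp (AlgSt.subIncl 𝒳 Q') f)))) :
        W.obj ⟶ G.obj) = (w ≫ chartMap f h eF).hom := by
  apply ObjectProperty.hom_ext
  change pshMapOf _ = w.hom.hom ≫ pshMapOf (BasedFunctor.comp eF (fpFst h f))
  have e1 : pshMapOf (BasedFunctor.comp E
      (fpFst h (BasedFunctor.comp (AlgSt.subIncl 𝒳 Q') f))) =
      pshMapOf (BasedFunctor.comp (jW f h eF w) (fpFst h f)) :=
    pshMapOf_congr (whiskerRightIso γ (fpFst h f)).hom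
  rw [e1]
  have e2 : BasedFunctor.comp (jW f h eF w) (fpFst h f) =
      BasedFunctor.comp (Stk.ofPshMap w.hom.hom) (BasedFunctor.comp eF (fpFst h f)) := rfl
  rw [e2, pshMapOf_comp, pshMapOf_ofPshMap]

/-- an open substack of `𝒳` cuts out an open subspace of the chart. -/
theorem exists_open_subspace (h𝒳 : AlgSt.IsAlgStack Scheme.fppfPrecoverage 𝒳)
    (h𝒴 : AlgSt.IsAlgStack Scheme.fppfPrecoverage 𝒴) (heF : IsEquivOver eF)
    (Q₁ : 𝒳.obj → Prop) (hQ₁ : AlgSt.IsOpenSubstack 𝒳 Q₁ Scheme.fppfPrecoverage) :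
    ∃ (W₁ : AlgSp.Space S) (w₁ : W₁ ⟶ F), AlgSp.RepWith @IsOpenImmersion w₁.hom ∧
      ∀ b : (fp h f).obj, EssIm (jW f h eF w₁) b ↔ Q₁ ((fpSnd h f).obj b) := by
  have hF := isAlgStack_ofSp F
  have hG := isAlgStack_ofSp G
  have hfp : AlgSt.IsAlgStack Scheme.fppfPrecoverage (fp h f) := isAlgStack_fp' h𝒳 h𝒴 hG h f
  obtain ⟨c, hc⟩ : ∃ c : AlgSt.ofSp F.obj ⥤ᵇ 𝒳, c = BasedFunctor.comp eF (fpSnd h f) := ⟨_, rfl⟩
  obtain ⟨hiso'', halg'', himm''⟩ := isOpenSubstack_comp h𝒳 hF c hQ₁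
  obtain ⟨W₁, r₀, hr₀⟩ := Groth.Agent.H32.SpBoot.repByAlgSp_fp_ofSp halg''.isStack.1 hF.isStack.1 F
    (BasedFunctor.id _) (AlgSt.subIncl (AlgSt.ofSp F.obj) (fun z => Q₁ (c.obj z)))
    (repByAlgSp1_of_with himm'')
  have hsnd : IsEquivOver (fpSnd (BasedFunctor.id (AlgSt.ofSp F.obj))
      (AlgSt.subIncl (AlgSt.ofSp F.obj) (fun z => Q₁ (c.obj z)))) :=
    fpSnd_isEquivOver _ _ (isEquivOver_id _)
  obtain ⟨r₁, hr₁def⟩ : ∃ r₁ : AlgSt.ofSp W₁.obj ⥤ᵇ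
      AlgSt.fullSub (AlgSt.ofSp F.obj) (fun z => Q₁ (c.obj z)),
      r₁ = BasedFunctor.comp r₀ (fpSnd _ _) := ⟨_, rfl⟩
  have hr₁ : IsEquivOver r₁ := hr₁def ▸ isEquivOver_comp _ _ hr₀ hsnd
  have hW₁ := isAlgStack_ofSp W₁
  obtain ⟨i₁, hi₁def⟩ : ∃ i₁ : AlgSt.ofSp W₁.obj ⥤ᵇ AlgSt.ofSp F.obj,
      i₁ = BasedFunctor.comp r₁ (AlgSt.subIncl _ _) := ⟨_, rfl⟩
  have hi₁ : AlgSt.IsOpenImm i₁ := hi₁def ▸ Groth.Agent.H32.StackOps.with_precomp_equiv _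
    hW₁.isStack.1 halg''.isStack.1 hF.isStack.1 r₁ hr₁ _ himm''
  obtain ⟨α⟩ := ofPshMap_pshMapOf i₁
  have hoi : AlgSt.IsOpenImm (Stk.ofPshMap (pshMapOf i₁)) :=
    Groth.Agent.H32.StackOps.with_of_iso _ hW₁.isStack.1 hF.isStack.1 α hi₁
  let w₁ : W₁ ⟶ F := ObjectProperty.homMk (ObjectProperty.homMk (pshMapOf i₁))
  have hw₁ : AlgSp.RepWith @IsOpenImmersion w₁.hom :=
    Groth.Agent.H32.RepWithSt.repWith_of_with _ w₁.hom hoi
  refine ⟨W₁, w₁, hw₁, fun b => ?_⟩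
  have hprop : ∀ z : (AlgSt.ofSp W₁.obj).obj, Q₁ (c.obj (i₁.obj z)) := by
    intro z
    rw [hi₁def]
    exact (r₁.obj z).property
  constructor
  · rintro ⟨z, ⟨e⟩⟩
    have e1 : (fpSnd h f).obj (eF.obj (i₁.obj z)) ≅ (fpSnd h f).obj b :=
      (fpSnd h f).toFunctor.mapIso (eF.toFunctor.mapIso (appIso α z).symm ≪≫ e)
    have h1 := hprop z
    rw [hc] at h1
    exact hQ₁.1.of_iso e1 h1
  · intro hb
    obtain ⟨-, hess⟩ := (Groth.Agent.S5139.result eF).1 heF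
    obtain ⟨x, e, -⟩ := hess b
    have hx : Q₁ (c.obj x) := by
      rw [hc]
      exact hQ₁.1.of_iso ((fpSnd h f).toFunctor.mapIso e.symm) hb
    obtain ⟨-, hess₁⟩ := (Groth.Agent.S5139.result r₁).1 hr₁
    obtain ⟨z, e', -⟩ := hess₁ ⟨x, hx⟩
    have e2 : i₁.obj z ≅ x := by
      rw [hi₁def]
      exact (AlgSt.subIncl _ _).toFunctor.mapIso e'
    exact ⟨z, ⟨eF.toFunctor.mapIso (appIso α z ≪≫ e2) ≪≫ e⟩⟩

/-- the open subspace cut out by an open substack on which `f` has `P` has `P` over the chart. -/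
theorem P_of_sub (H : Hyp P Q R) (h𝒳 : AlgSt.IsAlgStack Scheme.fppfPrecoverage 𝒳)
    (h𝒴 : AlgSt.IsAlgStack Scheme.fppfPrecoverage 𝒴) (heF : IsEquivOver eF)
    (Q₁ : 𝒳.obj → Prop) (hQ₁ : AlgSt.IsOpenSubstack 𝒳 Q₁ Scheme.fppfPrecoverage)
    (hP₁ : AlgSt.RepByAlgSpWith P (BasedFunctor.comp (AlgSt.subIncl 𝒳 Q₁) f))
    (hw : AlgSp.RepWith @IsOpenImmersion w.hom)
    (hb : ∀ b : (fp h f).obj, EssIm (jW f h eF w) b ↔ Q₁ ((fpSnd h f).obj b)) :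
    P (w ≫ chartMap f h eF).hom := by
  have hG := isAlgStack_ofSp G
  have hW := isAlgStack_ofSp W
  have hfp : AlgSt.IsAlgStack Scheme.fppfPrecoverage (fp h f) := isAlgStack_fp' h𝒳 h𝒴 hG h f
  have hj := isOpenImm_jW f h eF w h𝒳 h𝒴 heF hw
  obtain ⟨hfull, hfaith⟩ := ff_of_isOpenImm hW.isStack.1 hfp.isStack.1 _ hj
  have hfp' : IsFibGrpd (fp h (BasedFunctor.comp (AlgSt.subIncl 𝒳 Q₁) f)).p :=
    Groth.Agent.H32.Repr.fp_isFibGrpd _ _ hG.isStack.1 hQ₁.2.1.isStack.1 h𝒴.isStack.1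
  obtain ⟨E, hE, ⟨γ⟩⟩ := exists_equiv_of_essIm hW.isStack.1 hfp' hfp.isStack.1 (jW f h eF w)
    (iota Q₁ h f) hfull hfaith (iota_full _ h f) (iota_faithful _ h f)
    (fun c => (hb c).trans (essIm_iota Q₁ h f hQ₁.1 c).symm)
  rw [← chart_eq f h eF w Q₁ E γ]
  exact P_baseChange P H.hP _ hP₁ G W h E hE

/-- maximality of the open substack cut out by `Ω`. -/
theorem max_sub (H : Hyp P Q R) (h𝒳 : AlgSt.IsAlgStack Scheme.fppfPrecoverage 𝒳)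
    (h𝒴 : AlgSt.IsAlgStack Scheme.fppfPrecoverage 𝒴)
    (hsurj : AlgSt.RepByAlgSpWith AlgSp.IsSurjectiveMor h) (heF : IsEquivOver eF)
    (hw : IsLargest P (chartMap f h eF) W w)
    (Q₁ : 𝒳.obj → Prop) (hQ₁ : AlgSt.IsOpenSubstack 𝒳 Q₁ Scheme.fppfPrecoverage)
    (hP₁ : AlgSt.RepByAlgSpWith P (BasedFunctor.comp (AlgSt.subIncl 𝒳 Q₁) f)) (x : 𝒳.obj)
    (hx : Q₁ x) : Qof (Om f h eF w) x := by
  have hG := isAlgStack_ofSp G
  have hF := isAlgStack_ofSp F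
  have hfp : AlgSt.IsAlgStack Scheme.fppfPrecoverage (fp h f) := isAlgStack_fp' h𝒳 h𝒴 hG h f
  obtain ⟨W₁, w₁, hw₁, hb₁⟩ := exists_open_subspace f h eF h𝒳 h𝒴 heF Q₁ hQ₁
  have hW₁ := isAlgStack_ofSp W₁
  have hPw₁ := P_of_sub f h eF w₁ H h𝒳 h𝒴 heF Q₁ hQ₁ hP₁ hw₁ hb₁
  obtain ⟨k, hk⟩ := hw.2.2 W₁ w₁ hw₁ hPw₁
  have hsub : ptsOf w₁ ⊆ ptsOf w := ptsOf_mono w w₁ k hk
  have h2 : AlgSt.RepByAlgSpWith AlgSp.IsSurjectiveMor (fpSnd h f) :=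
    repByAlgSpWith_fpSnd _ h f hsurj
  have hs : Function.Surjective (AlgSt.Points.map (fpSnd h f)) :=
    (surj_iff hfp h𝒳 _ (repByAlgSp1_of_with h2)).2 h2
  refine Qof_mono ?_ x ((Q_iff_Qof h𝒳 hQ₁ x).1 hx)
  intro ξ hξ
  obtain ⟨u, rfl⟩ := hs ξ
  obtain ⟨q, rfl⟩ := AlgSt.Points.mk_surjective u
  have hq : Q₁ ((fpSnd h f).obj q.obj) :=
    (Q_iff_Qof h𝒳 hQ₁ _).2 ((Qof_fpt _ (q.map (fpSnd h f))).2 hξ)
  obtain ⟨z, ⟨e⟩⟩ := (hb₁ q.obj).2 hq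
  obtain ⟨q', -, hq'⟩ := fpt_lift' hfp.isStack.1 hW₁.isStack.1 (jW f h eF w₁) z q e.inv
  rw [om_eq, range_jW, hq']
  refine ⟨_, ⟨_, hsub ⟨AlgSt.Points.mk q', rfl⟩, rfl⟩, ?_⟩
  exact congrArg (AlgSt.Points.map (fpSnd h f)) (map_comp (AlgSt.ofSpMap w₁.hom) eF _).symm

end chart

section final

open Groth.Agent.H32.AtlasRep Groth.Agent.H32.AlgStackEquiv

variable {P Q R : MorphismProperty (AlgSp.Sp S)}

/-- the largest open substack on which `f` has `P`. -/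
theorem exists_largest (H : Hyp P Q R) (h𝒳 : AlgSt.IsAlgStack Scheme.fppfPrecoverage 𝒳)
    (h𝒴 : AlgSt.IsAlgStack Scheme.fppfPrecoverage 𝒴) (f : 𝒳 ⥤ᵇ 𝒴)
    (hf : AlgSt.RepByAlgSpWith Q f) :
    ∃ Q₀ : 𝒳.obj → Prop, AlgSt.IsOpenSubstack 𝒳 Q₀ Scheme.fppfPrecoverage ∧
      AlgSt.RepByAlgSpWith P (BasedFunctor.comp (AlgSt.subIncl 𝒳 Q₀) f) ∧
        ∀ Q₁ : 𝒳.obj → Prop, AlgSt.IsOpenSubstack 𝒳 Q₁ Scheme.fppfPrecoverage →
          AlgSt.RepByAlgSpWith P (BasedFunctor.comp (AlgSt.subIncl 𝒳 Q₁) f) →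
            ∀ y, Q₁ y → Q₀ y := by
  obtain ⟨V, v, hv1, hv2⟩ := h𝒴.atlas
  let G : AlgSp.Space S := ⟨(AlgSp.yon S).obj V, AlgSp.IsAlgSpace.yon_obj V⟩
  have hG := isAlgStack_ofSp G
  obtain ⟨h, hdef⟩ : ∃ h : AlgSt.ofSp G.obj ⥤ᵇ 𝒴, h = BasedFunctor.comp (AlgSt.toOverCat V) v :=
    ⟨_, rfl⟩
  have hsm : AlgSt.RepByAlgSpWith (AlgSp.LocP @Smooth) h := hdef ▸
    Groth.Agent.H32.StackOps.with_precomp_equiv _ hG.isStack.1
      (Groth.Agent.S6411.over_isFibGrpd V) h𝒴.isStack.1 (AlgSt.toOverCat V)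
      (toOverCat_isEquivOver V) v hv1
  have hsurj : AlgSt.RepByAlgSpWith AlgSp.IsSurjectiveMor h := hdef ▸
    Groth.Agent.H32.StackOps.with_precomp_equiv _ hG.isStack.1
      (Groth.Agent.S6411.over_isFibGrpd V) h𝒴.isStack.1 (AlgSt.toOverCat V)
      (toOverCat_isEquivOver V) v hv2
  obtain ⟨F, eF, heF⟩ := Groth.Agent.H32.SpBoot.repByAlgSp_fp_ofSp h𝒳.isStack.1 h𝒴.isStack.1 G h f
    (repByAlgSp1_of_with hf)
  obtain ⟨W, w, hw⟩ := H.h₃ F G (chartMap f h eF) (chartMap_Q f H hf h eF heF)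
  exact ⟨Qof (Om f h eF w), isOpenSubstack_Qof _ h𝒳 (isOpen_om f h eF w h𝒳 h𝒴 hsm heF hw.1),
    P_sub f h eF w H h𝒳 h𝒴 hf hsm hsurj heF hw,
    fun Q₁ hQ₁ hP₁ y hy => max_sub f h eF w H h𝒳 h𝒴 hsurj heF hw Q₁ hQ₁ hP₁ y hy⟩

end final

end Groth.Agent.H32.PLoc4
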