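import Groth.Agent.H32.PLoc4

/-!
# Base change of the largest open substack on which a representable morphism has `P` (helper32)
-/

set_option autoImplicit false
open CategoryTheory CategoryTheory.Limits AlgebraicGeometry Opposite
universe u

namespace Groth.Agent.H32.PLoc5

open FibCat Stk Groth.Agent.H32.FibProd Groth.Agent.H32.Fp2 Groth.Agent.H32.Fp3
  Groth.Agent.H32.Fp4 Groth.Agent.H32.PshFp Groth.Agent.H32.PshStack Groth.Agent.H32.SpBridge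
  Groth.Agent.H32.SpTrack Groth.Agent.H32.SpComp Groth.Agent.H32.Sect Groth.Agent.H32.PLoc1
  Groth.Agent.H32.PLoc2 Groth.Agent.H32.PLoc3 Groth.Agent.H32.PLoc4 Groth.Agent.H32.StPoints
  Groth.Agent.H32.SubStk Groth.Agent.H32.ImmImage Groth.Agent.H32.OpenSub
  Groth.Agent.H32.AtlasRep Groth.Agent.H32.AlgStackEquiv Groth.Agent.H32.StUniv
  Groth.Agent.H32.SmLocus2

variable {S : Scheme.{u}} {𝒳 𝒴 𝒵 : AlgSt.Cat S} {P Q R : MorphismProperty (AlgSp.Sp S)}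

/-- chart data for `f`. -/
theorem exists_chart_data (H : Hyp P Q R) (h𝒳 : AlgSt.IsAlgStack Scheme.fppfPrecoverage 𝒳)
    (h𝒴 : AlgSt.IsAlgStack Scheme.fppfPrecoverage 𝒴) (f : 𝒳 ⥤ᵇ 𝒴)
    (hf : AlgSt.RepByAlgSpWith Q f) :
    ∃ (G F W : AlgSp.Space S) (h : AlgSt.ofSp G.obj ⥤ᵇ 𝒴) (eF : AlgSt.ofSp F.obj ⥤ᵇ fp h f)
      (w : W ⟶ F), AlgSt.RepByAlgSpWith (AlgSp.LocP @Smooth) h ∧
        AlgSt.RepByAlgSpWith AlgSp.IsSurjectiveMor h ∧ IsEquivOver eF ∧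
          IsLargest P (chartMap f h eF) W w := by
  obtain ⟨V, v, hv1, hv2⟩ := h𝒴.atlas
  let G : AlgSp.Space S := ⟨(AlgSp.yon S).obj V, AlgSp.IsAlgSpace.yon_obj V⟩
  have hG := isAlgStack_ofSp G
  obtain ⟨h, hdef⟩ : ∃ h : AlgSt.ofSp G.obj ⥤ᵇ 𝒴, h = BasedFunctor.comp (AlgSt.toOverCat V) v :=
    ⟨_, rfl⟩
  have hsm : AlgSt.RepByAlgSpWith (AlgSp.LocP @Smooth) h := hdef ▸
    Groth.Agent.H32.StackOps.with_precomp_equiv _ hG.isStack.1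
      (Groth.Agent.S6411.over_isFibGrpd V) h𝒴.isStack.1 (AlgSt.toOverCat V)
      (toOverCat_isEquivOver V) v hv1
  have hsurj : AlgSt.RepByAlgSpWith AlgSp.IsSurjectiveMor h := hdef ▸
    Groth.Agent.H32.StackOps.with_precomp_equiv _ hG.isStack.1
      (Groth.Agent.S6411.over_isFibGrpd V) h𝒴.isStack.1 (AlgSt.toOverCat V)
      (toOverCat_isEquivOver V) v hv2
  obtain ⟨F, eF, heF⟩ := Groth.Agent.H32.SpBoot.repByAlgSp_fp_ofSp h𝒳.isStack.1 h𝒴.isStack.1 G h f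
    (repByAlgSp1_of_with hf)
  obtain ⟨W, w, hw⟩ := H.h₃ F G (chartMap f h eF) (chartMap_Q f H hf h eF heF)
  exact ⟨G, F, W, h, eF, w, hsm, hsurj, heF, hw⟩

/-- the largest open substack is the one cut out by `Ω`. -/
theorem largest_iff (H : Hyp P Q R) (h𝒳 : AlgSt.IsAlgStack Scheme.fppfPrecoverage 𝒳)
    (h𝒴 : AlgSt.IsAlgStack Scheme.fppfPrecoverage 𝒴) (f : 𝒳 ⥤ᵇ 𝒴)
    (hf : AlgSt.RepByAlgSpWith Q f) {G F W : AlgSp.Space S} (h : AlgSt.ofSp G.obj ⥤ᵇ 𝒴)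
    (eF : AlgSt.ofSp F.obj ⥤ᵇ fp h f) (w : W ⟶ F)
    (hsm : AlgSt.RepByAlgSpWith (AlgSp.LocP @Smooth) h)
    (hsurj : AlgSt.RepByAlgSpWith AlgSp.IsSurjectiveMor h) (heF : IsEquivOver eF)
    (hw : IsLargest P (chartMap f h eF) W w)
    (Q₀ : 𝒳.obj → Prop) (hQ₀ : AlgSt.IsOpenSubstack 𝒳 Q₀ Scheme.fppfPrecoverage)
    (hQ₀P : AlgSt.RepByAlgSpWith P (BasedFunctor.comp (AlgSt.subIncl 𝒳 Q₀) f))
    (hQ₀max : ∀ Q₁ : 𝒳.obj → Prop, AlgSt.IsOpenSubstack 𝒳 Q₁ Scheme.fppfPrecoverage →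
      AlgSt.RepByAlgSpWith P (BasedFunctor.comp (AlgSt.subIncl 𝒳 Q₁) f) → ∀ y, Q₁ y → Q₀ y) :
    Q₀ = Qof (Om f h eF w) := by
  funext x
  exact propext ⟨max_sub f h eF w H h𝒳 h𝒴 hsurj heF hw Q₀ hQ₀ hQ₀P x,
    hQ₀max _ (isOpenSubstack_Qof _ h𝒳 (isOpen_om f h eF w h𝒳 h𝒴 hsm heF hw.1))
      (P_sub f h eF w H h𝒳 h𝒴 hf hsm hsurj heF hw) x⟩

/-- `f` base changed along `z`, restricted to the inverse image of an open substack on which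
`f` has `P`, has `P`. -/
theorem P_preimage (h𝒳 : AlgSt.IsAlgStack Scheme.fppfPrecoverage 𝒳)
    (h𝒴 : AlgSt.IsAlgStack Scheme.fppfPrecoverage 𝒴)
    (h𝒵 : AlgSt.IsAlgStack Scheme.fppfPrecoverage 𝒵) (f : 𝒳 ⥤ᵇ 𝒴) (z : 𝒵 ⥤ᵇ 𝒴)
    (Q₀ : 𝒳.obj → Prop) (hQ₀ : AlgSt.IsOpenSubstack 𝒳 Q₀ Scheme.fppfPrecoverage)
    (hQ₀P : AlgSt.RepByAlgSpWith P (BasedFunctor.comp (AlgSt.subIncl 𝒳 Q₀) f)) :
    AlgSt.RepByAlgSpWith P
      (BasedFunctor.comp (AlgSt.subIncl (fp z f) fun b ↦ Q₀ b.obj.snd) (fpFst z f)) := by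
  have hfp : AlgSt.IsAlgStack Scheme.fppfPrecoverage (fp z f) := isAlgStack_fp' h𝒳 h𝒴 h𝒵 z f
  have hsub := hQ₀.2.1.isStack.1
  have hfp' : IsFibGrpd (fp z (BasedFunctor.comp (AlgSt.subIncl 𝒳 Q₀) f)).p :=
    Groth.Agent.H32.Repr.fp_isFibGrpd _ _ h𝒵.isStack.1 hsub h𝒴.isStack.1
  have hpre : AlgSt.IsOpenSubstack (fp z f) (fun b ↦ Q₀ b.obj.snd) Scheme.fppfPrecoverage :=
    isOpenSubstack_comp h𝒳 hfp (fpSnd z f) hQ₀
  have hT1 := toEssIm_isEquivOver hfp' hfp.isStack.1 (iota Q₀ z f) (iota_full _ z f)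
    (iota_faithful _ z f)
  have hT2 := subCongr_isEquivOver (𝒞 := fp z f) (Q := EssIm (iota Q₀ z f))
    (Q' := fun b ↦ Q₀ b.obj.snd) (fun c hc => (essIm_iota Q₀ z f hQ₀.1 c).1 hc)
    (fun c hc => (essIm_iota Q₀ z f hQ₀.1 c).2 hc)
  have h1 : AlgSt.RepByAlgSpWith P (fpFst z (BasedFunctor.comp (AlgSt.subIncl 𝒳 Q₀) f)) :=
    Groth.Agent.H32.StQCMor.with_fpFst P h𝒵.isStack.1 h𝒴.isStack.1 hsub z _ hQ₀P
  exact (Groth.Agent.S12782.result hpre.2.1.isStack.1 h𝒵.isStack.1 hfp' h𝒵.isStack.1 P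
    (BasedFunctor.comp (AlgSt.subIncl (fp z f) fun b ↦ Q₀ b.obj.snd) (fpFst z f))
    (fpFst z (BasedFunctor.comp (AlgSt.subIncl 𝒳 Q₀) f))
    (BasedFunctor.comp (toEssIm (iota Q₀ z f))
      (subCongr (fun c hc => (essIm_iota Q₀ z f hQ₀.1 c).1 hc)))
    (BasedFunctor.id _) (isEquivOver_comp _ _ hT1 hT2) (isEquivOver_id _) (eqToIso rfl)).mpr h1

/-- maximality of the inverse image of the largest open substack under base change along a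
morphism with `R`. -/
theorem max_preimage (H : Hyp P Q R) (h𝒳 : AlgSt.IsAlgStack Scheme.fppfPrecoverage 𝒳)
    (h𝒴 : AlgSt.IsAlgStack Scheme.fppfPrecoverage 𝒴)
    (h𝒵 : AlgSt.IsAlgStack Scheme.fppfPrecoverage 𝒵) (f : 𝒳 ⥤ᵇ 𝒴)
    (hf : AlgSt.RepByAlgSpWith Q f) (z : 𝒵 ⥤ᵇ 𝒴) (hz : AlgSt.RepByAlgSpWith R z)
    {G F W : AlgSp.Space S} (h : AlgSt.ofSp G.obj ⥤ᵇ 𝒴)
    (eF : AlgSt.ofSp F.obj ⥤ᵇ fp h f) (w : W ⟶ F)
    (hsm : AlgSt.RepByAlgSpWith (AlgSp.LocP @Smooth) h)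
    (hsurj : AlgSt.RepByAlgSpWith AlgSp.IsSurjectiveMor h) (heF : IsEquivOver eF)
    (hw : IsLargest P (chartMap f h eF) W w)
    (Q₁ : (fp z f).obj → Prop)
    (hQ₁ : AlgSt.IsOpenSubstack (fp z f) Q₁ Scheme.fppfPrecoverage)
    (hP₁ : AlgSt.RepByAlgSpWith P
      (BasedFunctor.comp (AlgSt.subIncl (fp z f) Q₁) (fpFst z f)))
    (b : (fp z f).obj) (hb : Q₁ b) : Qof (Om f h eF w) b.obj.snd := by
  have hG := isAlgStack_ofSp G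
  have hfp : AlgSt.IsAlgStack Scheme.fppfPrecoverage (fp z f) := isAlgStack_fp' h𝒳 h𝒴 h𝒵 z f
  obtain ⟨G'', r, hr⟩ := Groth.Agent.H32.SpBoot.repByAlgSp_fp_ofSp h𝒵.isStack.1 h𝒴.isStack.1 G h z
    (repByAlgSp1_of_with hz)
  have hG'' := isAlgStack_ofSp G''
  have hfphz : IsFibGrpd (fp h z).p :=
    Groth.Agent.H32.Repr.fp_isFibGrpd h z hG.isStack.1 h𝒵.isStack.1 h𝒴.isStack.1
  obtain ⟨y, hy⟩ : ∃ y : AlgSt.ofSp G''.obj ⥤ᵇ AlgSt.ofSp G.obj,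
      y = BasedFunctor.comp r (fpFst h z) := ⟨_, rfl⟩
  obtain ⟨h'', hh''⟩ : ∃ h'' : AlgSt.ofSp G''.obj ⥤ᵇ 𝒵,
      h'' = BasedFunctor.comp r (fpSnd h z) := ⟨_, rfl⟩
  have hsurj'' : AlgSt.RepByAlgSpWith AlgSp.IsSurjectiveMor h'' := hh'' ▸
    Groth.Agent.H32.StackOps.with_precomp_equiv _ hG''.isStack.1 hfphz h𝒵.isStack.1 r hr _
      (repByAlgSpWith_fpSnd _ h z hsurj)
  have hRy : R (ObjectProperty.homMk (pshMapOf (BasedFunctor.comp (BasedFunctor.id _) y)) :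
      G''.obj ⟶ G.obj) := by
    rw [hy]
    exact P_baseChange R H.hR z hz G G'' h r hr
  obtain ⟨F'', eF'', heF''⟩ := Groth.Agent.H32.SpBoot.repByAlgSp_fp_ofSp h𝒳.isStack.1
    h𝒴.isStack.1 G'' (BasedFunctor.comp y h) f (repByAlgSp1_of_with hf)
  obtain ⟨gF'', W'', w'', hL, ⟨c2⟩, pts⟩ := baseChange_largest f H hf h eF heF w hw y
    (BasedFunctor.id _) (isEquivOver_id _) hRy eF'' heF''
  have ι : BasedFunctor.comp y h ≅ BasedFunctor.comp h'' z := by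
    rw [hy, hh'']
    exact whiskerLeftIso r (fpIso h z)
  obtain ⟨eF₃, heF₃def⟩ : ∃ eF₃ : AlgSt.ofSp F''.obj ⥤ᵇ fp h'' (fpFst z f),
      eF₃ = BasedFunctor.comp eF'' (BasedFunctor.comp (congrLeft ι f) (paste h'' z f)) :=
    ⟨_, rfl⟩
  have heF₃ : IsEquivOver eF₃ := heF₃def ▸ isEquivOver_comp _ _ heF''
    (isEquivOver_comp _ _ (congrLeft_isEquivOver ι f) (paste_isEquivOver h'' z f))
  have hg : gF'' = chartMap (fpFst z f) h'' eF₃ := by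
    apply ObjectProperty.hom_ext
    apply ObjectProperty.hom_ext
    have e1 := pshMapOf_congr c2.hom
    have e2 : BasedFunctor.comp (AlgSt.ofSpMap gF''.hom) (BasedFunctor.id _) =
        Stk.ofPshMap gF''.hom.hom := rfl
    rw [e2, pshMapOf_ofPshMap] at e1
    rw [e1, heF₃def]
    rfl
  rw [hg] at hL
  have h1 := max_sub (fpFst z f) h'' eF₃ w'' H hfp h𝒵 hsurj'' heF₃ hL Q₁ hQ₁ hP₁ b hb
  have h2 : Qof (AlgSt.Points.map (fpSnd z f) ⁻¹' Om f h eF w) b := by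
    refine Qof_mono ?_ b h1
    intro ξ hξ
    rw [om_eq, range_jW] at hξ
    obtain ⟨_, ⟨_, ⟨t, rfl⟩, rfl⟩, rfl⟩ := hξ
    have h3 := (pts (AlgSt.Points.map eF'' (AlgSt.Points.map (AlgSt.ofSpMap w''.hom) t))).1
      ⟨_, ⟨t, rfl⟩, rfl⟩
    change AlgSt.Points.map (fpSnd z f) _ ∈ Om f h eF w
    rw [om_eq, range_jW]
    refine ⟨_, h3, ?_⟩
    rw [heF₃def]
    simp only [← map_comp]
    rfl
  exact (Qof_comp h𝒳.isStack.1 hfp.isStack.1 (fpSnd z f) _ b).2 h2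

end Groth.Agent.H32.PLoc5
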