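import Mathlib

/-!
# Pure ideals, closed generalization-stable subsets of `Spec R`, and finite flat modules

Helper library (helper32). Main results:
* `exists_pure_zeroLocus_eq`: a closed, generalization-stable subset of `Spec R` is `V(I)` for a pure `I`.
* `isOpen_zeroLocus_of_projective`: if `R ⧸ I` is projective then `V(I)` is open.
* `exists_smul_mem_span`, `rankAtStalk_le_of_smul_mem_span`: spreading out generators (upper
  semicontinuity of the rank of a finite flat module).
* `linearIndependent_of_rank`: `d` generators of a finite flat module of constant rank `d` are a basis.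
* `projective_of_finite_flat`: if closed generalization-stable subsets of `Spec R` are open, finite flat
  modules are projective.
-/

set_option autoImplicit false

namespace Groth.Agent.H32.Pure

open PrimeSpectrum TensorProduct Module

universe u v

section PureIdeal

variable {R : Type u} [CommRing R]

/-- The ideal `{x | ∃ y ∈ J, x = x * y}`. -/
def selfMul (J : Ideal R) : Ideal R where
  carrier := {x | ∃ y ∈ J, x = x * y}
  zero_mem' := ⟨0, J.zero_mem, by simp⟩
  add_mem' := by
    rintro x x' ⟨f, hf, hxf⟩ ⟨g, hg, hxg⟩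
    refine ⟨f + g - f * g, J.sub_mem (J.add_mem hf hg) (J.mul_mem_right _ hf), ?_⟩
    linear_combination (1 - g) * hxf + (1 - f) * hxg
  smul_mem' := by
    rintro a x ⟨f, hf, hxf⟩
    exact ⟨f, hf, by rw [smul_eq_mul, mul_assoc, ← hxf]⟩

lemma mem_selfMul {J : Ideal R} {x : R} : x ∈ selfMul J ↔ ∃ y ∈ J, x = x * y := Iff.rfl

lemma selfMul_le (J : Ideal R) : selfMul J ≤ J := by
  rintro x ⟨y, hy, hxy⟩
  rw [hxy]
  exact J.mul_mem_left _ hy

lemma zeroLocus_selfMul {J : Ideal R}
    (hJ : StableUnderGeneralization (zeroLocus (J : Set R))) :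
    zeroLocus (selfMul J : Set R) = zeroLocus (J : Set R) := by
  apply Set.Subset.antisymm
  · intro p hp
    rw [mem_zeroLocus, SetLike.coe_subset_coe] at hp ⊢
    let S : Submonoid R :=
      { carrier := {s | ∃ a, a ∉ p.asIdeal ∧ ∃ j, j ∈ J ∧ s = a * (1 + j)}
        one_mem' := ⟨1, p.asIdeal.ne_top_iff_one.mp p.2.ne_top, 0, J.zero_mem, by simp⟩
        mul_mem' := by
          rintro _ _ ⟨a, ha, j, hj, rfl⟩ ⟨a', ha', j', hj', rfl⟩
          refine ⟨a * a', fun h ↦ (p.2.mem_or_mem h).elim ha ha', j + j' + j * j',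
            J.add_mem (J.add_mem hj hj') (J.mul_mem_left _ hj'), by ring⟩ }
    have h0 : (0 : R) ∉ S := by
      rintro ⟨a, ha, j, hj, h⟩
      apply ha
      apply hp
      refine ⟨-j, J.neg_mem hj, ?_⟩
      linear_combination -h
    obtain ⟨q, hq, -, hqS⟩ := Ideal.exists_le_prime_disjoint (⊥ : Ideal R) S (by
      rw [Set.disjoint_left]
      intro x hx hxS
      have : x = 0 := by simpa using hx
      exact h0 (this ▸ hxS))
    rw [Set.disjoint_left] at hqS
    have hqp : q ≤ p.asIdeal := by
      intro x hx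
      by_contra hxp
      exact hqS hx ⟨x, hxp, 0, J.zero_mem, by simp⟩
    have hqJ : q ⊔ J ≠ ⊤ := by
      intro h
      have h1 : (1 : R) ∈ q ⊔ J := by rw [h]; trivial
      obtain ⟨a, ha, j, hj, haj⟩ := Submodule.mem_sup.mp h1
      exact hqS ha ⟨1, p.asIdeal.ne_top_iff_one.mp p.2.ne_top, -j, J.neg_mem hj, by
        linear_combination haj⟩
    obtain ⟨m, hm, hle⟩ := Ideal.exists_le_maximal _ hqJ
    have hmJ : (⟨m, hm.isPrime⟩ : PrimeSpectrum R) ∈ zeroLocus (J : Set R) := by
      rw [mem_zeroLocus, SetLike.coe_subset_coe]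
      exact le_sup_right.trans hle
    have hqm : (⟨q, hq⟩ : PrimeSpectrum R) ≤ ⟨m, hm.isPrime⟩ := by
      show q ≤ m
      exact le_sup_left.trans hle
    have hqmem := hJ ((le_iff_specializes _ _).mp hqm) hmJ
    rw [mem_zeroLocus, SetLike.coe_subset_coe] at hqmem
    exact hqmem.trans hqp
  · intro p hp
    rw [mem_zeroLocus, SetLike.coe_subset_coe] at hp ⊢
    exact (selfMul_le J).trans hp

lemma selfMul_pure {J : Ideal R}
    (hJ : StableUnderGeneralization (zeroLocus (J : Set R))) : (selfMul J).Pure := by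
  apply Ideal.Pure.of_inf_eq_mul
  intro K _
  apply le_antisymm _ Ideal.mul_le_inf
  rintro x ⟨hxI, hxK⟩
  obtain ⟨y, hy, hxy⟩ := hxI
  have hrad : J ≤ (selfMul J).radical := by
    rw [← vanishingIdeal_zeroLocus_eq_radical, zeroLocus_selfMul hJ]
    intro z hz
    rw [mem_vanishingIdeal]
    intro p hp
    exact hp hz
  obtain ⟨n, hn⟩ := hrad hy
  have key : ∀ k : ℕ, x = y ^ k * x := by
    intro k
    induction k with
    | zero => simp
    | succ k ih =>
      rw [pow_succ, mul_assoc, mul_comm y x, ← hxy]
      exact ih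
  rw [key n]
  exact Ideal.mul_mem_mul hn hxK

/-- A closed, generalization-stable subset of `Spec R` is the zero locus of a pure ideal. -/
theorem exists_pure_zeroLocus_eq {Z : Set (PrimeSpectrum R)} (hc : IsClosed Z)
    (hg : StableUnderGeneralization Z) :
    ∃ I : Ideal R, I.Pure ∧ zeroLocus (I : Set R) = Z := by
  have hZ : zeroLocus (vanishingIdeal Z : Set R) = Z := by
    rw [zeroLocus_vanishingIdeal_eq_closure, hc.closure_eq]
  have hg' : StableUnderGeneralization (zeroLocus (vanishingIdeal Z : Set R)) := by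
    rw [hZ]; exact hg
  exact ⟨selfMul (vanishingIdeal Z), selfMul_pure hg', (zeroLocus_selfMul hg').trans hZ⟩

/-- For `I` pure, `V(I)` is stable under generalization. -/
theorem stableUnderGeneralization_zeroLocus_of_pure (I : Ideal R) [I.Pure] :
    StableUnderGeneralization (zeroLocus (I : Set R)) := by
  intro p q hqp hp
  rw [mem_zeroLocus, SetLike.coe_subset_coe] at hp ⊢
  have hle : q.asIdeal ≤ p.asIdeal := (le_iff_specializes q p).mpr hqp
  intro x hx
  obtain ⟨y, hy, hxy⟩ := Ideal.exists_eq_mul_of_pure hx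
  have h0 : x * (1 - y) ∈ q.asIdeal := by
    have : x * (1 - y) = 0 := by linear_combination hxy
    rw [this]; exact q.asIdeal.zero_mem
  rcases q.2.mem_or_mem h0 with h | h
  · exact h
  · exfalso
    apply p.asIdeal.ne_top_iff_one.mp p.2.ne_top
    have : (1 : R) = (1 - y) + y := by ring
    rw [this]
    exact p.asIdeal.add_mem (hle h) (hp hy)

/-- If `R ⧸ I` is a projective `R`-module then `V(I)` is open. -/
theorem isOpen_zeroLocus_of_projective (I : Ideal R) [Module.Projective R (R ⧸ I)] :
    IsOpen (zeroLocus (I : Set R)) := by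
  obtain ⟨s, hs⟩ := Module.projective_lifting_property (Submodule.mkQ I) LinearMap.id
    (Submodule.mkQ_surjective I)
  have hs1 : Ideal.Quotient.mk I (s 1) = 1 := LinearMap.congr_fun hs 1
  have h1 : (1 : R) - s 1 ∈ I := by
    rw [← Ideal.Quotient.eq, hs1, map_one]
  have h2 : ∀ x ∈ I, x * s 1 = 0 := by
    intro x hx
    have hx0 : x • (1 : R ⧸ I) = 0 := by
      rw [Algebra.smul_def, mul_one]
      exact Ideal.Quotient.eq_zero_iff_mem.mpr hx
    calc x * s 1 = x • s 1 := (smul_eq_mul x (s 1)).symm
      _ = s (x • (1 : R ⧸ I)) := (s.map_smul x 1).symm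
      _ = 0 := by rw [hx0, map_zero]
  have heq : zeroLocus (I : Set R) = (basicOpen (s 1) : Set (PrimeSpectrum R)) := by
    ext p
    rw [mem_zeroLocus, SetLike.coe_subset_coe, SetLike.mem_coe, mem_basicOpen]
    constructor
    · intro hp he
      apply p.asIdeal.ne_top_iff_one.mp p.2.ne_top
      have : (1 : R) = (1 - s 1) + s 1 := by ring
      rw [this]
      exact p.asIdeal.add_mem (hp h1) he
    · intro hp x hx
      have h0 : x * s 1 ∈ p.asIdeal := by rw [h2 x hx]; exact p.asIdeal.zero_mem
      exact (p.2.mem_or_mem h0).resolve_right hp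
  rw [heq]
  exact (basicOpen (s 1)).2

end PureIdeal

section Rank

variable {R : Type u} [CommRing R] {M : Type v} [AddCommGroup M] [Module R M]

lemma span_one_tmul_eq_top (K : Type*) [CommRing K] [Algebra R K] :
    Submodule.span K (Set.range fun m : M ↦ (1 : K) ⊗ₜ[R] m) = ⊤ := by
  rw [eq_top_iff]
  rintro x -
  induction x using TensorProduct.induction_on with
  | zero => exact zero_mem _
  | tmul a m =>
    have : a ⊗ₜ[R] m = a • ((1 : K) ⊗ₜ[R] m) := by
      rw [TensorProduct.smul_tmul', smul_eq_mul, mul_one]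
    rw [this]
    exact Submodule.smul_mem _ _ (Submodule.subset_span ⟨m, rfl⟩)
  | add x y hx hy => exact add_mem hx hy

/-- Spreading out generators: if `M` is finite flat and `d` is its rank at `p`, there are `d` elements
of `M` and `g ∉ p` such that `g • M` is contained in their span. -/
theorem exists_smul_mem_span [Module.Finite R M] [Module.Flat R M] (p : PrimeSpectrum R) :
    ∃ (g : R) (v : Fin (rankAtStalk M p) → M), g ∉ p.asIdeal ∧
      ∀ m : M, g • m ∈ Submodule.span R (Set.range v) := by
  let κ := p.asIdeal.ResidueField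
  let S : Set (κ ⊗[R] M) := Set.range fun m : M ↦ (1 : κ) ⊗ₜ[R] m
  have hS : Submodule.span κ S = ⊤ := span_one_tmul_eq_top κ
  have hd : finrank κ (Submodule.span κ S) = rankAtStalk M p := by
    rw [hS, finrank_top, rankAtStalk_eq]
  have key := Submodule.exists_fun_fin_finrank_span_eq κ S
  rw [hd] at key
  obtain ⟨f, hfS, hfspan, -⟩ := key
  choose v hv using hfS
  let N : Submodule R M := Submodule.span R (Set.range v)
  have hsub : Subsingleton (κ ⊗[R] (M ⧸ N)) := by
    let T : κ ⊗[R] M →ₗ[κ] κ ⊗[R] (M ⧸ N) := LinearMap.baseChange κ N.mkQ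
    have hT : ∀ x, T x = 0 := by
      intro x
      have hx : x ∈ Submodule.span κ (Set.range f) := by rw [hfspan, hS]; trivial
      induction hx using Submodule.span_induction with
      | mem x hx =>
        obtain ⟨i, rfl⟩ := hx
        rw [← hv i]
        show (LinearMap.baseChange κ N.mkQ) ((1 : κ) ⊗ₜ[R] v i) = 0
        rw [LinearMap.baseChange_tmul, Submodule.mkQ_apply,
          (Submodule.Quotient.mk_eq_zero N).mpr (Submodule.subset_span ⟨i, rfl⟩), tmul_zero]
      | zero => exact map_zero T
      | add x y _ _ hx hy => rw [map_add, hx, hy, add_zero]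
      | smul a x _ hx => rw [map_smul, hx, smul_zero]
    have hsurj : Function.Surjective T := by
      have h := LinearMap.lTensor_surjective κ N.mkQ_surjective
      intro y
      obtain ⟨x, hx⟩ := h y
      exact ⟨x, hx⟩
    exact ⟨fun a b ↦ by
      obtain ⟨x, rfl⟩ := hsurj a
      obtain ⟨y, rfl⟩ := hsurj b
      rw [hT, hT]⟩
  have hnot : p ∉ Module.support R (M ⧸ N) := by
    rw [Module.mem_support_iff_nontrivial_residueField_tensorProduct,
      not_nontrivial_iff_subsingleton]
    exact hsub
  rw [Module.support_eq_zeroLocus, mem_zeroLocus, SetLike.coe_subset_coe,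
    SetLike.not_le_iff_exists] at hnot
  obtain ⟨g, hgann, hgp⟩ := hnot
  refine ⟨g, v, hgp, fun m ↦ ?_⟩
  have := Module.mem_annihilator.mp hgann (N.mkQ m)
  rwa [← map_smul, Submodule.mkQ_apply, Submodule.Quotient.mk_eq_zero] at this

/-- If `g • M` is contained in the span of `d` elements, the rank of `M` at primes of `D(g)` is
at most `d`. -/
theorem rankAtStalk_le_of_smul_mem_span [Module.Finite R M] [Module.Flat R M] {d : ℕ}
    (v : Fin d → M) (g : R) (hg : ∀ m : M, g • m ∈ Submodule.span R (Set.range v))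
    (q : PrimeSpectrum R) (hq : g ∉ q.asIdeal) : rankAtStalk M q ≤ d := by
  rw [rankAtStalk_eq]
  let κ := q.asIdeal.ResidueField
  let w : Fin d → κ ⊗[R] M := fun i ↦ (1 : κ) ⊗ₜ[R] v i
  have hw : Submodule.span κ (Set.range w) = ⊤ := by
    rw [eq_top_iff, ← span_one_tmul_eq_top (R := R) (M := M) κ, Submodule.span_le]
    rintro _ ⟨m, rfl⟩
    have aux : Submodule.span R (Set.range v) ≤
        ((Submodule.span κ (Set.range w)).restrictScalars R).comap
          (TensorProduct.mk R κ M 1) := by
      rw [Submodule.span_le]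
      rintro _ ⟨i, rfl⟩
      exact Submodule.subset_span ⟨i, rfl⟩
    have hgm : (1 : κ) ⊗ₜ[R] (g • m) ∈ Submodule.span κ (Set.range w) := aux (hg m)
    have hunit : algebraMap R κ g ≠ 0 := by
      rwa [Ne, Ideal.algebraMap_residueField_eq_zero]
    have : (1 : κ) ⊗ₜ[R] m = (algebraMap R κ g)⁻¹ • ((1 : κ) ⊗ₜ[R] (g • m)) := by
      rw [tmul_smul, ← algebraMap_smul κ g ((1 : κ) ⊗ₜ[R] m), smul_smul,
        inv_mul_cancel₀ hunit, one_smul]
    show (1 : κ) ⊗ₜ[R] m ∈ Submodule.span κ (Set.range w)
    rw [this]
    exact Submodule.smul_mem _ _ hgm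
  calc finrank κ (κ ⊗[R] M) = finrank κ (⊤ : Submodule κ (κ ⊗[R] M)) := (finrank_top κ (κ ⊗[R] M)).symm
    _ = finrank κ (Submodule.span κ (Set.range w)) := by rw [hw]
    _ ≤ Fintype.card (Fin d) := finrank_range_le_card w
    _ = d := Fintype.card_fin d

/-- `d` generators of a finite flat module of constant rank `d` are linearly independent. -/
theorem linearIndependent_of_rank {A : Type u} [CommRing A] {P : Type v} [AddCommGroup P]
    [Module A P] [Module.Finite A P] [Module.Flat A P] {d : ℕ} (v : Fin d → P)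
    (hv : Submodule.span A (Set.range v) = ⊤)
    (hr : ∀ 𝔭 : PrimeSpectrum A, rankAtStalk P 𝔭 = d) : LinearIndependent A v := by
  rw [Fintype.linearIndependent_iff]
  intro x hx i
  apply eq_zero_of_localization
  intro J hJ
  have hJp : J.IsPrime := hJ.isPrime
  let A' := Localization.AtPrime J
  let P' := LocalizedModule J.primeCompl P
  let f : P →ₗ[A] P' := LocalizedModule.mkLinearMap J.primeCompl P
  have hfree : Module.Free A' P' := Module.free_of_flat_of_isLocalRing
  have hfr : finrank A' P' = d := hr ⟨J, hJp⟩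
  let w : Fin d → P' := fun i ↦ f (v i)
  have hw : ⊤ ≤ Submodule.span A' (Set.range w) := by
    have := span_eq_top_of_isLocalizedModule A' J.primeCompl f hv
    rw [← Set.range_comp] at this
    exact this.ge
  have hli : LinearIndependent A' w :=
    linearIndependent_of_top_le_span_of_card_eq_finrank hw (by rw [Fintype.card_fin, hfr])
  rw [Fintype.linearIndependent_iff] at hli
  apply hli (fun i ↦ algebraMap A A' (x i))
  have : f (∑ i, x i • v i) = 0 := by rw [hx, map_zero]
  rw [map_sum] at this
  rw [← this]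
  refine Finset.sum_congr rfl fun i _ ↦ ?_
  rw [map_smul, algebraMap_smul]

/-- If every closed generalization-stable subset of `Spec R` is open, every finite flat `R`-module
is projective. -/
theorem projective_of_finite_flat
    (H : ∀ Z : Set (PrimeSpectrum R), IsClosed Z → StableUnderGeneralization Z → IsOpen Z)
    (M : Type v) [AddCommGroup M] [Module R M] [Module.Finite R M] [Module.Flat R M] :
    Module.Projective R M := by
  have hclosed : ∀ d : ℕ, IsClosed {q : PrimeSpectrum R | d ≤ rankAtStalk M q} := by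
    intro d
    rw [← isOpen_compl_iff, isOpen_iff_forall_mem_open]
    intro p hp
    obtain ⟨g, v, hgp, hgv⟩ := exists_smul_mem_span (M := M) p
    refine ⟨(basicOpen g : Set _), ?_, (basicOpen g).2, hgp⟩
    intro q hq
    have := rankAtStalk_le_of_smul_mem_span v g hgv q hq
    simp only [Set.mem_compl_iff, Set.mem_ofPred_eq, not_le] at hp ⊢
    omega
  have hgen : ∀ d : ℕ,
      StableUnderGeneralization {q : PrimeSpectrum R | d ≤ rankAtStalk M q} := by
    intro d x y hyx hx
    have hle : y ≤ x := (le_iff_specializes y x).mpr hyx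
    have := rankAtStalk_eq_of_le_of_finite_of_flat M hle
    simp only [Set.mem_ofPred_eq] at hx ⊢
    omega
  have hopen : ∀ d, IsOpen {q : PrimeSpectrum R | d ≤ rankAtStalk M q} :=
    fun d ↦ H _ (hclosed d) (hgen d)
  have key : ∀ p : PrimeSpectrum R, ∃ g : R, g ∉ p.asIdeal ∧
      Module.FinitePresentation (Localization.Away g) (LocalizedModule.Away g M) := by
    intro p
    obtain ⟨g₁, v, hg₁p, hg₁v⟩ := exists_smul_mem_span (M := M) p
    obtain ⟨_, ⟨g₂, rfl⟩, hpg₂, hg₂sub⟩ :=
      isTopologicalBasis_basic_opens.exists_subset_of_mem_open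
        (show p ∈ {q : PrimeSpectrum R | rankAtStalk M p ≤ rankAtStalk M q} from
          le_refl (rankAtStalk M p))
        (hopen (rankAtStalk M p))
    refine ⟨g₁ * g₂, fun h ↦ (p.2.mem_or_mem h).elim hg₁p hpg₂, ?_⟩
    let A := Localization.Away (g₁ * g₂)
    let P := LocalizedModule.Away (g₁ * g₂) M
    let f : M →ₗ[R] P := LocalizedModule.mkLinearMap (Submonoid.powers (g₁ * g₂)) M
    let w : Fin (rankAtStalk M p) → P := fun i ↦ f (v i)
    have hu : IsUnit (algebraMap R A g₁) := by
      have : IsUnit (algebraMap R A (g₁ * g₂)) := IsLocalization.Away.algebraMap_isUnit (g₁ * g₂)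
      rw [map_mul] at this
      exact isUnit_of_mul_isUnit_left this
    have hw : Submodule.span A (Set.range w) = ⊤ := by
      rw [eq_top_iff, ← span_eq_top_of_isLocalizedModule A (Submonoid.powers (g₁ * g₂)) f
        (v := Set.univ) Submodule.span_univ, Submodule.span_le]
      rintro _ ⟨m, -, rfl⟩
      have aux : Submodule.span R (Set.range v) ≤
          ((Submodule.span A (Set.range w)).restrictScalars R).comap f := by
        rw [Submodule.span_le]
        rintro _ ⟨i, rfl⟩
        exact Submodule.subset_span ⟨i, rfl⟩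
      have h1 : f (g₁ • m) ∈ Submodule.span A (Set.range w) := aux (hg₁v m)
      rw [map_smul, ← algebraMap_smul A g₁ (f m)] at h1
      have h2 := Submodule.smul_mem _ (↑hu.unit⁻¹ : A) h1
      rwa [smul_smul, IsUnit.val_inv_mul, one_smul] at h2
    have hr : ∀ 𝔭 : PrimeSpectrum A, rankAtStalk P 𝔭 = rankAtStalk M p := by
      intro 𝔭
      rw [rankAtStalk_isBaseChange
        (IsLocalizedModule.isBaseChange (Submonoid.powers (g₁ * g₂)) A f) 𝔭]
      have hmem : comap (algebraMap R A) 𝔭 ∈ (basicOpen (g₁ * g₂) : Set (PrimeSpectrum R)) := by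
        rw [← localization_away_comap_range A (g₁ * g₂)]
        exact ⟨𝔭, rfl⟩
      rw [SetLike.mem_coe, mem_basicOpen] at hmem
      have hg₁ : g₁ ∉ (comap (algebraMap R A) 𝔭).asIdeal :=
        fun h ↦ hmem (Ideal.mul_mem_right _ _ h)
      have hg₂ : comap (algebraMap R A) 𝔭 ∈ (basicOpen g₂ : Set (PrimeSpectrum R)) := by
        rw [SetLike.mem_coe, mem_basicOpen]
        exact fun h ↦ hmem (Ideal.mul_mem_left _ _ h)
      have h1 := rankAtStalk_le_of_smul_mem_span v g₁ hg₁v _ hg₁
      have h2 : rankAtStalk M p ≤ rankAtStalk M (comap (algebraMap R A) 𝔭) := hg₂sub hg₂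
      omega
    have hli := linearIndependent_of_rank w hw hr
    have : Module.Free A P := Module.Free.of_basis (Basis.mk hli hw.ge)
    exact Module.finitePresentation_of_projective A P
  let s : Set R :=
    {g | Module.FinitePresentation (Localization.Away g) (LocalizedModule.Away g M)}
  have hs : Ideal.span s = ⊤ := by
    by_contra hne
    obtain ⟨m, hm, hle⟩ := Ideal.exists_le_maximal _ hne
    obtain ⟨g, hgm, hg⟩ := key ⟨m, hm.isPrime⟩
    exact hgm (hle (Ideal.subset_span hg))
  have : Module.FinitePresentation R M :=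
    Module.FinitePresentation.of_localizationSpan s hs (fun g ↦ g.2)
  exact Module.Flat.projective_of_finitePresentation

end Rank

end Groth.Agent.H32.Pure
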