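import Groth.Agent.H32.IsoQC
import Groth.Agent.H65.LocQRep
import Groth.Agent.H65.LocQDesc
import Groth.Agent.H65.SmoothST
import Groth.Agent.S10553

/-!
# The largest open substack on which a morphism of algebraic stacks is smooth (helper32)
-/

set_option autoImplicit false
universe u
open CategoryTheory CategoryTheory.Limits AlgebraicGeometry Opposite Topology

namespace Groth.Agent.H32.SmLocus

open FibCat Stk Groth.Agent.H32.FibProd
open Groth.Agent.H32.StPoints Groth.Agent.H32.StTop Groth.Agent.H32.StQC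
open Groth.Agent.H32.StUniv Groth.Agent.H32.Fp2 Groth.Agent.H32.Fp3
open Groth.Agent.H32.OpenSub Groth.Agent.H32.OpenSub2 Groth.Agent.H32.SubStk
open Groth.Agent.H32.PFacts Groth.Agent.H32.GoodMore Groth.Agent.H32.StackOps

variable {S : Scheme.{u}} {𝒳 𝒴 𝒵 : AlgSt.Cat S}

/-- composition of morphisms of schemes and of the induced functors of slices. -/
def overMapComp {T U V : Over S} (j : T ⟶ U) (h : U ⟶ V) :
    BasedFunctor.comp (AlgSt.overMap j) (AlgSt.overMap h) ≅ AlgSt.overMap (j ≫ h) :=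
  BasedNatIso.mkNatIso (Over.mapComp j h).symm (fun a =>
    IsHomLift.of_fac' (FibCat.overCat V).p _ _ rfl rfl (by
      change 𝟙 _ = eqToHom rfl ≫ ((Over.mapComp j h).symm.hom.app a).left ≫ eqToHom rfl
      simp only [eqToHom_refl, Category.comp_id, Category.id_comp]
      rfl))

theorem isSmoothLocalST_smooth : AlgSp.IsSmoothLocalST (AlgSp.LocP (S := S) @Smooth) := by
  refine Groth.Agent.S10567.result _ (Groth.Agent.S10553.result S) ?_
    (fun X Y Z f g hf hg => good_smooth.comp X.property Y.property Z.property f.hom g.hom hf hg)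
  intro ι Y Yi g hY hYi hcov X f hX Xi p q hXi hsq
  exact good_smooth.loc Yi g hY hYi (Groth.Agent.H65.SmoothST.isFppfCover_of_isSmCover Yi g hcov)
    f hX Xi p q hXi hsq

section locus

variable {X Y : Scheme.{u}} (f : X ⟶ Y)

/-- the largest open subscheme of the source on which a morphism of schemes is smooth. -/
def smLocus : X.Opens := sSup {O : X.Opens | Smooth (O.ι ≫ f)}

theorem le_smLocus (O : X.Opens) (h : Smooth (O.ι ≫ f)) : O ≤ smLocus f := le_sSup h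

theorem smooth_smLocus : Smooth ((smLocus f).ι ≫ f) := by
  let 𝒰 : (smLocus f).toScheme.OpenCover :=
    Scheme.Cover.mkOfCovers {O : X.Opens // Smooth (O.ι ≫ f)} (fun O => (O.1 : Scheme.{u}))
      (fun O => X.homOfLE (le_smLocus f O.1 O.2))
      (by
        intro x
        have hx : x.1 ∈ smLocus f := x.2
        obtain ⟨O, hO, hxO⟩ := TopologicalSpace.Opens.mem_sSup.1 hx
        exact ⟨⟨O, hO⟩, ⟨x.1, hxO⟩, Scheme.homOfLE_apply' _ _ _⟩)
      (fun O => inferInstance)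
  have : IsZariskiLocalAtSource @Smooth.{u} := HasRingHomProperty.instIsZariskiLocalAtSource
  refine IsZariskiLocalAtSource.of_openCover (P := @Smooth) 𝒰 fun O => ?_
  change Smooth (X.homOfLE (le_smLocus f O.1 O.2) ≫ (smLocus f).ι ≫ f)
  rw [← Category.assoc, Scheme.homOfLE_ι]
  exact O.2

end locus

/-- cancellation of a fully faithful functor. -/
theorem with_of_comp_ff (P : MorphismProperty (AlgSp.Sp S)) {ℬ 𝒞 : AlgSt.Cat S} (ι : ℬ ⥤ᵇ 𝒞)
    (hfull : ι.toFunctor.Full) (hfaith : ι.toFunctor.Faithful) (g : 𝒵 ⥤ᵇ ℬ)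
    (h : AlgSt.RepByAlgSpWith P (BasedFunctor.comp g ι)) : AlgSt.RepByAlgSpWith P g := by
  intro U t
  exact rep_transfer P (fpFst t g) (fpFst _ _) (fpPost t g ι)
    (fpPost_isEquivOver t g ι hfull hfaith) (fpPost_fst t g _) (h U (BasedFunctor.comp t ι))

section fpSub

variable (Q' : 𝒳.obj → Prop) (f : 𝒳 ⥤ᵇ 𝒴) {𝒱 : AlgSt.Cat S} (y : 𝒱 ⥤ᵇ 𝒴)

/-- the inclusion `𝒳' ×_𝒴 𝒱 ⟶ 𝒳 ×_𝒴 𝒱` for a full subcategory `𝒳'` of `𝒳`. -/
def fpSubIncl : fp (BasedFunctor.comp (AlgSt.subIncl 𝒳 Q') f) y ⥤ᵇ fp f y :=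
  fpLift (F := f) (G := y)
    (BasedFunctor.comp (fpFst (BasedFunctor.comp (AlgSt.subIncl 𝒳 Q') f) y) (AlgSt.subIncl 𝒳 Q'))
    (fpSnd (BasedFunctor.comp (AlgSt.subIncl 𝒳 Q') f) y)
    (fpIso (BasedFunctor.comp (AlgSt.subIncl 𝒳 Q') f) y)

theorem fpSubIncl_snd :
    BasedFunctor.comp (fpSubIncl Q' f y) (fpSnd f y) =
      fpSnd (BasedFunctor.comp (AlgSt.subIncl 𝒳 Q') f) y := rfl

instance fpSubIncl_full : (fpSubIncl Q' f y).toFunctor.Full :=
  ⟨fun {w w'} n => ⟨mkHom (BasedFunctor.comp (AlgSt.subIncl 𝒳 Q') f) y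
    (ObjectProperty.homMk n.hom.fst) n.hom.snd n.hom.w, fp_hom_ext _ _ rfl rfl⟩⟩

instance fpSubIncl_faithful : (fpSubIncl Q' f y).toFunctor.Faithful :=
  ⟨fun {w w'} m m' hmm' => fp_hom_ext _ _
    (ObjectProperty.hom_ext _ (congrArg (fun t => t.hom.fst) hmm'))
    (congrArg (fun t => t.hom.snd) hmm')⟩

end fpSub

open Groth.Agent.H32.Fp4 Groth.Agent.H32.SpTrack in
/-- key lemma: in a chart square whose induced morphism to the fibre product is smooth, `P` holds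
for the chart morphism on every smooth chart of the source chart that maps into a full
subcategory on which `f` has `P`. -/
theorem prop_of_square_sub {P : MorphismProperty (AlgSp.Sp S)} (hP : AlgSp.IsSmoothLocalST P)
    (h𝒳 : IsFibGrpd 𝒳.p) (h𝒴 : IsFibGrpd 𝒴.p) (f : 𝒳 ⥤ᵇ 𝒴)
    {U V : Over S} (x : FibCat.overCat U ⥤ᵇ 𝒳) (y : FibCat.overCat V ⥤ᵇ 𝒴) (h : U ⟶ V)
    (α : BasedFunctor.comp x f ≅ BasedFunctor.comp (AlgSt.overMap h) y)
    (hy : AlgSt.RepByAlgSpWith (AlgSp.LocP @Smooth) y)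
    (hl : AlgSt.RepByAlgSpWith (AlgSp.LocP @Smooth) (FibCat.fpLift x (AlgSt.overMap h) α))
    (Q' : 𝒳.obj → Prop) (hQ'fib : IsFibGrpd (AlgSt.fullSub 𝒳 Q').p)
    (hLoc : AlgSt.LocQ P (BasedFunctor.comp (AlgSt.subIncl 𝒳 Q') f))
    {U' : Over S} (j' : U' ⟶ U) [Smooth j'.left]
    (hQ' : ∀ a : Over U', Q' (x.obj ((AlgSt.overMap j').obj a))) :
    P ((AlgSp.yon S).map (j' ≫ h)) := by
  have iU := Groth.Agent.S6411.over_isFibGrpd U
  have iU' := Groth.Agent.S6411.over_isFibGrpd U'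
  have iV := Groth.Agent.S6411.over_isFibGrpd V
  have iP : IsFibGrpd (fp f y).p := Groth.Agent.H32.Repr.fp_isFibGrpd _ _ h𝒳 iV h𝒴
  let x' : FibCat.overCat U' ⥤ᵇ AlgSt.fullSub 𝒳 Q' :=
    subLift (BasedFunctor.comp (AlgSt.overMap j') x) hQ'
  let f' : AlgSt.fullSub 𝒳 Q' ⥤ᵇ 𝒴 := BasedFunctor.comp (AlgSt.subIncl 𝒳 Q') f
  let α'' : BasedFunctor.comp x' f' ≅
      BasedFunctor.comp (BasedFunctor.comp (AlgSt.overMap j') (AlgSt.overMap h)) y :=
    whiskerLeftIso (AlgSt.overMap j') α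
  let A : FibCat.overCat U' ⥤ᵇ fp f' y :=
    FibCat.fpLift (F := f') (G := y) x' (BasedFunctor.comp (AlgSt.overMap j') (AlgSt.overMap h)) α''
  have hcomp : AlgSt.RepByAlgSpWith (AlgSp.LocP @Smooth)
      (BasedFunctor.comp A (fpSubIncl Q' f y)) := by
    have h0 : AlgSt.RepByAlgSpWith (AlgSp.LocP @Smooth)
        (BasedFunctor.comp (AlgSt.overMap j') (FibCat.fpLift x (AlgSt.overMap h) α)) :=
      with_comp good_smooth iU' iU iP _ _ (overMap_smooth j') hl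
    exact h0
  have hA : AlgSt.RepByAlgSpWith (AlgSp.LocP @Smooth) A :=
    with_of_comp_ff _ (fpSubIncl Q' f y) inferInstance inferInstance A hcomp
  exact Groth.Agent.H65.LocQDesc.prop_of_chart hP hQ'fib h𝒴 f' hLoc y hy A hA (j' ≫ h)
    (overMapComp j' h)

theorem locP_smooth_of_smooth {U V : Over S} (k : U ⟶ V) [Smooth k.left] :
    AlgSp.LocP @Smooth ((AlgSp.yon S).map k) :=
  Groth.Agent.H65.LocQDesc.prop_of_with_overMap _ good_smooth.loc k (overMap_smooth k)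

/-- the open subscheme of a scheme over `S`, as a scheme over `S`. -/
def openOver (U : Over S) (O : U.left.Opens) : Over S := Over.mk (O.ι ≫ U.hom)

/-- the inclusion of an open subscheme. -/
def openIncl (U : Over S) (O : U.left.Opens) : openOver U O ⟶ U := Over.homMk O.ι rfl

instance (U : Over S) (O : U.left.Opens) : Smooth (openIncl U O).left :=
  inferInstanceAs (Smooth O.ι)

theorem openIncl_mem (U : Over S) (O : U.left.Opens) (v : ↥(openOver U O).left) :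
    ((openIncl U O).left v : ↥U.left) ∈ O := by
  have h := Set.mem_range_self (f := O.ι) v
  rwa [Scheme.Opens.range_ι] at h

open Groth.Agent.H32.Fp4 Groth.Agent.H32.SpTrack Groth.Agent.H32.AlgStackEquiv in
/-- the largest open substack on which a morphism of algebraic stacks is smooth. -/
theorem exists_largest (h𝒳 : AlgSt.IsAlgStack Scheme.fppfPrecoverage 𝒳)
    (h𝒴 : AlgSt.IsAlgStack Scheme.fppfPrecoverage 𝒴) (f : 𝒳 ⥤ᵇ 𝒴) :
    ∃ Q : 𝒳.obj → Prop, AlgSt.IsOpenSubstack 𝒳 Q Scheme.fppfPrecoverage ∧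
      AlgSt.LocQ (AlgSp.LocP @Smooth) (BasedFunctor.comp (AlgSt.subIncl 𝒳 Q) f) ∧
      ∀ Q' : 𝒳.obj → Prop, AlgSt.IsOpenSubstack 𝒳 Q' Scheme.fppfPrecoverage →
        AlgSt.LocQ (AlgSp.LocP @Smooth) (BasedFunctor.comp (AlgSt.subIncl 𝒳 Q') f) →
        ∀ a, Q' a → Q a := by
  obtain ⟨V, y, hy1, hy2⟩ := h𝒴.atlas
  obtain ⟨U, x, h, α, hx1, hx2, hl1, -⟩ :=
    Groth.Agent.H65.LocQ.exists_square h𝒳 h𝒴 f y hy1 hy2
  have iU := Groth.Agent.S6411.over_isFibGrpd U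
  let O₀ : U.left.Opens := smLocus h.left
  let U₀ : Over S := openOver U O₀
  let j₀ : U₀ ⟶ U := openIncl U O₀
  have iU₀ := Groth.Agent.S6411.over_isFibGrpd U₀
  have hU₀ := Groth.Agent.H32.StPoints.isAlgStack_overCat U₀
  let c : FibCat.overCat U₀ ⥤ᵇ 𝒳 := BasedFunctor.comp (AlgSt.overMap j₀) x
  have hc : AlgSt.RepByAlgSpWith (AlgSp.LocP @Smooth) c :=
    with_comp good_smooth iU₀ iU h𝒳.isStack.1 _ _ (overMap_smooth j₀) hx1
  have hsm₀ : Smooth (j₀ ≫ h).left := smooth_smLocus h.left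
  refine ⟨Qof (Set.range (AlgSt.Points.map c)),
    exists_image h𝒳 hU₀ c (flat_lfp_of_smooth_chart hc), ?_, ?_⟩
  · exact ⟨U₀, V, corestrict h𝒳.isStack.1 iU₀ c, y, j₀ ≫ h,
      whiskerLeftIso (AlgSt.overMap j₀) α ≪≫ whiskerRightIso (overMapComp j₀ h) y,
      corestrict_with _ h𝒳.isStack.1 iU₀ c hc,
      corestrict_surjective h𝒳 hU₀ c (repByAlgSp1_of_with hc), hy1,
      locP_smooth_of_smooth (j₀ ≫ h)⟩
  · intro Q' hQ' hLoc a ha
    have hQ'' := hQ'
    obtain ⟨hiso, halg, himm⟩ := hQ'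
    have hW'o : IsOpen (Set.range (AlgSt.Points.map (AlgSt.subIncl 𝒳 Q'))) :=
      Groth.Agent.H32.StOpen.isOpen_range_of_isOpenImm halg h𝒳 _ himm
    refine Qof_mono ?_ a ((Q_iff_Qof h𝒳 hQ'' a).1 ha)
    intro w hw
    obtain ⟨u, rfl⟩ := ofChart_surjective h𝒳 x hx2 w
    let O' : U.left.Opens := ⟨AlgSt.Points.ofChart x ⁻¹'
      Set.range (AlgSt.Points.map (AlgSt.subIncl 𝒳 Q')),
      (ofChart_continuous h𝒳 U x).isOpen_preimage _ hW'o⟩
    let j' : openOver U O' ⟶ U := openIncl U O'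
    have hQ'obj : ∀ b : Over (openOver U O'), Q' (x.obj ((AlgSt.overMap j').obj b)) := by
      intro b
      refine (Q_iff_Qof h𝒳 hQ'' _).2 ((Qof_chart _ h𝒳.isStack.1 x _).2 fun t => ?_)
      exact openIncl_mem U O' (b.hom.left t)
    have hsm := prop_of_square_sub isSmoothLocalST_smooth h𝒳.isStack.1 h𝒴.isStack.1 f x y h α hy1
      hl1 Q' halg.isStack.1 hLoc j' hQ'obj
    have hsm' : Smooth (O'.ι ≫ h.left) := AlgSp.locP_yon_map hsm
    have hle : O' ≤ O₀ := le_smLocus h.left O' hsm'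
    have hu : u ∈ O₀ := hle hw
    let t₀ : ↥U₀.left := (⟨u, hu⟩ : ↥O₀)
    refine ⟨ptOf U₀ t₀, ?_⟩
    rw [← ofChart_eq]
    exact ofChart_overMap j₀ x t₀

end Groth.Agent.H32.SmLocus
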