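import Mathlib.Topology.Spectral.ConstructibleTopology
import Mathlib.Topology.Spectral.Basic
import Mathlib.Topology.Spectral.Hom
import Mathlib.Topology.Maps.OpenQuotient
import Mathlib.Topology.Sober
import Mathlib.Topology.Separation.Hausdorff
import Mathlib.Order.Zorn

/-!
# Open quotients of spectral spaces by spectral equivalence relations are spectral (helper32)
-/

set_option autoImplicit false
open Topology TopologicalSpace Set

namespace Groth.Agent.H32.SpecQuot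

section basic
variable {X Y : Type*} [TopologicalSpace X] [TopologicalSpace Y]

local notation "𝒞" => constructibleTopology

/-- closed in the constructible topology ("pro-constructible"). -/
def CC (Z : Set X) : Prop := IsClosed[𝒞 X] Z

theorem cc_le [PrespectralSpace X] : 𝒞 X ≤ (inferInstance : TopologicalSpace X) := by
  intro O hO
  obtain ⟨𝒱, h𝒱, rfl⟩ := PrespectralSpace.isTopologicalBasis.open_eq_sUnion hO
  exact @isOpen_sUnion X (𝒞 X) 𝒱 fun V hV =>
    (h𝒱 hV).2.isOpen_constructibleTopology_of_isOpen (h𝒱 hV).1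

theorem CC.of_isClosed [PrespectralSpace X] {Z : Set X} (hZ : IsClosed Z) : CC Z :=
  @IsClosed.mk X (𝒞 X) Z (cc_le _ hZ.isOpen_compl)

theorem CC.of_qc_open {V : Set X} (hVo : IsOpen V) (hVc : IsCompact V) : CC V :=
  @IsClosed.mk X (𝒞 X) V
    (IsCompact.isOpen_constructibleTopology_of_isClosed (by rwa [compl_compl]) hVo.isClosed_compl)

theorem CC.inter {A B : Set X} (hA : CC A) (hB : CC B) : CC (A ∩ B) :=
  @IsClosed.inter X A B (𝒞 X) hA hB

theorem CC.iInter {ι : Sort*} {A : ι → Set X} (hA : ∀ i, CC (A i)) : CC (⋂ i, A i) :=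
  @isClosed_iInter X ι (𝒞 X) A hA

theorem cc_compactSpace [CompactSpace X] [QuasiSober X] [PrespectralSpace X]
    [QuasiSeparatedSpace X] : @CompactSpace X (𝒞 X) :=
  @Function.Surjective.compactSpace (WithConstructibleTopology X) X _ (𝒞 X)
    (WithTopology.ofTopology (t := 𝒞 X)) (WithTopology.continuous_ofTopology _) _
    (WithTopology.ofTopology_surjective _)

theorem cc_t2Space [T0Space X] [PrespectralSpace X] : @T2Space X (𝒞 X) := by
  refine @T2Space.mk X (𝒞 X) fun x y hxy => ?_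
  obtain ⟨O, hO, hxyO⟩ := exists_isOpen_xor_mem hxy
  rcases hxyO with ⟨hx, hy⟩ | ⟨hy, hx⟩
  · obtain ⟨V, ⟨hV₁, hV₂⟩, hxV, hVO⟩ :=
      PrespectralSpace.isTopologicalBasis.exists_subset_of_mem_open hx hO
    exact ⟨V, Vᶜ, hV₂.isOpen_constructibleTopology_of_isOpen hV₁,
      @IsClosed.isOpen_compl X (𝒞 X) V (CC.of_qc_open hV₁ hV₂), hxV, fun h => hy (hVO h),
      disjoint_compl_right⟩
  · obtain ⟨V, ⟨hV₁, hV₂⟩, hyV, hVO⟩ :=
      PrespectralSpace.isTopologicalBasis.exists_subset_of_mem_open hy hO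
    exact ⟨Vᶜ, V, @IsClosed.isOpen_compl X (𝒞 X) V (CC.of_qc_open hV₁ hV₂),
      hV₂.isOpen_constructibleTopology_of_isOpen hV₁, fun h => hx (hVO h), hyV,
      disjoint_compl_left⟩

theorem CC.singleton [T0Space X] [PrespectralSpace X] (x : X) : CC ({x} : Set X) :=
  @isClosed_singleton X (𝒞 X) (@T2Space.t1Space X (𝒞 X) cc_t2Space) x

section compact
variable [CompactSpace X] [QuasiSober X] [PrespectralSpace X] [QuasiSeparatedSpace X]

theorem CC.cc_isCompact {Z : Set X} (hZ : CC Z) : @IsCompact X (𝒞 X) Z :=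
  @IsClosed.isCompact X (𝒞 X) Z cc_compactSpace hZ

/-- a constructibly closed set is compact. -/
theorem CC.isCompact {Z : Set X} (hZ : CC Z) : IsCompact Z := by
  have h2 : @Continuous X X (𝒞 X) _ id := continuous_id_of_le cc_le
  simpa using @IsCompact.image X X (𝒞 X) _ Z id hZ.cc_isCompact h2

/-- finite intersection property. -/
theorem cc_iInter_nonempty {ι : Type*} {A : ι → Set X} (hA : ∀ i, CC (A i))
    (hfin : ∀ s : Finset ι, (⋂ i ∈ s, A i).Nonempty) : (⋂ i, A i).Nonempty :=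
  @CompactSpace.iInter_nonempty X (𝒞 X) ι cc_compactSpace A hA hfin

end compact

theorem cc_continuous {f : X → Y} (hf : IsSpectralMap f) : @Continuous X Y (𝒞 X) (𝒞 Y) f := by
  refine continuous_generateFrom_iff.2 fun Z hZ => ?_
  rcases hZ with ⟨hZo, hZc⟩ | ⟨hZcl, hZc⟩
  · exact (hZc.preimage_of_isOpen hf hZo).isOpen_constructibleTopology_of_isOpen
      (hZo.preimage hf.continuous)
  · refine IsCompact.isOpen_constructibleTopology_of_isClosed ?_ (hZcl.preimage hf.continuous)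
    rw [← preimage_compl]
    exact hZc.preimage_of_isOpen hf hZcl.isOpen_compl

theorem CC.preimage {f : X → Y} (hf : IsSpectralMap f) {Z : Set Y} (hZ : CC Z) : CC (f ⁻¹' Z) :=
  @IsClosed.preimage X Y (𝒞 X) (𝒞 Y) f (cc_continuous hf) Z hZ

theorem CC.image [CompactSpace X] [QuasiSober X] [PrespectralSpace X] [QuasiSeparatedSpace X]
    [T0Space Y] [PrespectralSpace Y] {f : X → Y} (hf : IsSpectralMap f) {Z : Set X} (hZ : CC Z) :
    CC (f '' Z) :=
  @IsCompact.isClosed Y (𝒞 Y) cc_t2Space (f '' Z)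
    (@IsCompact.image X Y (𝒞 X) (𝒞 Y) Z f hZ.cc_isCompact (cc_continuous hf))

end basic

section gen
variable {X : Type*} [TopologicalSpace X] [CompactSpace X] [QuasiSober X] [PrespectralSpace X]
  [QuasiSeparatedSpace X]

/-- the set of generizations of a point is constructibly closed. -/
theorem cc_gen (z : X) : CC {g : X | g ⤳ z} := by
  have h : {g : X | g ⤳ z} = ⋂ V : {V : Set X // IsOpen V ∧ IsCompact V ∧ z ∈ V}, V.1 := by
    ext g
    simp only [mem_setOf_eq, mem_iInter, Subtype.forall]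
    constructor
    · intro hg V hV
      exact (specializes_iff_forall_open.1 hg) V hV.1 hV.2.2
    · intro hg
      refine specializes_iff_forall_open.2 fun O hO hz => ?_
      obtain ⟨V, ⟨hV₁, hV₂⟩, hzV, hVO⟩ :=
        PrespectralSpace.isTopologicalBasis.exists_subset_of_mem_open hz hO
      exact hVO (hg V ⟨hV₁, hV₂, hzV⟩)
  rw [h]
  exact CC.iInter fun V => CC.of_qc_open V.2.1 V.2.2.1

/-- a point of the closure of a constructibly closed set is a specialization of a point of it. -/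
theorem exists_specializes_of_mem_closure {F : Set X} (hF : CC F) {x : X} (hx : x ∈ closure F) :
    ∃ f ∈ F, f ⤳ x := by
  let ι := {V : Set X // IsOpen V ∧ IsCompact V ∧ x ∈ V}
  have hne : (⋂ V : ι, (F ∩ V.1)).Nonempty := by
    refine cc_iInter_nonempty (fun V => hF.inter (CC.of_qc_open V.2.1 V.2.2.1)) fun s => ?_
    have hO : IsOpen (⋂ V ∈ s, (V : ι).1) := isOpen_biInter_finset fun V _ => V.2.1
    have hxO : x ∈ ⋂ V ∈ s, (V : ι).1 := mem_iInter₂.2 fun V _ => V.2.2.2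
    obtain ⟨f, hfO, hfF⟩ := mem_closure_iff.1 hx _ hO hxO
    exact ⟨f, mem_iInter₂.2 fun V hV => ⟨hfF, mem_iInter₂.1 hfO V hV⟩⟩
  obtain ⟨f, hf⟩ := hne
  have hf' := mem_iInter.1 hf
  refine ⟨f, (hf' ⟨univ, isOpen_univ, isCompact_univ, mem_univ x⟩).1, ?_⟩
  refine specializes_iff_forall_open.2 fun O hO hxO => ?_
  obtain ⟨V, ⟨hV₁, hV₂⟩, hxV, hVO⟩ :=
    PrespectralSpace.isTopologicalBasis.exists_subset_of_mem_open hxO hO
  exact hVO (hf' ⟨V, hV₁, hV₂, hxV⟩).2

/-- every point of a constructibly closed set is a specialization of a point of the set that is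
maximal for generization in the set. -/
theorem exists_maximal_gen {F : Set X} (hF : CC F) {f : X} (hf : f ∈ F) :
    ∃ m ∈ F, m ⤳ f ∧ ∀ g ∈ F, g ⤳ m → m ⤳ g := by
  letI := specializationPreorder X
  have hchain : ∀ c ⊆ F, IsChain (· ≤ ·) c → ∀ y ∈ c, ∃ ub ∈ F, ∀ z ∈ c, z ≤ ub := by
    intro c hcF hc y hy
    classical
    have hfin : ∀ s : Finset c, ∃ z₀ ∈ c, ∀ i ∈ s, (i : X) ≤ z₀ := by
      intro s
      induction s using Finset.induction_on with
      | empty => exact ⟨y, hy, fun i hi => absurd hi (Finset.notMem_empty i)⟩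
      | insert a s _ ih =>
        obtain ⟨z₀, hz₀, hz⟩ := ih
        rcases hc.total a.2 hz₀ with h | h
        · exact ⟨z₀, hz₀, fun i hi => by
            rcases Finset.mem_insert.1 hi with rfl | hi
            · exact h
            · exact hz i hi⟩
        · exact ⟨a, a.2, fun i hi => by
            rcases Finset.mem_insert.1 hi with rfl | hi
            · exact le_rfl
            · exact (hz i hi).trans h⟩
    have hne : (⋂ z : c, (F ∩ {g : X | g ⤳ (z : X)})).Nonempty := by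
      refine cc_iInter_nonempty (fun z => hF.inter (cc_gen _)) fun s => ?_
      obtain ⟨z₀, hz₀, hz⟩ := hfin s
      exact ⟨z₀, mem_iInter₂.2 fun i hi => ⟨hcF hz₀, hz i hi⟩⟩
    obtain ⟨ub, hub⟩ := hne
    have hub' := mem_iInter.1 hub
    exact ⟨ub, (hub' ⟨y, hy⟩).1, fun z hz => (hub' ⟨z, hz⟩).2⟩
  obtain ⟨m, hfm, hmF, hmax⟩ := zorn_le_nonempty₀ F hchain f hf
  exact ⟨m, hmF, hfm, fun g hg hgm => hmax hg hgm⟩

end gen

section main
variable {X R Y : Type*} [TopologicalSpace X] [TopologicalSpace R] [TopologicalSpace Y]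
  [SpectralSpace X] [CompactSpace R] [QuasiSober R] [PrespectralSpace R] [QuasiSeparatedSpace R]
  (s t : R → X) (hs : IsSpectralMap s) (ht : IsSpectralMap t)
  (π : X → Y) (hπ : IsOpenQuotientMap π)
  (hrel : ∀ u u', π u = π u' ↔ ∃ r, s r = u ∧ t r = u')

include hrel in
theorem sat_eq (Z : Set X) : π ⁻¹' (π '' Z) = t '' (s ⁻¹' Z) := by
  ext u'
  constructor
  · rintro ⟨u, hu, huu'⟩
    obtain ⟨r, rfl, rfl⟩ := (hrel u u').1 huu'
    exact ⟨r, hu, rfl⟩
  · rintro ⟨r, hr, rfl⟩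
    exact ⟨s r, hr, (hrel _ _).2 ⟨r, rfl, rfl⟩⟩

include hs ht hrel in
theorem cc_sat {Z : Set X} (hZ : CC Z) : CC (π ⁻¹' (π '' Z)) := by
  rw [sat_eq s t π hrel]
  exact (hZ.preimage hs).image ht

include hs ht hπ hrel in
theorem t0Space_quot : T0Space Y := by
  refine ⟨fun y₁ y₂ h => ?_⟩
  obtain ⟨x₁, rfl⟩ := hπ.surjective y₁
  obtain ⟨x₂, rfl⟩ := hπ.surjective y₂
  -- fibres
  have hF : ∀ x : X, CC (π ⁻¹' {π x}) := fun x => by
    have := cc_sat s t hs ht π hrel (CC.singleton x)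
    rwa [image_singleton] at this
  -- every point of one fibre is a specialization of a point of the other
  have key : ∀ a b : X, Inseparable (π a) (π b) → ∀ x ∈ π ⁻¹' {π a}, ∃ f ∈ π ⁻¹' {π b}, f ⤳ x := by
    intro a b hab x hx
    refine exists_specializes_of_mem_closure (hF b) ?_
    refine mem_closure_iff.2 fun O hO hxO => ?_
    have h1 : π a ∈ π '' O := ⟨x, hxO, hx⟩
    have h2 : π b ∈ π '' O := (hab.mem_open_iff (hπ.isOpenMap O hO)).1 h1
    obtain ⟨z, hzO, hz⟩ := h2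
    exact ⟨z, hzO, hz⟩
  obtain ⟨m, hm, -, hmax⟩ := exists_maximal_gen (hF x₁) (f := x₁) rfl
  obtain ⟨f₂, hf₂, hf₂m⟩ := key x₁ x₂ h m hm
  obtain ⟨f₁, hf₁, hf₁f₂⟩ := key x₂ x₁ h.symm f₂ hf₂
  have h3 : m ⤳ f₁ := hmax f₁ hf₁ (hf₁f₂.trans hf₂m)
  have h4 : f₂ = m := ((hf₂m.antisymm (h3.trans hf₁f₂))).eq
  rw [← (show π m = π x₁ from hm), ← (show π f₂ = π x₂ from hf₂), h4]

include hs ht hπ hrel in
theorem quasiSober_quot : QuasiSober Y := by
  refine ⟨fun {T} hT hTc => ?_⟩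
  let ι := {V : Set X // IsOpen V ∧ IsCompact V ∧ (T ∩ π '' V).Nonempty}
  have hpre : CC (π ⁻¹' T) := CC.of_isClosed (hTc.preimage hπ.continuous)
  have hne : (⋂ V : ι, (π ⁻¹' (π '' V.1) ∩ π ⁻¹' T)).Nonempty := by
    refine cc_iInter_nonempty (fun V => (cc_sat s t hs ht π hrel
      (CC.of_qc_open V.2.1 V.2.2.1)).inter hpre) fun S => ?_
    classical
    obtain ⟨y, hyT, hy⟩ := isIrreducible_iff_sInter.1 hT (S.image fun V : ι => π '' V.1)
      (fun u hu => by
        obtain ⟨V, -, rfl⟩ := Finset.mem_image.1 hu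
        exact hπ.isOpenMap _ V.2.1)
      (fun u hu => by
        obtain ⟨V, -, rfl⟩ := Finset.mem_image.1 hu
        exact V.2.2.2)
    obtain ⟨x, rfl⟩ := hπ.surjective y
    refine ⟨x, mem_iInter₂.2 fun V hV => ⟨?_, hyT⟩⟩
    exact mem_sInter.1 hy _ (Finset.mem_coe.2 (Finset.mem_image.2 ⟨V, hV, rfl⟩))
  obtain ⟨x, hx⟩ := hne
  have hx' := mem_iInter.1 hx
  obtain ⟨y₀, hy₀⟩ := hT.nonempty
  obtain ⟨x₀, rfl⟩ := hπ.surjective y₀
  have hxT : π x ∈ T :=
    (hx' ⟨univ, isOpen_univ, isCompact_univ, ⟨π x₀, hy₀, x₀, mem_univ _, rfl⟩⟩).2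
  refine ⟨π x, (hTc.closure_subset_iff.2 (singleton_subset_iff.2 hxT)).antisymm fun y' hy' => ?_⟩
  refine mem_closure_iff.2 fun O hO hy'O => ?_
  obtain ⟨x', rfl⟩ := hπ.surjective y'
  obtain ⟨V, ⟨hV₁, hV₂⟩, hx'V, hVO⟩ :=
    PrespectralSpace.isTopologicalBasis.exists_subset_of_mem_open
      (show x' ∈ π ⁻¹' O from hy'O) (hO.preimage hπ.continuous)
  obtain ⟨z, hzV, hz⟩ := (hx' ⟨V, hV₁, hV₂, ⟨π x', hy', x', hx'V, rfl⟩⟩).1
  exact ⟨π x, hz ▸ hVO hzV, rfl⟩

include hπ in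
theorem prespectral_quot : PrespectralSpace Y := by
  refine PrespectralSpace.of_isTopologicalBasis
    (B := {W : Set Y | ∃ V : Set X, IsOpen V ∧ IsCompact V ∧ π '' V = W}) ?_ ?_
  · refine isTopologicalBasis_of_isOpen_of_nhds ?_ ?_
    · rintro _ ⟨V, hV₁, -, rfl⟩
      exact hπ.isOpenMap V hV₁
    · intro y O hyO hO
      obtain ⟨x, rfl⟩ := hπ.surjective y
      obtain ⟨V, ⟨hV₁, hV₂⟩, hxV, hVO⟩ :=
        PrespectralSpace.isTopologicalBasis.exists_subset_of_mem_open
          (show x ∈ π ⁻¹' O from hyO) (hO.preimage hπ.continuous)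
      exact ⟨π '' V, ⟨V, hV₁, hV₂, rfl⟩, ⟨x, hxV, rfl⟩, image_subset_iff.2 hVO⟩
  · rintro _ ⟨V, -, hV₂, rfl⟩
    exact hV₂.image hπ.continuous

include hs ht hπ hrel in
theorem quasiSeparated_quot : QuasiSeparatedSpace Y := by
  refine ⟨fun W₁ W₂ hW₁o hW₁c hW₂o hW₂c => ?_⟩
  have hr : ∀ W : Set Y, W ⊆ range π := fun W y _ => hπ.surjective y
  obtain ⟨V₁, hV₁c, rfl⟩ := hπ.isOpenMap.exists_opens_image_eq_of_prespectralSpace hπ.continuous
    (hr W₁) hW₁o hW₁c
  obtain ⟨V₂, hV₂c, rfl⟩ := hπ.isOpenMap.exists_opens_image_eq_of_prespectralSpace hπ.continuous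
    (hr W₂) hW₂o hW₂c
  have h : π '' (V₁ : Set X) ∩ π '' (V₂ : Set X) =
      π '' (π ⁻¹' (π '' (V₁ : Set X)) ∩ (V₂ : Set X)) := by
    ext y
    constructor
    · rintro ⟨hy₁, x₂, hx₂, rfl⟩
      exact ⟨x₂, ⟨hy₁, hx₂⟩, rfl⟩
    · rintro ⟨x, ⟨hx₁, hx₂⟩, rfl⟩
      exact ⟨hx₁, x, hx₂, rfl⟩
  rw [h]
  exact ((cc_sat s t hs ht π hrel (CC.of_qc_open V₁.2 hV₁c)).inter
    (CC.of_qc_open V₂.2 hV₂c)).isCompact.image hπ.continuous

include hs ht hπ hrel in
/-- an open quotient of a spectral space by an equivalence relation that is the image of a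
spectral space under a pair of spectral maps is spectral. -/
theorem spectralSpace_quot : SpectralSpace Y :=
  { t0Space_quot s t hs ht π hπ hrel, quasiSober_quot s t hs ht π hπ hrel,
    prespectral_quot π hπ, quasiSeparated_quot s t hs ht π hπ hrel with
    isCompact_univ := by
      rw [← image_univ_of_surjective hπ.surjective]
      exact isCompact_univ.image hπ.continuous }

end main

end Groth.Agent.H32.SpecQuot
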