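import Groth.Agent.H32.StInj
import Groth.Agent.H32.StQCMor

/-!
# Universal injectivity of morphisms of algebraic stacks: reduction to covers (helper32)
-/

set_option autoImplicit false
universe u
open CategoryTheory CategoryTheory.Limits AlgebraicGeometry Opposite Topology

namespace Groth.Agent.H32.StInj2

open FibCat Stk Groth.Agent.H32.Fp2 Groth.Agent.H32.Fp3 Groth.Agent.H32.Fp4
open Groth.Agent.H32.StPoints Groth.Agent.H32.StTop Groth.Agent.H32.StQC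
open Groth.Agent.H32.StUniv Groth.Agent.H32.SpBridge Groth.Agent.H32.AlgStackEquiv
open Groth.Agent.H32.StInj Groth.Agent.H32.StQCMor Groth.Agent.H32.AtlasRep

variable {S : Scheme.{u}} {𝒳 𝒴 𝒵 𝒵' : AlgSt.Cat S}

/-- if the base change of `f` along `c ≫ g` is injective on points and `c` is surjective, then the
base change of `f` along `g` is injective on points. -/
theorem injective_fpFst_of_cover (h𝒳 : AlgSt.IsAlgStack Scheme.fppfPrecoverage 𝒳)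
    (h𝒴 : AlgSt.IsAlgStack Scheme.fppfPrecoverage 𝒴) (h𝒵 : AlgSt.IsAlgStack Scheme.fppfPrecoverage 𝒵)
    (h𝒵' : AlgSt.IsAlgStack Scheme.fppfPrecoverage 𝒵') (f : 𝒳 ⥤ᵇ 𝒴) (g : 𝒵 ⥤ᵇ 𝒴) (c : 𝒵' ⥤ᵇ 𝒵)
    (hc : ∀ z₁ z₂ : AlgSt.Points (fp g f),
      AlgSt.Points.map (fpFst g f) z₁ = AlgSt.Points.map (fpFst g f) z₂ →
        ∃ ζ' : AlgSt.Points 𝒵', AlgSt.Points.map c ζ' = AlgSt.Points.map (fpFst g f) z₁)
    (hinj : Function.Injective (AlgSt.Points.map (fpFst (BasedFunctor.comp c g) f))) :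
    Function.Injective (AlgSt.Points.map (fpFst g f)) := by
  have hgf := isAlgStack_fp' h𝒳 h𝒴 h𝒵 g f
  have h4 : Function.Injective (AlgSt.Points.map (fpFst c (fpFst g f))) := by
    have hb := map_bijective (paste c g f) (paste_isEquivOver c g f)
    intro v₁ v₂ hv
    obtain ⟨u₁, rfl⟩ := hb.2 v₁
    obtain ⟨u₂, rfl⟩ := hb.2 v₂
    rw [← map_comp, ← map_comp] at hv
    rw [hinj hv]
  intro z₁ z₂ h
  obtain ⟨ζ', hζ'⟩ := hc z₁ z₂ h
  obtain ⟨v₁, hv₁, hz₁⟩ := Groth.Agent.S12818.result hgf h𝒵 h𝒵' (fpFst g f) c ζ' z₁ hζ'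
  obtain ⟨v₂, hv₂, hz₂⟩ := Groth.Agent.S12818.result hgf h𝒵 h𝒵' (fpFst g f) c ζ' z₂ (hζ'.trans h)
  rw [← hz₁, ← hz₂, h4 (hv₁.trans hv₂.symm)]

theorem univInjective_of_affine (h𝒳 : AlgSt.IsAlgStack Scheme.fppfPrecoverage 𝒳)
    (h𝒴 : AlgSt.IsAlgStack Scheme.fppfPrecoverage 𝒴) (f : 𝒳 ⥤ᵇ 𝒴)
    (h : ∀ (Z : Over S) [IsAffine Z.left] (z : FibCat.overCat Z ⥤ᵇ 𝒴),
      AlgSt.IsUnivInjective Scheme.fppfPrecoverage (fpFst z f)) :
    AlgSt.IsUnivInjective Scheme.fppfPrecoverage f := by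
  intro 𝒵 h𝒵 g
  have hgf := isAlgStack_fp' h𝒳 h𝒴 h𝒵 g f
  intro z₁ z₂ h12
  obtain ⟨p, hp⟩ := AlgSt.Points.mk_surjective (AlgSt.Points.map (fpFst g f) z₁)
  obtain ⟨Y, ζ', hζ'⟩ := exists_chart_of_fpt h𝒵.isStack.1 p
  have hZ : IsAffine (Over.mk p.str).left := inferInstanceAs (IsAffine (Spec _))
  have hov := isAlgStack_overCat (Over.mk p.str)
  have h1 := h (Over.mk p.str) (BasedFunctor.comp Y g)
  have h2 : Function.Injective (AlgSt.Points.map (fpFst (BasedFunctor.comp Y g) f)) :=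
    injective_of_diag_surjective (isAlgStack_fp' h𝒳 h𝒴 hov _ f) hov _
      ((univInjective_iff_diag_surjective (isAlgStack_fp' h𝒳 h𝒴 hov _ f) hov _).1 h1)
  have h3 : ∀ a b : AlgSt.Points (fp g f),
      AlgSt.Points.map (fpFst g f) a = AlgSt.Points.map (fpFst g f) z₁ →
      AlgSt.Points.map (fpFst g f) b = AlgSt.Points.map (fpFst g f) z₁ → a = b := by
    intro a b ha hb
    obtain ⟨v₁, hv₁, hz₁⟩ := Groth.Agent.S12818.result hgf h𝒵 hov (fpFst g f) Y ζ' a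
      ((hζ'.trans hp).trans ha.symm)
    obtain ⟨v₂, hv₂, hz₂⟩ := Groth.Agent.S12818.result hgf h𝒵 hov (fpFst g f) Y ζ' b
      ((hζ'.trans hp).trans hb.symm)
    have hb' := map_bijective (paste Y g f) (paste_isEquivOver Y g f)
    obtain ⟨u₁, rfl⟩ := hb'.2 v₁
    obtain ⟨u₂, rfl⟩ := hb'.2 v₂
    rw [← map_comp] at hv₁ hv₂
    rw [← hz₁, ← hz₂, h2 (hv₁.trans hv₂.symm)]
  exact h3 z₁ z₂ rfl h12.symm

open Groth.Agent.H32.DiagDict in
theorem univInjective_of_fppf_cover (h𝒳 : AlgSt.IsAlgStack Scheme.fppfPrecoverage 𝒳)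
    (h𝒴 : AlgSt.IsAlgStack Scheme.fppfPrecoverage 𝒴) (f : 𝒳 ⥤ᵇ 𝒴)
    (W : AlgSp.Space S) (w : AlgSt.ofSp W.obj ⥤ᵇ 𝒴)
    (hw₃ : AlgSt.RepByAlgSpWith AlgSp.IsSurjectiveMor w)
    (H : AlgSt.IsUnivInjective Scheme.fppfPrecoverage (fpFst w f)) :
    AlgSt.IsUnivInjective Scheme.fppfPrecoverage f := by
  intro 𝒵 h𝒵 g
  have hW := isAlgStack_ofSp W
  have hgw := isAlgStack_fp' hW h𝒴 h𝒵 g w
  have hwf := isAlgStack_fp' h𝒳 h𝒴 hW w f
  have hp2 : AlgSt.RepByAlgSpWith AlgSp.IsSurjectiveMor (fpFst g w) :=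
    with_fpFst _ h𝒵.isStack.1 h𝒴.isStack.1 hW.isStack.1 g w hw₃
  have hsurj : Function.Surjective (AlgSt.Points.map (fpFst g w)) :=
    (surj_iff hgw h𝒵 _ (repByAlgSp1_of_with hp2)).2 hp2
  let c' : fp g w ⥤ᵇ 𝒵 := fpFst g w
  let g' : fp g w ⥤ᵇ AlgSt.ofSp W.obj := fpSnd g w
  have h1 : Function.Injective (AlgSt.Points.map (fpFst g' (fpFst w f))) := H (fp g w) hgw g'
  have h2 : Function.Injective (AlgSt.Points.map (fpFst (BasedFunctor.comp g' w) f)) := by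
    intro u₁ u₂ hu
    have hb := map_bijective (paste g' w f) (paste_isEquivOver g' w f)
    apply hb.1
    apply h1
    rw [← map_comp, ← map_comp]
    exact hu
  have ι : BasedFunctor.comp g' w ≅ BasedFunctor.comp c' g := (fpIso g w).symm
  have h3 : Function.Injective (AlgSt.Points.map (fpFst (BasedFunctor.comp c' g) f)) := by
    have hb := map_bijective (congrLeft ι f) (congrLeft_isEquivOver ι f)
    intro v₁ v₂ hv
    obtain ⟨u₁, rfl⟩ := hb.2 v₁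
    obtain ⟨u₂, rfl⟩ := hb.2 v₂
    rw [← map_comp, ← map_comp] at hv
    rw [h2 hv]
  exact injective_fpFst_of_cover h𝒳 h𝒴 h𝒵 hgw f g c' (fun z₁ _ _ => hsurj _) h3

end Groth.Agent.H32.StInj2
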