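import Groth.Agent.H32.StInj2

/-!
# Universal injectivity: base change and composition (helper32)
-/

set_option autoImplicit false
universe u
open CategoryTheory CategoryTheory.Limits AlgebraicGeometry Opposite Topology

namespace Groth.Agent.H32.StInj3

open FibCat Stk Groth.Agent.H32.Fp2 Groth.Agent.H32.Fp3 Groth.Agent.H32.Fp4
open Groth.Agent.H32.StPoints Groth.Agent.H32.StTop Groth.Agent.H32.StQC
open Groth.Agent.H32.StUniv Groth.Agent.H32.SpBridge Groth.Agent.H32.AlgStackEquiv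
open Groth.Agent.H32.StInj Groth.Agent.H32.StQCMor Groth.Agent.H32.AtlasRep

variable {S : Scheme.{u}} {𝒳 𝒴 𝒵 𝒵' : AlgSt.Cat S}

theorem univInjective_fpFst (f : 𝒳 ⥤ᵇ 𝒴) (g : 𝒵 ⥤ᵇ 𝒴)
    (hf : AlgSt.IsUnivInjective Scheme.fppfPrecoverage f) :
    AlgSt.IsUnivInjective Scheme.fppfPrecoverage (fpFst g f) := by
  intro 𝒲 h𝒲 h
  have hb := map_bijective (paste h g f) (paste_isEquivOver h g f)
  have hinj := hf 𝒲 h𝒲 (BasedFunctor.comp h g)
  intro v₁ v₂ hv
  obtain ⟨u₁, rfl⟩ := hb.2 v₁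
  obtain ⟨u₂, rfl⟩ := hb.2 v₂
  rw [← map_comp, ← map_comp] at hv
  rw [hinj hv]

theorem univInjective_comp (h𝒴 : AlgSt.IsAlgStack Scheme.fppfPrecoverage 𝒴)
    (h𝒵 : AlgSt.IsAlgStack Scheme.fppfPrecoverage 𝒵)
    (f : 𝒳 ⥤ᵇ 𝒴) (g : 𝒴 ⥤ᵇ 𝒵) (hf : AlgSt.IsUnivInjective Scheme.fppfPrecoverage f)
    (hg : AlgSt.IsUnivInjective Scheme.fppfPrecoverage g) :
    AlgSt.IsUnivInjective Scheme.fppfPrecoverage (BasedFunctor.comp f g) := by
  intro 𝒲 h𝒲 h
  have hgh := isAlgStack_fp' h𝒲 h𝒵 h𝒴 g h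
  -- the chain of equivalences
  have b1 := map_bijective (swap h (BasedFunctor.comp f g)) (swap_isEquivOver _ _)
  have b2 := map_bijective (paste f g h) (paste_isEquivOver f g h)
  have b3 := map_bijective (swap f (fpFst g h)) (swap_isEquivOver _ _)
  have b4 := map_bijective (swap g h) (swap_isEquivOver _ _)
  have i1 : Function.Injective (AlgSt.Points.map (fpFst (fpFst g h) f)) := hf (fp g h) hgh _
  have i2 : Function.Injective (AlgSt.Points.map (fpFst h g)) := hg 𝒲 h𝒲 h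
  have key : fpFst h (BasedFunctor.comp f g) =
      BasedFunctor.comp (swap h (BasedFunctor.comp f g)) (BasedFunctor.comp (paste f g h)
        (BasedFunctor.comp (swap f (fpFst g h)) (BasedFunctor.comp (fpFst (fpFst g h) f)
          (BasedFunctor.comp (swap g h) (fpFst h g))))) := rfl
  rw [key]
  intro v₁ v₂ hv
  rw [map_comp, map_comp, map_comp, map_comp, map_comp, map_comp, map_comp, map_comp,
    map_comp, map_comp] at hv
  exact b1.1 (b2.1 (b3.1 (i1 (b4.1 (i2 hv)))))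

end Groth.Agent.H32.StInj3
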