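import Groth.Agent.H32.StQC
import Mathlib.Topology.NoetherianSpace
import Mathlib.Topology.Sober
import Mathlib.AlgebraicGeometry.Noetherian

/-!
# Points of locally Noetherian algebraic stacks (helper32)
-/

set_option autoImplicit false
universe u
open CategoryTheory CategoryTheory.Limits AlgebraicGeometry Opposite Topology TopologicalSpace

namespace Groth.Agent.H32.StNoeth

open FibCat Stk Groth.Agent.H32.StPoints Groth.Agent.H32.StTop Groth.Agent.H32.StQC

/-- the target of an open quotient map from a quasi-sober space with Noetherian open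
neighbourhoods is quasi-sober. -/
theorem quasiSober_of_isOpenQuotientMap {X Y : Type*} [TopologicalSpace X] [TopologicalSpace Y]
    (π : X → Y) (hπ : IsOpenQuotientMap π) [QuasiSober X]
    (hX : ∀ x : X, ∃ A : Set X, IsOpen A ∧ x ∈ A ∧ NoetherianSpace A) : QuasiSober Y := by
  refine ⟨fun {T} hT hTc => ?_⟩
  obtain ⟨y₀, hy₀⟩ := hT.nonempty
  obtain ⟨x₀, rfl⟩ := hπ.surjective y₀
  obtain ⟨A, hAo, hx₀A, hAN⟩ := hX x₀
  have hpre : IsClosed (π ⁻¹' T) := hTc.preimage hπ.continuous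
  have hZA : IsClosed ((Subtype.val : A → X) ⁻¹' (π ⁻¹' T)) := hpre.preimage continuous_subtype_val
  obtain ⟨𝒮, h𝒮f, -, h𝒮i, h𝒮u⟩ := NoetherianSpace.exists_finite_set_isClosed_irreducible hZA
  -- generic points of the pieces
  have hirr : ∀ C ∈ 𝒮, IsIrreducible (closure ((Subtype.val : A → X) '' C)) := fun C hC =>
    ((h𝒮i C hC).image _ continuous_subtype_val.continuousOn).closure
  have hgen : ∀ C ∈ 𝒮, ∃ ξ : X, IsGenericPoint ξ (closure ((Subtype.val : A → X) '' C)) ∧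
      π ξ ∈ T := by
    intro C hC
    obtain ⟨ξ, hξ⟩ := QuasiSober.sober (hirr C hC) isClosed_closure
    refine ⟨ξ, hξ, ?_⟩
    have h1 : (Subtype.val : A → X) '' C ⊆ π ⁻¹' T := by
      rintro _ ⟨a, haC, rfl⟩
      have : a ∈ (Subtype.val : A → X) ⁻¹' (π ⁻¹' T) := by
        rw [h𝒮u]; exact ⟨C, hC, haC⟩
      exact this
    have h2 : closure ((Subtype.val : A → X) '' C) ⊆ π ⁻¹' T := hpre.closure_subset_iff.2 h1
    exact h2 hξ.mem
  have : Nonempty X := ⟨x₀⟩
  choose! ξ hξ hξT using hgen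
  lift 𝒮 to Finset (Set A) using h𝒮f
  classical
  let t : Finset (Set Y) := 𝒮.image fun C => closure {π (ξ C)}
  have hcov : T ⊆ ⋃₀ (t : Set (Set Y)) := by
    have hne : (T ∩ π '' A).Nonempty := ⟨π x₀, hy₀, x₀, hx₀A, rfl⟩
    have h1 := subset_closure_inter_of_isPreirreducible_of_isOpen hT.isPreirreducible
      (hπ.isOpenMap A hAo) hne
    refine h1.trans (closure_minimal ?_ ?_)
    · rintro _ ⟨hyT, x, hxA, rfl⟩
      have hx : (⟨x, hxA⟩ : A) ∈ (Subtype.val : A → X) ⁻¹' (π ⁻¹' T) := hyT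
      rw [h𝒮u] at hx
      obtain ⟨C, hC, hxC⟩ := hx
      refine ⟨closure {π (ξ C)}, ?_, ?_⟩
      · exact Finset.mem_coe.2 (Finset.mem_image.2 ⟨C, hC, rfl⟩)
      · have h2 : x ∈ closure ({ξ C} : Set X) := by
          rw [(hξ C hC).def]
          exact subset_closure ⟨⟨x, hxA⟩, hxC, rfl⟩
        have h3 := image_closure_subset_closure_image hπ.continuous (s := {ξ C}) ⟨x, h2, rfl⟩
        simpa using h3
    · rw [Set.sUnion_eq_biUnion]
      refine Set.Finite.isClosed_biUnion (Finset.finite_toSet t) ?_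
      intro z hz
      obtain ⟨C, -, rfl⟩ := Finset.mem_image.1 (Finset.mem_coe.1 hz)
      exact isClosed_closure
  obtain ⟨z, hz, hTz⟩ := isIrreducible_iff_sUnion_isClosed.1 hT t (by
    intro z hz
    obtain ⟨C, -, rfl⟩ := Finset.mem_image.1 hz
    exact isClosed_closure) hcov
  obtain ⟨C, hC, rfl⟩ := Finset.mem_image.1 hz
  refine ⟨π (ξ C), ?_⟩
  exact (hTc.closure_subset_iff.2 (Set.singleton_subset_iff.2 (hξT C hC))).antisymm hTz

variable {S : Scheme.{u}} {𝒳 : AlgSt.Cat S}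

/-- Noetherian open neighbourhoods in a locally Noetherian scheme. -/
theorem exists_noetherian_nhd (T : Scheme.{u}) [IsLocallyNoetherian T] (t : T) :
    ∃ A : Set T, IsOpen A ∧ t ∈ A ∧ NoetherianSpace A := by
  obtain ⟨A, ⟨A', hA', rfl⟩, htA, -⟩ := (T.isBasis_affineOpens).exists_subset_of_mem_open
    (Set.mem_univ t) isOpen_univ
  have : IsNoetherianRing Γ(T, A') := IsLocallyNoetherian.component_noetherian ⟨A', hA'⟩
  exact ⟨A', A'.isOpen, htA, noetherianSpace_of_isAffineOpen A' hA'⟩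

theorem noetherian_nhd (h𝒳 : AlgSt.IsAlgStack Scheme.fppfPrecoverage 𝒳)
    (hN : AlgSt.SmoothLocally (fun T => IsLocallyNoetherian T) 𝒳) (x : AlgSt.Points 𝒳) :
    ∃ U : Set (AlgSt.Points 𝒳), IsOpen U ∧ x ∈ U ∧ NoetherianSpace U := by
  obtain ⟨T, a, ha, hs⟩ := h𝒳.atlas
  have hq := ofChart_isOpenQuotientMap h𝒳 a (flat_lfp_of_smooth_chart ha) hs
  have hT : IsLocallyNoetherian T.left := hN T a ha
  obtain ⟨t, rfl⟩ := hq.surjective x
  obtain ⟨A, hAo, htA, hAN⟩ := exists_noetherian_nhd T.left t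
  refine ⟨AlgSt.Points.ofChart a '' A, hq.isOpenMap A hAo, ⟨t, htA, rfl⟩, ?_⟩
  have h1 : AlgSt.Points.ofChart a '' A =
      Set.range (fun z : A => AlgSt.Points.ofChart a z.1) := by
    ext y
    constructor
    · rintro ⟨z, hz, rfl⟩
      exact ⟨⟨z, hz⟩, rfl⟩
    · rintro ⟨z, rfl⟩
      exact ⟨z.1, z.2, rfl⟩
  rw [h1]
  exact NoetherianSpace.range _ (hq.continuous.comp continuous_subtype_val)

theorem noetherianSpace_of_isQuasiCompact (h𝒳 : AlgSt.IsAlgStack Scheme.fppfPrecoverage 𝒳)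
    (hqc : AlgSt.IsQuasiCompact 𝒳)
    (hN : AlgSt.SmoothLocally (fun T => IsLocallyNoetherian T) 𝒳) :
    NoetherianSpace (AlgSt.Points 𝒳) := by
  obtain ⟨U, x, hU, hx1, hx2⟩ := hqc
  have hq := ofChart_isOpenQuotientMap h𝒳 x (flat_lfp_of_smooth_chart hx1) hx2
  have hT : IsLocallyNoetherian U.left := hN U x hx1
  have hc : CompactSpace ↥U.left := by
    have := hU
    infer_instance
  have hNo : IsNoetherian U.left := ⟨⟩
  exact noetherianSpace_of_surjective _ hq.continuous hq.surjective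

theorem quasiSober_points (h𝒳 : AlgSt.IsAlgStack Scheme.fppfPrecoverage 𝒳)
    (hN : AlgSt.SmoothLocally (fun T => IsLocallyNoetherian T) 𝒳) :
    QuasiSober (AlgSt.Points 𝒳) := by
  obtain ⟨T, a, ha, hs⟩ := h𝒳.atlas
  have hq := ofChart_isOpenQuotientMap h𝒳 a (flat_lfp_of_smooth_chart ha) hs
  have hT : IsLocallyNoetherian T.left := hN T a ha
  exact quasiSober_of_isOpenQuotientMap _ hq (fun t => exists_noetherian_nhd T.left t)

end Groth.Agent.H32.StNoeth
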