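import Groth.Agent.H32.StTop
import Groth.Agent.H65.QCProd
import Groth.Agent.H65.QCMor

/-!
# Quasi-compactness of algebraic stacks through their points (helper32)
-/

set_option autoImplicit false
universe u
open CategoryTheory CategoryTheory.Limits AlgebraicGeometry Opposite Topology

namespace Groth.Agent.H32.StQC

open FibCat Stk Groth.Agent.H32.Fp3 Groth.Agent.H32.PshStack Groth.Agent.H32.StPoints
open Groth.Agent.H32.SpBridge Groth.Agent.H32.AtlasRep Groth.Agent.H32.DiagDict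
open Groth.Agent.H32.PFacts Groth.Agent.H32.GoodMore Groth.Agent.H32.StackOps
open Groth.Agent.H32.AlgStackEquiv Groth.Agent.H32.StTop

variable {S : Scheme.{u}}

noncomputable section

variable {𝒳 𝒴 : AlgSt.Cat S}

/-- a chart that is representable by algebraic spaces and surjective on points is surjective. -/
theorem with_surj_of_ofChart_surjective (h𝒳 : AlgSt.IsAlgStack Scheme.fppfPrecoverage 𝒳)
    {U : Over S} (x : FibCat.overCat U ⥤ᵇ 𝒳) (hx : AlgSt.RepByAlgSp1 x)
    (hs : Function.Surjective (AlgSt.Points.ofChart x)) :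
    AlgSt.RepByAlgSpWith AlgSp.IsSurjectiveMor x := by
  refine (surj_iff (isAlgStack_overCat U) h𝒳 x hx).1 fun z => ?_
  obtain ⟨t, rfl⟩ := hs z
  exact ⟨ptOf U t, rfl⟩

theorem compactSpace_of_isQuasiCompact (h𝒳 : AlgSt.IsAlgStack Scheme.fppfPrecoverage 𝒳)
    (h : AlgSt.IsQuasiCompact 𝒳) : CompactSpace (AlgSt.Points 𝒳) := by
  obtain ⟨U, x, hU, hx1, hx2⟩ := h
  have hc : CompactSpace ↥U.left := by
    have := hU
    infer_instance
  have hq := ofChart_isOpenQuotientMap h𝒳 x (flat_lfp_of_smooth_chart hx1) hx2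
  refine ⟨?_⟩
  rw [← Set.image_univ_of_surjective hq.surjective]
  exact isCompact_univ.image hq.continuous

theorem isQuasiCompact_of_compactSpace (h𝒳 : AlgSt.IsAlgStack Scheme.fppfPrecoverage 𝒳)
    (hc : CompactSpace (AlgSt.Points 𝒳)) : AlgSt.IsQuasiCompact 𝒳 := by
  obtain ⟨T, a, ha, hs⟩ := h𝒳.atlas
  have hq := ofChart_isOpenQuotientMap h𝒳 a (flat_lfp_of_smooth_chart ha) hs
  obtain ⟨s, hs'⟩ := isCompact_univ.elim_finite_subcover
    (fun A : T.left.affineOpens => AlgSt.Points.ofChart a '' (A.1 : Set T.left))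
    (fun A => hq.isOpenMap _ A.1.isOpen) (by
      intro z _
      obtain ⟨t, rfl⟩ := hq.surjective z
      obtain ⟨A, ⟨A', hA', rfl⟩, htA, -⟩ := (T.left.isBasis_affineOpens).exists_subset_of_mem_open
        (Set.mem_univ t) isOpen_univ
      exact Set.mem_iUnion.2 ⟨⟨A', hA'⟩, t, htA, rfl⟩)
  let W : T.left.Opens := ⨆ A ∈ s, A.1
  have hWc : IsCompact (W : Set T.left) := by
    have : (W : Set T.left) = ⋃ A ∈ s, (A.1 : Set T.left) := by
      simp [W]
    rw [this]
    exact s.isCompact_biUnion fun A _ => A.2.isCompact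
  let T' : Over S := Over.mk (W.ι ≫ T.hom)
  let j : T' ⟶ T := Over.homMk W.ι rfl
  have : CompactSpace ↥T'.left := isCompact_iff_compactSpace.mp hWc
  have : Smooth j.left := inferInstanceAs (Smooth W.ι)
  have hx1 : AlgSt.RepByAlgSpWith (AlgSp.LocP @Smooth) (BasedFunctor.comp (AlgSt.overMap j) a) :=
    with_comp good_smooth (Groth.Agent.S6411.over_isFibGrpd T') (Groth.Agent.S6411.over_isFibGrpd T)
      h𝒳.isStack.1 _ a (overMap_smooth j) ha
  have hsurj : Function.Surjective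
      (AlgSt.Points.ofChart (BasedFunctor.comp (AlgSt.overMap j) a)) := by
    intro z
    obtain ⟨A, hA⟩ := Set.mem_iUnion.1 (hs' (Set.mem_univ z))
    obtain ⟨hAs, t, htA, rfl⟩ := Set.mem_iUnion.1 hA
    have htW : t ∈ W := by
      simp only [W, TopologicalSpace.Opens.mem_iSup]
      exact ⟨A, hAs, htA⟩
    let t' : ↥T'.left := (⟨t, htW⟩ : ↥W)
    refine ⟨t', ?_⟩
    exact (ofChart_overMap j a t').trans rfl
  exact Groth.Agent.H65.QCProd.isQuasiCompact_of_compact_chart h𝒳.isStack.1 _ hx1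
    (with_surj_of_ofChart_surjective h𝒳 _ (repByAlgSp1_of_with hx1) hsurj)

theorem isQuasiCompact_iff (h𝒳 : AlgSt.IsAlgStack Scheme.fppfPrecoverage 𝒳) :
    AlgSt.IsQuasiCompact 𝒳 ↔ CompactSpace (AlgSt.Points 𝒳) :=
  ⟨compactSpace_of_isQuasiCompact h𝒳, isQuasiCompact_of_compactSpace h𝒳⟩

end

end Groth.Agent.H32.StQC
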