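import Groth.Agent.H32.StQC
import Groth.Agent.H32.StUniv
import Groth.Agent.H32.SpecQuot
import Groth.Agent.H65.OverYoneda
import Groth.Agent.H65.QC
import Groth.Agent.H32.StackOps
import Groth.Agent.H32.PFacts
import Mathlib.AlgebraicGeometry.Morphisms.QuasiSeparated

/-!
# Spectral spaces of points of algebraic stacks with quasi-compact diagonal (helper32)
-/

set_option autoImplicit false
universe u
open CategoryTheory CategoryTheory.Limits AlgebraicGeometry Opposite Topology TopologicalSpace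

namespace Groth.Agent.H32.StSpec

open FibCat Stk Groth.Agent.H32.Fp2 Groth.Agent.H32.Fp3 Groth.Agent.H32.Fp4
open Groth.Agent.H32.StPoints Groth.Agent.H32.StTop Groth.Agent.H32.StQC
open Groth.Agent.H32.StUniv Groth.Agent.H32.SpBridge Groth.Agent.H32.AlgStackEquiv

variable {S : Scheme.{u}} {𝒳 : AlgSt.Cat S}

theorem spectralSpace_of_isAffine (X : Scheme.{u}) [IsAffine X] : SpectralSpace X :=
  { (inferInstance : T0Space X), (inferInstance : CompactSpace X),
    (inferInstance : QuasiSober X), (inferInstance : QuasiSeparatedSpace X),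
    (inferInstance : PrespectralSpace X) with }

theorem isQuasiCompact_overCat (U : Over S) [IsAffine U.left] :
    AlgSt.IsQuasiCompact (FibCat.overCat U) := by
  have hc : CompactSpace ↥U.left := inferInstance
  exact Groth.Agent.H65.QC.isQuasiCompact_of_equiv (ofSp_isFibGrpd' _)
    (Groth.Agent.S6411.over_isFibGrpd U) (AlgSt.toOverCat U) (toOverCat_isEquivOver U)
    (Groth.Agent.H65.QCMor.isQuasiCompact_ofSp ((AlgSp.ofScheme S).obj U)
      (Groth.Agent.H52.isQuasiCompactSp_yon U))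

theorem ofChart_id (U : Over S) (t : ↥U.left) :
    AlgSt.Points.ofChart (BasedFunctor.id (FibCat.overCat U)) t = ptOf U t := by
  rw [ofChart_eq]
  exact map_id _

theorem ofChart_overMap' {T U : Over S} (a : T ⟶ U) (ρ : ↥T.left) :
    AlgSt.Points.ofChart (AlgSt.overMap a) ρ = ptOf U (a.left ρ) :=
  (ofChart_overMap a (BasedFunctor.id _) ρ).trans (ofChart_id U _)

/-- the relation "same image under a chart" is the image of an affine scheme. -/
theorem exists_affine_relation [QuasiSeparatedSpace S]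
    (h𝒳 : AlgSt.IsAlgStack Scheme.fppfPrecoverage 𝒳)
    (hΔ : AlgSt.RepByAlgSpWith AlgSp.IsQuasiCompactMor (FibCat.diag (FibCat.toSelf 𝒳)))
    (U : Over S) [IsAffine U.left] (x : FibCat.overCat U ⥤ᵇ 𝒳) :
    ∃ (R : Over S) (_ : IsAffine R.left) (a b : R ⟶ U), ∀ u u' : ↥U.left,
      AlgSt.Points.ofChart x u = AlgSt.Points.ofChart x u' ↔
        ∃ ρ : ↥R.left, a.left ρ = u ∧ b.left ρ = u' := by
  have hU := Groth.Agent.S6411.over_isFibGrpd U
  have hqc : AlgSt.IsQuasiCompact (fp x x) :=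
    Groth.Agent.H65.QCProd.isQuasiCompact_fp hU h𝒳.isStack.1 hU x x hΔ
      (isQuasiCompact_overCat U) (isQuasiCompact_overCat U)
  obtain ⟨R, r, hR, hr1, hr2⟩ := hqc
  have hfp : AlgSt.IsAlgStack Scheme.fppfPrecoverage (fp x x) :=
    isAlgStack_fp' (isAlgStack_overCat U) h𝒳 (isAlgStack_overCat U) x x
  obtain ⟨a, ⟨α⟩⟩ := Groth.Agent.H65.OverYoneda.exists_overMap_iso
    (BasedFunctor.comp r (fpFst x x))
  obtain ⟨b, ⟨β⟩⟩ := Groth.Agent.H65.OverYoneda.exists_overMap_iso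
    (BasedFunctor.comp r (fpSnd x x))
  have ha : ∀ ρ : ↥R.left, AlgSt.Points.map (fpFst x x) (AlgSt.Points.ofChart r ρ) =
      ptOf U (a.left ρ) := fun ρ =>
    ((ofChart_comp r (fpFst x x) ρ).symm.trans (ofChart_congr α ρ)).trans (ofChart_overMap' a ρ)
  have hb : ∀ ρ : ↥R.left, AlgSt.Points.map (fpSnd x x) (AlgSt.Points.ofChart r ρ) =
      ptOf U (b.left ρ) := fun ρ =>
    ((ofChart_comp r (fpSnd x x) ρ).symm.trans (ofChart_congr β ρ)).trans (ofChart_overMap' b ρ)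
  refine ⟨R, hR, a, b, fun u u' => ⟨fun h => ?_, ?_⟩⟩
  · obtain ⟨w, hw1, hw2⟩ := Groth.Agent.S12818.result (isAlgStack_overCat U) h𝒳
      (isAlgStack_overCat U) x x (ptOf U u) (ptOf U u') h
    obtain ⟨ρ, rfl⟩ := ofChart_surjective hfp r hr2 w
    exact ⟨ρ, (ptOf_bijective U).1 ((ha ρ).symm.trans hw1),
      (ptOf_bijective U).1 ((hb ρ).symm.trans hw2)⟩
  · rintro ⟨ρ, rfl, rfl⟩
    rw [ofChart_eq, ofChart_eq, ← ha ρ, ← hb ρ, ← map_comp, ← map_comp]
    exact map_congr (fpIso x x) _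

/-- the image of an affine smooth chart of an algebraic stack with quasi-compact diagonal is a
spectral space. -/
theorem spectralSpace_range [QuasiSeparatedSpace S]
    (h𝒳 : AlgSt.IsAlgStack Scheme.fppfPrecoverage 𝒳)
    (hΔ : AlgSt.RepByAlgSpWith AlgSp.IsQuasiCompactMor (FibCat.diag (FibCat.toSelf 𝒳)))
    (U : Over S) [IsAffine U.left] (x : FibCat.overCat U ⥤ᵇ 𝒳)
    (hx : AlgSt.RepByAlgSpWith (AlgSp.LocP @Smooth) x) :
    SpectralSpace ↥(Set.range (AlgSt.Points.ofChart x)) := by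
  obtain ⟨R, hR, a, b, hrel⟩ := exists_affine_relation h𝒳 hΔ U x
  have hX : SpectralSpace ↥U.left := spectralSpace_of_isAffine U.left
  have hR' : SpectralSpace ↥R.left := spectralSpace_of_isAffine R.left
  have hc : Continuous (AlgSt.Points.ofChart x) := ofChart_continuous h𝒳 U x
  have ho : IsOpenMap (AlgSt.Points.ofChart x) :=
    ofChart_isOpenMap h𝒳 U x (flat_lfp_of_smooth_chart hx)
  let π : ↥U.left → ↥(Set.range (AlgSt.Points.ofChart x)) :=
    Set.rangeFactorization (AlgSt.Points.ofChart x)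
  have hπ : IsOpenQuotientMap π := by
    refine ⟨Set.rangeFactorization_surjective, hc.subtype_mk _, fun O hO => ?_⟩
    have h1 : π '' O = Subtype.val ⁻¹' (AlgSt.Points.ofChart x '' O) := by
      ext w
      constructor
      · rintro ⟨u, hu, rfl⟩
        exact ⟨u, hu, rfl⟩
      · rintro ⟨u, hu, huw⟩
        exact ⟨u, hu, Subtype.ext huw⟩
    rw [h1]
    exact (ho O hO).preimage continuous_subtype_val
  have ha : IsSpectralMap a.left := Scheme.Hom.isSpectralMap a.left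
  have hb : IsSpectralMap b.left := Scheme.Hom.isSpectralMap b.left
  refine Groth.Agent.H32.SpecQuot.spectralSpace_quot (fun ρ => a.left ρ) (fun ρ => b.left ρ) ha hb
    π hπ (fun u u' => ?_)
  rw [← hrel u u']
  exact Subtype.ext_iff

theorem spectralSpace_points [QuasiSeparatedSpace S]
    (h𝒳 : AlgSt.IsAlgStack Scheme.fppfPrecoverage 𝒳) (hqc : AlgSt.IsQuasiCompact 𝒳)
    (hΔ : AlgSt.RepByAlgSpWith AlgSp.IsQuasiCompactMor (FibCat.diag (FibCat.toSelf 𝒳))) :
    SpectralSpace (AlgSt.Points 𝒳) := by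
  obtain ⟨U, x, hU, hx1, hx2⟩ := hqc
  have h1 := spectralSpace_range h𝒳 hΔ U x hx1
  have hsurj := ofChart_surjective h𝒳 x hx2
  have hc : CompactSpace (AlgSt.Points 𝒳) :=
    compactSpace_of_isQuasiCompact h𝒳 ⟨U, x, hU, hx1, hx2⟩
  rw [Set.range_eq_univ.2 hsurj] at h1
  exact (Homeomorph.Set.univ (AlgSt.Points 𝒳)).symm.isOpenEmbedding.spectralSpace

theorem exists_spectral_nhd [QuasiSeparatedSpace S]
    (h𝒳 : AlgSt.IsAlgStack Scheme.fppfPrecoverage 𝒳)
    (hΔ : AlgSt.RepByAlgSpWith AlgSp.IsQuasiCompactMor (FibCat.diag (FibCat.toSelf 𝒳)))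
    (z : AlgSt.Points 𝒳) :
    ∃ W : Set (AlgSt.Points 𝒳), IsOpen W ∧ z ∈ W ∧ SpectralSpace ↥W := by
  obtain ⟨T, a, ha, hs⟩ := h𝒳.atlas
  obtain ⟨t, rfl⟩ := ofChart_surjective h𝒳 a hs z
  obtain ⟨A, ⟨A', hA', rfl⟩, htA, -⟩ := (T.left.isBasis_affineOpens).exists_subset_of_mem_open
    (Set.mem_univ t) isOpen_univ
  let A'' : T.left.Opens := A'
  let T' : Over S := Over.mk (A''.ι ≫ T.hom)
  let j : T' ⟶ T := Over.homMk A''.ι rfl
  have : IsAffine T'.left := hA'
  have : Smooth j.left := inferInstanceAs (Smooth A''.ι)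
  have hx1 : AlgSt.RepByAlgSpWith (AlgSp.LocP @Smooth) (BasedFunctor.comp (AlgSt.overMap j) a) :=
    Groth.Agent.H32.StackOps.with_comp Groth.Agent.H32.PFacts.good_smooth
      (Groth.Agent.S6411.over_isFibGrpd T') (Groth.Agent.S6411.over_isFibGrpd T)
      h𝒳.isStack.1 _ a (overMap_smooth j) ha
  refine ⟨_, (ofChart_isOpenMap h𝒳 T' _ (flat_lfp_of_smooth_chart hx1)).isOpen_range, ?_,
    spectralSpace_range h𝒳 hΔ T' _ hx1⟩
  let t' : ↥T'.left := (⟨t, htA⟩ : ↥A'')
  exact ⟨t', (ofChart_overMap j a t').trans rfl⟩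

theorem sober_points [QuasiSeparatedSpace S]
    (h𝒳 : AlgSt.IsAlgStack Scheme.fppfPrecoverage 𝒳)
    (hΔ : AlgSt.RepByAlgSpWith AlgSp.IsQuasiCompactMor (FibCat.diag (FibCat.toSelf 𝒳))) :
    QuasiSober (AlgSt.Points 𝒳) ∧ T0Space (AlgSt.Points 𝒳) := by
  constructor
  · let 𝒮 : Set (Set (AlgSt.Points 𝒳)) := {W | IsOpen W ∧ SpectralSpace ↥W}
    have h1 : ∀ s : 𝒮, IsOpen (s : Set (AlgSt.Points 𝒳)) := fun s => s.2.1
    have h2 : ∀ s : 𝒮, QuasiSober (s : Set (AlgSt.Points 𝒳)) := fun s =>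
      have := s.2.2
      inferInstance
    refine quasiSober_of_open_cover 𝒮 h1 ?_
    refine Set.eq_univ_of_forall fun z => ?_
    obtain ⟨W, hWo, hzW, hW⟩ := exists_spectral_nhd h𝒳 hΔ z
    exact Set.mem_sUnion.2 ⟨W, ⟨hWo, hW⟩, hzW⟩
  · refine T0Space.of_open_cover fun z => ?_
    obtain ⟨W, hWo, hzW, hW⟩ := exists_spectral_nhd h𝒳 hΔ z
    exact ⟨W, hzW, hWo, inferInstance⟩

end Groth.Agent.H32.StSpec
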