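import Groth.Agent.H32.StQCMor

/-!
# Full subcategories of categories over `(Sch/S)` (helper32)
-/

set_option autoImplicit false
universe u
open CategoryTheory CategoryTheory.Limits AlgebraicGeometry Opposite Topology

namespace Groth.Agent.H32.SubStk

open FibCat Stk Groth.Agent.H32.Fp2 Groth.Agent.H32.Fp3 Groth.Agent.H32.Fp4
open Groth.Agent.H32.FibProd

variable {S : Scheme.{u}} {𝒳 : AlgSt.Cat S} (Q : 𝒳.obj → Prop)

/-- `Q` is closed under sources of morphisms ("pullbacks"). -/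
def PbClosed : Prop := ∀ ⦃x' x : 𝒳.obj⦄ (_ : x' ⟶ x), Q x → Q x'

variable {Q}

theorem PbClosed.isoClosed (hQ : PbClosed Q) : ObjectProperty.IsClosedUnderIsomorphisms Q :=
  ⟨fun e h => hQ e.inv h⟩

theorem fullSub_isHomLift_iff {R T : Over S} (f : R ⟶ T) {a b : (AlgSt.fullSub 𝒳 Q).obj}
    (m : a ⟶ b) : (AlgSt.fullSub 𝒳 Q).p.IsHomLift f m ↔ 𝒳.p.IsHomLift f m.hom :=
  isHomLift_comp_iff 𝒳.p (ObjectProperty.ι Q) f m

theorem fullSub_isFibGrpd (h𝒳 : IsFibGrpd 𝒳.p) (hQ : PbClosed Q) :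
    IsFibGrpd (AlgSt.fullSub 𝒳 Q).p := by
  refine ⟨?_, ?_⟩
  · intro x V f
    obtain ⟨y, φ, hφ⟩ := h𝒳.exists_lift (x := x.obj) f
    exact ⟨⟨y, hQ φ x.property⟩, ObjectProperty.homMk φ, (fullSub_isHomLift_iff f _).2 hφ⟩
  · intro y x φ
    have hsc : 𝒳.p.IsStronglyCartesian (𝒳.p.map φ.hom) φ.hom := h𝒳.isStronglyCartesian φ.hom
    have hm : (AlgSt.fullSub 𝒳 Q).p.IsHomLift ((AlgSt.fullSub 𝒳 Q).p.map φ) φ := inferInstance
    refine ⟨?_⟩
    intro a' g φ' hφ'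
    have h1 : 𝒳.p.IsHomLift (g ≫ 𝒳.p.map φ.hom) φ'.hom := (fullSub_isHomLift_iff _ _).1 hφ'
    obtain ⟨χ, ⟨hχ1, hχ2⟩, huniq⟩ := hsc.universal_property' (a' := a'.obj) g φ'.hom
    refine ⟨ObjectProperty.homMk χ, ⟨(fullSub_isHomLift_iff _ _).2 hχ1,
      ObjectProperty.hom_ext _ hχ2⟩, ?_⟩
    rintro χ' ⟨h1', h2'⟩
    apply ObjectProperty.hom_ext
    exact huniq χ'.hom ⟨(fullSub_isHomLift_iff _ _).1 h1', congrArg (fun t => t.hom) h2'⟩

/-- lifting a functor through the full subcategory. -/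
def subLift {𝒵 : AlgSt.Cat S} (g : 𝒵 ⥤ᵇ 𝒳) (h : ∀ z, Q (g.obj z)) : 𝒵 ⥤ᵇ AlgSt.fullSub 𝒳 Q where
  toFunctor := ObjectProperty.lift Q g.toFunctor h
  w := g.w

theorem subLift_comp {𝒵 : AlgSt.Cat S} (g : 𝒵 ⥤ᵇ 𝒳) (h : ∀ z, Q (g.obj z)) :
    BasedFunctor.comp (subLift g h) (AlgSt.subIncl 𝒳 Q) = g := rfl

section fpEquiv

variable {U V : Over S} (j : V ⟶ U) (y : FibCat.overCat U ⥤ᵇ 𝒳)
  (hfac : ∀ a : Over U, Q (y.obj a) ↔ ∃ b : a.left ⟶ V, b ≫ j = a.hom)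

/-- the comparison functor `(Sch/V) ⟶ (Sch/U) ×_𝒳 𝒳_Q`. -/
def chartLift : FibCat.overCat V ⥤ᵇ fp y (AlgSt.subIncl 𝒳 Q) :=
  fpLift (F := y) (G := AlgSt.subIncl 𝒳 Q) (AlgSt.overMap j)
    (subLift (BasedFunctor.comp (AlgSt.overMap j) y) (fun z => (hfac _).2 ⟨z.hom, rfl⟩))
    (Iso.refl _)

theorem chartLift_fst :
    BasedFunctor.comp (chartLift j y hfac) (fpFst y (AlgSt.subIncl 𝒳 Q)) = AlgSt.overMap j := rfl

theorem chartLift_isEquivOver [Mono j] (hQ : PbClosed Q) : IsEquivOver (chartLift j y hfac) := by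
  rw [Groth.Agent.S5139.result]
  refine ⟨⟨⟨fun {a b} m => ?_⟩, ⟨fun {a b} k k' hkk' => ?_⟩⟩, fun η => ?_⟩
  · -- full
    have hw : y.map m.hom.fst ≫ 𝟙 _ = 𝟙 _ ≫ m.hom.snd.hom := m.hom.w
    have hw' : y.map m.hom.fst = m.hom.snd.hom := id_cancel _ _ hw
    have h1 : m.hom.fst.left ≫ (b.hom ≫ j) = a.hom ≫ j := Over.w m.hom.fst
    have h2 : m.hom.fst.left ≫ b.hom = a.hom :=
      (cancel_mono j).1 ((Category.assoc _ _ _).trans h1)
    refine ⟨Over.homMk m.hom.fst.left h2, ?_⟩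
    apply fp_hom_ext
    · apply Over.OverMorphism.ext
      rfl
    · apply ObjectProperty.hom_ext
      refine Eq.trans ?_ hw'
      change y.map _ = y.map _
      congr 1
  · have h := congrArg (fun t => t.hom.fst.left) hkk'
    apply Over.OverMorphism.ext
    exact h
  · -- essentially surjective
    have hη : 𝒳.p.IsHomLift (𝟙 ((FibCat.overCat U).p.obj η.obj.fst)) η.obj.iso.hom := η.property
    have hQa : Q (y.obj η.obj.fst) := hQ η.obj.iso.hom η.obj.snd.property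
    obtain ⟨b, hb⟩ := (hfac η.obj.fst).1 hQa
    let a : Over U := η.obj.fst
    let ξ : Over V := Over.mk b
    let i1 : (Over.map j).obj ξ ≅ a := Over.isoMk (Iso.refl _) (by
      change 𝟙 _ ≫ a.hom = b ≫ j
      rw [Category.id_comp, hb])
    have hi1 : (FibCat.overCat U).p.IsHomLift (𝟙 a.left) i1.hom :=
      IsHomLift.of_fac' (FibCat.overCat U).p _ _ rfl rfl (by
        change 𝟙 a.left = eqToHom rfl ≫ 𝟙 a.left ≫ eqToHom rfl
        simp)
    let i2 : ((chartLift j y hfac).obj ξ).obj.snd ≅ η.obj.snd :=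
      ObjectProperty.isoMk Q (y.toFunctor.mapIso i1 ≪≫ η.obj.iso)
    refine ⟨ξ, Groth.Agent.H32.Sect.objIsoMk i1 i2 ?_, ?_⟩
    · change y.map i1.hom ≫ η.obj.iso.hom = 𝟙 _ ≫ (y.map i1.hom ≫ η.obj.iso.hom)
      rw [Category.id_comp]
    · rw [fp_isHomLift_iff]
      exact hi1

end fpEquiv

section chartRep

open Groth.Agent.H32.SpTrack Groth.Agent.H32.Sect

/-- if the base change of `f` along the chart `y` is the scheme map `j`, then the representing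
datum of `overMap j` gives one for `f` at `y`. -/
theorem exists_rep_of_chart_equiv (P : MorphismProperty (AlgSp.Sp S)) {𝒳 𝒴 : AlgSt.Cat S}
    {U V : Over S} (j : V ⟶ U) (hj : AlgSt.RepByAlgSpWith P (AlgSt.overMap j))
    (y : FibCat.overCat U ⥤ᵇ 𝒴) (f : 𝒳 ⥤ᵇ 𝒴) (e' : FibCat.overCat V ⥤ᵇ fp y f)
    (he' : IsEquivOver e') (h : BasedFunctor.comp e' (fpFst y f) = AlgSt.overMap j) :
    ∃ (F : AlgSp.Space S) (e : AlgSt.ofSp F.obj ⥤ᵇ fp y f),
      IsEquivOver e ∧ P (AlgSt.spMapOfOver (BasedFunctor.comp e (fpFst y f))) := by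
  obtain ⟨F, e₀, he₀, hP⟩ := hj U (BasedFunctor.id _)
  have h2 : IsEquivOver (fpSnd (BasedFunctor.id (FibCat.overCat U)) (AlgSt.overMap j)) :=
    fpSnd_isEquivOver _ _ ⟨BasedFunctor.id _, ⟨Iso.refl _⟩, ⟨Iso.refl _⟩⟩
  refine ⟨F, BasedFunctor.comp e₀ (BasedFunctor.comp (fpSnd (BasedFunctor.id _) (AlgSt.overMap j)) e'),
    isEquivOver_comp _ _ he₀ (isEquivOver_comp _ _ h2 he'), ?_⟩
  have key : AlgSt.spMapOfOver (BasedFunctor.comp e₀ (fpFst (BasedFunctor.id _) (AlgSt.overMap j))) =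
      AlgSt.spMapOfOver (BasedFunctor.comp (BasedFunctor.comp e₀
        (BasedFunctor.comp (fpSnd (BasedFunctor.id _) (AlgSt.overMap j)) e')) (fpFst y f)) := by
    apply spMapOfOver_eq_of_hom
    intro a
    have hz : (FibCat.overCat U).p.IsHomLift (𝟙 ((FibCat.overCat U).p.obj (e₀.obj a).obj.fst))
        (e₀.obj a).obj.iso.hom := (e₀.obj a).property
    have hm : (BasedFunctor.comp (BasedFunctor.comp e₀
        (BasedFunctor.comp (fpSnd (BasedFunctor.id _) (AlgSt.overMap j)) e')) (fpFst y f)).obj a =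
        (AlgSt.overMap j).obj (e₀.obj a).obj.snd := by
      change (BasedFunctor.comp e' (fpFst y f)).obj _ = _
      rw [h]
      rfl
    refine ⟨(e₀.obj a).obj.iso.hom ≫ eqToHom hm.symm, ?_⟩
    have hbase : (FibCat.overCat U).p.obj (e₀.obj a).obj.fst = (AlgSt.ofSp F.obj).p.obj a :=
      e₀.w_obj a
    have h3 := Groth.Agent.H32.FibProd.isHomLift_id_of_eq (FibCat.overCat U).p hbase _ hz
    exact IsHomLift.eqToHom_comp_lift (p := (FibCat.overCat U).p) (𝟙 ((AlgSt.ofSp F.obj).p.obj a))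
      (e₀.obj a).obj.iso.hom hm.symm
  rw [← key]
  exact hP

end chartRep

end Groth.Agent.H32.SubStk
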