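import Groth.Agent.H51.Proper
import Groth.Agent.H52.QC
import Groth.Agent.H52.FieldPts
import Groth.Agent.H52.Topology
import Groth.Agent.H50.Points
import Mathlib.AlgebraicGeometry.Morphisms.UniversallyClosed

/-!
# Universally closed morphisms of algebraic spaces are quasi-compact (helper32)

Port of Mathlib's `compactSpace_of_universallyClosed` / `Scheme.Hom.isProperMap` to algebraic spaces
and their spaces of points.
-/

set_option autoImplicit false
universe u
open CategoryTheory CategoryTheory.Limits AlgebraicGeometry Opposite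
open AlgSp

namespace Groth.Agent.H32.UnivClosedQC

variable {S : Scheme.{u}}

open Scheme.Pullback _root_.PrimeSpectrum MvPolynomial TopologicalSpace in
/-- an algebraic space universally closed over a field is quasi-compact. -/
theorem compactSpace_points_of_univClosed_field {K : Type u} [Field K]
    (str : Spec (CommRingCat.of K) ⟶ S) {W : Sp S} (hW : IsAlgSpace W)
    (ψ : W ⟶ (yon S).obj (Over.mk str)) (hψ : IsUnivClosedMor ψ) : CompactSpace (Points W) := by
  classical
  obtain ⟨U, a, hae, has⟩ := hW.atlas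
  let 𝒰 : U.left.OpenCover := U.left.affineCover
  let O (i : 𝒰.I₀) : Set (Points W) := Points.ofPt a '' (Set.range (𝒰.f i))
  have hOopen : ∀ i, IsOpen (O i) := fun i =>
    Groth.Agent.H52.isOpenMap_ofPt_of_etale a hae _ (𝒰.f i).isOpenEmbedding.isOpen_range
  have hOcompact : ∀ i, IsCompact (O i) := fun i =>
    (isCompact_range (𝒰.f i).continuous).image (Points.continuous_ofPt a)
  have hOcover : ∀ x : Points W, ∃ i, x ∈ O i := fun x => by
    obtain ⟨u, rfl⟩ := Groth.Agent.H52.surjective_ofPt_of_surjective a has x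
    exact ⟨𝒰.idx u, u, 𝒰.covers u, rfl⟩
  let T : Scheme.{u} := Spec (.of <| MvPolynomial 𝒰.I₀ K)
  let q : T ⟶ Spec (.of K) := Spec.map (CommRingCat.ofHom MvPolynomial.C)
  let Tov : Over S := Over.mk (q ≫ str)
  let qov : Tov ⟶ Over.mk str := Over.homMk q
  let pr : pullback ψ ((yon S).map qov) ⟶ W := pullback.fst _ _
  let fT : pullback ψ ((yon S).map qov) ⟶ (yon S).obj Tov := pullback.snd _ _
  have sq : IsPullback pr fT ψ ((yon S).map qov) := IsPullback.of_hasPullback _ _
  have hfT : IsClosedMap (Points.map fT) := hψ (IsAlgSpace.yon_obj Tov) _ _ _ sq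
  let h : ↥T ≃ₜ Points ((yon S).obj Tov) := Points.schemeHomeo Tov
  let τ : Points (pullback ψ ((yon S).map qov)) → ↥T := fun z => h.symm (Points.map fT z)
  have hτc : Continuous τ := h.symm.continuous.comp (Points.continuous_map fT)
  have hτcl : IsClosedMap τ := h.symm.isClosedMap.comp hfT
  let Ti (i : 𝒰.I₀) : T.Opens := basicOpen (MvPolynomial.X i)
  let Zo : Set (Points (pullback ψ ((yon S).map qov))) :=
    ⋃ i, τ ⁻¹' (Ti i).1 ∩ Points.map pr ⁻¹' (O i)
  have hZo : IsOpen Zo :=
    isOpen_iUnion fun i => ((Ti i).2.preimage hτc).inter ((hOopen i).preimage (Points.continuous_map pr))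
  let Zc : T.Opens := ⟨(τ '' Zoᶜ)ᶜ, (hτcl _ hZo.isClosed_compl).isOpen_compl⟩
  let ψ₁ : MvPolynomial 𝒰.I₀ K →ₐ[K] K := MvPolynomial.aeval (fun _ ↦ 1)
  let t : T := Spec.map (CommRingCat.ofHom ψ₁.toRingHom) default
  have ht (i : 𝒰.I₀) : t ∈ Ti i := show ψ₁ (.X i) ≠ 0 by simp [ψ₁]
  have htZc : t ∈ Zc := by
    rintro ⟨z, hz, hzt⟩
    obtain ⟨i, hi⟩ := hOcover (Points.map pr z)
    exact hz (Set.mem_iUnion.2 ⟨i, by rw [Set.mem_preimage, hzt]; exact ht i, hi⟩)
  obtain ⟨U', ⟨g, rfl⟩, htU', hU'le⟩ := Opens.isBasis_iff_nbhd.mp isBasis_basic_opens htZc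
  let σ : Finset 𝒰.I₀ := MvPolynomial.vars g
  let φ : MvPolynomial 𝒰.I₀ K →+* MvPolynomial 𝒰.I₀ K :=
    (MvPolynomial.aeval fun i : 𝒰.I₀ ↦ if i ∈ σ then MvPolynomial.X i else 0).toRingHom
  let t' : T := Spec.map (CommRingCat.ofHom φ) t
  have ht'g : t' ∈ PrimeSpectrum.basicOpen g :=
    show φ g ∉ t.asIdeal from (show φ g = g from aeval_ite_mem_eq_self g subset_rfl).symm ▸ htU'
  have hnot : t' ∉ τ '' Zoᶜ := hU'le ht'g
  suffices ⋃ i ∈ σ, O i = Set.univ from
    ⟨this ▸ Finset.isCompact_biUnion _ fun i _ ↦ hOcompact i⟩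
  rw [Set.iUnion₂_eq_univ_iff]
  contrapose! hnot
  obtain ⟨x, hx⟩ := hnot
  have hsub := Groth.Agent.H52.subsingleton_points_spec_field (S := S) str
  obtain ⟨z, hz1, hz2⟩ := Groth.Agent.H50.exists_point_of_isPullback sq x (h t')
    (Subsingleton.elim _ _)
  have hτz : τ z = t' := by simp only [τ, hz2, Homeomorph.symm_apply_apply]
  refine ⟨z, ?_, hτz⟩
  intro hzo
  obtain ⟨i, hi1, hi2⟩ := Set.mem_iUnion.1 hzo
  rw [Set.mem_preimage, hτz] at hi1
  rw [Set.mem_preimage, hz1] at hi2
  have hi1' : t ∈ (Ti i).comap ⟨_, continuous_comap φ⟩ := hi1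
  rw [comap_basicOpen, show φ (.X i) = 0 by simpa [φ] using (hx i · hi2), basicOpen_zero] at hi1'
  cases hi1'

/-- the fibres of the map on points of a universally closed morphism of algebraic spaces are
compact. -/
theorem isCompact_fibre_of_univClosed {Z' Z : Sp S} (hZ' : IsAlgSpace Z') (hZ : IsAlgSpace Z)
    (φ : Z' ⟶ Z) (hφ : IsUnivClosedMor φ) (z : Points Z) :
    IsCompact (Points.map φ ⁻¹' {z}) := by
  obtain ⟨K, _, str, p, rfl⟩ := Groth.Agent.H50.exists_fieldPtOfHom z
  have sq : IsPullback (pullback.fst φ p) (pullback.snd φ p) φ p := IsPullback.of_hasPullback _ _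
  have hψ : IsUnivClosedMor (pullback.snd φ p) :=
    Groth.Agent.H51.univSp_of_isPullback _ sq hφ
  have hWalg : IsAlgSpace (pullback φ p) :=
    Groth.Agent.H52.isAlgSpace_of_isPullback sq hZ.diag hZ' (IsAlgSpace.yon_obj _)
  have hc := compactSpace_points_of_univClosed_field str hWalg _ hψ
  have hsub := Groth.Agent.H52.subsingleton_points_spec_field (S := S) str
  let s : Points ((yon S).obj (Over.mk str)) := Points.mk (Groth.Agent.H50.fieldPtOfHom str (𝟙 _))
  have hs : Points.map p s = Points.mk (Groth.Agent.H50.fieldPtOfHom str p) := by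
    rw [Groth.Agent.H50.points_map_mk_fieldPtOfHom, Category.id_comp]
  have heq : Points.map φ ⁻¹' {Points.mk (Groth.Agent.H50.fieldPtOfHom str p)} =
      Set.range (Points.map (pullback.fst φ p)) := by
    ext z'
    constructor
    · intro hz'
      obtain ⟨w, hw1, -⟩ := Groth.Agent.H50.exists_point_of_isPullback sq z' s
        ((Set.mem_singleton_iff.1 hz').trans hs.symm)
      exact ⟨w, hw1⟩
    · rintro ⟨w, rfl⟩
      rw [Set.mem_preimage, Set.mem_singleton_iff, ← Points.map_comp, sq.w, Points.map_comp,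
        Subsingleton.elim (Points.map (pullback.snd φ p) w) s, hs]
  rw [heq]
  exact isCompact_range (Points.continuous_map _)

/-- **A universally closed morphism of algebraic spaces is quasi-compact.** -/
theorem isQuasiCompactMor_of_isUnivClosedMor {X Y : Sp S} (hX : IsAlgSpace X) (hY : IsAlgSpace Y)
    (f : X ⟶ Y) (hf : IsUnivClosedMor f) : IsQuasiCompactMor f := by
  intro Z Z' hZ hZqc g fst snd sq
  have hsnd : IsUnivClosedMor snd := Groth.Agent.H51.univSp_of_isPullback _ sq hf
  have hZ' : IsAlgSpace Z' := Groth.Agent.H52.isAlgSpace_of_isPullback sq hY.diag hX hZ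
  have hcl : IsClosedMap (Points.map snd) :=
    hsnd hZ (𝟙 Z) (𝟙 Z') snd (IsPullback.of_horiz_isIso ⟨by simp⟩)
  have hproper : IsProperMap (Points.map snd) :=
    isProperMap_iff_isClosedMap_and_compact_fibers.2
      ⟨Points.continuous_map snd, hcl, fun z => isCompact_fibre_of_univClosed hZ' hZ snd hsnd z⟩
  have hZc : CompactSpace (Points Z) := Groth.Agent.H52.compactSpace_points_of_isQuasiCompactSp hZqc
  refine (Groth.Agent.H52.isQuasiCompactSp_iff hZ').2 ⟨?_⟩
  have := hproper.isCompact_preimage (isCompact_univ (X := Points Z))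
  rwa [Set.preimage_univ] at this

end Groth.Agent.H32.UnivClosedQC
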