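import Mathlib

/-!
# Universal injectivity helpers A (helper32)
-/

set_option autoImplicit false
universe u
open CategoryTheory CategoryTheory.Limits AlgebraicGeometry

namespace Groth.Agent.H32.UnivInj

/-- if a composite of field maps is finite, so is the first map. -/
theorem finite_of_comp_field {A B C : Type u} [Field A] [Field B] [Field C] (f : A →+* B)
    (g : B →+* C) (h : (g.comp f).Finite) : f.Finite := by
  algebraize [f, g, g.comp f]
  have : Module.Finite A C := h
  have : IsNoetherian A C := IsNoetherian.iff_fg.2 inferInstance
  exact Module.Finite.of_injective (IsScalarTower.toAlgHom A B C).toLinearMap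
    (algebraMap B C).injective

/-- lifting a geometric point through a point with algebraic residue field extension. -/
theorem exists_lift_point_of_isIntegral {R T : Scheme.{u}} (g : R ⟶ T) (r : R) {k : Type u} [Field k]
    [IsAlgClosed k] (l : Spec (CommRingCat.of k) ⟶ T) (c : ↥(Spec (CommRingCat.of k)))
    (hl : l c = g r) (hint : (g.residueFieldMap r).hom.IsIntegral) :
    ∃ m : Spec (CommRingCat.of k) ⟶ R, m ≫ g = l ∧ m c = r := by
  have key : ∀ (v : T) (_ : l c = v),
      ∃ φ : T.residueField v ⟶ CommRingCat.of k, Spec.map φ ≫ T.fromSpecResidueField v = l := by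
    rintro v rfl
    have h0 : l (IsLocalRing.closedPoint k) = l c :=
      congrArg l (Subsingleton.elim (α := ↥(Spec (CommRingCat.of k))) _ _)
    have key' : ∀ (v : T) (_ : l (IsLocalRing.closedPoint k) = v),
        ∃ φ : T.residueField v ⟶ CommRingCat.of k,
          Spec.map φ ≫ T.fromSpecResidueField v = l := by
      rintro v rfl
      exact ⟨_, Scheme.descResidueField_stalkClosedPointTo_fromSpecResidueField k T l⟩
    exact key' _ h0
  obtain ⟨φ, hφ⟩ := key (g r) hl
  let _ : Algebra (T.residueField (g r)) (R.residueField r) := (g.residueFieldMap r).hom.toAlgebra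
  let _ : Algebra (T.residueField (g r)) k := φ.hom.toAlgebra
  have : Algebra.IsAlgebraic (T.residueField (g r)) (R.residueField r) := by
    have : Algebra.IsIntegral (T.residueField (g r)) (R.residueField r) := ⟨hint⟩
    infer_instance
  let τ : R.residueField r →ₐ[T.residueField (g r)] k := IsAlgClosed.lift
  let τ' : R.residueField r ⟶ CommRingCat.of k := CommRingCat.ofHom τ.toRingHom
  have h3 : g.residueFieldMap r ≫ τ' = φ := by
    ext x
    exact τ.commutes x
  refine ⟨Spec.map τ' ≫ R.fromSpecResidueField r, ?_, ?_⟩
  · rw [Category.assoc, ← Scheme.Hom.SpecMap_residueFieldMap_fromSpecResidueField,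
      ← Spec.map_comp_assoc, h3, hφ]
  · rw [Scheme.Hom.comp_apply]
    exact Scheme.fromSpecResidueField_apply _ _

end Groth.Agent.H32.UnivInj
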