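import Mathlib

/-!
# Universal injectivity helpers B: etale realization of finite separable extensions (helper32)
-/

set_option autoImplicit false
universe u
open Polynomial IntermediateField

namespace Groth.Agent.H32.UnivInj

/-- a common denominator for finitely many fractions. -/
theorem exists_common_denominator {D K : Type u} [CommRing D] [Field K] (φ : D →+* K)
    (hφ : ∀ x : K, ∃ a b : D, φ b ≠ 0 ∧ x = φ a / φ b) (c : ℕ → K) (n : ℕ) :
    ∃ b : D, φ b ≠ 0 ∧ ∀ i < n, ∃ a : D, φ b * c i = φ a := by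
  induction n with
  | zero => exact ⟨1, by simp, fun i hi => absurd hi (Nat.not_lt_zero i)⟩
  | succ n ih =>
    obtain ⟨b, hb, hb'⟩ := ih
    obtain ⟨a', b', hb'0, hx⟩ := hφ (c n)
    refine ⟨b * b', by rw [map_mul]; exact mul_ne_zero hb hb'0, ?_⟩
    intro i hi
    rcases Nat.lt_succ_iff_lt_or_eq.1 hi with hi | rfl
    · obtain ⟨a, ha⟩ := hb' i hi
      exact ⟨a * b', by rw [map_mul, map_mul, ← ha]; ring⟩
    · refine ⟨b * a', ?_⟩
      rw [map_mul, map_mul, hx]
      field_simp

/-- a primitive element whose minimal polynomial has coefficients coming from `D`. -/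
theorem exists_primitive_lift {D K E : Type u} [CommRing D] [Field K] [Field E] (φ : D →+* K)
    (hφ : ∀ x : K, ∃ a b : D, φ b ≠ 0 ∧ x = φ a / φ b) [Algebra K E] [Module.Finite K E]
    [Algebra.IsSeparable K E] :
    ∃ (θ : E) (g₀ : D[X]), g₀.Monic ∧ g₀.map φ = minpoly K θ ∧ K⟮θ⟯ = ⊤ := by
  obtain ⟨α, hα⟩ := Field.exists_primitive_element K E
  have hαint : IsIntegral K α := Algebra.IsIntegral.isIntegral α
  let m := minpoly K α
  have hm : m.Monic := minpoly.monic hαint
  obtain ⟨b, hb, hb'⟩ := exists_common_denominator φ hφ (fun i => m.coeff i) m.natDegree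
  let θ : E := algebraMap K E (φ b) * α
  let g := scaleRoots m (φ b)
  have hgm : g.Monic := (monic_scaleRoots_iff (φ b)).2 hm
  have hgθ : aeval θ g = 0 := scaleRoots_aeval_eq_zero (minpoly.aeval K α)
  have hθint : IsIntegral K θ := Algebra.IsIntegral.isIntegral θ
  -- θ is primitive
  have hθ : K⟮θ⟯ = ⊤ := by
    rw [eq_top_iff, ← hα, adjoin_simple_le_iff]
    have h1 : θ ∈ K⟮θ⟯ := mem_adjoin_simple_self K θ
    have h2 : algebraMap K E (φ b)⁻¹ * θ ∈ K⟮θ⟯ :=
      K⟮θ⟯.mul_mem (K⟮θ⟯.algebraMap_mem _) h1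
    have h3 : algebraMap K E (φ b)⁻¹ * θ = α := by
      change algebraMap K E (φ b)⁻¹ * (algebraMap K E (φ b) * α) = α
      rw [← mul_assoc, ← map_mul, inv_mul_cancel₀ hb, map_one, one_mul]
    rwa [h3] at h2
  -- g is the minimal polynomial of θ
  have hdeg : (minpoly K θ).natDegree = g.natDegree := by
    rw [natDegree_scaleRoots, ← adjoin.finrank hθint, ← adjoin.finrank hαint, hθ, hα]
  have hg : g = minpoly K θ :=
    eq_of_monic_of_dvd_of_natDegree_le (minpoly.monic hθint) hgm (minpoly.dvd K θ hgθ)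
      hdeg.ge
  -- g lifts
  have hlift : g ∈ lifts φ := by
    rw [lifts_iff_coeff_lifts]
    intro i
    rw [coeff_scaleRoots]
    rcases lt_trichotomy i m.natDegree with hi | hi | hi
    · obtain ⟨a, ha⟩ := hb' i hi
      obtain ⟨k, hk⟩ : ∃ k, m.natDegree - i = k + 1 := ⟨m.natDegree - i - 1, by omega⟩
      refine ⟨a * b ^ k, ?_⟩
      rw [map_mul, map_pow, ← ha, hk, pow_succ]
      ring
    · refine ⟨1, ?_⟩
      rw [hi, tsub_self, pow_zero, mul_one, map_one]
      exact hm.coeff_natDegree.symm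
    · refine ⟨0, ?_⟩
      rw [coeff_eq_zero_of_natDegree_lt hi, zero_mul, map_zero]
  obtain ⟨g₀, hg₀, -, hg₀m⟩ := lifts_and_degree_eq_and_monic hlift hgm
  exact ⟨θ, g₀, hg₀m, hg₀.trans hg, hθ⟩


/-- (RL) a finite separable extension of a residue-type field is realized by an etale algebra. -/
theorem exists_etale_realization {D K E : Type u} [CommRing D] [Field K] [Field E] (φ : D →+* K)
    (hφ : ∀ x : K, ∃ a b : D, φ b ≠ 0 ∧ x = φ a / φ b) [Algebra K E] [Module.Finite K E]
    [Algebra.IsSeparable K E] :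
    ∃ (D' : Type u) (_ : CommRing D') (_ : Algebra D D') (_ : Algebra.Etale D D') (σ : D' →+* E),
      σ.comp (algebraMap D D') = (algebraMap K E).comp φ ∧
      ∀ (L : Type u) [Field L] (ε₁ ε₂ : E →+* L), ε₁.comp σ = ε₂.comp σ → ε₁ = ε₂ := by
  obtain ⟨θ, g₀, hg₀m, hg₀, hθ⟩ := exists_primitive_lift φ hφ (E := E)
  have hθint : IsIntegral K θ := Algebra.IsIntegral.isIntegral θ
  have hsep : (minpoly K θ).Separable := Algebra.IsSeparable.isSeparable K θ
  let P : StandardEtalePair D := ⟨g₀, hg₀m, derivative g₀, ⟨1, 0, 1, by ring⟩⟩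
  let _ : Algebra D K := φ.toAlgebra
  let _ : Algebra D E := ((algebraMap K E).comp φ).toAlgebra
  have : IsScalarTower D K E := .of_algebraMap_eq' rfl
  have hmap : P.HasMap θ := by
    refine ⟨?_, ?_⟩
    · change aeval θ g₀ = 0
      rw [← aeval_map_algebraMap K]
      change aeval θ (g₀.map φ) = 0
      rw [hg₀, minpoly.aeval]
    · change IsUnit (aeval θ (derivative g₀))
      rw [← aeval_map_algebraMap K]
      change IsUnit (aeval θ ((derivative g₀).map φ))
      rw [← derivative_map, hg₀]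
      exact (hsep.aeval_derivative_ne_zero (minpoly.aeval K θ)).isUnit
  let σ : P.Ring →ₐ[D] E := P.lift θ hmap
  refine ⟨P.Ring, inferInstance, inferInstance, inferInstance, σ.toRingHom, ?_, ?_⟩
  · ext d
    exact σ.commutes d
  · intro L _ ε₁ ε₂ hε
    have hθ' : ε₁ θ = ε₂ θ := by
      have := congrArg (fun (ψ : P.Ring →+* L) => ψ P.X) hε
      simpa [σ, StandardEtalePair.lift_X] using this
    have hD : ∀ d : D, ε₁ (algebraMap K E (φ d)) = ε₂ (algebraMap K E (φ d)) := by
      intro d
      have := congrArg (fun (ψ : P.Ring →+* L) => ψ (algebraMap D P.Ring d)) hε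
      have e1 : σ (algebraMap D P.Ring d) = algebraMap K E (φ d) := σ.commutes d
      change ε₁ (σ (algebraMap D P.Ring d)) = ε₂ (σ (algebraMap D P.Ring d)) at this
      rwa [e1] at this
    have hK : ε₁.comp (algebraMap K E) = ε₂.comp (algebraMap K E) := by
      ext x
      obtain ⟨a, b, hb, rfl⟩ := hφ x
      simp only [RingHom.comp_apply, map_div₀]
      rw [hD a, hD b]
    let _ : Algebra K L := (ε₁.comp (algebraMap K E)).toAlgebra
    let ψ₁ : E →ₐ[K] L := { ε₁ with commutes' := fun x => rfl }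
    let ψ₂ : E →ₐ[K] L := { ε₂ with commutes' := fun x => (congrArg (fun (ψ : K →+* L) => ψ x) hK).symm }
    have hadj : Algebra.adjoin K {θ} = ⊤ := by
      rw [← adjoin_simple_toSubalgebra_of_isAlgebraic hθint.isAlgebraic, hθ]
      rfl
    have : ψ₁ = ψ₂ := by
      apply AlgHom.ext_of_adjoin_eq_top hadj
      intro x hx
      rw [Set.mem_singleton_iff] at hx
      subst hx
      exact hθ'
    ext x
    exact congrArg (fun (ψ : E →ₐ[K] L) => ψ x) this

end Groth.Agent.H32.UnivInj
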