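import Groth.Agent.H32.UnivInjB

/-!
# Universal injectivity helpers C: etale neighbourhoods realizing separable residue extensions (helper32)
-/

set_option autoImplicit false
universe u
open CategoryTheory CategoryTheory.Limits AlgebraicGeometry

namespace Groth.Agent.H32.UnivInj

/-- every element of the residue field is a fraction of evaluations of sections on an affine
open neighbourhood. -/
theorem evaluation_fraction {V : Scheme.{u}} {U : V.Opens} (hU : IsAffineOpen U) (v₀ : V)
    (hv₀ : v₀ ∈ U) (x : V.residueField v₀) :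
    ∃ a b : Γ(V, U), (V.evaluation U v₀ hv₀).hom b ≠ 0 ∧
      x = (V.evaluation U v₀ hv₀).hom a / (V.evaluation U v₀ hv₀).hom b := by
  obtain ⟨s, rfl⟩ := V.residue_surjective v₀ x
  let _ := V.presheaf.algebra_section_stalk ⟨v₀, hv₀⟩
  have hloc := hU.isLocalization_stalk ⟨v₀, hv₀⟩
  obtain ⟨⟨a, b⟩, hab⟩ := IsLocalization.surj (hU.primeIdealOf ⟨v₀, hv₀⟩).asIdeal.primeCompl s
  have hbu : IsUnit (algebraMap Γ(V, U) (V.presheaf.stalk v₀) b) :=
    IsLocalization.map_units _ b
  have hb0 : (V.evaluation U v₀ hv₀).hom b ≠ 0 := by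
    have : IsUnit ((V.residue v₀).hom (algebraMap Γ(V, U) (V.presheaf.stalk v₀) b)) :=
      hbu.map _
    exact this.ne_zero
  refine ⟨a, b, hb0, ?_⟩
  rw [eq_div_iff hb0]
  have := congrArg (V.residue v₀).hom hab
  rw [map_mul] at this
  exact this


theorem evaluation_fromSpec {V : Scheme.{u}} {U : V.Opens} (hU : IsAffineOpen U) (v₀ : V)
    (hv₀ : v₀ ∈ U) :
    Spec.map (V.evaluation U v₀ hv₀) ≫ hU.fromSpec = V.fromSpecResidueField v₀ := by
  rw [Scheme.fromSpecResidueField, ← hU.fromSpecStalk_eq_fromSpecStalk hv₀,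
    IsAffineOpen.fromSpecStalk, ← Spec.map_comp_assoc]
  rfl

/-- (RL) a finite separable extension of a residue field is realized by an etale neighbourhood. -/
theorem exists_etale_nbhd_realization {V : Scheme.{u}} (v₀ : V) {E : Type u} [Field E]
    [Algebra (V.residueField v₀) E] [Module.Finite (V.residueField v₀) E]
    [Algebra.IsSeparable (V.residueField v₀) E] :
    ∃ (V' : Scheme.{u}) (c : V' ⟶ V) (_ : Etale c) (σ : Spec (CommRingCat.of E) ⟶ V'),
      σ ≫ c = Spec.map (CommRingCat.ofHom (algebraMap (V.residueField v₀) E)) ≫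
        V.fromSpecResidueField v₀ ∧
      ∀ (L : Type u) [Field L] (ε₁ ε₂ : E →+* L),
        Spec.map (CommRingCat.ofHom ε₁) ≫ σ = Spec.map (CommRingCat.ofHom ε₂) ≫ σ → ε₁ = ε₂ := by
  obtain ⟨_, ⟨U, hU : IsAffineOpen U, rfl⟩, hv₀, -⟩ :=
    V.isBasis_affineOpens.exists_subset_of_mem_open (Set.mem_univ v₀) isOpen_univ
  obtain ⟨D', _, _, hEt, σ, hσ, hσ'⟩ :=
    exists_etale_realization (V.evaluation U v₀ hv₀).hom (evaluation_fraction hU v₀ hv₀) (E := E)
  let c₀ : CommRingCat.of Γ(V, U) ⟶ CommRingCat.of D' := CommRingCat.ofHom (algebraMap Γ(V, U) D')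
  have hc₀ : Etale (Spec.map c₀) := by
    rw [HasRingHomProperty.Spec_iff (P := @Etale)]
    exact RingHom.etale_algebraMap.2 hEt
  have : IsOpenImmersion hU.fromSpec := inferInstance
  refine ⟨Spec (CommRingCat.of D'), Spec.map c₀ ≫ hU.fromSpec, inferInstance,
    Spec.map (CommRingCat.ofHom σ), ?_, ?_⟩
  · rw [← Spec.map_comp_assoc, ← evaluation_fromSpec hU v₀ hv₀, ← Spec.map_comp_assoc]
    congr 2
    ext x
    exact congrArg (fun (ψ : Γ(V, U) →+* E) => ψ x) hσ
  · intro L _ ε₁ ε₂ h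
    apply hσ' L
    rw [← Spec.map_comp, ← Spec.map_comp] at h
    have h2 := Spec.map_injective h
    ext x
    exact congrArg (fun (ψ : CommRingCat.of D' ⟶ CommRingCat.of L) => ψ.hom x) h2

end Groth.Agent.H32.UnivInj
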