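import Groth.Agent.H32.UnivInjA
import Groth.Agent.H32.GeomLift2

/-!
# Universal injectivity helpers D: finiteness of residue fields from relatedness (helper32)
-/

set_option autoImplicit false
universe u
open CategoryTheory CategoryTheory.Limits AlgebraicGeometry

namespace Groth.Agent.H32.UnivInj

theorem finite_of_SpecMap_eq {V : Scheme.{u}} {K : CommRingCat.{u}} (v₁ v₀ : V)
    (ψ : V.residueField v₁ ⟶ K) (χ : V.residueField v₀ ⟶ K) (hv : v₁ = v₀)
    (hχ : χ.hom.Finite)
    (e : Spec.map ψ ≫ V.fromSpecResidueField v₁ = Spec.map χ ≫ V.fromSpecResidueField v₀) :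
    ψ.hom.Finite := by
  subst hv
  have : ψ = χ := Spec.map_injective ((cancel_mono _).1 e)
  rwa [this]

/-- (f) every nonempty fibre of a morphism locally of finite type has a point with finite
residue field extension. -/
theorem exists_finite_point_fiber {W V : Scheme.{u}} (h : W ⟶ V) [LocallyOfFiniteType h] (ω : W) :
    ∃ ω₀ : W, h ω₀ = h ω ∧ (h.residueFieldMap ω₀).hom.Finite := by
  let v₀ := h ω
  let Z := h.fiber v₀
  have hne : (Set.univ : Set Z).Nonempty := ⟨h.asFiber ω, trivial⟩
  obtain ⟨z, -, hz⟩ := nonempty_inter_closedPoints hne isClosed_univ.isLocallyClosed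
  have hz' : IsClosed {z} := hz
  have hci := isClosed_singleton_iff_isClosedImmersion.mp hz'
  have : LocallyOfFiniteType (h.fiberToSpecResidueField v₀) := by
    change LocallyOfFiniteType (pullback.snd h (V.fromSpecResidueField v₀))
    infer_instance
  have hfin : IsFinite (Z.fromSpecResidueField z ≫ h.fiberToSpecResidueField v₀) := by
    rw [isFinite_iff_locallyOfFiniteType_of_jacobsonSpace]
    infer_instance
  let χ : V.residueField v₀ ⟶ Z.residueField z :=
    Spec.preimage (Z.fromSpecResidueField z ≫ h.fiberToSpecResidueField v₀)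
  have hχ : Spec.map χ = Z.fromSpecResidueField z ≫ h.fiberToSpecResidueField v₀ :=
    Spec.map_preimage _
  have hχfin : χ.hom.Finite := by
    rw [← IsFinite.SpecMap_iff, hχ]
    exact hfin
  have hω₀ : h (h.fiberι v₀ z) = v₀ := by
    have : h.fiberι v₀ z ∈ h ⁻¹' {v₀} := by
      rw [← h.range_fiberι v₀]
      exact ⟨z, rfl⟩
    exact this
  refine ⟨h.fiberι v₀ z, hω₀, ?_⟩
  have hψ : ((h.residueFieldMap (h.fiberι v₀ z)) ≫ (h.fiberι v₀).residueFieldMap z).hom.Finite := by
    refine finite_of_SpecMap_eq (h (h.fiberι v₀ z)) v₀ _ χ hω₀ hχfin ?_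
    rw [Spec.map_comp, Category.assoc, Scheme.Hom.SpecMap_residueFieldMap_fromSpecResidueField,
      Scheme.Hom.SpecMap_residueFieldMap_fromSpecResidueField_assoc, hχ, Category.assoc,
      h.fiber_fac v₀]
  exact finite_of_comp_field _ _ hψ


/-- Step 1: if any two field points of `W` with the same image in `V` are related through `R`
(with `s` etale), then `h` has finite residue field extensions. -/
theorem finite_residueFieldMap_of_related {W V R : Scheme.{u}} (h : W ⟶ V) [LocallyOfFiniteType h]
    (s t : R ⟶ W) [Etale s] (hst : s ≫ h = t ≫ h)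
    (H : ∀ (K : Type u) [Field K] (l₁ l₂ : Spec (CommRingCat.of K) ⟶ W), l₁ ≫ h = l₂ ≫ h →
      ∃ (L : Type u) (_ : Field L) (ε₁ ε₂ : K →+* L) (ρ : Spec (CommRingCat.of L) ⟶ R),
        ρ ≫ s = Spec.map (CommRingCat.ofHom ε₁) ≫ l₁ ∧
        ρ ≫ t = Spec.map (CommRingCat.ofHom ε₂) ≫ l₂)
    (ω : W) : (h.residueFieldMap ω).hom.Finite := by
  obtain ⟨ω₀, hω₀, hfin₀⟩ := exists_finite_point_fiber h ω
  obtain ⟨z, hz₁, hz₂⟩ := Scheme.Pullback.exists_preimage_pullback (f := h) (g := h) ω₀ ω hω₀
  obtain ⟨L, _, ε₁, ε₂, ρ, hρs, hρt⟩ := H ((pullback h h).residueField z)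
    ((pullback h h).fromSpecResidueField z ≫ pullback.fst h h)
    ((pullback h h).fromSpecResidueField z ≫ pullback.snd h h)
    (by rw [Category.assoc, Category.assoc, pullback.condition])
  let c : ↥(Spec (CommRingCat.of L)) := IsLocalRing.closedPoint L
  let r : R := ρ c
  have hsr : s r = ω₀ := by
    have := congrArg (fun (m : Spec (CommRingCat.of L) ⟶ W) => m c) hρs
    simp only [Scheme.Hom.comp_apply] at this
    rw [Scheme.fromSpecResidueField_apply] at this
    rw [← hz₁]
    exact this
  have htr : t r = ω := by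
    have := congrArg (fun (m : Spec (CommRingCat.of L) ⟶ W) => m c) hρt
    simp only [Scheme.Hom.comp_apply] at this
    rw [Scheme.fromSpecResidueField_apply] at this
    rw [← hz₂]
    exact this
  have hs : (s.residueFieldMap r).hom.Finite := GeomLift.finite_residueField s r
  have h1 : (h.residueFieldMap (s r)).hom.Finite := by
    rw [hsr]
    exact hfin₀
  have h2 : ((s ≫ h).residueFieldMap r).hom.Finite := by
    rw [Scheme.residueFieldMap_comp]
    exact RingHom.Finite.comp hs h1
  have h3 : ((t ≫ h).residueFieldMap r).hom.Finite := hst ▸ h2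
  rw [Scheme.residueFieldMap_comp] at h3
  have h4 : (h.residueFieldMap (t r)).hom.Finite := finite_of_comp_field _ _ h3
  rw [htr] at h4
  exact h4

end Groth.Agent.H32.UnivInj
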