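import Mathlib

/-!
# Universal injectivity helpers E: compositum and separable closure (helper32)
-/

set_option autoImplicit false
universe u
open IntermediateField

namespace Groth.Agent.H32.UnivInj

/-- (FL) the compositum of two finite extensions inside a big field, with its separable
closure. -/
theorem exists_compositum {K₀ k₁ k₂ Ω : Type u} [Field K₀] [Field k₁] [Field k₂] [Field Ω]
    (φ₁ : K₀ →+* k₁) (φ₂ : K₀ →+* k₂) (hφ₁ : φ₁.Finite) (hφ₂ : φ₂.Finite)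
    (ψ₁ : k₁ →+* Ω) (ψ₂ : k₂ →+* Ω) (hψ : ψ₁.comp φ₁ = ψ₂.comp φ₂) :
    ∃ (E : Type u) (_ : Field E) (_ : Algebra K₀ E) (_ : Module.Finite K₀ E)
      (_ : Algebra.IsSeparable K₀ E) (F : Type u) (_ : Field F) (β : E →+* F) (ι : F →+* Ω)
      (χ₁ : k₁ →+* F) (χ₂ : k₂ →+* F),
      ι.comp χ₁ = ψ₁ ∧ ι.comp χ₂ = ψ₂ ∧ χ₁.comp φ₁ = β.comp (algebraMap K₀ E) ∧
      χ₂.comp φ₂ = β.comp (algebraMap K₀ E) ∧
      ∀ (L : Type u) [Field L] (ε₁ ε₂ : F →+* L), ε₁.comp β = ε₂.comp β → ε₁ = ε₂ := by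
  let _ : Algebra K₀ k₁ := φ₁.toAlgebra
  let _ : Algebra K₀ k₂ := φ₂.toAlgebra
  let _ : Algebra K₀ Ω := (ψ₁.comp φ₁).toAlgebra
  have : Module.Finite K₀ k₁ := hφ₁
  have : Module.Finite K₀ k₂ := hφ₂
  let ψ₁' : k₁ →ₐ[K₀] Ω := { ψ₁ with commutes' := fun x => rfl }
  let ψ₂' : k₂ →ₐ[K₀] Ω :=
    { ψ₂ with commutes' := fun x => (congrArg (fun (ψ : K₀ →+* Ω) => ψ x) hψ).symm }
  let F₁ : IntermediateField K₀ Ω := ψ₁'.fieldRange
  let F₂ : IntermediateField K₀ Ω := ψ₂'.fieldRange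
  have : FiniteDimensional K₀ F₁ := by
    change FiniteDimensional K₀ (LinearMap.range ψ₁'.toLinearMap)
    infer_instance
  have : FiniteDimensional K₀ F₂ := by
    change FiniteDimensional K₀ (LinearMap.range ψ₂'.toLinearMap)
    infer_instance
  let F : IntermediateField K₀ Ω := F₁ ⊔ F₂
  have : FiniteDimensional K₀ F := IntermediateField.finiteDimensional_sup F₁ F₂
  let E : IntermediateField K₀ F := separableClosure K₀ F
  have hE : IsPurelyInseparable E F := separableClosure.isPurelyInseparable K₀ F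
  have h₁ : ∀ x, ψ₁ x ∈ F := fun x =>
    (le_sup_left : F₁ ≤ F) ⟨x, rfl⟩
  have h₂ : ∀ x, ψ₂ x ∈ F := fun x =>
    (le_sup_right : F₂ ≤ F) ⟨x, rfl⟩
  refine ⟨E, inferInstance, inferInstance, inferInstance, inferInstance, F, inferInstance,
    algebraMap E F, algebraMap F Ω, ψ₁.codRestrict F h₁, ψ₂.codRestrict F h₂, ?_, ?_, ?_, ?_, ?_⟩
  · ext x; rfl
  · ext x; rfl
  · ext x
    rfl
  · ext x
    exact (congrArg (fun (ψ : K₀ →+* Ω) => ψ x) hψ).symm
  · intro L _ ε₁ ε₂ h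
    exact IsPurelyInseparable.injective_comp_algebraMap E F L h

end Groth.Agent.H32.UnivInj
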