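import Groth.Agent.H32.UnivInjC
import Groth.Agent.H32.UnivInjD
import Groth.Agent.H32.UnivInjE
import Groth.Prelude.Def_AlgSp2

/-!
# Universal injectivity helpers F: geometric points with equal image are related (helper32)
-/

set_option autoImplicit false
universe u
open CategoryTheory CategoryTheory.Limits AlgebraicGeometry

namespace Groth.Agent.H32.UnivInj

theorem exists_factor_residueField {T : Scheme.{u}} {k : Type u} [Field k]
    (l : Spec (CommRingCat.of k) ⟶ T) (c : ↥(Spec (CommRingCat.of k))) :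
    ∃ φ : T.residueField (l c) ⟶ CommRingCat.of k,
      Spec.map φ ≫ T.fromSpecResidueField (l c) = l := by
  have key : ∀ (v : T) (_ : l c = v),
      ∃ φ : T.residueField v ⟶ CommRingCat.of k, Spec.map φ ≫ T.fromSpecResidueField v = l := by
    rintro v rfl
    have h0 : l (IsLocalRing.closedPoint k) = l c :=
      congrArg l (Subsingleton.elim (α := ↥(Spec (CommRingCat.of k))) _ _)
    have key' : ∀ (v : T) (_ : l (IsLocalRing.closedPoint k) = v),
        ∃ φ : T.residueField v ⟶ CommRingCat.of k,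
          Spec.map φ ≫ T.fromSpecResidueField v = l := by
      rintro v rfl
      exact ⟨_, Scheme.descResidueField_stalkClosedPointTo_fromSpecResidueField k T l⟩
    exact key' _ h0
  exact key _ rfl

theorem finite_congr_comp {V W : Scheme.{u}} (h : W ⟶ V) (ω₂ : W) (v : V) (hv : v = h ω₂)
    (hf : (h.residueFieldMap ω₂).hom.Finite) :
    ((V.residueFieldCongr hv).hom ≫ h.residueFieldMap ω₂).hom.Finite := by
  subst hv
  simpa using hf


/-- (SL) two geometric points of `W` with the same image in `V` are related through `R`. -/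
theorem geometric_related {W V R : Scheme.{u}} (h : W ⟶ V) [LocallyOfFiniteType h]
    (s t : R ⟶ W) [Etale s] (hst : s ≫ h = t ≫ h)
    (H : ∀ (V' : Scheme.{u}) (c : V' ⟶ V) [Etale c] (K : Type u) [Field K]
      (l₁ l₂ : Spec (CommRingCat.of K) ⟶ W) (ν : Spec (CommRingCat.of K) ⟶ V'),
      l₁ ≫ h = ν ≫ c → l₂ ≫ h = ν ≫ c →
      ∃ (L : Type u) (_ : Field L) (ε₁ ε₂ : K →+* L) (ρ : Spec (CommRingCat.of L) ⟶ R),
        ρ ≫ s = Spec.map (CommRingCat.ofHom ε₁) ≫ l₁ ∧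
        ρ ≫ t = Spec.map (CommRingCat.ofHom ε₂) ≫ l₂ ∧
        Spec.map (CommRingCat.ofHom ε₁) ≫ ν = Spec.map (CommRingCat.ofHom ε₂) ≫ ν)
    (Ω : Type u) [Field Ω] [IsAlgClosed Ω] (w₁ w₂ : Spec (CommRingCat.of Ω) ⟶ W)
    (hw : w₁ ≫ h = w₂ ≫ h) :
    ∃ ρ : Spec (CommRingCat.of Ω) ⟶ R, ρ ≫ s = w₁ ∧ ρ ≫ t = w₂ := by
  have H₀ : ∀ (K : Type u) [Field K] (l₁ l₂ : Spec (CommRingCat.of K) ⟶ W), l₁ ≫ h = l₂ ≫ h →
      ∃ (L : Type u) (_ : Field L) (ε₁ ε₂ : K →+* L) (ρ : Spec (CommRingCat.of L) ⟶ R),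
        ρ ≫ s = Spec.map (CommRingCat.ofHom ε₁) ≫ l₁ ∧
        ρ ≫ t = Spec.map (CommRingCat.ofHom ε₂) ≫ l₂ := by
    intro K _ l₁ l₂ hl
    obtain ⟨L, _, ε₁, ε₂, ρ, h1, h2, -⟩ := H V (𝟙 V) K l₁ l₂ (l₁ ≫ h) (by simp) (by simp [hl])
    exact ⟨L, inferInstance, ε₁, ε₂, ρ, h1, h2⟩
  have hfin := finite_residueFieldMap_of_related h s t hst H₀
  let c : ↥(Spec (CommRingCat.of Ω)) := IsLocalRing.closedPoint Ω
  obtain ⟨ψ₁, hψ₁⟩ := exists_factor_residueField w₁ c
  obtain ⟨ψ₂, hψ₂⟩ := exists_factor_residueField w₂ c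
  have hv : h (w₁ c) = h (w₂ c) := by
    have := congrArg (fun (m : Spec (CommRingCat.of Ω) ⟶ V) => m c) hw
    simpa only [Scheme.Hom.comp_apply] using this
  -- the two residue field maps
  have hφ₂fin := finite_congr_comp h (w₂ c) (h (w₁ c)) hv (hfin (w₂ c))
  have hcomp : h.residueFieldMap (w₁ c) ≫ ψ₁ =
      ((V.residueFieldCongr hv).hom ≫ h.residueFieldMap (w₂ c)) ≫ ψ₂ := by
    apply Spec.map_injective
    rw [← cancel_mono (V.fromSpecResidueField (h (w₁ c)))]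
    have e1 : Spec.map (h.residueFieldMap (w₁ c) ≫ ψ₁) ≫ V.fromSpecResidueField (h (w₁ c)) =
        w₁ ≫ h := by
      rw [Spec.map_comp, Category.assoc, Scheme.Hom.SpecMap_residueFieldMap_fromSpecResidueField,
        ← Category.assoc, hψ₁]
    have e2 : Spec.map (((V.residueFieldCongr hv).hom ≫ h.residueFieldMap (w₂ c)) ≫ ψ₂) ≫
        V.fromSpecResidueField (h (w₁ c)) = w₂ ≫ h := by
      rw [Spec.map_comp, Spec.map_comp, Category.assoc, Category.assoc,
        Scheme.residueFieldCongr_fromSpecResidueField,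
        Scheme.Hom.SpecMap_residueFieldMap_fromSpecResidueField, ← Category.assoc, hψ₂]
    rw [e1, e2, hw]
  have hψ : ψ₁.hom.comp (h.residueFieldMap (w₁ c)).hom =
      ψ₂.hom.comp ((V.residueFieldCongr hv).hom ≫ h.residueFieldMap (w₂ c)).hom := by
    have := congrArg CommRingCat.Hom.hom hcomp
    simpa only [CommRingCat.hom_comp] using this
  obtain ⟨E, _, _, _, _, F, _, β, ι, χ₁, χ₂, hι₁, hι₂, hχ₁, hχ₂, hpi⟩ :=
    exists_compositum (h.residueFieldMap (w₁ c)).hom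
      ((V.residueFieldCongr hv).hom ≫ h.residueFieldMap (w₂ c)).hom (hfin (w₁ c)) hφ₂fin
      ψ₁.hom ψ₂.hom hψ
  obtain ⟨V', c', hc', σ, hσ, hσ'⟩ := exists_etale_nbhd_realization (h (w₁ c)) (E := E)
  let l₁ : Spec (CommRingCat.of F) ⟶ W :=
    Spec.map (CommRingCat.ofHom χ₁) ≫ W.fromSpecResidueField (w₁ c)
  let l₂ : Spec (CommRingCat.of F) ⟶ W :=
    Spec.map (CommRingCat.ofHom χ₂) ≫ W.fromSpecResidueField (w₂ c)
  let ν : Spec (CommRingCat.of F) ⟶ V' := Spec.map (CommRingCat.ofHom β) ≫ σ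
  have hνc : ν ≫ c' = Spec.map (CommRingCat.ofHom (β.comp
      (algebraMap (V.residueField (h (w₁ c))) E))) ≫
      V.fromSpecResidueField (h (w₁ c)) := by
    change (Spec.map (CommRingCat.ofHom β) ≫ σ) ≫ c' = _
    rw [Category.assoc, hσ, ← Spec.map_comp_assoc]
    rfl
  have hl₁ : l₁ ≫ h = ν ≫ c' := by
    rw [hνc, ← hχ₁]
    change (Spec.map (CommRingCat.ofHom χ₁) ≫ W.fromSpecResidueField (w₁ c)) ≫ h = _
    rw [Category.assoc, ← Scheme.Hom.SpecMap_residueFieldMap_fromSpecResidueField,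
      ← Spec.map_comp_assoc]
    rfl
  have hl₂ : l₂ ≫ h = ν ≫ c' := by
    rw [hνc, ← hχ₂]
    change (Spec.map (CommRingCat.ofHom χ₂) ≫ W.fromSpecResidueField (w₂ c)) ≫ h = _
    rw [Category.assoc, ← Scheme.Hom.SpecMap_residueFieldMap_fromSpecResidueField,
      ← Scheme.residueFieldCongr_fromSpecResidueField hv, ← Spec.map_comp_assoc,
      ← Spec.map_comp_assoc]
    rfl
  obtain ⟨L, _, ε₁, ε₂, ρ, hρs, hρt, hρν⟩ := H V' c' F l₁ l₂ ν hl₁ hl₂
  have hε : ε₁ = ε₂ := by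
    apply hpi L
    apply hσ' L
    change Spec.map (CommRingCat.ofHom β ≫ CommRingCat.ofHom ε₁) ≫ σ =
      Spec.map (CommRingCat.ofHom β ≫ CommRingCat.ofHom ε₂) ≫ σ
    rw [Spec.map_comp, Spec.map_comp, Category.assoc, Category.assoc]
    exact hρν
  subst hε
  obtain ⟨Ω', _, i₁, i₂, hi⟩ := AlgSp.FieldPt.exists_amalgamation ε₁ ι
  let j₁ : L →+* AlgebraicClosure Ω' := (algebraMap Ω' (AlgebraicClosure Ω')).comp i₁
  let j₂ : Ω →+* AlgebraicClosure Ω' := (algebraMap Ω' (AlgebraicClosure Ω')).comp i₂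
  have hj : j₁.comp ε₁ = j₂.comp ι := by
    change ((algebraMap Ω' (AlgebraicClosure Ω')).comp i₁).comp ε₁ =
      ((algebraMap Ω' (AlgebraicClosure Ω')).comp i₂).comp ι
    rw [RingHom.comp_assoc, hi, RingHom.comp_assoc]
  have hj' : Spec.map (CommRingCat.ofHom j₁) ≫ Spec.map (CommRingCat.ofHom ε₁) =
      Spec.map (CommRingCat.ofHom j₂) ≫ Spec.map (CommRingCat.ofHom ι) := by
    rw [← Spec.map_comp, ← Spec.map_comp]
    congr 1
    exact CommRingCat.hom_ext hj
  have hw₁ : w₁ = Spec.map (CommRingCat.ofHom ι) ≫ l₁ := by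
    change _ = Spec.map (CommRingCat.ofHom ι) ≫
      Spec.map (CommRingCat.ofHom χ₁) ≫ W.fromSpecResidueField (w₁ c)
    rw [← Spec.map_comp_assoc]
    have : CommRingCat.ofHom χ₁ ≫ CommRingCat.ofHom ι = ψ₁ := CommRingCat.hom_ext hι₁
    rw [this, hψ₁]
  have hw₂ : w₂ = Spec.map (CommRingCat.ofHom ι) ≫ l₂ := by
    change _ = Spec.map (CommRingCat.ofHom ι) ≫
      Spec.map (CommRingCat.ofHom χ₂) ≫ W.fromSpecResidueField (w₂ c)
    rw [← Spec.map_comp_assoc]
    have : CommRingCat.ofHom χ₂ ≫ CommRingCat.ofHom ι = ψ₂ := CommRingCat.hom_ext hι₂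
    rw [this, hψ₂]
  let ρ' : Spec (CommRingCat.of (AlgebraicClosure Ω')) ⟶ R := Spec.map (CommRingCat.ofHom j₁) ≫ ρ
  have hρ's : ρ' ≫ s = Spec.map (CommRingCat.ofHom j₂) ≫ w₁ := by
    change (Spec.map (CommRingCat.ofHom j₁) ≫ ρ) ≫ s = _
    rw [Category.assoc, hρs, ← Category.assoc, hj', Category.assoc, ← hw₁]
  have hρ't : ρ' ≫ t = Spec.map (CommRingCat.ofHom j₂) ≫ w₂ := by
    change (Spec.map (CommRingCat.ofHom j₁) ≫ ρ) ≫ t = _
    rw [Category.assoc, hρt, ← Category.assoc, hj', Category.assoc, ← hw₂]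
  let jj : R ⟶ pullback h h := pullback.lift s t hst
  let τ : Spec (CommRingCat.of Ω) ⟶ pullback h h := pullback.lift w₁ w₂ hw
  have hjτ : ρ' ≫ jj = Spec.map (CommRingCat.ofHom j₂) ≫ τ := by
    apply pullback.hom_ext
    · have e1 : jj ≫ pullback.fst h h = s := pullback.lift_fst _ _ _
      have e2 : τ ≫ pullback.fst h h = w₁ := pullback.lift_fst _ _ _
      calc (ρ' ≫ jj) ≫ pullback.fst h h = ρ' ≫ s := by rw [Category.assoc, e1]
        _ = Spec.map (CommRingCat.ofHom j₂) ≫ w₁ := hρ's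
        _ = (Spec.map (CommRingCat.ofHom j₂) ≫ τ) ≫ pullback.fst h h := by
          rw [Category.assoc, e2]
    · have e1 : jj ≫ pullback.snd h h = t := pullback.lift_snd _ _ _
      have e2 : τ ≫ pullback.snd h h = w₂ := pullback.lift_snd _ _ _
      calc (ρ' ≫ jj) ≫ pullback.snd h h = ρ' ≫ t := by rw [Category.assoc, e1]
        _ = Spec.map (CommRingCat.ofHom j₂) ≫ w₂ := hρ't
        _ = (Spec.map (CommRingCat.ofHom j₂) ≫ τ) ≫ pullback.snd h h := by
          rw [Category.assoc, e2]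
  let c'' : ↥(Spec (CommRingCat.of (AlgebraicClosure Ω'))) :=
    IsLocalRing.closedPoint (AlgebraicClosure Ω')
  let r : R := ρ' c''
  have hr : τ c = jj r := by
    have := congrArg (fun (m : Spec (CommRingCat.of (AlgebraicClosure Ω')) ⟶ pullback h h) =>
      m c'') hjτ
    simp only [Scheme.Hom.comp_apply] at this
    rw [this]
    exact congrArg τ (Subsingleton.elim (α := ↥(Spec (CommRingCat.of Ω))) _ _)
  have hint : (jj.residueFieldMap r).hom.IsIntegral := by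
    have e : jj ≫ pullback.fst h h = s := pullback.lift_fst _ _ _
    have h5 : ((jj ≫ pullback.fst h h).residueFieldMap r).hom.Finite :=
      e.symm ▸ GeomLift.finite_residueField s r
    rw [Scheme.residueFieldMap_comp] at h5
    exact RingHom.IsIntegral.tower_top _ _ h5.to_isIntegral
  obtain ⟨m, hm, -⟩ := exists_lift_point_of_isIntegral jj r τ c hr hint
  refine ⟨m, ?_, ?_⟩
  · have e : jj ≫ pullback.fst h h = s := pullback.lift_fst _ _ _
    rw [← e, ← Category.assoc, hm]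
    exact pullback.lift_fst _ _ _
  · have e : jj ≫ pullback.snd h h = t := pullback.lift_snd _ _ _
    rw [← e, ← Category.assoc, hm]
    exact pullback.lift_snd _ _ _

end Groth.Agent.H32.UnivInj
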