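import Groth.Prelude.Def_AlgSp4
import Groth.Prelude.Def_AlgSpDec

/-!
# Universal injectivity helpers G: injectivity on geometric points implies universal injectivity (helper32)
-/

set_option autoImplicit false
universe u
open CategoryTheory CategoryTheory.Limits AlgebraicGeometry Opposite AlgSp

namespace Groth.Agent.H32.UnivInj

variable {S : Scheme.{u}}

theorem yon_map_comp_toHom {F : Sp S} (p : FieldPt F) {T : Over S} (a : T ⟶ p.pt) :
    (yon S).map a ≫ p.toHom = (J S).uliftYonedaEquiv.symm (F.obj.map a.op p.val) :=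
  GrothendieckTopology.uliftYonedaEquiv_symm_naturality_left _ a F p.val

theorem rel_iff_toHom {F : Sp S} (p q : FieldPt F) :
    FieldPt.Rel p q ↔ ∃ (Ω : Type u) (_ : Field Ω) (w : Spec (CommRingCat.of Ω) ⟶ S)
      (a : Over.mk w ⟶ p.pt) (b : Over.mk w ⟶ q.pt),
      (yon S).map a ≫ p.toHom = (yon S).map b ≫ q.toHom := by
  constructor
  · rintro ⟨Ω, _, w, a, b, h⟩
    refine ⟨Ω, inferInstance, w, a, b, ?_⟩
    rw [yon_map_comp_toHom, yon_map_comp_toHom, h]
  · rintro ⟨Ω, _, w, a, b, h⟩
    refine ⟨Ω, inferInstance, w, a, b, ?_⟩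
    rw [yon_map_comp_toHom, yon_map_comp_toHom] at h
    exact (J S).uliftYonedaEquiv.symm.injective h

/-- the key criterion: a morphism of sheaves that is injective on geometric points (as
morphisms from spectra of algebraically closed fields) is universally injective. -/
theorem isUnivInjectiveMor_of_geometric {F G : Sp S} (f : F ⟶ G)
    (KC : ∀ (Ω : Type u) [Field Ω] [IsAlgClosed Ω] (str : Spec (CommRingCat.of Ω) ⟶ S)
      (x₁ x₂ : (yon S).obj (Over.mk str) ⟶ F), x₁ ≫ f = x₂ ≫ f → x₁ = x₂) :
    IsUnivInjectiveMor f := by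
  intro Z Z' _ g fst snd sq a b
  induction a using Points.ind with
  | h p =>
  induction b using Points.ind with
  | h q =>
  intro hab
  rw [Points.map_mk, Points.map_mk, Points.mk_eq_mk_iff, rel_iff_toHom] at hab
  obtain ⟨L, _, w, a'', b'', hab''⟩ := hab
  rw [FieldPt.toHom_map, FieldPt.toHom_map] at hab''
  rw [Points.mk_eq_mk_iff, rel_iff_toHom]
  let ι : Over.mk (Spec.map (CommRingCat.ofHom (algebraMap L (AlgebraicClosure L))) ≫ w) ⟶
      Over.mk w := Over.homMk (Spec.map (CommRingCat.ofHom (algebraMap L (AlgebraicClosure L)))) rfl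
  let a' : Over.mk w ⟶ p.pt := a''
  let b' : Over.mk w ⟶ q.pt := b''
  have hab' : (yon S).map a' ≫ p.toHom ≫ snd = (yon S).map b' ≫ q.toHom ≫ snd := hab''
  refine ⟨AlgebraicClosure L, inferInstance, _, ι ≫ a', ι ≫ b', ?_⟩
  have hsnd : ((yon S).map (ι ≫ a') ≫ p.toHom) ≫ snd = ((yon S).map (ι ≫ b') ≫ q.toHom) ≫ snd := by
    rw [Functor.map_comp, Functor.map_comp, Category.assoc, Category.assoc, Category.assoc,
      Category.assoc, hab']
  apply sq.hom_ext
  · apply KC (AlgebraicClosure L)
    rw [Category.assoc, Category.assoc, sq.w, ← Category.assoc, ← Category.assoc, hsnd,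
      Category.assoc, ← sq.w]
    simp only [Category.assoc]
  · exact hsnd

end Groth.Agent.H32.UnivInj
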