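import Groth.Agent.H32.UnivInjF
import Groth.Agent.H32.UnivInjG
import Groth.Agent.H32.EtStalk1
import Groth.Agent.H50.Basic
import Groth.Agent.H52.Residual
import Groth.Agent.H52.Charts

/-!
# Universal injectivity helpers H: injectivity on geometric points from injectivity after etale base change (helper32)
-/

set_option autoImplicit false
universe u
open CategoryTheory CategoryTheory.Limits AlgebraicGeometry Opposite AlgSp

namespace Groth.Agent.H32.UnivInj

variable {S : Scheme.{u}}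

/-- separably closed points lift along surjective etale charts. -/
theorem exists_lift_surj_etale {F : Sp S} {U : Over S} (a : (yon S).obj U ⟶ F)
    (ha : RepWith @Etale a) (hs : RepWith @Surjective a) {K : Type u} [Field K] [IsSepClosed K]
    (str : Spec (CommRingCat.of K) ⟶ S) (t : (yon S).obj (Over.mk str) ⟶ F) :
    ∃ l : Over.mk str ⟶ U, (yon S).map l ≫ a = t := by
  obtain ⟨W, snd, fst, sq⟩ := ha.1 t
  obtain ⟨fst', rfl⟩ := (yon S).map_surjective fst
  have hsurj : Surjective snd.left := hs.property t _ snd sq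
  obtain ⟨w, -⟩ := hsurj.surj (default : ↥(Spec (CommRingCat.of K)))
  obtain ⟨l, hl, -⟩ := EtStalk.exists_lift_of_isPullback a ha str t fst' snd sq w
  exact ⟨l, hl⟩


/-- (KC) under the hypotheses of the statement, `f` is injective on geometric points. -/
theorem geometric_injective {X Y : AlgSp.Space S} (f : X ⟶ Y)
    (hft : AlgSp.LocP @LocallyOfFiniteType f.hom)
    (hinj : ∀ (V : AlgSp.Space S) (g : V ⟶ Y), AlgSp.IsEtaleMor g.hom →
      ∀ (P : AlgSp.Sp S) (fst : P ⟶ X.obj) (snd : P ⟶ V.obj), IsPullback fst snd f.hom g.hom →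
        Function.Injective (AlgSp.Points.map snd))
    (Ω : Type u) [Field Ω] [IsAlgClosed Ω] (str : Spec (CommRingCat.of Ω) ⟶ S)
    (x₁ x₂ : (yon S).obj (Over.mk str) ⟶ X.obj) (hx : x₁ ≫ f.hom = x₂ ≫ f.hom) : x₁ = x₂ := by
  obtain ⟨U, a, haE, haS⟩ := X.property.atlas
  obtain ⟨V, b, hbE, hbS⟩ := Y.property.atlas
  obtain ⟨W, pW, q, sq⟩ := hbE.1 (a ≫ f.hom)
  obtain ⟨h, rfl⟩ := (yon S).map_surjective q
  have hpW : Etale pW.left := hbE.2 _ _ _ sq
  have haW₀ : RepWith @Etale ((yon S).map pW ≫ a) :=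
    H52.repWith_yon_map_comp @Etale pW hpW a haE
  have hlft : LocallyOfFiniteType h.left :=
    hft ((yon S).map pW ≫ a) b h haW₀ hbE (by rw [Category.assoc, sq.w])
  -- the chart of `X ×_Y V`
  let aW : (yon S).obj W ⟶ pullback f.hom b :=
    pullback.lift ((yon S).map pW ≫ a) ((yon S).map h) (by rw [Category.assoc, sq.w])
  have haW1 : aW ≫ pullback.fst f.hom b = (yon S).map pW ≫ a := pullback.lift_fst _ _ _
  have haW2 : aW ≫ pullback.snd f.hom b = (yon S).map h := pullback.lift_snd _ _ _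
  have sqW : IsPullback aW ((yon S).map pW) (pullback.fst f.hom b) a := by
    refine IsPullback.of_right ?_ haW1 (IsPullback.of_hasPullback f.hom b).flip
    rw [haW2]
    exact sq
  have haWE : RepWith @Etale aW := H50.repWith_fst_of_isPullback sqW haE
  have haWS : RepWith @Surjective aW := H50.repWith_fst_of_isPullback sqW haS
  obtain ⟨R, s, t', sqR⟩ := haWE.1 aW
  obtain ⟨t, rfl⟩ := (yon S).map_surjective t'
  have hs : Etale s.left := haWE.2 _ _ _ sqR
  have hst : s ≫ h = t ≫ h := by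
    apply (yon S).map_injective
    rw [Functor.map_comp, Functor.map_comp, ← haW2, ← Category.assoc, ← Category.assoc, sqR.w]
  have hst' : s.left ≫ h.left = t.left ≫ h.left := by
    rw [← Over.comp_left, ← Over.comp_left, hst]
  have hstX : (yon S).map s ≫ (yon S).map pW ≫ a = (yon S).map t ≫ (yon S).map pW ≫ a := by
    rw [← haW1, ← Category.assoc, ← Category.assoc, sqR.w]
  -- the hypothesis of the scheme level lemma
  have H : ∀ (V' : Scheme.{u}) (c : V' ⟶ V.left) [Etale c] (K : Type u) [Field K]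
      (l₁ l₂ : Spec (CommRingCat.of K) ⟶ W.left) (ν : Spec (CommRingCat.of K) ⟶ V'),
      l₁ ≫ h.left = ν ≫ c → l₂ ≫ h.left = ν ≫ c →
      ∃ (L : Type u) (_ : Field L) (ε₁ ε₂ : K →+* L) (ρ : Spec (CommRingCat.of L) ⟶ R.left),
        ρ ≫ s.left = Spec.map (CommRingCat.ofHom ε₁) ≫ l₁ ∧
        ρ ≫ t.left = Spec.map (CommRingCat.ofHom ε₂) ≫ l₂ ∧
        Spec.map (CommRingCat.ofHom ε₁) ≫ ν = Spec.map (CommRingCat.ofHom ε₂) ≫ ν := by
    intro V' c hc K _ l₁ l₂ ν e₁ e₂
    let V'o : Over S := Over.mk (c ≫ V.hom)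
    let co : V'o ⟶ V := Over.homMk c rfl
    let g' : (yon S).obj V'o ⟶ Y.obj := (yon S).map co ≫ b
    have hg' : AlgSp.IsEtaleMor g' := by
      intro U' φ hφ
      have h1 : RepWith @Etale g' := H52.repWith_yon_map_comp @Etale co hc b hbE
      have := AlgSp.repWith_isMultiplicative (S := S) @Etale
      exact (RepWith @Etale).comp_mem _ _ hφ h1
    let V'sp : AlgSp.Space S := ⟨(yon S).obj V'o, IsAlgSpace.yon_obj V'o⟩
    have hinj' := hinj V'sp (ObjectProperty.homMk g' : V'sp ⟶ Y) hg' (pullback f.hom g')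
      (pullback.fst f.hom g') (pullback.snd f.hom g') (IsPullback.of_hasPullback f.hom g')
    let strK : Spec (CommRingCat.of K) ⟶ S := ν ≫ c ≫ V.hom
    let νo : Over.mk strK ⟶ V'o := Over.homMk ν rfl
    have hW : h.left ≫ V.hom = W.hom := Over.w h
    let l₁o : Over.mk strK ⟶ W := Over.homMk l₁ (by
      change l₁ ≫ W.hom = ν ≫ c ≫ V.hom
      rw [← hW, ← Category.assoc, e₁, Category.assoc])
    let l₂o : Over.mk strK ⟶ W := Over.homMk l₂ (by
      change l₂ ≫ W.hom = ν ≫ c ≫ V.hom
      rw [← hW, ← Category.assoc, e₂, Category.assoc])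
    have e₁o : l₁o ≫ h = νo ≫ co := Over.OverMorphism.ext e₁
    have e₂o : l₂o ≫ h = νo ≫ co := Over.OverMorphism.ext e₂
    have hp₁ : ((yon S).map (l₁o ≫ pW) ≫ a) ≫ f.hom = (yon S).map νo ≫ g' := by
      change _ = (yon S).map νo ≫ (yon S).map co ≫ b
      rw [Functor.map_comp, Category.assoc, Category.assoc, ← sq.w, ← Category.assoc,
        ← Category.assoc, ← Functor.map_comp, ← Functor.map_comp, e₁o]
    have hp₂ : ((yon S).map (l₂o ≫ pW) ≫ a) ≫ f.hom = (yon S).map νo ≫ g' := by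
      change _ = (yon S).map νo ≫ (yon S).map co ≫ b
      rw [Functor.map_comp, Category.assoc, Category.assoc, ← sq.w, ← Category.assoc,
        ← Category.assoc, ← Functor.map_comp, ← Functor.map_comp, e₂o]
    let p₁ : (yon S).obj (Over.mk strK) ⟶ pullback f.hom g' :=
      pullback.lift ((yon S).map (l₁o ≫ pW) ≫ a) ((yon S).map νo) hp₁
    let p₂ : (yon S).obj (Over.mk strK) ⟶ pullback f.hom g' :=
      pullback.lift ((yon S).map (l₂o ≫ pW) ≫ a) ((yon S).map νo) hp₂
    have hp₁s : p₁ ≫ pullback.snd f.hom g' = (yon S).map νo := pullback.lift_snd _ _ _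
    have hp₂s : p₂ ≫ pullback.snd f.hom g' = (yon S).map νo := pullback.lift_snd _ _ _
    have hp₁f : p₁ ≫ pullback.fst f.hom g' = (yon S).map (l₁o ≫ pW) ≫ a := pullback.lift_fst _ _ _
    have hp₂f : p₂ ≫ pullback.fst f.hom g' = (yon S).map (l₂o ≫ pW) ≫ a := pullback.lift_fst _ _ _
    have hmk : Points.mk (H52.fieldPtOfHom strK p₁) = Points.mk (H52.fieldPtOfHom strK p₂) := by
      apply hinj'
      rw [Points.map_mk, Points.map_mk]
      apply Points.sound
      rw [rel_iff_toHom]
      refine ⟨K, inferInstance, strK, 𝟙 _, 𝟙 _, ?_⟩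
      rw [FieldPt.toHom_map, FieldPt.toHom_map, H52.fieldPtOfHom_toHom, H52.fieldPtOfHom_toHom]
      erw [hp₁s, hp₂s]
    rw [Points.mk_eq_mk_iff, rel_iff_toHom] at hmk
    obtain ⟨L, _, w, a'', b'', hab''⟩ := hmk
    rw [H52.fieldPtOfHom_toHom, H52.fieldPtOfHom_toHom] at hab''
    let a' : Over.mk w ⟶ Over.mk strK := a''
    let b' : Over.mk w ⟶ Over.mk strK := b''
    have hab : (yon S).map a' ≫ p₁ = (yon S).map b' ≫ p₂ := hab''
    have habν : a' ≫ νo = b' ≫ νo := by
      apply (yon S).map_injective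
      calc (yon S).map (a' ≫ νo) = ((yon S).map a' ≫ p₁) ≫ pullback.snd f.hom g' := by
            rw [Functor.map_comp, Category.assoc, hp₁s]
        _ = ((yon S).map b' ≫ p₂) ≫ pullback.snd f.hom g' := by rw [hab]
        _ = (yon S).map (b' ≫ νo) := by rw [Functor.map_comp, Category.assoc, hp₂s]
    have habX : (yon S).map (a' ≫ l₁o ≫ pW) ≫ a = (yon S).map (b' ≫ l₂o ≫ pW) ≫ a := by
      calc (yon S).map (a' ≫ l₁o ≫ pW) ≫ a = ((yon S).map a' ≫ p₁) ≫ pullback.fst f.hom g' := by
            rw [Functor.map_comp, Category.assoc, Category.assoc, hp₁f]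
        _ = ((yon S).map b' ≫ p₂) ≫ pullback.fst f.hom g' := by rw [hab]
        _ = (yon S).map (b' ≫ l₂o ≫ pW) ≫ a := by
            rw [Functor.map_comp, Category.assoc, Category.assoc, hp₂f]
    have hfst : ∀ (m : Over.mk w ⟶ W), ((yon S).map m ≫ aW) ≫ pullback.fst f.hom b =
        (yon S).map (m ≫ pW) ≫ a := fun m => by
      rw [Category.assoc, haW1, ← Category.assoc, ← Functor.map_comp]
    have hsnd : ∀ (m : Over.mk w ⟶ W), ((yon S).map m ≫ aW) ≫ pullback.snd f.hom b =
        (yon S).map (m ≫ h) := fun m => by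
      rw [Category.assoc, haW2, ← Functor.map_comp]
    have habW : (yon S).map (b' ≫ l₂o) ≫ aW = (yon S).map (a' ≫ l₁o) ≫ aW := by
      apply pullback.hom_ext
      · rw [hfst, hfst, Category.assoc, Category.assoc]
        exact habX.symm
      · rw [hsnd, hsnd, Category.assoc, Category.assoc, e₂o, e₁o, ← Category.assoc,
          ← Category.assoc, habν]
    let ρo : Over.mk w ⟶ R := (yon S).preimage
      (sqR.lift ((yon S).map (b' ≫ l₂o)) ((yon S).map (a' ≫ l₁o)) habW)
    have hρt : ρo ≫ t = b' ≫ l₂o := by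
      apply (yon S).map_injective
      rw [Functor.map_comp, Functor.map_preimage, sqR.lift_fst]
    have hρs : ρo ≫ s = a' ≫ l₁o := by
      apply (yon S).map_injective
      rw [Functor.map_comp, Functor.map_preimage, sqR.lift_snd]
    have hε₁ : Spec.map (CommRingCat.ofHom (Spec.preimage a'.left).hom) = a'.left :=
      Spec.map_preimage a'.left
    have hε₂ : Spec.map (CommRingCat.ofHom (Spec.preimage b'.left).hom) = b'.left :=
      Spec.map_preimage b'.left
    refine ⟨L, inferInstance, (Spec.preimage a'.left).hom, (Spec.preimage b'.left).hom, ρo.left,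
      ?_, ?_, ?_⟩
    · rw [hε₁]
      exact congrArg (fun m => m.left) hρs
    · rw [hε₂]
      exact congrArg (fun m => m.left) hρt
    · rw [hε₁, hε₂]
      exact congrArg (fun m => m.left) habν
  -- lift the geometric points to the charts
  obtain ⟨v, hv⟩ := exists_lift_surj_etale b hbE hbS str (x₁ ≫ f.hom)
  let z₁ : (yon S).obj (Over.mk str) ⟶ pullback f.hom b :=
    pullback.lift x₁ ((yon S).map v) hv.symm
  let z₂ : (yon S).obj (Over.mk str) ⟶ pullback f.hom b :=
    pullback.lift x₂ ((yon S).map v) (hx ▸ hv.symm)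
  obtain ⟨w₁, hw₁⟩ := exists_lift_surj_etale aW haWE haWS str z₁
  obtain ⟨w₂, hw₂⟩ := exists_lift_surj_etale aW haWE haWS str z₂
  have hz₁f : z₁ ≫ pullback.fst f.hom b = x₁ := pullback.lift_fst _ _ _
  have hz₂f : z₂ ≫ pullback.fst f.hom b = x₂ := pullback.lift_fst _ _ _
  have hz₁s : z₁ ≫ pullback.snd f.hom b = (yon S).map v := pullback.lift_snd _ _ _
  have hz₂s : z₂ ≫ pullback.snd f.hom b = (yon S).map v := pullback.lift_snd _ _ _
  have hw₁h : w₁ ≫ h = v := by
    apply (yon S).map_injective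
    rw [Functor.map_comp, ← haW2, ← Category.assoc, hw₁, hz₁s]
  have hw₂h : w₂ ≫ h = v := by
    apply (yon S).map_injective
    rw [Functor.map_comp, ← haW2, ← Category.assoc, hw₂, hz₂s]
  have hwh : w₁.left ≫ h.left = w₂.left ≫ h.left := by
    rw [← Over.comp_left, ← Over.comp_left, hw₁h, hw₂h]
  obtain ⟨ρ, hρs, hρt⟩ := geometric_related h.left s.left t.left hst' H Ω w₁.left w₂.left hwh
  have hR : s.left ≫ W.hom = R.hom := Over.w s
  have hw₁S : w₁.left ≫ W.hom = str := Over.w w₁
  let ρo : Over.mk str ⟶ R := Over.homMk ρ (by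
    change ρ ≫ R.hom = str
    rw [← hR, ← Category.assoc, hρs, hw₁S])
  have hρos : ρo ≫ s = w₁ := Over.OverMorphism.ext hρs
  have hρot : ρo ≫ t = w₂ := Over.OverMorphism.ext hρt
  rw [← hz₁f, ← hz₂f, ← hw₁, ← hw₂, Category.assoc, Category.assoc, haW1, ← hρos, ← hρot,
    Functor.map_comp, Functor.map_comp, Category.assoc, Category.assoc, hstX]

end Groth.Agent.H32.UnivInj
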