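import Mathlib

/-!
# helper32: scheme-level core of "universally closed + quasi-compact ⇒ global sections integral"
-/

set_option autoImplicit false
set_option linter.style.haveILetI false
universe u
open AlgebraicGeometry CategoryTheory CategoryTheory.Limits TopologicalSpace Polynomial

namespace Groth.Agent.H32.UnivInt

/-- For a field valued point `a : Spec K ⟶ Y`, membership in a basic open is detected by the value in `K`. -/
theorem mem_basicOpen_iff_of_field {K : Type u} [Field K] {Y : Scheme.{u}}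
    (a : Spec (CommRingCat.of K) ⟶ Y) (t : Γ(Y, ⊤)) (z : ↥(Spec (CommRingCat.of K))) :
    a z ∈ Y.basicOpen t ↔ (Scheme.ΓSpecIso (CommRingCat.of K)).hom (a.appTop t) ≠ 0 := by
  have h1 : a z ∈ Y.basicOpen t ↔ z ∈ a ⁻¹ᵁ Y.basicOpen t := Iff.rfl
  rw [h1, Scheme.preimage_basicOpen_top, basicOpen_eq_of_affine']
  change (Scheme.ΓSpecIso (CommRingCat.of K)).hom (a.appTop t) ∉ z.asIdeal ↔ _
  have hz : z.asIdeal = ⊥ := by
    have := z.isPrime
    exact (Ideal.eq_bot_or_top z.asIdeal).resolve_right this.ne_top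
  rw [hz, Ideal.mem_bot]

end Groth.Agent.H32.UnivInt

namespace Groth.Agent.H32.UnivInt

/-- Commutative algebra: a closed subset of `Spec R[X]` missing `V(X)` has an element `g` with constant
coefficient `1` in its vanishing ideal. -/
theorem exists_mem_vanishingIdeal_coeff_zero {R : Type u} [CommRing R] (D : Set (PrimeSpectrum R[X]))
    (hD : IsClosed D) (hX : ∀ q ∈ D, (X : R[X]) ∉ q.asIdeal) :
    ∃ g : R[X], g ∈ PrimeSpectrum.vanishingIdeal D ∧ g.coeff 0 = 1 := by
  have h1 : PrimeSpectrum.zeroLocus (PrimeSpectrum.vanishingIdeal D : Set R[X]) = D := by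
    rw [PrimeSpectrum.zeroLocus_vanishingIdeal_eq_closure, hD.closure_eq]
  have h2 : PrimeSpectrum.zeroLocus
      ((PrimeSpectrum.vanishingIdeal D ⊔ Ideal.span {(X : R[X])} : Ideal R[X]) : Set R[X]) = ∅ := by
    rw [PrimeSpectrum.zeroLocus_sup, h1, PrimeSpectrum.zeroLocus_span]
    ext q
    simp only [Set.mem_inter_iff, Set.mem_empty_iff_false, iff_false, not_and]
    intro hq hq'
    exact hX q hq (hq' (Set.mem_singleton _))
  rw [PrimeSpectrum.zeroLocus_empty_iff_eq_top] at h2
  have h3 : (1 : R[X]) ∈ PrimeSpectrum.vanishingIdeal D ⊔ Ideal.span {(X : R[X])} := by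
    rw [h2]; trivial
  obtain ⟨g, hg, y, hy, hgy⟩ := Submodule.mem_sup.mp h3
  obtain ⟨h, rfl⟩ := Ideal.mem_span_singleton'.mp hy
  refine ⟨g, hg, ?_⟩
  have := congrArg (fun p : R[X] => p.coeff 0) hgy
  simpa using this

theorem monic_reverse_of_coeff_zero {R : Type u} [CommRing R] (g : R[X]) (hg : g.coeff 0 = 1) :
    g.reverse.Monic := by
  rcases subsingleton_or_nontrivial R with h | h
  · exact Subsingleton.elim _ _
  · rw [Polynomial.Monic, Polynomial.reverse_leadingCoeff, Polynomial.trailingCoeff]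
    have h0 : g.natTrailingDegree = 0 := by
      have : g.natTrailingDegree ≤ 0 :=
        Polynomial.natTrailingDegree_le_of_ne_zero (by rw [hg]; exact one_ne_zero)
      omega
    rw [h0, hg]

/-- If `g(1/x) = 0` for a unit `x`, then the reversed polynomial vanishes at `x`. -/
theorem eval₂_reverse_eq_zero {R K : Type u} [CommRing R] [Field K] (i : R →+* K) (x : K) (hx : x ≠ 0)
    (g : R[X]) (hg : g.eval₂ i x⁻¹ = 0) : g.reverse.eval₂ i x = 0 := by
  haveI : Invertible (x⁻¹) := invertibleOfNonzero (inv_ne_zero hx)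
  have h := Polynomial.eval₂_reverse_mul_pow i (x⁻¹) g
  have hinv : ⅟(x⁻¹) = x := by
    rw [invOf_eq_inv, inv_inv]
  rw [hinv, hg] at h
  exact (mul_eq_zero.mp h).resolve_right (pow_ne_zero _ (inv_ne_zero hx))

end Groth.Agent.H32.UnivInt
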