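import Mathlib
import Groth.Agent.H32.UnivInt1

/-!
# helper32: scheme-level core of "universally closed + quasi-compact ⇒ global sections integral", part 2
-/

set_option autoImplicit false
set_option linter.style.haveILetI false
universe u
open AlgebraicGeometry CategoryTheory CategoryTheory.Limits TopologicalSpace Polynomial

namespace Groth.Agent.H32.UnivInt

/-- The value at a field valued point. -/
noncomputable def valAt {K : Type u} [Field K] {Y : Scheme.{u}} (a : Spec (CommRingCat.of K) ⟶ Y) :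
    Γ(Y, ⊤) →+* K :=
  ((Scheme.ΓSpecIso (CommRingCat.of K)).hom.hom).comp a.appTop.hom

theorem mem_basicOpen_iff_valAt {K : Type u} [Field K] {Y : Scheme.{u}}
    (a : Spec (CommRingCat.of K) ⟶ Y) (t : Γ(Y, ⊤)) (z : ↥(Spec (CommRingCat.of K))) :
    a z ∈ Y.basicOpen t ↔ valAt a t ≠ 0 :=
  mem_basicOpen_iff_of_field a t z

theorem valAt_comp {K : Type u} [Field K] {Y Y' : Scheme.{u}} (a : Spec (CommRingCat.of K) ⟶ Y)
    (f : Y ⟶ Y') (t : Γ(Y', ⊤)) : valAt (a ≫ f) t = valAt a (f.appTop.hom t) := by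
  simp only [valAt, Scheme.Hom.comp_appTop, CommRingCat.hom_comp, RingHom.comp_apply]

theorem valAt_specMap {K : Type u} [Field K] {R : Type u} [CommRing R] (ψ : R →+* K) (r : R) :
    valAt (Spec.map (CommRingCat.ofHom ψ)) ((Scheme.ΓSpecIso (CommRingCat.of R)).inv.hom r) = ψ r := by
  have h := Scheme.ΓSpecIso_naturality (CommRingCat.ofHom ψ)
  have h2 := congrArg (fun φ => φ.hom ((Scheme.ΓSpecIso (CommRingCat.of R)).inv.hom r)) h
  simp only [CommRingCat.hom_comp, RingHom.comp_apply] at h2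
  have h3 : (Scheme.ΓSpecIso (CommRingCat.of R)).hom.hom
      ((Scheme.ΓSpecIso (CommRingCat.of R)).inv.hom r) = r :=
    Iso.inv_hom_id_apply (Scheme.ΓSpecIso (CommRingCat.of R)) r
  rw [h3] at h2
  exact h2

theorem valAt_eq_zero_of_point {U V₀ U' : Scheme.{u}} [IsAffine V₀] (k₀ : U ⟶ V₀)
    (pr₁ : U' ⟶ U) (pr₂ : U' ⟶ Spec (CommRingCat.of (Polynomial Γ(V₀, ⊤))))
    (sq : IsPullback pr₁ pr₂ k₀
      (Spec.map (CommRingCat.ofHom (Polynomial.C : Γ(V₀, ⊤) →+* Polynomial Γ(V₀, ⊤))) ≫ V₀.isoSpec.inv))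
    (s : Γ(U, ⊤)) (g : Polynomial Γ(V₀, ⊤))
    (hg : g ∈ PrimeSpectrum.vanishingIdeal ((fun u' : U' => pr₂ u') '' {u' : U' | u' ∉ U'.basicOpen
      (pr₁.appTop.hom s * pr₂.appTop.hom
        ((Scheme.ΓSpecIso (CommRingCat.of (Polynomial Γ(V₀, ⊤)))).inv.hom Polynomial.X) - 1)}))
    {K : Type u} [Field K] (a₁ : Spec (CommRingCat.of K) ⟶ U) :
    valAt a₁ (s * Polynomial.eval₂ k₀.appTop.hom s g.reverse) = 0 := by
  rw [map_mul, Polynomial.hom_eval₂]
  by_cases hx : valAt a₁ s = 0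
  · rw [hx, zero_mul]
  rw [mul_eq_zero]
  right
  apply eval₂_reverse_eq_zero _ _ hx
  let ψ : Polynomial Γ(V₀, ⊤) →+* K :=
    Polynomial.eval₂RingHom ((valAt a₁).comp k₀.appTop.hom) (valAt a₁ s)⁻¹
  let a₂ : Spec (CommRingCat.of K) ⟶ Spec (CommRingCat.of (Polynomial Γ(V₀, ⊤))) :=
    Spec.map (CommRingCat.ofHom ψ)
  have comm : a₁ ≫ k₀ = a₂ ≫ (Spec.map (CommRingCat.ofHom
      (Polynomial.C : Γ(V₀, ⊤) →+* Polynomial Γ(V₀, ⊤))) ≫ V₀.isoSpec.inv) := by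
    rw [← cancel_mono V₀.isoSpec.hom]
    simp only [Category.assoc, Iso.inv_hom_id, Category.comp_id]
    rw [Scheme.isoSpec_hom, Scheme.toSpecΓ_naturality, ← Category.assoc, Scheme.toSpecΓ_naturality,
      Category.assoc]
    have e1 : (Spec (CommRingCat.of K)).toSpecΓ = Spec.map (Scheme.ΓSpecIso (CommRingCat.of K)).hom :=
      Scheme.isoSpec_Spec_hom _
    rw [e1, ← Spec.map_comp, ← Spec.map_comp, ← Spec.map_comp]
    congr 1
    ext r
    simp [ψ, valAt]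
  let z₀ : ↥(Spec (CommRingCat.of K)) := (⟨⊥, Ideal.isPrime_bot⟩ : PrimeSpectrum K)
  let l : Spec (CommRingCat.of K) ⟶ U' := sq.lift a₁ a₂ comm
  have hl₁ : l ≫ pr₁ = a₁ := sq.lift_fst _ _ _
  have hl₂ : l ≫ pr₂ = a₂ := sq.lift_snd _ _ _
  have hlz : l z₀ ∉ U'.basicOpen (pr₁.appTop.hom s * pr₂.appTop.hom
        ((Scheme.ΓSpecIso (CommRingCat.of (Polynomial Γ(V₀, ⊤)))).inv.hom Polynomial.X) - 1) := by
    rw [mem_basicOpen_iff_valAt, not_not, map_sub, map_mul, map_one, ← valAt_comp, ← valAt_comp, hl₁, hl₂,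
      valAt_specMap]
    change valAt a₁ s * (Polynomial.eval₂ _ (valAt a₁ s)⁻¹ Polynomial.X) - 1 = 0
    rw [Polynomial.eval₂_X, mul_inv_cancel₀ hx, sub_self]
  have hmem : a₂ z₀ ∈ (fun u' : U' => pr₂ u') '' {u' : U' | u' ∉ U'.basicOpen
      (pr₁.appTop.hom s * pr₂.appTop.hom
        ((Scheme.ΓSpecIso (CommRingCat.of (Polynomial Γ(V₀, ⊤)))).inv.hom Polynomial.X) - 1)} := by
    refine ⟨l z₀, hlz, ?_⟩
    change (l ≫ pr₂) z₀ = a₂ z₀
    rw [hl₂]
  have h1 : g ∈ (a₂ z₀).asIdeal := (PrimeSpectrum.mem_vanishingIdeal _ _).mp hg _ hmem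
  have h2 : ψ g ∈ (⊥ : Ideal K) := h1
  rw [Ideal.mem_bot] at h2
  exact h2

theorem exists_monic_of_isClosed {U V₀ U' : Scheme.{u}} [CompactSpace U] [IsAffine V₀] (k₀ : U ⟶ V₀)
    (pr₁ : U' ⟶ U) (pr₂ : U' ⟶ Spec (CommRingCat.of (Polynomial Γ(V₀, ⊤))))
    (sq : IsPullback pr₁ pr₂ k₀
      (Spec.map (CommRingCat.ofHom (Polynomial.C : Γ(V₀, ⊤) →+* Polynomial Γ(V₀, ⊤))) ≫ V₀.isoSpec.inv))
    (s : Γ(U, ⊤))
    (hcl : IsClosed ((fun u' : U' => pr₂ u') '' {u' : U' | u' ∉ U'.basicOpen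
      (pr₁.appTop.hom s * pr₂.appTop.hom
        ((Scheme.ΓSpecIso (CommRingCat.of (Polynomial Γ(V₀, ⊤)))).inv.hom Polynomial.X) - 1)})) :
    ∃ p : Polynomial Γ(V₀, ⊤), p.Monic ∧ Polynomial.eval₂ k₀.appTop.hom s p = 0 := by
  -- D misses V(X)
  have hDX : ∀ q ∈ (fun u' : U' => pr₂ u') '' {u' : U' | u' ∉ U'.basicOpen
      (pr₁.appTop.hom s * pr₂.appTop.hom
        ((Scheme.ΓSpecIso (CommRingCat.of (Polynomial Γ(V₀, ⊤)))).inv.hom Polynomial.X) - 1)},
      (X : Polynomial Γ(V₀, ⊤)) ∉ q.asIdeal := by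
    rintro q ⟨u', hu', rfl⟩
    have h0 : U'.Γevaluation u' (pr₁.appTop.hom s * pr₂.appTop.hom
        ((Scheme.ΓSpecIso (CommRingCat.of (Polynomial Γ(V₀, ⊤)))).inv.hom Polynomial.X) - 1) = 0 :=
      (Scheme.evaluation_eq_zero_iff_notMem_basicOpen (U := ⊤) U' u' trivial _).mpr hu'
    have h1 : U'.Γevaluation u' (pr₂.appTop.hom
        ((Scheme.ΓSpecIso (CommRingCat.of (Polynomial Γ(V₀, ⊤)))).inv.hom Polynomial.X)) ≠ 0 := by
      intro h
      rw [map_sub, map_mul, h, mul_zero, map_one, zero_sub] at h0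
      exact one_ne_zero (neg_eq_zero.mp h0)
    have h2 : u' ∈ U'.basicOpen (pr₂.appTop.hom
        ((Scheme.ΓSpecIso (CommRingCat.of (Polynomial Γ(V₀, ⊤)))).inv.hom Polynomial.X)) := by
      by_contra hn
      exact h1 ((Scheme.evaluation_eq_zero_iff_notMem_basicOpen (U := ⊤) U' u' trivial _).mpr hn)
    have h3 : pr₂ u' ∈ (Spec (CommRingCat.of (Polynomial Γ(V₀, ⊤)))).basicOpen
        ((Scheme.ΓSpecIso (CommRingCat.of (Polynomial Γ(V₀, ⊤)))).inv.hom Polynomial.X) := by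
      have : u' ∈ pr₂ ⁻¹ᵁ (Spec (CommRingCat.of (Polynomial Γ(V₀, ⊤)))).basicOpen
          ((Scheme.ΓSpecIso (CommRingCat.of (Polynomial Γ(V₀, ⊤)))).inv.hom Polynomial.X) := by
        rw [Scheme.preimage_basicOpen_top]; exact h2
      exact this
    rw [basicOpen_eq_of_affine] at h3
    exact h3
  obtain ⟨g, hgD, hg0⟩ := exists_mem_vanishingIdeal_coeff_zero _ hcl hDX
  -- pointwise vanishing
  have key : ∀ u : U, u ∉ U.basicOpen (s * Polynomial.eval₂ k₀.appTop.hom s g.reverse) := by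
    intro u
    have h1 := valAt_eq_zero_of_point k₀ pr₁ pr₂ sq s g hgD (K := ↥(U.residueField u))
      (U.fromSpecResidueField u)
    have h2 := mem_basicOpen_iff_valAt (K := ↥(U.residueField u)) (U.fromSpecResidueField u)
      (s * Polynomial.eval₂ k₀.appTop.hom s g.reverse)
      ((⟨⊥, Ideal.isPrime_bot⟩ : PrimeSpectrum ↥(U.residueField u)))
    rw [h1] at h2
    intro hu
    have h3 : (U.fromSpecResidueField u) ((⟨⊥, Ideal.isPrime_bot⟩ : PrimeSpectrum ↥(U.residueField u))) = u :=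
      U.fromSpecResidueField_apply u _
    rw [h3] at h2
    exact (h2.mp hu) rfl
  have hbot : U.basicOpen (s * Polynomial.eval₂ k₀.appTop.hom s g.reverse) = ⊥ := by
    ext x
    simp only [SetLike.mem_coe]
    constructor
    · intro hx; exact absurd hx (key x)
    · intro hx; exact absurd hx (by simp)
  obtain ⟨N, hN⟩ := (Scheme.isNilpotent_iff_basicOpen_eq_bot _).mpr hbot
  refine ⟨(X * g.reverse) ^ N, (Polynomial.monic_X.mul (monic_reverse_of_coeff_zero g hg0)).pow N, ?_⟩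
  rw [Polynomial.eval₂_pow, Polynomial.eval₂_mul, Polynomial.eval₂_X]
  exact hN

end Groth.Agent.H32.UnivInt
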