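import Mathlib
import Groth.Agent.H32.UnivInt2
import Groth.Agent.H52.Topology
import Groth.Agent.H50.Basic

/-!
# helper32: universally closed morphisms from an algebraic space to an affine scheme: integrality on a chart
-/

set_option autoImplicit false
set_option linter.style.haveILetI false
universe u
open AlgebraicGeometry CategoryTheory CategoryTheory.Limits TopologicalSpace Polynomial AlgSp

namespace Groth.Agent.H32.UnivInt

variable {S : Scheme.{u}}

theorem exists_monic_chart {X : Sp S} (V : Over S) [IsAffine V.left] (f : X ⟶ (yon S).obj V)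
    (huc : IsUnivClosedMor f) {U : Over S} [CompactSpace ↥U.left] (a : (yon S).obj U ⟶ X)
    (ha : RepWith @Etale a) (hs : RepWith @Surjective a) (sU : Γ(U.left, ⊤))
    (hcompat : ∀ (R₀ : Over S) (q₁ q₂ : R₀ ⟶ U), IsPullback ((yon S).map q₁) ((yon S).map q₂) a a →
      q₁.left.appTop.hom sU = q₂.left.appTop.hom sU) :
    ∃ p : Polynomial Γ(V.left, ⊤), p.Monic ∧
      Polynomial.eval₂ ((yon S).preimage (a ≫ f)).left.appTop.hom sU p = 0 := by
  -- the affine line over V
  let π₀ : Spec (CommRingCat.of (Polynomial Γ(V.left, ⊤))) ⟶ V.left :=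
    Spec.map (CommRingCat.ofHom (Polynomial.C : Γ(V.left, ⊤) →+* Polynomial Γ(V.left, ⊤))) ≫
      V.left.isoSpec.inv
  let V' : Over S := Over.mk (π₀ ≫ V.hom)
  let π : V' ⟶ V := Over.homMk π₀ rfl
  obtain ⟨k, hk⟩ : ∃ k : U ⟶ V, k = (yon S).preimage (a ≫ f) := ⟨_, rfl⟩
  have hyk : (yon S).map k = a ≫ f := by rw [hk, Functor.map_preimage]
  rw [← hk]
  -- the chart of the base change
  let U' : Over S := pullback k π
  let pr₁ : U' ⟶ U := pullback.fst k π
  let pr₂ : U' ⟶ V' := pullback.snd k π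
  have sqO : IsPullback pr₁ pr₂ k π := IsPullback.of_hasPullback k π
  have sqS : IsPullback pr₁.left pr₂.left k.left π₀ := sqO.map (Over.forget S)
  have sqY : IsPullback ((yon S).map pr₁) ((yon S).map pr₂) ((yon S).map k) ((yon S).map π) :=
    sqO.map (yon S)
  -- the base change of X
  have sqZ : IsPullback (pullback.fst f ((yon S).map π)) (pullback.snd f ((yon S).map π)) f ((yon S).map π) :=
    IsPullback.of_hasPullback f ((yon S).map π)
  obtain ⟨Z', fstZ, sndZ, hfstZ, hsndZ⟩ : ∃ (Z' : Sp S) (fstZ : Z' ⟶ X) (sndZ : Z' ⟶ (yon S).obj V'),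
      IsPullback fstZ sndZ f ((yon S).map π) ∧ True := ⟨_, _, _, sqZ, trivial⟩
  clear sqZ
  have hclosed : IsClosedMap (Points.map sndZ) := huc (IsAlgSpace.yon_obj V') ((yon S).map π) fstZ sndZ hfstZ
  have comm1 : ((yon S).map pr₁ ≫ a) ≫ f = (yon S).map pr₂ ≫ (yon S).map π := by
    rw [Category.assoc, ← hyk, sqY.w]
  obtain ⟨a', ha'⟩ : ∃ a' : (yon S).obj U' ⟶ Z', a' = hfstZ.lift ((yon S).map pr₁ ≫ a) ((yon S).map pr₂) comm1 :=
    ⟨_, rfl⟩
  have ha'1 : a' ≫ fstZ = (yon S).map pr₁ ≫ a := by rw [ha']; exact hfstZ.lift_fst _ _ _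
  have ha'2 : a' ≫ sndZ = (yon S).map pr₂ := by rw [ha']; exact hfstZ.lift_snd _ _ _
  have sqL : IsPullback a' ((yon S).map pr₁) fstZ a := by
    refine IsPullback.of_right ?_ ha'1 hfstZ.flip
    rw [ha'2, ← hyk]
    exact sqY.flip
  have het' : RepWith @Etale a' := Groth.Agent.H50.repWith_fst_of_isPullback sqL ha
  have hs' : RepWith @Surjective a' := Groth.Agent.H50.repWith_fst_of_isPullback sqL hs
  have hquot := Groth.Agent.H52.isQuotientMap_ofPt a' het' hs'
  -- the function `s T - 1` on the chart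
  obtain ⟨F, hF⟩ : ∃ F : Γ(U'.left, ⊤), F = pr₁.left.appTop.hom sU * pr₂.left.appTop.hom
      ((Scheme.ΓSpecIso (CommRingCat.of (Polynomial Γ(V.left, ⊤)))).inv.hom Polynomial.X) - 1 := ⟨_, rfl⟩
  obtain ⟨C₀, hC₀⟩ : ∃ C₀ : Set ↥U'.left, C₀ = {u' | u' ∉ U'.left.basicOpen F} := ⟨_, rfl⟩
  have hC₀cl : IsClosed C₀ := by
    rw [hC₀]
    exact (U'.left.basicOpen F).isOpen.isClosed_compl
  -- invariance of F under the equivalence relation of the chart
  have hinv : ∀ (R' : Over S) (φ ψ : R' ⟶ U'), (yon S).map φ ≫ a' = (yon S).map ψ ≫ a' →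
      φ.left.appTop.hom F = ψ.left.appTop.hom F := by
    intro R' φ ψ hφψ
    have h1 : φ ≫ pr₂ = ψ ≫ pr₂ := by
      apply (yon S).map_injective
      rw [Functor.map_comp, Functor.map_comp, ← ha'2, ← Category.assoc, ← Category.assoc, hφψ]
    obtain ⟨R₀, q₂, fst₀, sq₀⟩ := ha.1 a
    obtain ⟨q₁, rfl⟩ := (yon S).map_surjective fst₀
    have hcomm : (yon S).map (φ ≫ pr₁) ≫ a = (yon S).map (ψ ≫ pr₁) ≫ a := by
      rw [Functor.map_comp, Functor.map_comp, Category.assoc, Category.assoc, ← ha'1, ← Category.assoc,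
        ← Category.assoc, hφψ]
    obtain ⟨m, hm⟩ := (yon S).map_surjective (sq₀.lift _ _ hcomm)
    have hm1 : m ≫ q₁ = φ ≫ pr₁ := by
      apply (yon S).map_injective
      rw [Functor.map_comp, hm, sq₀.lift_fst]
    have hm2 : m ≫ q₂ = ψ ≫ pr₁ := by
      apply (yon S).map_injective
      rw [Functor.map_comp, hm, sq₀.lift_snd]
    have h2 : φ.left.appTop.hom (pr₁.left.appTop.hom sU) = ψ.left.appTop.hom (pr₁.left.appTop.hom sU) := by
      have e1 : φ.left.appTop.hom (pr₁.left.appTop.hom sU) = (φ ≫ pr₁).left.appTop.hom sU := by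
        simp only [Over.comp_left, Scheme.Hom.comp_appTop, CommRingCat.hom_comp, RingHom.comp_apply]
      have e2 : ψ.left.appTop.hom (pr₁.left.appTop.hom sU) = (ψ ≫ pr₁).left.appTop.hom sU := by
        simp only [Over.comp_left, Scheme.Hom.comp_appTop, CommRingCat.hom_comp, RingHom.comp_apply]
      rw [e1, e2, ← hm1, ← hm2]
      simp only [Over.comp_left, Scheme.Hom.comp_appTop, CommRingCat.hom_comp, RingHom.comp_apply]
      rw [hcompat R₀ q₁ q₂ sq₀]
    have h3 : ∀ t, φ.left.appTop.hom (pr₂.left.appTop.hom t) = ψ.left.appTop.hom (pr₂.left.appTop.hom t) := by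
      intro t
      have e1 : φ.left.appTop.hom (pr₂.left.appTop.hom t) = (φ ≫ pr₂).left.appTop.hom t := by
        simp only [Over.comp_left, Scheme.Hom.comp_appTop, CommRingCat.hom_comp, RingHom.comp_apply]
      have e2 : ψ.left.appTop.hom (pr₂.left.appTop.hom t) = (ψ ≫ pr₂).left.appTop.hom t := by
        simp only [Over.comp_left, Scheme.Hom.comp_appTop, CommRingCat.hom_comp, RingHom.comp_apply]
      rw [e1, e2, h1]
    rw [hF, map_sub, map_sub, map_mul, map_mul, map_one, map_one, h2, h3]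
  -- saturation of C₀
  have hsat : Points.ofPt a' ⁻¹' (Points.ofPt a' '' C₀) = C₀ := by
    apply Set.Subset.antisymm
    · rintro u₂ ⟨u₁, hu₁, h12⟩
      obtain ⟨R', ψ, fst', sq'⟩ := het'.1 a'
      obtain ⟨φ, rfl⟩ := (yon S).map_surjective fst'
      obtain ⟨r, hr1, hr2⟩ := Groth.Agent.H52.exists_of_ofPt_eq_ofPt sq' u₁ u₂ h12
      have hFF := hinv R' φ ψ sq'.w
      rw [hC₀] at hu₁ ⊢
      intro hu₂
      apply hu₁
      have e1 : r ∈ ψ.left ⁻¹ᵁ U'.left.basicOpen F := by
        change ψ.left r ∈ U'.left.basicOpen F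
        rw [hr2]; exact hu₂
      rw [Scheme.preimage_basicOpen_top] at e1
      have e1' : r ∈ R'.left.basicOpen (φ.left.appTop.hom F) := by
        rw [hFF]; exact e1
      have e2 : r ∈ φ.left ⁻¹ᵁ U'.left.basicOpen F := by
        rw [Scheme.preimage_basicOpen_top]; exact e1'
      have e3 : φ.left r ∈ U'.left.basicOpen F := e2
      rw [hr1] at e3
      exact e3
    · exact Set.subset_preimage_image _ _
  have hWcl : IsClosed (Points.ofPt a' '' C₀) := by
    rw [← hquot.isClosed_preimage, hsat]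
    exact hC₀cl
  have himg : IsClosed (Points.map sndZ '' (Points.ofPt a' '' C₀)) := hclosed _ hWcl
  have himg2 : Points.map sndZ '' (Points.ofPt a' '' C₀) =
      Points.ofScheme V' '' ((fun u' : ↥U'.left => pr₂.left u') '' C₀) := by
    rw [Set.image_image, Set.image_image]
    apply Set.image_congr
    intro u' _
    rw [Points.map_ofPt, ha'2, Points.ofPt_eq_map_ofScheme, Groth.Agent.H52.map_yon_map_ofScheme]
  have hD : IsClosed ((fun u' : ↥U'.left => pr₂.left u') '' C₀) := by
    have h1 : (fun u' : ↥U'.left => pr₂.left u') '' C₀ =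
        Points.ofScheme V' ⁻¹' (Points.ofScheme V' '' ((fun u' : ↥U'.left => pr₂.left u') '' C₀)) :=
      (Set.preimage_image_eq _ (Groth.Agent.H52.ofScheme_injective V')).symm
    rw [h1, ← himg2]
    exact himg.preimage (Points.schemeHomeo V').continuous
  rw [hC₀, hF] at hD
  exact exists_monic_of_isClosed k.left pr₁.left pr₂.left sqS sU hD

end Groth.Agent.H32.UnivInt
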