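import Mathlib
import Groth.Agent.H32.UnivInt3
import Groth.Agent.H52.QC
import Groth.Agent.H52.Charts
import Groth.Prelude.Def_AlgSpOX

/-!
# helper32: universally closed quasi-compact morphisms to an affine scheme have integral global sections
-/

set_option autoImplicit false
set_option linter.style.haveILetI false
universe u
open AlgebraicGeometry CategoryTheory CategoryTheory.Limits TopologicalSpace Polynomial AlgSp Opposite

namespace Groth.Agent.H32.UnivInt

variable {S : Scheme.{u}}

/-- Pullback of global functions along a flat surjective morphism is injective. -/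
theorem appTop_injective_of_flat_surjective {W E : Scheme.{u}} (g : W ⟶ E) [Flat g] [Surjective g] :
    Function.Injective g.appTop.hom := by
  rw [injective_iff_map_eq_zero]
  intro x hx
  have key : ∀ (e : E) (he : e ∈ (⊤ : E.Opens)),
      E.presheaf.germ ⊤ e he x = E.presheaf.germ ⊤ e he 0 := by
    intro e he
    obtain ⟨w, rfl⟩ := g.surjective e
    have hinj : Function.Injective (g.stalkMap w).hom := by
      algebraize [(g.stalkMap w).hom]
      have : Module.FaithfullyFlat (E.presheaf.stalk (g w)) (W.presheaf.stalk w) :=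
        @Module.FaithfullyFlat.of_flat_of_isLocalHom _ _ _ _ _ _ _
          (Flat.stalkMap g w) (g.toLRSHom.prop w)
      exact ‹RingHom.FaithfullyFlat _›.injective
    apply hinj
    have h1 := Scheme.Hom.germ_stalkMap_apply g ⊤ w trivial x
    have h2 : (W.presheaf.germ (g ⁻¹ᵁ ⊤) w trivial) (g.appTop.hom x) = 0 := by
      rw [hx]
      exact map_zero (W.presheaf.germ (g ⁻¹ᵁ ⊤) w trivial).hom
    have h0 : (g.stalkMap w).hom (E.presheaf.germ ⊤ (g w) he 0) = 0 := by
      have : E.presheaf.germ ⊤ (g w) he 0 = 0 := map_zero (E.presheaf.germ ⊤ (g w) he).hom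
      rw [this, map_zero]
    rw [h0]
    exact h1.trans h2
  exact TopCat.Presheaf.section_ext E.sheaf ⊤ x 0 key

/-- The value of a global section of the structure sheaf on an object of the small etale site. -/
noncomputable def secAt {X : Sp S} (s : ↥(gsectEt (OEt X) : CommRingCat.{u + 1})) (E : EtOver X) :
    Γ(E.obj.left.left, ⊤) :=
  ((limit.π (OEt X).obj (op E)) s).down

theorem secAt_map {X : Sp S} (s : ↥(gsectEt (OEt X) : CommRingCat.{u + 1})) {E E' : EtOver X}
    (g : E ⟶ E') : g.hom.left.left.appTop.hom (secAt s E') = secAt s E := by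
  have h := limit.w (OEt X).obj g.op
  have h2 := congrArg (fun φ => (φ.hom s).down) h
  simp only [CommRingCat.hom_comp, RingHom.comp_apply] at h2
  rw [OEt_map] at h2
  exact h2

/-- The structure morphism to `V` of an object of the small etale site of `X`. -/
noncomputable def strTo {X : Sp S} {V : Over S} (f : X ⟶ (yon S).obj V) (E : EtOver X) : E.obj.left ⟶ V :=
  (yon S).preimage (E.obj.hom ≫ f)

theorem strTo_map {X : Sp S} {V : Over S} (f : X ⟶ (yon S).obj V) {E E' : EtOver X} (g : E ⟶ E') :
    g.hom.left ≫ strTo f E' = strTo f E := by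
  apply (yon S).map_injective
  rw [Functor.map_comp, strTo, strTo, Functor.map_preimage, Functor.map_preimage, ← Category.assoc,
    EtOver.w g]

theorem eval_map {X : Sp S} {V : Over S} (f : X ⟶ (yon S).obj V)
    (s : ↥(gsectEt (OEt X) : CommRingCat.{u + 1})) {E E' : EtOver X} (g : E ⟶ E')
    (p : Polynomial Γ(V.left, ⊤)) :
    g.hom.left.left.appTop.hom (Polynomial.eval₂ (strTo f E').left.appTop.hom (secAt s E') p) =
      Polynomial.eval₂ (strTo f E).left.appTop.hom (secAt s E) p := by
  rw [Polynomial.hom_eval₂, secAt_map, ← strTo_map f g]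
  congr 1

theorem main {X : Sp S} (V : Over S) [IsAffine V.left] (f : X ⟶ (yon S).obj V)
    (hqc : IsQuasiCompactMor f) (huc : IsUnivClosedMor f)
    (s : ↥(gsectEt (OEt X) : CommRingCat.{u + 1})) :
    ∃ p : Polynomial Γ(V.left, ⊤), p.Monic ∧
      ∀ E : EtOver X, Polynomial.eval₂ (strTo f E).left.appTop.hom (secAt s E) p = 0 := by
  haveI : CompactSpace ↥V.left := inferInstance
  obtain ⟨U, a, ha, hs, hU⟩ := hqc (IsAlgSpace.yon_obj V) (Groth.Agent.H52.isQuasiCompactSp_yon V)
    (𝟙 _) (𝟙 X) f (IsPullback.id_horiz f)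
  haveI : CompactSpace ↥U.left := hU
  let EU : EtOver X := EtOver.mk a ha
  have hcompat : ∀ (R₀ : Over S) (q₁ q₂ : R₀ ⟶ U), IsPullback ((yon S).map q₁) ((yon S).map q₂) a a →
      q₁.left.appTop.hom (secAt s EU) = q₂.left.appTop.hom (secAt s EU) := by
    intro R₀ q₁ q₂ sq
    have hq₂ : Etale q₂.left := ha.2 _ _ _ sq
    let E₀ : EtOver X := EtOver.mk ((yon S).map q₂ ≫ a)
      (Groth.Agent.H52.repWith_yon_map_comp @Etale q₂ hq₂ a ha)
    let g₂ : E₀ ⟶ EU := EtOver.homMk q₂ rfl
    let g₁ : E₀ ⟶ EU := EtOver.homMk q₁ sq.w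
    exact (secAt_map s g₁).trans (secAt_map s g₂).symm
  obtain ⟨p, hp, hpU⟩ := exists_monic_chart V f huc a ha hs (secAt s EU) hcompat
  refine ⟨p, hp, fun E => ?_⟩
  obtain ⟨W, snd, fst, sq⟩ := ha.1 E.obj.hom
  obtain ⟨fst', rfl⟩ := (yon S).map_surjective fst
  have hsnd : Etale snd.left := ha.2 _ _ _ sq
  have hsndS : Surjective snd.left := hs.2 _ _ _ sq
  let EW : EtOver X := EtOver.mk ((yon S).map snd ≫ E.obj.hom)
    (Groth.Agent.H52.repWith_yon_map_comp @Etale snd hsnd E.obj.hom E.property)
  let gE : EW ⟶ E := EtOver.homMk snd rfl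
  let gU : EW ⟶ EU := EtOver.homMk fst' sq.w
  have h1 := eval_map f s gU p
  have h2 := eval_map f s gE p
  have h3 : Polynomial.eval₂ (strTo f EU).left.appTop.hom (secAt s EU) p = 0 := hpU
  rw [h3, map_zero] at h1
  rw [← h1] at h2
  have hinj := appTop_injective_of_flat_surjective snd.left
  apply hinj
  rw [map_zero]
  exact h2

end Groth.Agent.H32.UnivInt
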