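import Groth.Agent.H32.SmLocus
import Mathlib.AlgebraicGeometry.ValuativeCriterion
import Groth.Agent.H65.LocQLift
import Groth.Agent.H65.OverYoneda

/-!
# Valuation rings witnessing specializations in the closure of the image (helper32)
-/

set_option autoImplicit false
universe u
open CategoryTheory CategoryTheory.Limits AlgebraicGeometry Opposite Topology

namespace Groth.Agent.H32.ValWit

section ring

variable {R S : Type*} [CommRing R] [CommRing S] (f : R →+* S)

theorem exists_specializes_of_mem_closure_range (p : PrimeSpectrum R)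
    (hp : p ∈ closure (Set.range (PrimeSpectrum.comap f))) :
    ∃ q : PrimeSpectrum S, PrimeSpectrum.comap f q ⤳ p := by
  rw [PrimeSpectrum.closure_range_comap] at hp
  have hle : (⊥ : Ideal S).comap f ≤ p.asIdeal := hp
  obtain ⟨q, -, hq, hqle⟩ := p.asIdeal.exists_ideal_comap_le_prime (⊥ : Ideal S) hle
  exact ⟨⟨q, hq⟩, (PrimeSpectrum.le_iff_specializes ⟨q.comap f, inferInstance⟩ p).mp hqle⟩

end ring

section scheme

theorem exists_specializes_of_mem_closure_range_spec {R S : CommRingCat.{u}} (φ : R ⟶ S)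
    (p : ↥(Spec R)) (hp : p ∈ closure (Set.range (Spec.map φ))) :
    ∃ q : ↥(Spec S), Spec.map φ q ⤳ p :=
  exists_specializes_of_mem_closure_range φ.hom p hp

theorem exists_specializes_of_mem_closure_range_affine {X Y : Scheme.{u}} [IsAffine X] [IsAffine Y]
    (h : X ⟶ Y) (v : ↥Y) (hv : v ∈ closure (Set.range h)) : ∃ x' : ↥X, h x' ⤳ v := by
  have hnat := Scheme.isoSpec_hom_naturality h
  have hY : IsHomeomorph Y.isoSpec.hom := (Y.isoSpec.hom).homeomorph.isHomeomorph
  have hp : Y.isoSpec.hom v ∈ closure (Set.range (Spec.map h.appTop)) := by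
    have h1 : Y.isoSpec.hom v ∈ Y.isoSpec.hom '' closure (Set.range h) := ⟨v, hv, rfl⟩
    rw [← hY.isClosedMap.closure_image_eq_of_continuous hY.continuous] at h1
    refine closure_mono ?_ h1
    rintro _ ⟨_, ⟨x, rfl⟩, rfl⟩
    refine ⟨X.isoSpec.hom x, ?_⟩
    rw [← Scheme.Hom.comp_apply, hnat, Scheme.Hom.comp_apply]
  obtain ⟨q, hq⟩ := exists_specializes_of_mem_closure_range_spec h.appTop _ hp
  refine ⟨X.isoSpec.inv q, ?_⟩
  rw [← hY.isInducing.specializes_iff]
  have e : Y.isoSpec.hom (h (X.isoSpec.inv q)) = Spec.map h.appTop q := by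
    rw [← Scheme.Hom.comp_apply, ← hnat, ← Scheme.Hom.comp_apply, Iso.inv_hom_id_assoc]
  rw [e]
  exact hq

open IsLocalRing in
set_option backward.isDefEq.respectTransparency.types false in
/-- a specialization of the image of a point is witnessed by a valuation subring of its residue
field. -/
theorem exists_valuationSubring_of_specializes {X Y : Scheme.{u}} (f : X ⟶ Y) (x' : ↥X) (y : ↥Y)
    (h : f x' ⤳ y) :
    ∃ (A : ValuationSubring (X.residueField x')) (g : Spec (.of A) ⟶ Y),
      X.fromSpecResidueField x' ≫ f =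
        Spec.map (CommRingCat.ofHom (algebraMap A (X.residueField x'))) ≫ g ∧
      g (closedPoint A) = y := by
  let stalk_y_to_residue_x' : Y.presheaf.stalk y ⟶ X.residueField x' :=
    Y.presheaf.stalkSpecializes h ≫ f.stalkMap x' ≫ X.residue x'
  obtain ⟨A, hA, hA_local⟩ := exists_factor_valuationRing stalk_y_to_residue_x'.hom
  let stalk_y_to_A : Y.presheaf.stalk y ⟶ .of A :=
    CommRingCat.ofHom (stalk_y_to_residue_x'.hom.codRestrict _ hA)
  have w : X.fromSpecResidueField x' ≫ f =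
      Spec.map (CommRingCat.ofHom (algebraMap A (X.residueField x'))) ≫
        Spec.map stalk_y_to_A ≫ Y.fromSpecStalk y := by
    rw [Scheme.fromSpecResidueField, Category.assoc, ← Scheme.SpecMap_stalkMap_fromSpecStalk,
      ← Scheme.SpecMap_stalkSpecializes_fromSpecStalk h]
    simp_rw [← Spec.map_comp_assoc]
    rfl
  refine ⟨A, Spec.map stalk_y_to_A ≫ Y.fromSpecStalk y, w, ?_⟩
  simp only [Scheme.Hom.comp_base, TopCat.coe_comp, Function.comp_apply]
  have : Spec.map stalk_y_to_A (closedPoint A) = closedPoint (Y.presheaf.stalk y) :=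
    comap_closedPoint (S := A) (stalk_y_to_residue_x'.hom.codRestrict A.toSubring hA)
  rw [this, Y.fromSpecStalk_closedPoint]

/-- a specialization of the image of a point is witnessed by a valuation ring and its fraction
field. -/
theorem exists_valuationRing_of_specializes {X Y : Scheme.{u}} (f : X ⟶ Y) (x' : ↥X) (y : ↥Y)
    (h : f x' ⤳ y) :
    ∃ (A : Type u) (_ : CommRing A) (_ : IsDomain A) (_ : ValuationRing A)
      (g : Spec (CommRingCat.of A) ⟶ Y) (ξ : Spec (CommRingCat.of (FractionRing A)) ⟶ X),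
      ξ ≫ f = Spec.map (CommRingCat.ofHom (algebraMap A (FractionRing A))) ≫ g ∧
      g (IsLocalRing.closedPoint A) = y := by
  obtain ⟨A, g, w, hg⟩ := exists_valuationSubring_of_specializes f x' y h
  let e : FractionRing A ≃ₐ[A] (X.residueField x') := FractionRing.algEquiv A (X.residueField x')
  refine ⟨A, inferInstance, inferInstance, inferInstance, g,
    Spec.map (CommRingCat.ofHom e.symm.toRingEquiv.toRingHom) ≫ X.fromSpecResidueField x', ?_, hg⟩
  rw [Category.assoc, w, ← Spec.map_comp_assoc]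
  congr 2
  ext a
  exact e.symm.commutes a

end scheme

section stack

open FibCat Stk Groth.Agent.H32.FibProd
open Groth.Agent.H32.StPoints Groth.Agent.H32.StTop Groth.Agent.H32.StQC
open Groth.Agent.H32.StUniv Groth.Agent.H32.Fp2 Groth.Agent.H32.Fp3 Groth.Agent.H32.Fp4
open Groth.Agent.H32.SpTrack Groth.Agent.H32.StQCMor
open Groth.Agent.H32.PFacts Groth.Agent.H32.GoodMore Groth.Agent.H32.StackOps
open Groth.Agent.H32.SmLocus

variable {S : Scheme.{u}} {𝒳 𝒴 : AlgSt.Cat S}

theorem exists_witness (h𝒳 : AlgSt.IsAlgStack Scheme.fppfPrecoverage 𝒳)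
    (h𝒴 : AlgSt.IsAlgStack Scheme.fppfPrecoverage 𝒴) (f : 𝒳 ⥤ᵇ 𝒴)
    (hf : AlgSt.IsQuasiCompactMor Scheme.fppfPrecoverage f)
    (y : AlgSt.Points 𝒴) (hy : y ∈ closure (Set.range (AlgSt.Points.map f))) :
    ∃ (A : Type u) (_ : CommRing A) (_ : IsDomain A) (_ : ValuationRing A)
      (sA : Spec (CommRingCat.of A) ⟶ S)
      (a : FibCat.overCat (Over.mk sA) ⥤ᵇ 𝒴)
      (x : FibCat.overCat (Over.mk (Spec.map (CommRingCat.ofHom (algebraMap A (FractionRing A))) ≫ sA)) ⥤ᵇ 𝒳),
      Nonempty (BasedFunctor.comp x f ≅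
        BasedFunctor.comp (AlgSt.overMap (Over.homMk (Spec.map (CommRingCat.ofHom (algebraMap A (FractionRing A)))) rfl :
          Over.mk (Spec.map (CommRingCat.ofHom (algebraMap A (FractionRing A))) ≫ sA) ⟶ Over.mk sA)) a) ∧
      AlgSt.Points.ofChart a (IsLocalRing.closedPoint A) = y := by
  obtain ⟨V, y₀, hy1, hy2⟩ := h𝒴.atlas
  obtain ⟨v₀, rfl⟩ := ofChart_surjective h𝒴 y₀ hy2 y
  obtain ⟨O, ⟨O', hO', rfl⟩, hvO, -⟩ := (V.left.isBasis_affineOpens).exists_subset_of_mem_open
    (Set.mem_univ v₀) isOpen_univ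
  let O'' : V.left.Opens := O'
  have hO'' : IsAffineOpen O'' := hO'
  let V' : Over S := openOver V O''
  let j : V' ⟶ V := openIncl V O''
  have hV'aff : IsAffine V'.left := hO''
  have hV'c : CompactSpace ↥V'.left := inferInstance
  have iV := Groth.Agent.S6411.over_isFibGrpd V
  have iV' := Groth.Agent.S6411.over_isFibGrpd V'
  have hV' := Groth.Agent.H32.StPoints.isAlgStack_overCat V'
  let y' : FibCat.overCat V' ⥤ᵇ 𝒴 := BasedFunctor.comp (AlgSt.overMap j) y₀
  have hy' : AlgSt.RepByAlgSpWith (AlgSp.LocP @Smooth) y' :=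
    with_comp good_smooth iV' iV h𝒴.isStack.1 _ _ (overMap_smooth j) hy1
  let v' : ↥V'.left := (⟨v₀, hvO⟩ : ↥O'')
  have hv' : AlgSt.Points.ofChart y' v' = AlgSt.Points.ofChart y₀ v₀ := ofChart_overMap j y₀ v'
  have hqc : AlgSt.IsQuasiCompact (fp y' f) := hf _ hV' (isQuasiCompact_overCat' V') y'
  obtain ⟨U, u, hU, hu1, hu2⟩ := hqc
  obtain ⟨h, ⟨β⟩⟩ := Groth.Agent.H65.OverYoneda.exists_overMap_iso
    (BasedFunctor.comp u (fpFst y' f))
  -- the point `v'` lies in the closure of the image of `h`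
  have hcl : v' ∈ closure (Set.range h.left) := by
    rw [mem_closure_iff]
    intro N hN hvN
    have hopen : IsOpen (AlgSt.Points.ofChart y' '' N) :=
      ofChart_isOpenMap h𝒴 V' y' (flat_lfp_of_smooth_chart hy') N hN
    have hmem : AlgSt.Points.ofChart y₀ v₀ ∈ AlgSt.Points.ofChart y' '' N := ⟨v', hvN, hv'⟩
    obtain ⟨z, hz1, hz2⟩ := mem_closure_iff.1 hy _ hopen hmem
    obtain ⟨n, hnN, rfl⟩ := hz1
    obtain ⟨t, ht⟩ := Groth.Agent.H65.LocQLift.exists_chart_point_lift h𝒳 h𝒴 f y' u hu2 h β n hz2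
    exact ⟨n, hnN, t, ht⟩
  obtain ⟨t', ht'⟩ := exists_specializes_of_mem_closure_range_affine h.left v' hcl
  obtain ⟨A, iA1, iA2, iA3, g, ξ, hξ, hg⟩ := exists_valuationRing_of_specializes h.left t' v' ht'
  let sA : Spec (CommRingCat.of A) ⟶ S := g ≫ V'.hom
  let mg : Over.mk sA ⟶ V' := Over.homMk g rfl
  have hξU : ξ ≫ U.hom = Spec.map (CommRingCat.ofHom (algebraMap A (FractionRing A))) ≫ sA := by
    have := Over.w h
    rw [← this, ← Category.assoc, hξ, Category.assoc]
  let mξ : Over.mk (Spec.map (CommRingCat.ofHom (algebraMap A (FractionRing A))) ≫ sA) ⟶ U :=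
    Over.homMk ξ hξU
  let mK : Over.mk (Spec.map (CommRingCat.ofHom (algebraMap A (FractionRing A))) ≫ sA) ⟶ Over.mk sA :=
    Over.homMk (Spec.map (CommRingCat.ofHom (algebraMap A (FractionRing A)))) rfl
  have hsq : mξ ≫ h = mK ≫ mg := by
    apply Over.OverMorphism.ext
    exact hξ
  refine ⟨A, iA1, iA2, iA3, sA, BasedFunctor.comp (AlgSt.overMap mg) y',
    BasedFunctor.comp (AlgSt.overMap mξ) (BasedFunctor.comp u (fpSnd y' f)), ⟨?_⟩, ?_⟩
  · have e1 : BasedFunctor.comp (BasedFunctor.comp u (fpSnd y' f)) f ≅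
        BasedFunctor.comp (AlgSt.overMap h) y' :=
      (whiskerLeftIso u (fpIso y' f)).symm ≪≫ whiskerRightIso β y'
    have e2 : BasedFunctor.comp (AlgSt.overMap mξ) (AlgSt.overMap h) ≅
        BasedFunctor.comp (AlgSt.overMap mK) (AlgSt.overMap mg) :=
      overMapComp mξ h ≪≫ eqToIso (congrArg AlgSt.overMap hsq) ≪≫ (overMapComp mK mg).symm
    exact whiskerLeftIso (AlgSt.overMap mξ) e1 ≪≫ whiskerRightIso e2 y'
  · have h1 := ofChart_overMap mg y' (IsLocalRing.closedPoint A)
    rw [h1]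
    have h2 : mg.left (IsLocalRing.closedPoint A) = v' := hg
    rw [h2, hv']

end stack

end Groth.Agent.H32.ValWit
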